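import Cfsg.Agent.Lib.Helper55.SolvCore
import Mathlib.GroupTheory.Index
import Mathlib.GroupTheory.QuotientGroup.Basic
import Mathlib.GroupTheory.SpecificGroups.Cyclic

set_option autoImplicit false
set_option linter.style.haveILetI false

namespace Cfsg.Agent.Lib.Helper55

variable {G : Type*} [Group G]

theorem card_mul_relIndex_eq {K L : Subgroup G} (h : K ≤ L) :
    Nat.card K * K.relIndex L = Nat.card L := by
  have := Subgroup.relIndex_mul_relIndex (⊥ : Subgroup G) K L bot_le h
  rwa [Subgroup.relIndex_bot_left, Subgroup.relIndex_bot_left] at this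

theorem card_sup_dvd_mul (H K : Subgroup G) [K.Normal] :
    Nat.card (H ⊔ K : Subgroup G) ∣ Nat.card H * Nat.card K := by
  rw [← card_mul_relIndex_eq (le_sup_right : K ≤ H ⊔ K), Subgroup.relIndex_sup_right, mul_comm]
  exact Nat.mul_dvd_mul_right (Subgroup.relIndex_dvd_card K H) _

/-- The `p'`-core of a finite group has order prime to `p`. -/
theorem pPrimeCore_card_coprime [Finite G] (p : ℕ) : (Nat.card (Cfsg.pPrimeCore p G)).Coprime p := by
  classical
  set S : Set (Subgroup G) := {N : Subgroup G | N.Normal ∧ (Nat.card N).Coprime p} with hS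
  have hne : S.Nonempty := ⟨⊥, inferInstance, by simp⟩
  obtain ⟨M, hM⟩ := (Set.toFinite S).exists_maximal hne
  have hMS : M ∈ S := hM.prop
  have hle : ∀ N ∈ S, N ≤ M := by
    intro N hN
    haveI : N.Normal := hN.1
    haveI : M.Normal := hMS.1
    have hsup : M ⊔ N ∈ S := by
      refine ⟨inferInstance, ?_⟩
      exact Nat.Coprime.coprime_dvd_left (card_sup_dvd_mul M N) (Nat.Coprime.mul_left hMS.2 hN.2)
    have := hM.le_of_ge hsup le_sup_left
    exact le_sup_right.trans this
  have : Cfsg.pPrimeCore p G = M := le_antisymm (sSup_le hle) (le_sSup hMS)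
  rw [this]
  exact hMS.2

/-- The `p`-core is a `p`-group. -/
theorem pCore_isPGroup (p : ℕ) : IsPGroup p (Cfsg.pCore p G) :=
  Sylow.sSup_of_normal _ (fun _ h => h.2) (fun _ h => h.1)

theorem le_comap_mk' (K : Subgroup G) [K.Normal] (N : Subgroup (G ⧸ K)) :
    K ≤ N.comap (QuotientGroup.mk' K) := by
  have h := Subgroup.ker_le_comap (QuotientGroup.mk' K) N
  rwa [QuotientGroup.ker_mk'] at h

theorem card_comap_mk' (K : Subgroup G) [K.Normal] (N : Subgroup (G ⧸ K)) :
    Nat.card (N.comap (QuotientGroup.mk' K)) = Nat.card K * Nat.card N := by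
  rw [← card_mul_relIndex_eq (le_comap_mk' K N)]
  congr 1
  have h2 : (QuotientGroup.mk' K).ker.relIndex (N.comap (QuotientGroup.mk' K)) = Nat.card N := by
    rw [Subgroup.relIndex_ker,
      Subgroup.map_comap_eq_self_of_surjective (QuotientGroup.mk'_surjective K)]
  rw [QuotientGroup.ker_mk'] at h2
  exact h2

/-- The `p'`-core of `G / O_{p'}(G)` is trivial. -/
theorem pPrimeCore_quotient_eq_bot [Finite G] (p : ℕ) [hn : (Cfsg.pPrimeCore p G).Normal] :
    Cfsg.pPrimeCore p (G ⧸ Cfsg.pPrimeCore p G) = ⊥ := by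
  rw [eq_bot_iff]
  apply sSup_le
  rintro N ⟨hNn, hNc⟩
  haveI := hNn
  have hsurj : Function.Surjective (QuotientGroup.mk' (Cfsg.pPrimeCore p G)) :=
    QuotientGroup.mk'_surjective _
  haveI : (N.comap (QuotientGroup.mk' (Cfsg.pPrimeCore p G))).Normal := inferInstance
  have hcard : (Nat.card (N.comap (QuotientGroup.mk' (Cfsg.pPrimeCore p G)))).Coprime p := by
    rw [card_comap_mk']
    exact Nat.Coprime.mul_left (pPrimeCore_card_coprime p) hNc
  have h3 : N.comap (QuotientGroup.mk' (Cfsg.pPrimeCore p G)) ≤ Cfsg.pPrimeCore p G :=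
    le_pPrimeCore p _ hcard
  intro x hx
  obtain ⟨y, rfl⟩ := hsurj x
  have hy : y ∈ N.comap (QuotientGroup.mk' (Cfsg.pPrimeCore p G)) := hx
  have := h3 hy
  rw [Subgroup.mem_bot]
  exact (QuotientGroup.eq_one_iff y).mpr this

/-- The automorphism group of a finite cyclic 2-group is a 2-group. -/
theorem isPGroup_two_mulAut_of_cyclic {N : Type*} [Group N] [Finite N] [IsCyclic N]
    (hN : IsPGroup 2 N) : IsPGroup 2 (MulAut N) := by
  obtain ⟨k, hk⟩ := IsPGroup.iff_card.mp hN
  rcases Nat.eq_zero_or_pos k with h0 | h0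
  · apply IsPGroup.of_card (n := 0)
    rw [IsCyclic.card_mulAut, hk, h0, pow_zero, Nat.totient_one]
  · apply IsPGroup.of_card (n := k - 1)
    rw [IsCyclic.card_mulAut, hk, Nat.totient_prime_pow Nat.prime_two h0]
    simp

/-- A finite group with a normal cyclic self-centralizing 2-subgroup is a 2-group. -/
theorem isPGroup_two_of_cyclic_normal_self_centralizing [Finite G] (N : Subgroup G) [N.Normal]
    [IsCyclic N] (hN : IsPGroup 2 N) (hc : Subgroup.centralizer (N : Set G) ≤ N) :
    IsPGroup 2 G := by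
  intro g
  obtain ⟨a, ha⟩ := isPGroup_two_mulAut_of_cyclic hN (MulAut.conjNormal (H := N) g)
  have h1 : g ^ 2 ^ a ∈ Subgroup.centralizer (N : Set G) := by
    rw [Subgroup.mem_centralizer_iff]
    intro n hn
    have h2 : (MulAut.conjNormal (H := N) (g ^ 2 ^ a)) ⟨n, hn⟩ = ⟨n, hn⟩ := by
      rw [map_pow, ha]; rfl
    have h3 := congrArg Subtype.val h2
    rw [MulAut.conjNormal_apply] at h3
    simp only at h3
    calc n * g ^ 2 ^ a = (g ^ 2 ^ a * n * (g ^ 2 ^ a)⁻¹) * g ^ 2 ^ a := by rw [h3]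
      _ = g ^ 2 ^ a * n := by group
  obtain ⟨b, hb⟩ := hN ⟨g ^ 2 ^ a, hc h1⟩
  refine ⟨a + b, ?_⟩
  have := congrArg Subtype.val hb
  simp only [Subgroup.coe_pow, Subgroup.coe_one] at this
  rw [pow_add, pow_mul]
  exact this

end Cfsg.Agent.Lib.Helper55
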