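import Mathlib.GroupTheory.Sylow
import Mathlib.GroupTheory.Nilpotent
import Mathlib.GroupTheory.Solvable
import Mathlib.GroupTheory.GroupAction.ConjAct
import Mathlib.GroupTheory.Subgroup.Centralizer
import Cfsg.Prelude.Def_Solvable

set_option autoImplicit false
set_option linter.style.haveILetI false

namespace Cfsg.Agent.Lib.Helper55

variable {G : Type*} [Group G]

theorem pCore_normal' (p : ℕ) : (Cfsg.pCore p G).Normal :=
  Subgroup.sSup_normal _ (fun _ h => h.1)

theorem pPrimeCore_normal' (p : ℕ) : (Cfsg.pPrimeCore p G).Normal :=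
  Subgroup.sSup_normal _ (fun _ h => h.1)

theorem le_pCore (p : ℕ) (N : Subgroup G) [hN : N.Normal] (h : IsPGroup p N) : N ≤ Cfsg.pCore p G :=
  le_sSup ⟨hN, h⟩

theorem le_pPrimeCore (p : ℕ) (N : Subgroup G) [hN : N.Normal] (h : (Nat.card N).Coprime p) :
    N ≤ Cfsg.pPrimeCore p G :=
  le_sSup ⟨hN, h⟩

/-- In a finite group with trivial `p'`-core, every normal nilpotent subgroup is a `p`-group. -/
theorem isPGroup_of_normal_nilpotent [Finite G] (p : ℕ) [Fact p.Prime]
    (h : Cfsg.pPrimeCore p G = ⊥) (B : Subgroup G) [B.Normal] [hB : Group.IsNilpotent B] :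
    IsPGroup p B := by
  have key : ∀ q : ℕ, q.Prime → q ∣ Nat.card B → q = p := by
    intro q hq hdvd
    by_contra hne
    haveI := Fact.mk hq
    let Q : Sylow q B := default
    have hQn : (Q : Subgroup B).Normal := inferInstance
    haveI : (Q : Subgroup B).Characteristic := Sylow.characteristic_of_normal Q hQn
    haveI hN : ((Q : Subgroup B).map B.subtype).Normal := ConjAct.normal_of_characteristic_of_normal
    have hcard : (Nat.card ((Q : Subgroup B).map B.subtype)).Coprime p := by
      rw [Subgroup.card_map_of_injective B.subtype_injective]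
      obtain ⟨k, hk⟩ := IsPGroup.iff_card.mp Q.2
      rw [hk]
      exact Nat.Coprime.pow_left _ ((Nat.coprime_primes hq Fact.out).mpr hne)
    have hle : (Q : Subgroup B).map B.subtype ≤ Cfsg.pPrimeCore p G := le_pPrimeCore p _ hcard
    rw [h, le_bot_iff, Subgroup.map_eq_bot_iff_of_injective _ B.subtype_injective] at hle
    exact Q.ne_bot_of_dvd_card hdvd hle
  have : Nat.card B = p ^ (Nat.card B).primeFactorsList.length :=
    Nat.eq_prime_pow_of_unique_prime_dvd (Nat.card_pos.ne') (fun hd hdvd => key _ hd hdvd)
  exact IsPGroup.of_card this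

/-- Iterated commutator series starting from a subgroup (computed in the ambient group). -/
def dser (C : Subgroup G) : ℕ → Subgroup G
  | 0 => C
  | n + 1 => ⁅dser C n, dser C n⁆

theorem dser_zero (C : Subgroup G) : dser C 0 = C := rfl

theorem dser_succ (C : Subgroup G) (n : ℕ) : dser C (n + 1) = ⁅dser C n, dser C n⁆ := rfl

theorem dser_normal (C : Subgroup G) [hC : C.Normal] (n : ℕ) : (dser C n).Normal := by
  induction n with
  | zero => exact hC
  | succ n ih => rw [dser_succ]; exact Subgroup.commutator_normal (h₁ := ih) (h₂ := ih)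

theorem dser_le (C : Subgroup G) [hC : C.Normal] (n : ℕ) : dser C n ≤ C := by
  induction n with
  | zero => exact le_rfl
  | succ n ih =>
    rw [dser_succ]
    haveI := dser_normal C n
    exact (Subgroup.commutator_le_left (dser C n) (dser C n)).trans ih

theorem dser_le_derivedSeries (C : Subgroup G) (n : ℕ) : dser C n ≤ derivedSeries G n := by
  induction n with
  | zero => exact le_top
  | succ n ih => rw [dser_succ, derivedSeries_succ]; exact Subgroup.commutator_mono ih ih

/-- Hall–Higman Lemma 1.2.3 (solvable case): in a finite solvable group with trivial `p'`-core,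
the `p`-core contains its centralizer. -/
theorem centralizer_pCore_le [Finite G] [hs : Group.IsSolvable G] (p : ℕ) [Fact p.Prime]
    (h : Cfsg.pPrimeCore p G = ⊥) :
    Subgroup.centralizer (Cfsg.pCore p G : Set G) ≤ Cfsg.pCore p G := by
  classical
  haveI hPn : (Cfsg.pCore p G).Normal := pCore_normal' p
  set P := Cfsg.pCore p G with hP
  set C := Subgroup.centralizer (P : Set G) with hC
  haveI hCn : C.Normal := Subgroup.normal_centralizer
  have hex : ∃ n, dser C n ≤ P := by
    obtain ⟨n, hn⟩ := hs.solvable
    exact ⟨n, (dser_le_derivedSeries C n).trans (hn ▸ bot_le)⟩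
  have hmin := @Nat.find_min _ _ hex
  have hspec := Nat.find_spec hex
  rcases hk : Nat.find hex with _ | m
  · rw [hk] at hspec
    exact hspec
  · exfalso
    rw [hk] at hspec
    have hnot : ¬ dser C m ≤ P := hmin (by rw [hk]; exact Nat.lt_succ_self m)
    apply hnot
    haveI := dser_normal C m
    have hBC : dser C m ≤ C := dser_le C m
    have h1 : ⁅dser C m, dser C m⁆ ≤ P := by rw [← dser_succ]; exact hspec
    have h2 : ⁅⁅dser C m, dser C m⁆, dser C m⁆ = ⊥ := by
      rw [eq_bot_iff]
      have : ⁅P, C⁆ = ⊥ := by
        rw [Subgroup.commutator_eq_bot_iff_le_centralizer, Subgroup.le_centralizer_iff]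
      rw [← this]
      exact Subgroup.commutator_mono h1 hBC
    haveI hnil : Group.IsNilpotent (dser C m) := by
      rw [Subgroup.isNilpotent_iff_lowerCentralSeries]
      exact ⟨2, h2⟩
    exact le_pCore p (dser C m) (isPGroup_of_normal_nilpotent p h (dser C m))

end Cfsg.Agent.Lib.Helper55
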