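import Mathlib.GroupTheory.Transfer
import Mathlib.GroupTheory.Sylow
import Mathlib.Data.ZMod.Basic

set_option autoImplicit false
set_option linter.style.haveILetI false
set_option linter.unnecessarySimpa false

namespace Cfsg.Agent.Lib.Helper55

open MulAction Subgroup

theorem transfer_term2 {G : Type*} [Group G]
    (H : Subgroup G) (ϕ : ↥H →* Multiplicative (ZMod 2))
    (x : G) (n : ℕ)
    (h1 : ∀ (g : G) (h : g⁻¹ * x * g ∈ H), ϕ ⟨g⁻¹ * x * g, h⟩ ≠ 1)
    (h2 : ∀ (g : G) (r : ℕ), 2 ∣ r → ∀ h : g⁻¹ * x ^ r * g ∈ H, ϕ ⟨g⁻¹ * x ^ r * g, h⟩ = 1)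
    (g : G) (r : ℕ) (hdvd : r ∣ 2 ^ n) (hmemH : g⁻¹ * x ^ r * g ∈ H) :
    ϕ ⟨g⁻¹ * x ^ r * g, hmemH⟩ = Multiplicative.ofAdd ((r : ℕ) : ZMod 2) := by
  obtain ⟨j, _, hrj⟩ := (Nat.dvd_prime_pow Nat.prime_two).1 hdvd
  rcases Nat.eq_zero_or_pos j with hj0 | hjpos
  · have hr1 : r = 1 := by rw [hrj, hj0, pow_zero]
    subst hr1
    have hmem' : g⁻¹ * x * g ∈ H := by simpa using hmemH
    have heq : (⟨g⁻¹ * x ^ 1 * g, hmemH⟩ : H) = ⟨g⁻¹ * x * g, hmem'⟩ :=
      Subtype.ext (by simp only [pow_one])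
    rw [heq]
    have hne := h1 g hmem'
    have : ∀ a : Multiplicative (ZMod 2), a ≠ 1 → a = Multiplicative.ofAdd ((1 : ℕ) : ZMod 2) := by
      decide
    exact this _ hne
  · have h2r : 2 ∣ r := by
      rw [hrj]; exact dvd_pow_self 2 hjpos.ne'
    rw [h2 g r h2r hmemH]
    have : ((r : ℕ) : ZMod 2) = 0 := (ZMod.natCast_eq_zero_iff r 2).2 h2r
    rw [this]; rfl

/-- A transfer non-vanishing criterion: if every conjugate of `x` lying in the Sylow 2-subgroup `S`
is mapped to the non-trivial element by `ϕ`, and every conjugate of an even power of `x` lying in `S`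
is killed by `ϕ`, then the transfer of `x` is non-trivial. -/
theorem transfer_ne_one {G : Type*} [Group G] [Finite G]
    (S : Sylow 2 G) (ϕ : ↥(S : Subgroup G) →* Multiplicative (ZMod 2))
    (x : G) (n : ℕ) (hx : x ^ 2 ^ n = 1)
    (h1 : ∀ (g : G) (h : g⁻¹ * x * g ∈ (S : Subgroup G)), ϕ ⟨g⁻¹ * x * g, h⟩ ≠ 1)
    (h2 : ∀ (g : G) (r : ℕ), 2 ∣ r → ∀ h : g⁻¹ * x ^ r * g ∈ (S : Subgroup G),
      ϕ ⟨g⁻¹ * x ^ r * g, h⟩ = 1) :
    MonoidHom.transfer ϕ x ≠ 1 := by
  classical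
  haveI : Fact (Nat.Prime 2) := ⟨Nat.prime_two⟩
  haveI : Fintype (Quotient (orbitRel (zpowers x) (G ⧸ (S : Subgroup G)))) := Fintype.ofFinite _
  have hform := MonoidHom.transfer_eq_prod_quotient_orbitRel_zpowers_quot ϕ x
  have hterm : ∀ q : Quotient (orbitRel (zpowers x) (G ⧸ (S : Subgroup G))),
      ϕ ⟨q.out.out⁻¹ * x ^ Function.minimalPeriod (x • ·) q.out * q.out.out,
          QuotientGroup.out_conj_pow_minimalPeriod_mem (S : Subgroup G) x q.out⟩ =
        Multiplicative.ofAdd ((Function.minimalPeriod (x • ·) q.out : ℕ) : ZMod 2) := by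
    intro q
    have hper : Function.IsPeriodicPt (x • ·) (2 ^ n) q.out := by
      show (fun y : G ⧸ (S : Subgroup G) => x • y)^[2 ^ n] q.out = q.out
      rw [smul_iterate_apply, hx, one_smul]
    exact transfer_term2 (S : Subgroup G) ϕ x n h1 h2 q.out.out _ hper.minimalPeriod_dvd _
  have hsum : (S : Subgroup G).index = ∑ q : Quotient (orbitRel (zpowers x) (G ⧸ (S : Subgroup G))),
      Function.minimalPeriod (x • ·) q.out := Subgroup.index_eq_sum_minimalPeriod (S : Subgroup G) x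
  have hodd : ¬ 2 ∣ (S : Subgroup G).index := S.not_dvd_index
  rw [hform]
  simp_rw [hterm]
  rw [← ofAdd_sum, ← Nat.cast_sum, ← hsum]
  intro h
  have h0 : (((S : Subgroup G).index : ℕ) : ZMod 2) = 0 := by
    simpa using h
  exact hodd ((ZMod.natCast_eq_zero_iff _ 2).1 h0)

/-- A non-abelian simple group has no non-trivial homomorphism to a commutative group. -/
theorem hom_eq_one_of_simple {G A : Type*} [Group G] [CommGroup A] [IsSimpleGroup G]
    (hG : ¬ IsMulCommutative G) (τ : G →* A) (x : G) : τ x = 1 := by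
  rcases (τ.normal_ker).eq_bot_or_eq_top with h | h
  · exfalso
    apply hG
    have hinj : Function.Injective τ := (MonoidHom.ker_eq_bot_iff τ).mp h
    exact ⟨⟨fun a b => hinj (by rw [map_mul, map_mul, mul_comm])⟩⟩
  · have : x ∈ τ.ker := by rw [h]; exact Subgroup.mem_top x
    exact MonoidHom.mem_ker.mp this

end Cfsg.Agent.Lib.Helper55
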