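import Mathlib
import Cfsg.Prelude.Def_ClassicalGeometry
import Cfsg.Prelude.Def_GeometricClasses
import Cfsg.Agent.Lib.Helper5.HyDefs

/-! # S5992 + S5993 hive (helper5), leaf HY-SUP : `nd_sup` -/

set_option autoImplicit false

namespace Cfsg.Agent.Lib.Helper5.Hy

open Polynomial Module
open Cfsg.Agent.Lib.Helper2.BG Cfsg.Agent.Lib.Helper99 Cfsg.Agent.Lib.Helper48.Ti
open Cfsg.Agent.Lib.Helper67.Ts

section abstract

variable {F V : Type*} [Field F] [Fintype F] [AddCommGroup V] [Module F V] [FiniteDimensional F V]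
variable {B : V →ₗ[F] V →ₗ[F] F}

/-- HY-SUP: orthogonal sum of nondegenerate subspaces (any reflexive form; only symmetric needed) -/
theorem nd_sup (hs : ∀ u v, B u v = B v u) {W₀ W₁ : Submodule F V} (h₀ : Nd B W₀) (h₁ : Nd B W₁)
    (ho : Orth B W₀ W₁) :
    Nd B (W₀ ⊔ W₁) ∧ W₀ ⊓ W₁ = ⊥ ∧ finrank F ↥(W₀ ⊔ W₁) = finrank F W₀ + finrank F W₁ := by
  have hinf : W₀ ⊓ W₁ = ⊥ := by
    rw [Submodule.eq_bot_iff]
    rintro x ⟨hx0, hx1⟩
    exact h₁ x hx1 (fun y hy => ho x hx0 y hy)
  refine ⟨?_, hinf, ?_⟩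
  · intro x hx hxy
    obtain ⟨u, hu, v, hv, rfl⟩ := Submodule.mem_sup.mp hx
    have hu0 : u = 0 := by
      apply h₀ u hu
      intro y hy
      have h := hxy y (Submodule.mem_sup_left hy)
      rw [map_add, LinearMap.add_apply, hs v y, ho y hy v hv, add_zero] at h
      exact h
    have hv0 : v = 0 := by
      apply h₁ v hv
      intro y hy
      have h := hxy y (Submodule.mem_sup_right hy)
      rw [map_add, LinearMap.add_apply, ho u hu y hy, zero_add] at h
      exact h
    rw [hu0, hv0, add_zero]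
  · have := Submodule.finrank_sup_add_finrank_inf_eq W₀ W₁
    rw [hinf, finrank_bot, add_zero] at this
    exact this

end abstract

end Cfsg.Agent.Lib.Helper5.Hy
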