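import Mathlib
import Cfsg.Prelude.Def_ClassicalGeometry
import Cfsg.Agent.Lib.Helper2.BGLin
import Cfsg.Agent.Lib.Helper2.BGPoly
import Cfsg.Agent.Lib.Helper99.SympForm
import Cfsg.Agent.Lib.Helper48.TiDefs

/-! # S5955 hive, leaf TI-PEEL : `peel`, `glue`, `ti_bound` -/

set_option autoImplicit false

namespace Cfsg.Agent.Lib.Helper48.Ti

open Polynomial Module
open Cfsg.Agent.Lib.Helper2.BG Cfsg.Agent.Lib.Helper99

section abstract

variable {F V : Type*} [Field F] [AddCommGroup V] [Module F V] [FiniteDimensional F V]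
variable {B : V →ₗ[F] V →ₗ[F] F}

omit [FiniteDimensional F V] in
theorem peel_skew (hB : ∀ v, B v v = 0) (u v : V) : B u v = - B v u := by
  have h := hB (u + v)
  simp only [map_add, LinearMap.add_apply, hB u, hB v, zero_add, add_zero] at h
  rw [add_comm] at h
  exact eq_neg_of_add_eq_zero_left h

/-- dimension of the relative perp in a relatively nondegenerate subspace -/
theorem peel_finrank {Z : Submodule F V} (hZ : Nd B Z) {W : Submodule F V} (hWZ : W ≤ Z) :
    finrank F W + finrank F ↥(Z ⊓ LinearMap.BilinForm.orthogonal B W) = finrank F Z := by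
  let b : LinearMap.BilinForm F ↥Z := LinearMap.BilinForm.restrict B Z
  have hb : ∀ x y : ↥Z, b x y = B (x : V) (y : V) := fun x y => rfl
  let W' : Submodule F ↥Z := W.comap Z.subtype
  have h := LinearMap.BilinForm.finrank_add_finrank_orthogonal' (B := b) W'
  have hker : LinearMap.ker b = ⊥ := by
    rw [LinearMap.ker_eq_bot']
    intro u hu
    have : (u : V) = 0 := hZ u u.2 (fun v hv => by
      have := LinearMap.congr_fun hu ⟨v, hv⟩
      simpa [hb] using this)
    exact Subtype.ext this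
  rw [hker, inf_bot_eq, finrank_bot, add_zero] at h
  have h1 : finrank F W' = finrank F W := (Submodule.comapSubtypeEquivOfLe hWZ).finrank_eq
  have h2 : finrank F (b.orthogonal W') = finrank F ↥(Z ⊓ LinearMap.BilinForm.orthogonal B W) := by
    have hmap : (b.orthogonal W').map Z.subtype = Z ⊓ LinearMap.BilinForm.orthogonal B W := by
      ext x
      constructor
      · rintro ⟨y, hy, rfl⟩
        refine ⟨y.2, fun w hw => ?_⟩
        exact hy ⟨w, hWZ hw⟩ hw
      · rintro ⟨hxZ, hx⟩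
        exact ⟨⟨x, hxZ⟩, fun w hw => hx w.1 hw, rfl⟩
    rw [← hmap]
    exact (Submodule.finrank_map_subtype_eq Z _).symm
  rw [h1, h2] at h
  exact h

/-- TI-PEEL -/
theorem peel (hB : ∀ v, B v v = 0) {f : Module.End F V} (hf : Isom B f)
    (hinj : Function.Injective f) (hss : f.IsSemisimple) {Z Y : Submodule F V}
    (hZ : Nd B Z) (hZf : Inv f Z) (hYZ : Y ≤ Z) (hYf : Inv f Y) (hY : TI B Y) :
    ∃ Z' : Submodule F V, Z' ≤ Z ∧ Inv f Z' ∧ Nd B Z' ∧ Disjoint Y Z' ∧
      (∀ y ∈ Y, ∀ z ∈ Z', B y z = 0) ∧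
      finrank F Z' + 2 * finrank F Y = finrank F Z := by
  have hYsurj : ∀ y ∈ Y, ∃ y' ∈ Y, f y' = y := by
    have hle : Y.map f ≤ Y := (inv_iff_map_le f Y).mp hYf
    have heq : Y.map f = Y :=
      Submodule.eq_of_le_of_finrank_eq hle (Submodule.equivMapOfInjective f hinj Y).finrank_eq.symm
    intro y hy
    have hy' : y ∈ Y.map f := by rw [heq]; exact hy
    obtain ⟨y', hy'', rfl⟩ := hy'
    exact ⟨y', hy'', rfl⟩
  set M : Submodule F V := Z ⊓ LinearMap.BilinForm.orthogonal B Y with hM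
  have hMf : Inv f M := by
    intro z hz
    refine ⟨hZf z hz.1, fun y hy => ?_⟩
    obtain ⟨y', hy', rfl⟩ := hYsurj y hy
    rw [hf]
    exact hz.2 y' hy'
  have hYM : Y ≤ M := fun y hy => ⟨hYZ hy, fun w hw => hY w hw y hy⟩
  obtain ⟨Z', hZ'f, hZ'M, hdisj, hsup, hfr⟩ := exists_inv_compl_in hss hYf hMf hYM
  have hfrM : finrank F Y + finrank F M = finrank F Z := peel_finrank hZ hYZ
  have hMZ : M ≤ Z := inf_le_left
  have hfrM2 : finrank F M + finrank F ↥(Z ⊓ LinearMap.BilinForm.orthogonal B M) = finrank F Z :=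
    peel_finrank hZ hMZ
  have hYeq : Y = Z ⊓ LinearMap.BilinForm.orthogonal B M := by
    apply Submodule.eq_of_le_of_finrank_eq
    · intro y hy
      exact ⟨hYZ hy, fun m hm => by rw [peel_skew hB, hm.2 y hy, neg_zero]⟩
    · omega
  refine ⟨Z', hZ'M.trans hMZ, hZ'f, ?_, hdisj, fun y hy z hz => (hZ'M hz).2 y hy, by omega⟩
  intro w hw hwZ'
  have hwM := hZ'M hw
  have hwY : w ∈ Y := by
    rw [hYeq]
    refine ⟨hwM.1, fun m hm => ?_⟩
    rw [← hsup] at hm
    obtain ⟨y, hy, z', hz', rfl⟩ := Submodule.mem_sup.mp hm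
    rw [map_add, LinearMap.add_apply, hwM.2 y hy, peel_skew hB z' w, hwZ' z' hz', neg_zero,
      add_zero]
  have : w ∈ Y ⊓ Z' := ⟨hwY, hw⟩
  rw [disjoint_iff.mp hdisj] at this
  exact (Submodule.mem_bot F).mp this

omit [FiniteDimensional F V] in
/-- TI-GLUE (without the dimension count) -/
theorem peel_glue_ti (hB : ∀ v, B v v = 0) {Y Z' U' : Submodule F V} (hY : TI B Y)
    (horth : ∀ y ∈ Y, ∀ z ∈ Z', B y z = 0) (hU'Z : U' ≤ Z') (hU' : TI B U') :
    TI B (Y ⊔ U') := by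
  intro a ha b hb
  obtain ⟨y, hy, u, hu, rfl⟩ := Submodule.mem_sup.mp ha
  obtain ⟨y', hy', u', hu', rfl⟩ := Submodule.mem_sup.mp hb
  simp only [map_add, LinearMap.add_apply]
  rw [hY y hy y' hy', horth y hy u' (hU'Z hu'), peel_skew hB u y', horth y' hy' u (hU'Z hu),
    hU' u hu u' hu']
  simp

/-- TI-GLUE -/
theorem glue (hB : ∀ v, B v v = 0) {f : Module.End F V} {Y Z' U' : Submodule F V}
    (hYf : Inv f Y) (hY : TI B Y) (hd : Disjoint Y Z')
    (horth : ∀ y ∈ Y, ∀ z ∈ Z', B y z = 0)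
    (hU'Z : U' ≤ Z') (hU'f : Inv f U') (hU' : TI B U') :
    Inv f (Y ⊔ U') ∧ TI B (Y ⊔ U') ∧
      finrank F ↥(Y ⊔ U') = finrank F Y + finrank F U' :=
  ⟨hYf.sup hU'f, peel_glue_ti hB hY horth hU'Z hU',
    finrank_sup_of_disjoint' Y U' (hd.mono_right hU'Z)⟩

/-- TI-BASE (3) -/
theorem ti_bound (hB : ∀ v, B v v = 0) {Z U : Submodule F V} (hZ : Nd B Z) (hUZ : U ≤ Z)
    (hU : TI B U) : 2 * finrank F U ≤ finrank F Z := by
  have h := peel_finrank hZ hUZ
  have hle : U ≤ Z ⊓ LinearMap.BilinForm.orthogonal B U :=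
    fun u hu => ⟨hUZ hu, fun w hw => hU w hw u hu⟩
  have := Submodule.finrank_mono hle
  omega

end abstract

end Cfsg.Agent.Lib.Helper48.Ti
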