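import Mathlib
import Cfsg.Prelude.Def_ClassicalGeometry
import Cfsg.Prelude.Def_GeometricClasses
import Cfsg.Agent.Lib.Helper48.TiDefs
import Cfsg.Agent.Lib.Helper67.TsDefs
import Cfsg.Agent.Lib.Helper43.Witt
import Cfsg.Agent.Lib.Helper55.TiPEEL

/-! # S5972 hive (helper67), leaf TS-BASE : `exists_ts_of_nd` -/

set_option autoImplicit false

namespace Cfsg.Agent.Lib.Helper67.Ts

open Polynomial Module
open Cfsg.Agent.Lib.Helper2.BG Cfsg.Agent.Lib.Helper99 Cfsg.Agent.Lib.Helper48.Ti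

section abstract

variable {F V : Type*} [Field F] [AddCommGroup V] [Module F V] [FiniteDimensional F V]
variable {B : V →ₗ[F] V →ₗ[F] F}

/-- a nonzero isotropic vector in a nondegenerate symmetric space of dimension `≥ 3` over a finite
field of odd characteristic -/
theorem base_exists_iso [Finite F] (h2 : (2 : F) ≠ 0) (hB : ∀ u v, B u v = B v u)
    {Z : Submodule F V} (hZ : Nd B Z) (h3 : 3 ≤ finrank F Z) :
    ∃ v ∈ Z, v ≠ 0 ∧ B v v = 0 := by
  have := Fintype.ofFinite F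
  let Q : QuadraticForm F V := LinearMap.BilinMap.toQuadraticMap B
  have hQ : ∀ x, Q x = B x x := fun x => LinearMap.BilinMap.toQuadraticMap_apply B x
  have hpol : ∀ x y, QuadraticMap.polar Q x y = 2 * B x y := by
    intro x y
    rw [LinearMap.BilinMap.polar_toQuadraticMap, hB y x]
    ring
  have hnd : ∀ w ∈ Z, (∀ w' ∈ Z, QuadraticMap.polar Q w w' = 0) → w = 0 := by
    intro w hw h
    apply hZ w hw
    intro w' hw'
    have h1 := h w' hw'
    rw [hpol] at h1
    rcases mul_eq_zero.mp h1 with h3 | h3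
    · exact absurd h3 h2
    · exact h3
  obtain ⟨w, hw0, hw⟩ := Cfsg.Agent.Lib.Helper43.exists_singular_odd h2 (Q.comp Z.subtype)
    (Cfsg.Agent.Lib.Helper43.nondegenerate_comp_subtype Q Z hnd) h3
  refine ⟨w, w.2, fun h => hw0 (Subtype.ext h), ?_⟩
  have : Q (w : V) = 0 := hw
  rw [hQ] at this
  exact this

/-- peeling a totally isotropic `Y` off a nondegenerate `Z`, symmetric form -/
theorem base_peel (hB : ∀ u v, B u v = B v u) {Z Y : Submodule F V}
    (hZ : Nd B Z) (hYZ : Y ≤ Z) (hY : TI B Y) :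
    ∃ Z' : Submodule F V, Z' ≤ Z ∧ Nd B Z' ∧ Disjoint Y Z' ∧
      (∀ y ∈ Y, ∀ z ∈ Z', B y z = 0) ∧
      finrank F Z' + 2 * finrank F Y = finrank F Z := by
  set M : Submodule F V := Z ⊓ LinearMap.BilinForm.orthogonal B Y with hM
  have hYM : Y ≤ M := fun y hy => ⟨hYZ hy, fun w hw => hY w hw y hy⟩
  have hidY : Inv (LinearMap.id : Module.End F V) Y := fun x hx => hx
  have hidM : Inv (LinearMap.id : Module.End F V) M := fun x hx => hx
  obtain ⟨Z', -, hZ'M, hdisj, hsup, hfr⟩ :=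
    exists_inv_compl_in (f := (LinearMap.id : Module.End F V)) Module.End.isSemisimple_id
      hidY hidM hYM
  have hfrM : finrank F Y + finrank F M = finrank F Z := peel_finrank hZ hYZ
  have hMZ : M ≤ Z := inf_le_left
  have hfrM2 : finrank F M + finrank F ↥(Z ⊓ LinearMap.BilinForm.orthogonal B M) = finrank F Z :=
    peel_finrank hZ hMZ
  have hYeq : Y = Z ⊓ LinearMap.BilinForm.orthogonal B M := by
    apply Submodule.eq_of_le_of_finrank_eq
    · intro y hy
      exact ⟨hYZ hy, fun m hm => by rw [hB, hm.2 y hy]⟩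
    · omega
  refine ⟨Z', hZ'M.trans hMZ, ?_, hdisj, fun y hy z hz => (hZ'M hz).2 y hy, by omega⟩
  intro w hw hwZ'
  have hwM := hZ'M hw
  have hwY : w ∈ Y := by
    rw [hYeq]
    refine ⟨hwM.1, fun m hm => ?_⟩
    rw [← hsup] at hm
    obtain ⟨y, hy, z', hz', rfl⟩ := Submodule.mem_sup.mp hm
    rw [map_add, LinearMap.add_apply, hwM.2 y hy, hB z' w, hwZ' z' hz', add_zero]
  have : w ∈ Y ⊓ Z' := ⟨hwY, hw⟩
  rw [disjoint_iff.mp hdisj] at this
  exact (Submodule.mem_bot F).mp this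

/-- TS-BASE -/
theorem exists_ts_of_nd [Finite F] (h2 : (2 : F) ≠ 0) (hB : ∀ u v, B u v = B v u)
    {Z : Submodule F V} (hZ : Nd B Z) {a : ℕ}
    (ha : 2 * a + 2 ≤ finrank F Z + finrank F Z % 2) :
    ∃ U : Submodule F V, U ≤ Z ∧ TI B U ∧ finrank F U = a := by
  induction a generalizing Z with
  | zero =>
    refine ⟨⊥, bot_le, fun u hu v _ => ?_, finrank_bot F V⟩
    rw [(Submodule.mem_bot F).mp hu]
    simp
  | succ a ih =>
    have h3 : 3 ≤ finrank F Z := by omega
    obtain ⟨v, hvZ, hv0, hvv⟩ := base_exists_iso h2 hB hZ h3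
    have hYZ : Submodule.span F {v} ≤ Z := (Submodule.span_singleton_le_iff_mem v Z).mpr hvZ
    have hYti : TI B (Submodule.span F {v}) := by
      intro x hx y hy
      obtain ⟨s, rfl⟩ := Submodule.mem_span_singleton.mp hx
      obtain ⟨t, rfl⟩ := Submodule.mem_span_singleton.mp hy
      simp [hvv]
    have hYfr : finrank F (Submodule.span F {v}) = 1 := finrank_span_singleton hv0
    obtain ⟨Z', hZ'Z, hZ'nd, hdisj, horth, hfr⟩ := base_peel hB hZ hYZ hYti
    rw [hYfr] at hfr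
    have ha' : 2 * a + 2 ≤ finrank F Z' + finrank F Z' % 2 := by omega
    obtain ⟨U', hU'Z', hU'ti, hU'fr⟩ := ih hZ'nd ha'
    refine ⟨Submodule.span F {v} ⊔ U', sup_le hYZ (hU'Z'.trans hZ'Z), ?_, ?_⟩
    · intro x hx y hy
      obtain ⟨y1, hy1, u1, hu1, rfl⟩ := Submodule.mem_sup.mp hx
      obtain ⟨y2, hy2, u2, hu2, rfl⟩ := Submodule.mem_sup.mp hy
      simp only [map_add, LinearMap.add_apply]
      rw [hYti y1 hy1 y2 hy2, horth y1 hy1 u2 (hU'Z' hu2), hB u1 y2,
        horth y2 hy2 u1 (hU'Z' hu1), hU'ti u1 hu1 u2 hu2]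
      simp
    · rw [finrank_sup_of_disjoint' _ _ (hdisj.mono_right hU'Z'), hYfr, hU'fr]
      omega

end abstract

end Cfsg.Agent.Lib.Helper67.Ts
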