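import Cfsg.Agent.Lib.Helper6.Uni.Defs

/-! # S2314 hive, leaf UNI-R2 : `rB_sup_closure` -/

set_option autoImplicit false

namespace Cfsg.Agent.Lib.Helper6.Uni

open Cfsg Cfsg.Agent.Lib.Helper6 Cfsg.Agent.Lib.Helper6.St

universe u

section R
variable {G : Type u} [Group G]

/-- UNI-R2. The parabolic subgroups of the restricted pair. -/
theorem rB_sup_closure (P : Cfsg.BNPair G) (J K : Set G) (hKJ : K ⊆ J) :
    rB P J ⊔ Subgroup.closure (Subtype.val ⁻¹' K : Set ↥(P.parabolic J)) =
      (P.parabolic K).subgroupOf (P.parabolic J) := by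
  have hJle : J ⊆ (P.parabolic J : Set G) := fun x hx =>
    (le_sup_right : Subgroup.closure J ≤ P.parabolic J) (Subgroup.subset_closure hx)
  have hKle : P.parabolic K ≤ P.parabolic J :=
    sup_le le_sup_left ((Subgroup.closure_mono hKJ).trans le_sup_right)
  have hBle : P.B ≤ P.parabolic J := le_sup_left
  apply Subgroup.map_injective (Subgroup.subtype_injective (P.parabolic J))
  rw [Subgroup.map_sup, MonoidHom.map_closure, Subgroup.subgroupOf_map_subtype, rB,
    Subgroup.subgroupOf_map_subtype, inf_eq_left.mpr hKle, inf_eq_left.mpr hBle]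
  have himg : (⇑(P.parabolic J).subtype '' (Subtype.val ⁻¹' K : Set ↥(P.parabolic J))) = K := by
    ext x
    constructor
    · rintro ⟨y, hy, rfl⟩
      exact hy
    · intro hx
      exact ⟨⟨x, (hKJ.trans hJle) hx⟩, hx, rfl⟩
  rw [himg]
  rfl

end R

end Cfsg.Agent.Lib.Helper6.Uni
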