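import Cfsg.Agent.Lib.Helper6.Uni.Defs

/-! # S2314 hive, leaf UNI-R3 : `npe_subgroupOf` -/

set_option autoImplicit false

namespace Cfsg.Agent.Lib.Helper6.Uni

open Cfsg Cfsg.Agent.Lib.Helper6 Cfsg.Agent.Lib.Helper6.St

universe u

section R
variable {G : Type u} [Group G]

theorem r3_isPElt_coe (p : ℕ) (M : Subgroup G) (g : ↥M) : IsPElt p (g : G) ↔ IsPElt p g := by
  unfold IsPElt
  rw [Subgroup.orderOf_coe]

/-- UNI-R3. `p`-elements of `K` computed inside a larger subgroup `M`. -/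
theorem npe_subgroupOf (p : ℕ) (K M : Subgroup G) (hKM : K ≤ M) : npe p (K.subgroupOf M) = npe p K := by
  unfold npe
  refine Nat.card_congr
    { toFun := fun g => ⟨((g.1 : ↥M) : G), Subgroup.mem_subgroupOf.mp g.2.1,
        (r3_isPElt_coe p M g.1).mpr g.2.2⟩
      invFun := fun g => ⟨⟨g.1, hKM g.2.1⟩, Subgroup.mem_subgroupOf.mpr g.2.1,
        (r3_isPElt_coe p M ⟨g.1, hKM g.2.1⟩).mp g.2.2⟩
      left_inv := fun g => by ext; rfl
      right_inv := fun g => by ext; rfl }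

end R

end Cfsg.Agent.Lib.Helper6.Uni
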