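import Mathlib
import Cfsg.Agent.Lib.Helper6.Nc.Defs

/-! # NC-CEN (helper55, for helper6's Nc hive S3894): the centre of `GL_n` stabilises every line and hyperplane -/

set_option autoImplicit false

namespace Cfsg.Agent.Lib.Helper6.Nc

open Matrix

variable {F : Type*} [Field F]

theorem nccen_scalar {n : ℕ} (z : GL (Fin n) F) (hz : z ∈ Subgroup.center (GL (Fin n) F)) :
    ∃ a : Fˣ, (z : Matrix (Fin n) (Fin n) F) = Matrix.scalar (Fin n) (a : F) := by
  rw [Matrix.GeneralLinearGroup.center_eq_range_scalar] at hz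
  obtain ⟨a, rfl⟩ := hz
  exact ⟨a, rfl⟩

/-- NC-CEN (a). -/
theorem center_le_lineStab {n : ℕ} (v : Fin n → F) :
    Subgroup.center (GL (Fin n) F) ≤ lineStab v := by
  intro z hz
  obtain ⟨a, ha⟩ := nccen_scalar z hz
  refine ⟨a, ?_⟩
  rw [ha]
  ext i
  simp [Matrix.mulVec, dotProduct, Matrix.diagonal_apply]

/-- NC-CEN (b). -/
theorem center_le_rowStab {n : ℕ} (φ : Fin n → F) :
    Subgroup.center (GL (Fin n) F) ≤ rowStab φ := by
  intro z hz
  obtain ⟨a, ha⟩ := nccen_scalar z hz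
  refine ⟨a, ?_⟩
  rw [ha]
  ext i
  simp [Matrix.vecMul, dotProduct, Matrix.diagonal_apply, mul_comm]

end Cfsg.Agent.Lib.Helper6.Nc
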