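import Mathlib
import Cfsg.Agent.Lib.Helper6.Nc.Defs

/-! # NC-CONJ (helper55, for helper6's Nc hive S3894): line stabilisers and conjugation -/

set_option autoImplicit false

namespace Cfsg.Agent.Lib.Helper6.Nc

open Matrix

variable {F : Type*} [Field F]

/-- NC-CONJ.  `g (σ v) = c (σ v) ↔ (σ⁻¹ g σ) v = c v`. -/
theorem lineStab_conj {n : ℕ} (σ g : GL (Fin n) F) (v : Fin n → F) :
    g ∈ lineStab ((σ : Matrix (Fin n) (Fin n) F) *ᵥ v) ↔ σ⁻¹ * g * σ ∈ lineStab v := by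
  have hinv : ∀ w : Fin n → F, ((σ⁻¹ : GL (Fin n) F) : Matrix (Fin n) (Fin n) F) *ᵥ
      ((σ : Matrix (Fin n) (Fin n) F) *ᵥ w) = w := by
    intro w
    rw [Matrix.mulVec_mulVec, ← Units.val_mul, inv_mul_cancel, Units.val_one, Matrix.one_mulVec]
  have hinv' : ∀ w : Fin n → F, (σ : Matrix (Fin n) (Fin n) F) *ᵥ
      (((σ⁻¹ : GL (Fin n) F) : Matrix (Fin n) (Fin n) F) *ᵥ w) = w := by
    intro w
    rw [Matrix.mulVec_mulVec, ← Units.val_mul, mul_inv_cancel, Units.val_one, Matrix.one_mulVec]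
  have hmul : ((σ⁻¹ * g * σ : GL (Fin n) F) : Matrix (Fin n) (Fin n) F) *ᵥ v =
      ((σ⁻¹ : GL (Fin n) F) : Matrix (Fin n) (Fin n) F) *ᵥ
        ((g : Matrix (Fin n) (Fin n) F) *ᵥ ((σ : Matrix (Fin n) (Fin n) F) *ᵥ v)) := by
    rw [Units.val_mul, Units.val_mul, Matrix.mulVec_mulVec, Matrix.mulVec_mulVec]
  constructor
  · rintro ⟨c, hc⟩
    refine ⟨c, ?_⟩
    rw [hmul, hc, Matrix.mulVec_smul, hinv]
  · rintro ⟨c, hc⟩
    refine ⟨c, ?_⟩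
    rw [hmul] at hc
    have h2 : (σ : Matrix (Fin n) (Fin n) F) *ᵥ (((σ⁻¹ : GL (Fin n) F) : Matrix (Fin n) (Fin n) F) *ᵥ
        ((g : Matrix (Fin n) (Fin n) F) *ᵥ ((σ : Matrix (Fin n) (Fin n) F) *ᵥ v))) =
        (σ : Matrix (Fin n) (Fin n) F) *ᵥ ((c : F) • v) := by rw [hc]
    rw [hinv', Matrix.mulVec_smul] at h2
    exact h2

end Cfsg.Agent.Lib.Helper6.Nc
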