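import Cfsg.Agent.Lib.Helper55.D3UNIQ
import Cfsg.Agent.Lib.Helper36.ChevTwD4

/-! # D3-NF (helper55, for helper12's D3 hive S2183): every element of `U ∩ ³D₄(q)` is a twisted normal form `W(s,t,S,c,d,e)` -/

set_option autoImplicit false
set_option linter.unusedSectionVars false
set_option linter.unusedVariables false

namespace Cfsg.Agent.Lib.Helper12.D3

open Cfsg Cfsg.Lie Cfsg.Agent.Lib.Helper36 Cfsg.Agent.Lib.Helper75.D4g

variable (K : Type*) [Field K] (φ : K →+* K)

/-- in characteristic 2 the twisting signs disappear -/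
theorem d3nf_tw [CharP K 2] (a : ℕ → K) (r : ℕ) (hr : r ∈ [18, 13, 12, 14, 15, 19, 16, 17, 20, 21, 22, 23]) :
    tw graphD4 K φ a r = φ (a (graphD4.ρi r)) := by
  have hε : ∀ r ∈ [18, 13, 12, 14, 15, 19, 16, 17, 20, 21, 22, 23],
      graphD4.ε (graphD4.ρi r) = 1 ∨ graphD4.ε (graphD4.ρi r) = -1 := by decide
  unfold tw
  rcases hε r hr with e | e <;> rw [e]
  · simp
  · have : ((-1 : ℤ) : K) = 1 := by
      rw [Int.cast_neg, Int.cast_one, CharTwo.neg_eq]
    rw [this, one_mul]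

/-- D3-NF -/
theorem nf [Fintype K] [CharP K 2] {q : ℕ} (hK : Fintype.card K = q ^ 3) (hφ : ∀ t : K, φ t = t ^ q)
    (u : GL chevD4.Idx K) (hu : u ∈ chevD4.posUnipotent K) (hG : u ∈ twistedD4 K q) :
    ∃ s t S c d e : K, φ t = t ∧ φ d = d ∧ φ e = e ∧ u = W K φ s t S c d e := by
  have hord : orbsD4.flatten = [18, 13, 12, 14, 15, 19, 16, 17, 20, 21, 22, 23] := by decide
  have hk := (chkOrb_spec chevD4 graphD4 orbsD4 chkOrb_D4).1
  obtain ⟨a, ha⟩ := key_exists chevD4 hD4 K orbsD4.flatten hk u hu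
  rw [twistedD4_eq K q φ hφ hK] at hG
  have hσ := sigma_twGroup chevD4 hD4 graphD4 twOK_D4.hG orbsD4 fundD4 K φ twOK_D4.orb twOK_D4.fnd u hG
  rw [ha] at hσ
  have hfix := (sigma_fixed_iff chevD4 hD4 graphD4 twOK_D4.hG orbsD4 K φ twOK_D4.orb a).1 hσ
  have hfix' : ∀ r ∈ [18, 13, 12, 14, 15, 19, 16, 17, 20, 21, 22, 23], a r = φ (a (graphD4.ρi r)) := by
    intro r hr
    rw [← d3nf_tw K φ a r hr]
    exact hfix r (by rw [hord]; exact hr)
  have e13 : graphD4.ρi 13 = 18 := by decide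
  have e12 : graphD4.ρi 12 = 13 := by decide
  have e14 : graphD4.ρi 14 = 14 := by decide
  have e16 : graphD4.ρi 16 = 19 := by decide
  have e15 : graphD4.ρi 15 = 16 := by decide
  have e17 : graphD4.ρi 17 = 21 := by decide
  have e20 : graphD4.ρi 20 = 17 := by decide
  have e22 : graphD4.ρi 22 = 22 := by decide
  have e23 : graphD4.ρi 23 = 23 := by decide
  have h13 := hfix' 13 (by simp); rw [e13] at h13
  have h12 := hfix' 12 (by simp); rw [e12, h13] at h12
  have h14 := hfix' 14 (by simp); rw [e14] at h14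
  have h16 := hfix' 16 (by simp); rw [e16] at h16
  have h15 := hfix' 15 (by simp); rw [e15, h16] at h15
  have h17 := hfix' 17 (by simp); rw [e17] at h17
  have h20 := hfix' 20 (by simp); rw [e20, h17] at h20
  have h22 := hfix' 22 (by simp); rw [e22] at h22
  have h23 := hfix' 23 (by simp); rw [e23] at h23
  refine ⟨a 18, a 14, a 19, a 21, a 22, a 23, h14.symm, h22.symm, h23.symm, ?_⟩
  rw [ha, d3uniq_word]
  congr 1
  rw [hord]
  simp only [List.map_cons, List.map_nil, d3uniq_coef]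
  norm_num
  exact ⟨h13, h12, h15, h16, h17, h20⟩

end Cfsg.Agent.Lib.Helper12.D3
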