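import Cfsg.Agent.Lib.Helper12.D3Defs
import Cfsg.Agent.Lib.Helper36.ChevKeyOrd
import Cfsg.Agent.Lib.Helper36.ChevTwPerf

/-! # D3-UNIQ (helper55, for helper12's D3 hive S2183): the twisted normal form `W(s,t,S,c,d,e)` determines its parameters -/

set_option autoImplicit false
set_option linter.unusedSectionVars false
set_option linter.unusedVariables false

namespace Cfsg.Agent.Lib.Helper12.D3

open Cfsg Cfsg.Lie Cfsg.Agent.Lib.Helper36 Cfsg.Agent.Lib.Helper75.D4g

variable (K : Type*) [Field K] (φ : K →+* K)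

/-- the coefficient function of `W(s,t,S,c,d,e)` on the 12 positive roots -/
def d3uniq_coef (s t S c d e : K) : ℕ → K := fun r =>
  if r = 18 then s else if r = 13 then φ s else if r = 12 then φ (φ s) else if r = 14 then t
  else if r = 15 then φ (φ S) else if r = 19 then S else if r = 16 then φ S
  else if r = 17 then φ c else if r = 20 then φ (φ c) else if r = 21 then c
  else if r = 22 then d else e

theorem d3uniq_word (s t S c d e : K) :
    W K φ s t S c d e =
      wordGL chevD4 hD4 K (orbsD4.flatten.map fun r => (r, d3uniq_coef K φ s t S c d e r)) := by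
  have hord : orbsD4.flatten = [18, 13, 12, 14, 15, 19, 16, 17, 20, 21, 22, 23] := by decide
  have c1 : ∀ a b : K, xg K 19 a * xg K 15 b = xg K 15 b * xg K 19 a := fun a b =>
    (xGL_commute_of_nil chevD4 hD4 K 19 15 (by decide) (by decide) (by decide) (by decide) (by decide) a b)
  have c2 : ∀ a b : K, xg K 16 a * xg K 15 b = xg K 15 b * xg K 16 a := fun a b =>
    (xGL_commute_of_nil chevD4 hD4 K 16 15 (by decide) (by decide) (by decide) (by decide) (by decide) a b)
  have c3 : ∀ a b : K, xg K 21 a * xg K 17 b = xg K 17 b * xg K 21 a := fun a b =>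
    (xGL_commute_of_nil chevD4 hD4 K 21 17 (by decide) (by decide) (by decide) (by decide) (by decide) a b)
  have c4 : ∀ a b : K, xg K 21 a * xg K 20 b = xg K 20 b * xg K 21 a := fun a b =>
    (xGL_commute_of_nil chevD4 hD4 K 21 20 (by decide) (by decide) (by decide) (by decide) (by decide) a b)
  have e1 : xab K φ S = xg K 15 (φ (φ S)) * xg K 19 S * xg K 16 (φ S) := by
    unfold xab
    calc xg K 19 S * xg K 16 (φ S) * xg K 15 (φ (φ S))
        = xg K 19 S * (xg K 16 (φ S) * xg K 15 (φ (φ S))) := by rw [mul_assoc]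
      _ = xg K 19 S * (xg K 15 (φ (φ S)) * xg K 16 (φ S)) := by rw [c2]
      _ = (xg K 19 S * xg K 15 (φ (φ S))) * xg K 16 (φ S) := by rw [mul_assoc]
      _ = _ := by rw [c1]
  have e2 : x2ab K φ c = xg K 17 (φ c) * xg K 20 (φ (φ c)) * xg K 21 c := by
    unfold x2ab
    calc xg K 21 c * xg K 17 (φ c) * xg K 20 (φ (φ c))
        = xg K 17 (φ c) * (xg K 21 c * xg K 20 (φ (φ c))) := by rw [c3, mul_assoc]
      _ = xg K 17 (φ c) * (xg K 20 (φ (φ c)) * xg K 21 c) := by rw [c4]
      _ = _ := by rw [mul_assoc]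
  rw [hord]
  unfold W V T xa
  rw [e1, e2]
  simp only [wordGL, List.map_cons, List.map_nil, List.prod_cons, List.prod_nil, mul_one, d3uniq_coef]
  norm_num [mul_assoc]

/-- D3-UNIQ -/
theorem W_inj [Fintype K] (s t S c d e s₂ t₂ S₂ c₂ d₂ e₂ : K)
    (h : W K φ s t S c d e = W K φ s₂ t₂ S₂ c₂ d₂ e₂) :
    s = s₂ ∧ t = t₂ ∧ S = S₂ ∧ c = c₂ ∧ d = d₂ ∧ e = e₂ := by
  rw [d3uniq_word, d3uniq_word] at h
  have hk := (chkOrb_spec chevD4 graphD4 orbsD4 chkOrb_D4).1
  have key := key_unique chevD4 hD4 K orbsD4.flatten hk _ _ h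
  have hord : orbsD4.flatten = [18, 13, 12, 14, 15, 19, 16, 17, 20, 21, 22, 23] := by decide
  have k18 := key 18 (by rw [hord]; simp)
  have k14 := key 14 (by rw [hord]; simp)
  have k19 := key 19 (by rw [hord]; simp)
  have k21 := key 21 (by rw [hord]; simp)
  have k22 := key 22 (by rw [hord]; simp)
  have k23 := key 23 (by rw [hord]; simp)
  simp only [d3uniq_coef] at k18 k14 k19 k21 k22 k23
  norm_num at k18 k14 k19 k21 k22 k23
  exact ⟨k18, k14, k19, k21, k22, k23⟩

end Cfsg.Agent.Lib.Helper12.D3
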