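import Mathlib

/-! RT-INVCONJ leaf (backup) of helper12's Rt hive. -/

set_option autoImplicit false

namespace Cfsg.Agent.Lib.Helper12.Rt

/-- conjugation by a power of `g`. -/
theorem invconj_pow_conj {G : Type*} [Group G] (g t : G) (T : Set G)
    (hT : ∀ s ∈ T, g * s * g⁻¹ ∈ T) (ht : t ∈ T) (i : ℕ) : g ^ i * t * (g ^ i)⁻¹ ∈ T := by
  induction i with
  | zero => simpa using ht
  | succ i ih =>
    have := hT _ ih
    have e : g ^ (i + 1) * t * (g ^ (i + 1))⁻¹ = g * (g ^ i * t * (g ^ i)⁻¹) * g⁻¹ := by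
      rw [pow_succ']
      group
    rw [e]; exact this

/-- if two distinct conjugates `g^i t g^-i`, `g^j t g^-j` (`i, j < 7`) coincide and `g` has order 7, `g` commutes with `t`. -/
theorem invconj_comm_of_eq {G : Type*} [Group G] (g t : G) (hg : orderOf g = 7) (i j : ℕ) (hi : i < 7)
    (hj : j < 7) (hij : i ≠ j) (h : g ^ i * t * (g ^ i)⁻¹ = g ^ j * t * (g ^ j)⁻¹) : g * t = t * g := by
  haveI : Fact (Nat.card (Subgroup.zpowers g)).Prime := ⟨by rw [Nat.card_zpowers, hg]; norm_num⟩
  set H : Subgroup (Subgroup.zpowers g) :=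
    (Subgroup.centralizer ({t} : Set G)).subgroupOf (Subgroup.zpowers g) with hH
  have hk : (g ^ j)⁻¹ * g ^ i ∈ Subgroup.zpowers g :=
    mul_mem (inv_mem (pow_mem (Subgroup.mem_zpowers g) j)) (pow_mem (Subgroup.mem_zpowers g) i)
  have hkH : (⟨(g ^ j)⁻¹ * g ^ i, hk⟩ : Subgroup.zpowers g) ∈ H := by
    rw [hH, Subgroup.mem_subgroupOf, Subgroup.mem_centralizer_iff]
    intro x hx
    rw [Set.mem_singleton_iff] at hx
    subst hx
    show x * ((g ^ j)⁻¹ * g ^ i) = (g ^ j)⁻¹ * g ^ i * x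
    have h1 : g ^ i * x = g ^ j * x * (g ^ j)⁻¹ * g ^ i := by
      have := congrArg (· * g ^ i) h
      simpa [mul_assoc] using this
    calc x * ((g ^ j)⁻¹ * g ^ i) = (g ^ j)⁻¹ * (g ^ j * x * (g ^ j)⁻¹ * g ^ i) := by group
      _ = (g ^ j)⁻¹ * (g ^ i * x) := by rw [h1]
      _ = (g ^ j)⁻¹ * g ^ i * x := by group
  have hk1 : (⟨(g ^ j)⁻¹ * g ^ i, hk⟩ : Subgroup.zpowers g) ≠ 1 := by
    intro e
    have e' : (g ^ j)⁻¹ * g ^ i = 1 := congrArg Subtype.val e
    have e2 : g ^ i = g ^ j := by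
      have := congrArg (g ^ j * ·) e'
      simpa using this
    rw [pow_eq_pow_iff_modEq, hg] at e2
    have : i % 7 = j % 7 := e2
    rw [Nat.mod_eq_of_lt hi, Nat.mod_eq_of_lt hj] at this
    exact hij this
  rcases Subgroup.eq_bot_or_eq_top_of_prime_card H with hb | htop
  · rw [hb, Subgroup.mem_bot] at hkH
    exact absurd hkH hk1
  · have : (⟨g, Subgroup.mem_zpowers g⟩ : Subgroup.zpowers g) ∈ H := by rw [htop]; trivial
    rw [hH, Subgroup.mem_subgroupOf, Subgroup.mem_centralizer_iff] at this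
    exact (this t rfl).symm

/-- pigeonhole: `g` of order 7 commutes with every element of a `g`-stable set with fewer than 7 elements. -/
theorem invconj_comm_of_small {G : Type*} [Group G] (g : G) (hg : orderOf g = 7) (T : Set G)
    (hfin : T.Finite) (hcard : T.ncard < 7) (hT : ∀ s ∈ T, g * s * g⁻¹ ∈ T) (t : G) (ht : t ∈ T) :
    g * t = t * g := by
  have hc : T.ncard < (Set.Iio 7 : Set ℕ).ncard := by
    have : (Set.Iio 7 : Set ℕ).ncard = 7 := by
      rw [← Finset.coe_Iio, Set.ncard_coe_finset]; rfl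
    rw [this]; exact hcard
  obtain ⟨i, hi, j, hj, hij, he⟩ := Set.exists_ne_map_eq_of_ncard_lt_of_maps_to hc
    (f := fun i : ℕ => g ^ i * t * (g ^ i)⁻¹) (fun i _ => invconj_pow_conj g t T hT ht i) hfin
  exact invconj_comm_of_eq g t hg i j hi hj hij he

/-- every involution has a conjugate in the Sylow 2-subgroup. -/
theorem invconj_into_sylow {G : Type*} [Group G] [Finite G] (S : Sylow 2 G) (a : G) (ha2 : a * a = 1) :
    ∃ h : G, h * a * h⁻¹ ∈ S := by
  have hp : IsPGroup 2 (Subgroup.zpowers a) := by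
    intro x
    refine ⟨1, ?_⟩
    obtain ⟨x, hx⟩ := x
    obtain ⟨k, rfl⟩ := Subgroup.mem_zpowers_iff.1 hx
    apply Subtype.ext
    show (a ^ k) ^ 2 ^ 1 = 1
    rw [pow_one, ← zpow_natCast, ← zpow_mul, mul_comm, zpow_mul, zpow_natCast, pow_two, ha2, one_zpow]
  obtain ⟨R, hR⟩ := hp.exists_le_sylow
  obtain ⟨h, hh⟩ := MulAction.exists_smul_eq G R S
  refine ⟨h, ?_⟩
  have : h * a * h⁻¹ ∈ ((h • R : Sylow 2 G) : Subgroup G) := by
    rw [Sylow.coe_subgroup_smul]
    exact ⟨a, hR (Subgroup.mem_zpowers a), by simp [MulAut.smul_def, MulAut.conj_apply]⟩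
  rw [hh] at this
  exact this

/-- RT-INVCONJ. If a Sylow 2-subgroup `S` of `G` is elementary abelian of order 8, self-centralising, with normaliser of order
168, then all involutions of `G` are conjugate.  (`N(S)/S` has order 21 and acts faithfully on `S`; an element `g` of order 7 of
`N(S)` has no fixed point on the 7 non-identity elements of `S` [else it fixes all, `g ∈ C(S) = S`], so it permutes them
transitively; every involution lies in a conjugate of `S`.) -/
theorem inv_conj_of_sylow {G : Type*} [Group G] [Finite G] (S : Sylow 2 G) (h8 : Nat.card S = 8)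
    (hexp : ∀ x ∈ S, x * x = 1) (hC : Subgroup.centralizer ((S : Subgroup G) : Set G) = S)
    (hN : Nat.card ↥(Subgroup.normalizer ((S : Subgroup G) : Set G)) = 168)
    (a b : G) (ha : a ≠ 1) (ha2 : a * a = 1) (hb : b ≠ 1) (hb2 : b * b = 1) : ∃ g : G, g * a * g⁻¹ = b := by
  obtain ⟨h1, ha'⟩ := invconj_into_sylow S a ha2
  obtain ⟨h2, hb'⟩ := invconj_into_sylow S b hb2
  set a' := h1 * a * h1⁻¹ with ha'_def
  set b' := h2 * b * h2⁻¹ with hb'_def
  have ha'1 : a' ≠ 1 := by
    intro e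
    apply ha
    have := congrArg (fun z => h1⁻¹ * z * h1) e
    simpa [ha'_def, mul_assoc] using this
  have hb'1 : b' ≠ 1 := by
    intro e
    apply hb
    have := congrArg (fun z => h2⁻¹ * z * h2) e
    simpa [hb'_def, mul_assoc] using this
  -- an element of order 7 in the normaliser
  haveI : Fact (Nat.Prime 7) := ⟨by norm_num⟩
  obtain ⟨x, hx⟩ := exists_prime_orderOf_dvd_card' (G := ↥(Subgroup.normalizer ((S : Subgroup G) : Set G))) 7
    (by rw [hN]; norm_num)
  set g : G := x.1 with hg_def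
  have hg : orderOf g = 7 := by rw [hg_def, Subgroup.orderOf_coe]; exact hx
  have hgN : ∀ s, s ∈ (S : Subgroup G) ↔ g * s * g⁻¹ ∈ (S : Subgroup G) :=
    Subgroup.mem_normalizer_iff.1 x.2
  have hSfin : ((S : Subgroup G) : Set G).Finite := Set.toFinite _
  have hScard : ((S : Subgroup G) : Set G).ncard = 8 := by
    rw [← Nat.card_coe_set_eq]; exact h8
  -- `g` does not commute with `a'`
  have hnc : g * a' ≠ a' * g := by
    intro hcomm
    have hpair : ({1, a'} : Set G) ⊆ ((S : Subgroup G) : Set G) := by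
      intro z hz
      rcases hz with rfl | rfl
      · exact (S : Subgroup G).one_mem
      · exact ha'
    have hTcard : (((S : Subgroup G) : Set G) \ {1, a'}).ncard < 7 := by
      rw [Set.ncard_sdiff hpair (Set.toFinite _), hScard, Set.ncard_pair (Ne.symm ha'1)]
      norm_num
    have hTstab : ∀ s ∈ ((S : Subgroup G) : Set G) \ {1, a'}, g * s * g⁻¹ ∈ ((S : Subgroup G) : Set G) \ {1, a'} := by
      rintro s ⟨hs, hs'⟩
      refine ⟨(hgN s).1 hs, ?_⟩
      rintro (e | e)
      · apply hs'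
        left
        have := congrArg (fun z => g⁻¹ * z * g) e
        simpa [mul_assoc] using this
      · apply hs'
        right
        have : s = g⁻¹ * a' * g := by
          have := congrArg (fun z => g⁻¹ * z * g) e
          simpa [mul_assoc] using this
        rw [this, mul_assoc, ← hcomm, ← mul_assoc, inv_mul_cancel, one_mul]
        exact Set.mem_singleton _
    have hall : ∀ s ∈ (S : Subgroup G), s * g = g * s := by
      intro s hs
      by_cases h1s : s = 1
      · rw [h1s, one_mul, mul_one]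
      by_cases has : s = a'
      · rw [has]; exact hcomm.symm
      · exact (invconj_comm_of_small g hg _ (hSfin.subset Set.sdiff_subset) hTcard hTstab s
          ⟨hs, by rintro (e | e); exact h1s e; exact has e⟩).symm
    have hgS : g ∈ (S : Subgroup G) := by
      rw [← hC, Subgroup.mem_centralizer_iff]
      exact hall
    have hdvd : orderOf (⟨g, hgS⟩ : (S : Subgroup G)) ∣ Nat.card (S : Subgroup G) := orderOf_dvd_natCard _
    rw [← Subgroup.orderOf_coe, h8] at hdvd
    simp only at hdvd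
    rw [hg] at hdvd
    norm_num at hdvd
  -- the seven conjugates of `a'` are all non-identity elements of `S`
  have hinj : Set.InjOn (fun i : ℕ => g ^ i * a' * (g ^ i)⁻¹) (Set.Iio 7) := by
    intro i hi j hj he
    by_contra hij
    exact hnc (invconj_comm_of_eq g a' hg i j hi hj hij he)
  have hsub : (fun i : ℕ => g ^ i * a' * (g ^ i)⁻¹) '' (Set.Iio 7) ⊆ ((S : Subgroup G) : Set G) \ {1} := by
    rintro _ ⟨i, -, rfl⟩
    refine ⟨invconj_pow_conj g a' _ (fun s hs => (hgN s).1 hs) ha' i, ?_⟩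
    intro e
    apply ha'1
    have := congrArg (fun z => (g ^ i)⁻¹ * z * g ^ i) (Set.mem_singleton_iff.1 e)
    simpa [mul_assoc] using this
  have hcard7 : (((S : Subgroup G) : Set G) \ {1}).ncard ≤
      ((fun i : ℕ => g ^ i * a' * (g ^ i)⁻¹) '' (Set.Iio 7)).ncard := by
    rw [Set.InjOn.ncard_image hinj, Set.ncard_sdiff (by simpa using (S : Subgroup G).one_mem) (Set.toFinite _),
      hScard, Set.ncard_singleton]
    have : (Set.Iio 7 : Set ℕ).ncard = 7 := by
      rw [← Finset.coe_Iio, Set.ncard_coe_finset]; rfl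
    rw [this]
  have heq := Set.eq_of_subset_of_ncard_le hsub hcard7 (hSfin.subset Set.sdiff_subset)
  have hb'mem : b' ∈ (fun i : ℕ => g ^ i * a' * (g ^ i)⁻¹) '' (Set.Iio 7) := by
    rw [heq]
    exact ⟨hb', by simpa using hb'1⟩
  obtain ⟨i, -, hi⟩ := hb'mem
  refine ⟨h2⁻¹ * g ^ i * h1, ?_⟩
  have hi' : g ^ i * (h1 * a * h1⁻¹) * (g ^ i)⁻¹ = h2 * b * h2⁻¹ := hi
  have := congrArg (fun z => h2⁻¹ * z * h2) hi'
  calc h2⁻¹ * g ^ i * h1 * a * (h2⁻¹ * g ^ i * h1)⁻¹
      = h2⁻¹ * (g ^ i * (h1 * a * h1⁻¹) * (g ^ i)⁻¹) * h2 := by group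
    _ = h2⁻¹ * (h2 * b * h2⁻¹) * h2 := this
    _ = b := by group

end Cfsg.Agent.Lib.Helper12.Rt
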