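import Mathlib
import Cfsg.Agent.Lib.Helper41.PsDefs
import Cfsg.Agent.Lib.Helper49.CgCG3a
import Cfsg.Agent.Lib.Helper69.CgCG3c
import Cfsg.Agent.Lib.Helper43.PsPS10
import Cfsg.Agent.Lib.Helper78.PsPS11

/-!
# Ps hive (S4321), leaf PS12 `ps_abs` (helper55)

`ps_abs_core` has PS10 (`ps_abs1`) and PS11 (`ps_abs2`) as explicit hypotheses; `ps_abs` plugs in the
landed leaves.
-/

set_option autoImplicit false

namespace Cfsg.Agent.Lib.Helper41.Ps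

open Subgroup
open Cfsg.Agent.Lib.Helper22.Cg

universe u

/-- PS12 with PS10 and PS11 as hypotheses. -/
theorem ps_abs_core {G : Type u} [Group G] [Finite G] (p : ℕ) [Fact p.Prime]
    (h10 : ∀ (x y : G), (cs x).Coprime (cs y) → cs (x * y) ∣ cs x → ∀ g h : G,
      (g * y * g⁻¹) * (h * y * h⁻¹)⁻¹ ∈ rstab x)
    (h11 : ∀ (N : Subgroup G) [N.Normal], ¬ p ∣ Nat.card N → ∀ y : G,
      (∃ n : ℕ, orderOf y = p ^ n) → (∀ g : G, (g * y * g⁻¹) * y⁻¹ ∈ N) → cs y ∣ Nat.card N)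
    (x y : G)
    (hc : (cs x).Coprime (cs y)) (hdvd : cs (x * y) ∣ cs x) (hpx : ¬ p ∣ cs x)
    (hy : ∃ n : ℕ, orderOf y = p ^ n) : cs y = 1 := by
  haveI hNn : (rstab x).Normal := cg3a x
  have hNdvd : Nat.card (rstab x) ∣ cs x := cg3c x
  have hpN : ¬ p ∣ Nat.card (rstab x) := fun h => hpx (h.trans hNdvd)
  have hcen : ∀ g : G, (g * y * g⁻¹) * y⁻¹ ∈ rstab x := by
    intro g
    have h1 := h10 x y hc hdvd g 1
    simpa using h1
  have h2 : cs y ∣ cs x := (h11 (rstab x) hpN y hy hcen).trans hNdvd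
  have h3 : cs y ∣ Nat.gcd (cs x) (cs y) := Nat.dvd_gcd h2 dvd_rfl
  rw [hc.gcd_eq_one] at h3
  exact Nat.dvd_one.mp h3

/-- PS12. (PS10 + PS11 + cg3a + cg3c) -/
theorem ps_abs {G : Type u} [Group G] [Finite G] (p : ℕ) [Fact p.Prime] (x y : G)
    (hc : (cs x).Coprime (cs y)) (hdvd : cs (x * y) ∣ cs x) (hpx : ¬ p ∣ cs x)
    (hy : ∃ n : ℕ, orderOf y = p ^ n) : cs y = 1 :=
  ps_abs_core p (fun x y hc hdvd g h => ps_abs1 x y hc hdvd g h)
    (fun N _ hpN y hy hcen => ps_abs2 p N hpN y hy hcen) x y hc hdvd hpx hy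

end Cfsg.Agent.Lib.Helper41.Ps
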