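import Mathlib
import Cfsg.Prelude.Def_ClassicalGeometry
import Cfsg.Prelude.Def_GeometricClasses
import Cfsg.Agent.Lib.Helper5.HyDefs
import Cfsg.Agent.Lib.Helper14.FiniteQuad
import Cfsg.Agent.Lib.Helper55.TiPEEL
import Cfsg.Agent.Lib.Helper55.HySUP

/-! # S5992 + S5993 hive (helper5), core of leaf HY-T4 `exists_perp_of_type`, with the statement of
HY-T1 (`plus_sup`) as a hypothesis -/

set_option autoImplicit false

namespace Cfsg.Agent.Lib.Helper5.Hy

open Polynomial Module
open Cfsg.Agent.Lib.Helper2.BG Cfsg.Agent.Lib.Helper99 Cfsg.Agent.Lib.Helper48.Ti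
open Cfsg.Agent.Lib.Helper67.Ts

section abstract

variable {F V : Type*} [Field F] [Fintype F] [AddCommGroup V] [Module F V] [FiniteDimensional F V]
variable {B : V →ₗ[F] V →ₗ[F] F}

/-- a nonzero nondegenerate symmetric space (char `≠ 2`) has an anisotropic vector -/
theorem t4_exists_aniso (h2 : (2 : F) ≠ 0) (hs : ∀ u v, B u v = B v u) {Z : Submodule F V}
    (hZ : Nd B Z) (hZ0 : Z ≠ ⊥) : ∃ v ∈ Z, B v v ≠ 0 := by
  by_contra hcon
  push Not at hcon
  obtain ⟨w, hwZ, hw0⟩ := Submodule.exists_mem_ne_zero_of_ne_bot hZ0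
  apply hw0
  apply hZ w hwZ
  intro u hu
  have h := hcon (w + u) (Z.add_mem hwZ hu)
  simp only [map_add, LinearMap.add_apply] at h
  rw [hcon w hwZ, hcon u hu, hs u w] at h
  have h3 : 2 * B w u = 0 := by linear_combination h
  rcases mul_eq_zero.mp h3 with h' | h'
  · exact absurd h' h2
  · exact h'

/-- an anisotropic line is nondegenerate -/
theorem t4_nd_line {v : V} (hv : B v v ≠ 0) : Nd B (Submodule.span F {v}) := by
  intro x hx hxy
  obtain ⟨c, rfl⟩ := Submodule.mem_span_singleton.mp hx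
  have h := hxy v (Submodule.mem_span_singleton_self v)
  rw [map_smul, LinearMap.smul_apply, smul_eq_mul] at h
  rcases mul_eq_zero.mp h with h1 | h1
  · rw [h1, zero_smul]
  · exact absurd h1 hv

/-- splitting an anisotropic vector off a nondegenerate symmetric space -/
theorem t4_split (hs : ∀ u v, B u v = B v u) {S : Submodule F V} (hS : Nd B S) {v : V}
    (hvS : v ∈ S) (hv : B v v ≠ 0) :
    Nd B (S ⊓ LinearMap.BilinForm.orthogonal B (Submodule.span F {v})) ∧
      finrank F ↥(S ⊓ LinearMap.BilinForm.orthogonal B (Submodule.span F {v})) + 1 =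
        finrank F S := by
  have hYS : Submodule.span F {v} ≤ S := (Submodule.span_singleton_le_iff_mem v S).mpr hvS
  have hfr := peel_finrank hS hYS
  have hv0 : v ≠ 0 := by
    rintro rfl
    apply hv
    simp
  rw [finrank_span_singleton hv0] at hfr
  refine ⟨?_, by omega⟩
  intro x hx hxy
  have hvx : B v x = 0 := hx.2 v (Submodule.mem_span_singleton_self v)
  apply hS x hx.1
  intro s hsS
  have hmem : s - (B v s / B v v) • v ∈
      S ⊓ LinearMap.BilinForm.orthogonal B (Submodule.span F {v}) := by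
    refine ⟨S.sub_mem hsS (S.smul_mem _ hvS), ?_⟩
    intro n hn
    obtain ⟨c, rfl⟩ := Submodule.mem_span_singleton.mp hn
    show B (c • v) (s - (B v s / B v v) • v) = 0
    rw [map_smul, LinearMap.smul_apply, map_sub, map_smul, smul_eq_mul, smul_eq_mul,
      div_mul_cancel₀ _ hv, sub_self, mul_zero]
  have h := hxy _ hmem
  rw [map_sub, map_smul, hs x v, hvx, smul_zero, sub_zero] at h
  exact h

/-- core of HY-T4 -/
theorem t4_core
    (hT1 : ∀ {W₀ W₁ : Submodule F V}, Nd B W₀ → Nd B W₁ → Orth B W₀ W₁ →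
      Even (finrank F W₀) → Even (finrank F W₁) →
      (Plus B (W₀ ⊔ W₁) ↔ (Plus B W₀ ↔ Plus B W₁)))
    (h2 : (2 : F) ≠ 0) (hs : ∀ u v, B u v = B v u) (hV : Nd B ⊤)
    (hodd : Odd (finrank F V)) {Z : Submodule F V} (hZ : Nd B Z) (hZ2 : 2 ≤ finrank F Z)
    (b : Prop) :
    ∃ w ∈ Z, B w w ≠ 0 ∧
      (Plus B (LinearMap.BilinForm.orthogonal B (Submodule.span F {w})) ↔ b) := by
  classical
  obtain ⟨d, hd⟩ := hodd
  have htop : finrank F (⊤ : Submodule F V) = finrank F V := finrank_top F V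
  have hZle : finrank F Z ≤ finrank F V := Submodule.finrank_le Z
  -- `u₁`
  have hZ0 : Z ≠ ⊥ := by
    rintro rfl
    rw [finrank_bot] at hZ2
    omega
  obtain ⟨u₁, hu₁Z, ha₁⟩ := t4_exists_aniso h2 hs hZ hZ0
  obtain ⟨hZ₁nd, hZ₁fr⟩ := t4_split hs hZ hu₁Z ha₁
  have hZ₁0 : Z ⊓ LinearMap.BilinForm.orthogonal B (Submodule.span F {u₁}) ≠ ⊥ := by
    intro h
    rw [h, finrank_bot] at hZ₁fr
    omega
  obtain ⟨u₂, hu₂Z₁, ha₂⟩ := t4_exists_aniso h2 hs hZ₁nd hZ₁0
  have h12 : B u₁ u₂ = 0 := hu₂Z₁.2 u₁ (Submodule.mem_span_singleton_self u₁)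
  have h21 : B u₂ u₁ = 0 := by rw [hs, h12]
  -- the chain `⊤ ⊇ S₁ ⊇ S₂ ⊇ S₃`
  obtain ⟨hS₁nd, hS₁fr⟩ := t4_split hs hV (Submodule.mem_top : u₁ ∈ (⊤ : Submodule F V)) ha₁
  have hu₂S₁ : u₂ ∈ (⊤ : Submodule F V) ⊓
      LinearMap.BilinForm.orthogonal B (Submodule.span F {u₁}) := ⟨Submodule.mem_top, hu₂Z₁.2⟩
  obtain ⟨hS₂nd, hS₂fr⟩ := t4_split hs hS₁nd hu₂S₁ ha₂
  set S₂ : Submodule F V := ((⊤ : Submodule F V) ⊓
      LinearMap.BilinForm.orthogonal B (Submodule.span F {u₁})) ⊓
      LinearMap.BilinForm.orthogonal B (Submodule.span F {u₂}) with hS₂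
  have hS₂0 : S₂ ≠ ⊥ := by
    intro h
    rw [h, finrank_bot] at hS₂fr
    omega
  obtain ⟨e, heS₂, ha⟩ := t4_exists_aniso h2 hs hS₂nd hS₂0
  obtain ⟨hS₃nd, hS₃fr⟩ := t4_split hs hS₂nd heS₂ ha
  set S₃ : Submodule F V := S₂ ⊓ LinearMap.BilinForm.orthogonal B (Submodule.span F {e}) with hS₃
  have hfrS₃ : finrank F S₃ + 2 = 2 * d := by omega
  have he1 : B u₁ e = 0 := heS₂.1.2 u₁ (Submodule.mem_span_singleton_self u₁)
  have he2 : B u₂ e = 0 := heS₂.2 u₂ (Submodule.mem_span_singleton_self u₂)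
  have hr1 : ∀ r ∈ S₃, B u₁ r = 0 := fun r hr =>
    hr.1.1.2 u₁ (Submodule.mem_span_singleton_self u₁)
  have hr2 : ∀ r ∈ S₃, B u₂ r = 0 := fun r hr =>
    hr.1.2 u₂ (Submodule.mem_span_singleton_self u₂)
  have hr3 : ∀ r ∈ S₃, B e r = 0 := fun r hr => hr.2 e (Submodule.mem_span_singleton_self e)
  -- a nonsquare
  have hchar : ringChar F ≠ 2 := by
    intro h
    apply h2
    have : CharP F 2 := by rw [← h]; exact ringChar.charP F
    have := CharP.cast_eq_zero F 2
    exact_mod_cast this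
  obtain ⟨ν, hν⟩ := FiniteField.exists_nonsquare hchar
  have hν0 : ν ≠ 0 := by
    rintro rfl
    exact hν ⟨0, by simp⟩
  -- the value `t`
  set a₁ : F := B u₁ u₁ with ha₁def
  set a₂ : F := B u₂ u₂ with ha₂def
  set a : F := B e e with hadef
  obtain ⟨t, ht0, htcase⟩ : ∃ t : F, t ≠ 0 ∧
      (((b ↔ Plus B S₃) ∧ t = -a) ∨ (¬ (b ↔ Plus B S₃) ∧ t = -(ν * a))) := by
    by_cases hb : (b ↔ Plus B S₃)
    · exact ⟨-a, neg_ne_zero.mpr ha, Or.inl ⟨hb, Eq.refl _⟩⟩
    · exact ⟨-(ν * a), neg_ne_zero.mpr (mul_ne_zero hν0 ha), Or.inr ⟨hb, Eq.refl _⟩⟩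
  obtain ⟨α, β, hαβ⟩ := Cfsg.Agent.Lib.Helper14.exists_binary_rep h2 a₁ a₂ t ha₁ ha₂
  set ws : V := α • u₁ + β • u₂ with hws
  set w : V := (-(β * a₂)) • u₁ + (α * a₁) • u₂ with hw
  have hu₂Z : u₂ ∈ Z := hu₂Z₁.1
  have hwZ : w ∈ Z := Z.add_mem (Z.smul_mem _ hu₁Z) (Z.smul_mem _ hu₂Z)
  have hwsws : B ws ws = t := by
    simp only [hws, map_add, map_smul, LinearMap.add_apply, LinearMap.smul_apply, smul_eq_mul,
      h12, h21]
    rw [← hαβ]
    ring
  have hww : B w w = a₁ * a₂ * t := by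
    simp only [hw, map_add, map_smul, LinearMap.add_apply, LinearMap.smul_apply, smul_eq_mul,
      h12, h21]
    rw [← hαβ]
    ring
  have hwws : B w ws = 0 := by
    simp only [hw, hws, map_add, map_smul, LinearMap.add_apply, LinearMap.smul_apply, smul_eq_mul,
      h12, h21]
    ring
  have hwe : B w e = 0 := by
    simp only [hw, map_add, map_smul, LinearMap.add_apply, LinearMap.smul_apply, smul_eq_mul,
      he1, he2]
    ring
  have hwse : B ws e = 0 := by
    simp only [hws, map_add, map_smul, LinearMap.add_apply, LinearMap.smul_apply, smul_eq_mul,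
      he1, he2]
    ring
  have hesw : B e ws = 0 := by rw [hs, hwse]
  have hwr : ∀ r ∈ S₃, B w r = 0 := by
    intro r hr
    simp only [hw, map_add, map_smul, LinearMap.add_apply, LinearMap.smul_apply, smul_eq_mul,
      hr1 r hr, hr2 r hr]
    ring
  have hwsr : ∀ r ∈ S₃, B ws r = 0 := by
    intro r hr
    simp only [hws, map_add, map_smul, LinearMap.add_apply, LinearMap.smul_apply, smul_eq_mul,
      hr1 r hr, hr2 r hr]
    ring
  have hww0 : B w w ≠ 0 := by
    rw [hww]
    exact mul_ne_zero (mul_ne_zero ha₁ ha₂) ht0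
  have hws0 : B ws ws ≠ 0 := by rw [hwsws]; exact ht0
  -- the plane `A`
  have hOl : Orth B (Submodule.span F {ws}) (Submodule.span F {e}) := by
    intro x hx y hy
    obtain ⟨c, rfl⟩ := Submodule.mem_span_singleton.mp hx
    obtain ⟨c', rfl⟩ := Submodule.mem_span_singleton.mp hy
    simp [hwse]
  obtain ⟨hAnd, -, hAfr⟩ := nd_sup hs (t4_nd_line hws0) (t4_nd_line ha) hOl
  set A : Submodule F V := Submodule.span F {ws} ⊔ Submodule.span F {e} with hA
  have hws_ne : ws ≠ 0 := by
    intro h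
    apply hws0
    rw [h]
    simp
  have he_ne : e ≠ 0 := by
    intro h
    apply ha
    rw [hadef, h]
    simp
  rw [finrank_span_singleton hws_ne, finrank_span_singleton he_ne] at hAfr
  have hAmem : ∀ x ∈ A, ∃ c c' : F, x = c • ws + c' • e := by
    intro x hx
    obtain ⟨y, hy, z, hz, rfl⟩ := Submodule.mem_sup.mp hx
    obtain ⟨c, rfl⟩ := Submodule.mem_span_singleton.mp hy
    obtain ⟨c', rfl⟩ := Submodule.mem_span_singleton.mp hz
    exact ⟨c, c', Eq.refl _⟩
  have hOA : Orth B A S₃ := by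
    intro x hx r hr
    obtain ⟨c, c', rfl⟩ := hAmem x hx
    simp [hwsr r hr, hr3 r hr]
  obtain ⟨hASnd, -, hASfr⟩ := nd_sup hs hAnd hS₃nd hOA
  -- `w^⊥ = A ⊔ S₃`
  have hle : A ⊔ S₃ ≤ LinearMap.BilinForm.orthogonal B (Submodule.span F {w}) := by
    have hkey : ∀ x : V, B w x = 0 →
        x ∈ LinearMap.BilinForm.orthogonal B (Submodule.span F {w}) := by
      intro x hx n hn
      obtain ⟨c, rfl⟩ := Submodule.mem_span_singleton.mp hn
      show B (c • w) x = 0
      rw [map_smul, LinearMap.smul_apply, hx, smul_zero]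
    refine sup_le (sup_le ?_ ?_) ?_
    · rw [Submodule.span_singleton_le_iff_mem]
      exact hkey ws hwws
    · rw [Submodule.span_singleton_le_iff_mem]
      exact hkey e hwe
    · intro r hr
      exact hkey r (hwr r hr)
  have hw_ne : w ≠ 0 := by
    intro h
    apply hww0
    rw [h]
    simp
  have hfrw : finrank F ↥(LinearMap.BilinForm.orthogonal B (Submodule.span F {w})) = 2 * d := by
    have h := peel_finrank hV (le_top : Submodule.span F {w} ≤ ⊤)
    rw [top_inf_eq, finrank_span_singleton hw_ne] at h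
    omega
  have heq : A ⊔ S₃ = LinearMap.BilinForm.orthogonal B (Submodule.span F {w}) :=
    Submodule.eq_of_le_of_finrank_eq hle (by omega)
  refine ⟨w, hwZ, hww0, ?_⟩
  rw [← heq, hT1 hAnd hS₃nd hOA ⟨1, by omega⟩ ⟨d - 1, by omega⟩]
  -- the type of the plane `A`
  have hBA : ∀ c c' : F, B (c • ws + c' • e) (c • ws + c' • e) = c ^ 2 * t + c' ^ 2 * a := by
    intro c c'
    simp only [map_add, map_smul, LinearMap.add_apply, LinearMap.smul_apply, smul_eq_mul,
      hwsws, hwse, hesw]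
    ring
  rcases htcase with ⟨hb, ht⟩ | ⟨hb, ht⟩
  · -- `t = -a`: `A` is a hyperbolic plane
    have hPA : Plus B A := by
      refine ⟨Submodule.span F {ws + e}, ?_, ?_, ?_⟩
      · rw [Submodule.span_singleton_le_iff_mem]
        exact Submodule.add_mem_sup (Submodule.mem_span_singleton_self _)
          (Submodule.mem_span_singleton_self _)
      · intro x hx y hy
        obtain ⟨c, rfl⟩ := Submodule.mem_span_singleton.mp hx
        obtain ⟨c', rfl⟩ := Submodule.mem_span_singleton.mp hy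
        have h0 : B (ws + e) (ws + e) = 0 := by
          have := hBA 1 1
          simp only [one_smul, one_pow, one_mul] at this
          rw [this, ht]
          ring
        rw [map_smul, map_smul, LinearMap.smul_apply, h0, smul_zero, smul_zero]
      · have hne : ws + e ≠ 0 := by
          intro h
          have h3 : B (ws + e) e = 0 := by rw [h]; simp
          rw [map_add, LinearMap.add_apply, hwse, zero_add] at h3
          exact ha h3
        rw [finrank_span_singleton hne, hAfr]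
    constructor
    · intro h
      exact hb.mpr (h.mp hPA)
    · intro h
      exact ⟨fun _ => hb.mp h, fun _ => hPA⟩
  · -- `t = -(ν a)`: `A` is anisotropic
    have hPA : ¬ Plus B A := by
      rintro ⟨U, hUA, hUti, hUfr⟩
      have hU1 : finrank F U = 1 := by omega
      have hU0 : U ≠ ⊥ := by
        intro h
        rw [h, finrank_bot] at hU1
        omega
      obtain ⟨v, hvU, hv0⟩ := Submodule.exists_mem_ne_zero_of_ne_bot hU0
      obtain ⟨c, c', rfl⟩ := hAmem v (hUA hvU)
      have h0 := hUti _ hvU _ hvU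
      rw [hBA, ht] at h0
      have h1 : a * (c' ^ 2 - ν * c ^ 2) = 0 := by linear_combination h0
      have h3 : c' ^ 2 = ν * c ^ 2 := by
        rcases mul_eq_zero.mp h1 with h4 | h4
        · exact absurd h4 ha
        · exact sub_eq_zero.mp h4
      by_cases hc : c = 0
      · rw [hc] at h3
        have hc' : c' = 0 := by
          have : c' ^ 2 = 0 := by rw [h3]; ring
          exact pow_eq_zero_iff (two_ne_zero) |>.mp this
        apply hv0
        rw [hc, hc']
        simp
      · apply hν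
        refine ⟨c' / c, ?_⟩
        have hc2 : c ^ 2 ≠ 0 := pow_ne_zero 2 hc
        have h5 : ν = c' ^ 2 / c ^ 2 := by
          rw [h3, mul_div_assoc, div_self hc2, mul_one]
        rw [h5, ← pow_two, div_pow]
    have e1 : (Plus B A ↔ Plus B S₃) ↔ ¬ Plus B S₃ := by
      constructor
      · intro h hP
        exact hPA (h.mpr hP)
      · intro hP
        exact ⟨fun h => absurd h hPA, fun h => absurd h hP⟩
    rw [e1]
    constructor
    · intro hP
      by_contra hbb
      exact hb ⟨fun h => absurd h hbb, fun h => absurd h hP⟩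
    · intro hbb hP
      exact hb ⟨fun _ => hP, fun _ => hbb⟩

end abstract

end Cfsg.Agent.Lib.Helper5.Hy
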