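import Mathlib
import Cfsg.Prelude.Def_ClassicalGeometry
import Cfsg.Prelude.Def_GeometricClasses
import Cfsg.Agent.Lib.Helper5.HyDefs
import Cfsg.Agent.Lib.Helper33.HyT1
import Cfsg.Agent.Lib.Helper55.HyT4core

/-! # S5992 + S5993 hive (helper5), leaf HY-T4 `exists_perp_of_type` -/

set_option autoImplicit false

namespace Cfsg.Agent.Lib.Helper5.Hy

open Polynomial Module
open Cfsg.Agent.Lib.Helper2.BG Cfsg.Agent.Lib.Helper99 Cfsg.Agent.Lib.Helper48.Ti
open Cfsg.Agent.Lib.Helper67.Ts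

section abstract

variable {F V : Type*} [Field F] [Fintype F] [AddCommGroup V] [Module F V] [FiniteDimensional F V]
variable {B : V →ₗ[F] V →ₗ[F] F}

/-- HY-T4: nondegenerate hyperplanes `w^⊥` of both types with `w` in a prescribed nondegenerate subspace
`Z` of dimension ≥ 2 (`dim V` odd). -/
theorem exists_perp_of_type (h2 : (2 : F) ≠ 0) (hs : ∀ u v, B u v = B v u) (hV : Nd B ⊤)
    (hodd : Odd (finrank F V)) {Z : Submodule F V} (hZ : Nd B Z) (hZ2 : 2 ≤ finrank F Z)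
    (b : Prop) :
    ∃ w ∈ Z, B w w ≠ 0 ∧
      (Plus B (LinearMap.BilinForm.orthogonal B (Submodule.span F {w})) ↔ b) := by
  exact t4_core (fun h₀ h₁ ho he₀ he₁ => plus_sup h2 hs h₀ h₁ ho he₀ he₁) h2 hs hV hodd hZ hZ2 b

end abstract

end Cfsg.Agent.Lib.Helper5.Hy
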