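import Mathlib

set_option autoImplicit false
set_option linter.unusedSectionVars false
set_option linter.unusedVariables false
set_option linter.style.haveILetI false

/-! # S4840 leaf GAG-F. -/

namespace Cfsg.Agent.Lib.Helper16.Gag

universe u v

theorem gagf_mulAut_comm {Z : Type*} [Group Z] [IsCyclic Z] (α β : MulAut Z) :
    α * β = β * α := by
  apply (IsCyclic.mulAutMulEquiv Z).injective
  rw [map_mul, map_mul, mul_comm]

/-- GAG-F. `Γ / C_Γ(Z)` is abelian for a cyclic normal subgroup `Z`. -/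
theorem comm_mem_centralizer_of_cyclic {Γ : Type u} [Group Γ] (Z : Subgroup Γ) [Z.Normal]
    [IsCyclic Z] (g k : Γ) : g * k * g⁻¹ * k⁻¹ ∈ Subgroup.centralizer (Z : Set Γ) := by
  have h1 : (MulAut.conjNormal (g * k * g⁻¹ * k⁻¹) : MulAut Z) = 1 := by
    rw [map_mul, map_mul, map_mul, map_inv, map_inv,
      gagf_mulAut_comm (MulAut.conjNormal g : MulAut Z) (MulAut.conjNormal k)]
    group
  rw [Subgroup.mem_centralizer_iff]
  intro z hz
  have h2 := congrArg (fun α : MulAut Z => ((α ⟨z, hz⟩ : Z) : Γ)) h1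
  simp only [MulAut.conjNormal_apply, MulAut.one_apply] at h2
  -- h2 : c * z * c⁻¹ = z
  calc z * (g * k * g⁻¹ * k⁻¹)
      = ((g * k * g⁻¹ * k⁻¹) * z * (g * k * g⁻¹ * k⁻¹)⁻¹) * (g * k * g⁻¹ * k⁻¹) := by rw [h2]
    _ = (g * k * g⁻¹ * k⁻¹) * z := by group

end Cfsg.Agent.Lib.Helper16.Gag
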