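import Mathlib

set_option autoImplicit false
set_option linter.unusedSectionVars false
set_option linter.unusedVariables false
set_option linter.style.haveILetI false

/-! # S4840 leaf GAG-L. -/

namespace Cfsg.Agent.Lib.Helper16.Gag

universe u v

/-- GAG-L. A subgroup containing a Sylow `r`-subgroup for every prime `r` is everything. -/
theorem eq_top_of_sylow_le {F : Type u} [Group F] [Finite F] (D : Subgroup F)
    (h : ∀ (r : ℕ) [Fact r.Prime], ∃ P : Sylow r F, (P : Subgroup F) ≤ D) : D = ⊤ := by
  rw [← Subgroup.index_eq_one]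
  by_contra hne
  obtain ⟨r, hr, hrd⟩ := Nat.exists_prime_and_dvd hne
  haveI : Fact r.Prime := ⟨hr⟩
  obtain ⟨P, hP⟩ := h r
  exact P.not_dvd_index (hrd.trans (Subgroup.index_dvd_of_le hP))

end Cfsg.Agent.Lib.Helper16.Gag
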