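import Mathlib
import Cfsg.Agent.Lib.Helper55.GagL

set_option autoImplicit false
set_option linter.unusedSectionVars false
set_option linter.unusedVariables false
set_option linter.style.haveILetI false

/-! # S4840 leaf GAG-H. -/

namespace Cfsg.Agent.Lib.Helper16.Gag

universe u v

/-- GAG-H. In a finite nilpotent group a commutative Sylow subgroup is central. -/
theorem sylow_le_center_of_comm {F : Type u} [Group F] [Finite F] [Group.IsNilpotent F]
    (r : ℕ) [Fact r.Prime] (P : Sylow r F)
    (hP : ∀ a ∈ (P : Subgroup F), ∀ b ∈ (P : Subgroup F), a * b = b * a) :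
    (P : Subgroup F) ≤ Subgroup.center F := by
  have htop : Subgroup.centralizer ((P : Subgroup F) : Set F) = ⊤ := by
    apply eq_top_of_sylow_le
    intro s hs
    by_cases hsr : s = r
    · subst hsr
      refine ⟨P, ?_⟩
      intro a ha
      rw [Subgroup.mem_centralizer_iff]
      intro b hb
      exact hP b hb a ha
    · refine ⟨default, ?_⟩
      intro a ha
      rw [Subgroup.mem_centralizer_iff]
      intro b hb
      have hdis : Disjoint (P : Subgroup F) ((default : Sylow s F) : Subgroup F) :=
        IsPGroup.disjoint_of_ne r s (Ne.symm hsr) _ _ P.isPGroup' (default : Sylow s F).isPGroup'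
      exact (Subgroup.commute_of_normal_of_disjoint _ _ inferInstance inferInstance hdis b a hb ha).eq
  intro a ha
  rw [Subgroup.mem_center_iff]
  intro g
  have hg : g ∈ Subgroup.centralizer ((P : Subgroup F) : Set F) := by
    rw [htop]; exact Subgroup.mem_top g
  exact (Subgroup.mem_centralizer_iff.mp hg a ha).symm

end Cfsg.Agent.Lib.Helper16.Gag
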