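import Mathlib
import Cfsg.Agent.Lib.Helper55.GagL
import Cfsg.Agent.Lib.Helper55.GagH

set_option autoImplicit false
set_option linter.unusedSectionVars false
set_option linter.unusedVariables false
set_option linter.style.haveILetI false

/-! # S4840 leaf GAG-J. -/

namespace Cfsg.Agent.Lib.Helper16.Gag

universe u v

/-- GAG-J. If `g` commutes with `Z(F)` and with the Sylow `2`-subgroup `P` of the nilpotent `F`, whose odd Sylows are
commutative, then `g` commutes with `F`. -/
theorem centralizes_of_center_and_sylow {Γ : Type u} [Group Γ] [Finite Γ] (F : Subgroup Γ)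
    [Group.IsNilpotent F] (P : Sylow 2 F)
    (hodd : ∀ (r : ℕ) [Fact r.Prime], r ≠ 2 → ∀ R : Sylow r F,
      ∀ a ∈ (R : Subgroup F), ∀ b ∈ (R : Subgroup F), a * b = b * a)
    (g : Γ) (hZ : ∀ z : F, z ∈ Subgroup.center F → g * z = z * g)
    (hQ : ∀ q : F, q ∈ (P : Subgroup F) → g * q = q * g) : ∀ f : F, g * f = f * g := by
  have htop : (Subgroup.centralizer ({g} : Set Γ)).subgroupOf F = ⊤ := by
    apply eq_top_of_sylow_le
    intro r hr
    by_cases hr2 : r = 2
    · subst hr2
      refine ⟨P, ?_⟩
      intro q hq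
      rw [Subgroup.mem_subgroupOf, Subgroup.mem_centralizer_singleton_iff]
      exact (hQ q hq).symm
    · refine ⟨default, ?_⟩
      intro q hq
      rw [Subgroup.mem_subgroupOf, Subgroup.mem_centralizer_singleton_iff]
      have hc := sylow_le_center_of_comm r (default : Sylow r F) (hodd r hr2 default) hq
      exact (hZ q hc).symm
  intro f
  have hf : f ∈ (Subgroup.centralizer ({g} : Set Γ)).subgroupOf F := by
    rw [htop]; exact Subgroup.mem_top f
  rw [Subgroup.mem_subgroupOf, Subgroup.mem_centralizer_singleton_iff] at hf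
  exact hf.symm

end Cfsg.Agent.Lib.Helper16.Gag
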