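import Mathlib

set_option autoImplicit false
set_option linter.unusedSectionVars false
set_option linter.unusedVariables false
set_option linter.style.haveILetI false

/-! # S4840 leaf GAG-QN. -/

namespace Cfsg.Agent.Lib.Helper16.Gag

universe u v

/-- GAG-QN. A Sylow subgroup of a normal nilpotent subgroup `F` is normal in `Γ`. -/
theorem sylow_map_normal {Γ : Type u} [Group Γ] [Finite Γ] (F : Subgroup Γ) [F.Normal]
    [Group.IsNilpotent F] (r : ℕ) [Fact r.Prime] (P : Sylow r F) :
    ((P : Subgroup F).map F.subtype).Normal := by
  haveI : (P : Subgroup F).Characteristic := P.characteristic_of_normal inferInstance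
  exact ConjAct.normal_of_characteristic_of_normal

end Cfsg.Agent.Lib.Helper16.Gag
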