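import Mathlib

set_option autoImplicit false
set_option linter.style.haveILetI false
open scoped Pointwise

namespace Cfsg.Agent.Lib.Helper55

variable {G : Type*} [Group G]

/-- An involution normalizing a subgroup `C` of odd order normalizes some Sylow `p`-subgroup of `C`. -/
theorem exists_sylow_normalized_by_involution [Finite G] (p : ℕ) [Fact p.Prime] (C : Subgroup G)
    (hodd : Odd (Nat.card C)) (t : G) (ht : t ∈ Subgroup.normalizer (C : Set G))
    (ht2 : t * t = 1) :
    ∃ S : Subgroup G, S ≤ C ∧ IsPGroup p S ∧ (∀ s ∈ S, t * s * t⁻¹ ∈ S) ∧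
      Nat.card S = p ^ (Nat.card C).factorization p := by
  classical
  haveI : Fintype (Sylow p C) := Fintype.ofFinite _
  let σ : Equiv.Perm (Sylow p C) :=
    MulAction.toPermHom (Subgroup.normalizer (C : Set G)) (Sylow p C) ⟨t, ht⟩
  have hσ : σ ^ 2 ^ 1 = 1 := by
    show (MulAction.toPermHom (Subgroup.normalizer (C : Set G)) (Sylow p C) ⟨t, ht⟩) ^ 2 ^ 1 = 1
    rw [← map_pow, pow_one, pow_two]
    have : (⟨t, ht⟩ : Subgroup.normalizer (C : Set G)) * ⟨t, ht⟩ = 1 := Subtype.ext ht2
    rw [this, map_one]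
  have hcard : ¬ 2 ∣ Fintype.card (Sylow p C) := by
    rw [← Nat.card_eq_fintype_card]
    intro h2
    obtain ⟨S0⟩ : Nonempty (Sylow p C) := inferInstance
    have h1 : Nat.card (Sylow p C) ∣ Nat.card C :=
      (Sylow.card_dvd_index S0).trans (Subgroup.index_dvd_card _)
    have := h2.trans h1
    rw [← even_iff_two_dvd] at this
    exact (Nat.not_even_iff_odd.mpr hodd) this
  haveI : Fact (Nat.Prime 2) := ⟨Nat.prime_two⟩
  obtain ⟨S, hS⟩ := Equiv.Perm.exists_fixed_point_of_prime (p := 2) (n := 1) hcard hσ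
  refine ⟨(S : Subgroup C).map C.subtype, Subgroup.map_subtype_le _, ?_, ?_, ?_⟩
  · exact S.2.map _
  · rintro _ ⟨s, hs, rfl⟩
    have h1 : (⟨t, ht⟩ : Subgroup.normalizer (C : Set G)) • S = S := hS
    have h2 : (⟨t, ht⟩ : Subgroup.normalizer (C : Set G)) • s ∈
        (⟨t, ht⟩ : Subgroup.normalizer (C : Set G)) • (S : Subgroup C) :=
      Subgroup.smul_mem_pointwise_smul _ _ _ hs
    have h3 : (⟨t, ht⟩ : Subgroup.normalizer (C : Set G)) • (S : Subgroup C) = (S : Subgroup C) := by
      rw [← Sylow.pointwise_smul_def, h1]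
    rw [h3] at h2
    exact ⟨_, h2, rfl⟩
  · rw [Subgroup.card_map_of_injective C.subtype_injective]
    exact S.card_eq_multiplicity

/-- If `H` normalizes `K` then `|HK|` divides `|H| * |K|`. -/
theorem card_sup_dvd_mul_of_le_normalizer (H K : Subgroup G)
    (h : H ≤ Subgroup.normalizer (K : Set G)) :
    Nat.card (H ⊔ K : Subgroup G) ∣ Nat.card H * Nat.card K := by
  set N := Subgroup.normalizer (K : Set G) with hN
  have hK : K ≤ N := Subgroup.le_normalizer
  haveI : (K.subgroupOf N).Normal := Subgroup.normal_in_normalizer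
  have h1 : Nat.card ((H ⊔ K).subgroupOf N) = Nat.card (H ⊔ K : Subgroup G) :=
    Nat.card_congr (Subgroup.subgroupOfEquivOfLe (sup_le h hK)).toEquiv
  have h2 : Nat.card (H.subgroupOf N) = Nat.card H :=
    Nat.card_congr (Subgroup.subgroupOfEquivOfLe h).toEquiv
  have h3 : Nat.card (K.subgroupOf N) = Nat.card K :=
    Nat.card_congr (Subgroup.subgroupOfEquivOfLe hK).toEquiv
  rw [← h1, ← h2, ← h3, Subgroup.subgroupOf_sup h hK]
  rw [← Subgroup.relIndex_bot_left (H.subgroupOf N ⊔ K.subgroupOf N),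
    ← Subgroup.relIndex_bot_left (H.subgroupOf N), ← Subgroup.relIndex_bot_left (K.subgroupOf N)]
  have := Subgroup.relIndex_mul_relIndex (⊥ : Subgroup N) (K.subgroupOf N)
    (H.subgroupOf N ⊔ K.subgroupOf N) bot_le le_sup_right
  rw [← this, Subgroup.relIndex_sup_right, mul_comm]
  exact Nat.mul_dvd_mul_right (Subgroup.relIndex_dvd_of_le_left _ bot_le) _

/-- A subgroup closed under conjugation by `t` is normalized by `t` (finite case). -/
theorem mem_normalizer_of_conj_mem [Finite G] (H : Subgroup G) (t : G)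
    (h : ∀ x ∈ H, t * x * t⁻¹ ∈ H) : t ∈ Subgroup.normalizer (H : Set G) := by
  have hmap : H.map (MulAut.conj t).toMonoidHom ≤ H := by
    rintro _ ⟨x, hx, rfl⟩
    exact h x hx
  have hcard : Nat.card (H.map (MulAut.conj t).toMonoidHom) = Nat.card H :=
    Subgroup.card_map_of_injective (MulAut.conj t).injective
  have heq : H.map (MulAut.conj t).toMonoidHom = H :=
    Subgroup.eq_of_le_of_card_ge hmap (le_of_eq hcard.symm)
  rw [Subgroup.mem_normalizer_iff_map_conj_eq]
  exact heq

/-- Normalizers grow in `p`-groups: if `Q < R` with `R` a `p`-group then `Q < R ⊓ N(Q)`. -/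
theorem lt_inf_normalizer_of_lt [Finite G] (p : ℕ) [Fact p.Prime] (Q R : Subgroup G)
    (hRp : IsPGroup p R) (hQR : Q ≤ R) (hne : R ≠ Q) :
    Q ≤ R ⊓ Subgroup.normalizer (Q : Set G) ∧ Q ≠ R ⊓ Subgroup.normalizer (Q : Set G) := by
  haveI : Group.IsNilpotent ↥R := hRp.isNilpotent
  have hlt : Q.subgroupOf R < ⊤ := by
    rw [lt_top_iff_ne_top]
    intro h
    apply hne
    apply le_antisymm _ hQR
    intro r hr
    have : (⟨r, hr⟩ : R) ∈ Q.subgroupOf R := by rw [h]; exact Subgroup.mem_top _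
    exact Subgroup.mem_subgroupOf.mp this
  have hnc := Group.normalizerCondition_of_isNilpotent (G := ↥R) (Q.subgroupOf R) hlt
  obtain ⟨h, hhN, hhQ⟩ := SetLike.exists_of_lt hnc
  have hhN' : (h : G) ∈ Subgroup.normalizer (Q : Set G) := by
    rw [Subgroup.mem_normalizer_iff]
    intro g
    constructor
    · intro hg
      have := (Subgroup.mem_normalizer_iff.mp hhN ⟨g, hQR hg⟩).mp (Subgroup.mem_subgroupOf.mpr hg)
      exact Subgroup.mem_subgroupOf.mp this
    · intro hg
      have hgR : g ∈ R := by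
        have h1 : (h : G) * g * (h : G)⁻¹ ∈ R := hQR hg
        have : g = (h : G)⁻¹ * ((h : G) * g * (h : G)⁻¹) * (h : G) := by group
        rw [this]
        exact mul_mem (mul_mem (inv_mem h.2) h1) h.2
      have := (Subgroup.mem_normalizer_iff.mp hhN ⟨g, hgR⟩).mpr (Subgroup.mem_subgroupOf.mpr hg)
      exact Subgroup.mem_subgroupOf.mp this
  refine ⟨le_inf hQR Subgroup.le_normalizer, ?_⟩
  intro heq
  apply hhQ
  rw [Subgroup.mem_subgroupOf, heq]
  exact ⟨h.2, hhN'⟩

end Cfsg.Agent.Lib.Helper55
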