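import Cfsg.Agent.Lib.Helper20.G2cDefs

/-! # G2c mini-hive (S2180), leaf G2C-LCENT (helper55)

An element of the Levi subgroup `L_b = ⟨H, X_6, X_5⟩` of `G₂(F)` centralising `x_9(1)` lies in `⟨X_6, X_5⟩`. -/

set_option autoImplicit false

namespace Cfsg.Agent.Lib.Helper20.G2c

open Cfsg Cfsg.Lie Cfsg.Agent.Lib.Helper36

variable (F : Type*) [Field F]

/-- generators of `K = ⟨X_6, X_5⟩` -/
def lcent_gens : Set (GL chevG2.Idx F) :=
  {g | ∃ (s : ℕ) (t : F), (s = 6 ∨ s = 5) ∧ (g : Matrix chevG2.Idx chevG2.Idx F) = chevG2.x F s t}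

/-- `K = ⟨X_6, X_5⟩` as a closure of root elements -/
def lcent_K : Subgroup (GL chevG2.Idx F) := Subgroup.closure (lcent_gens F)

theorem lcent_xg_mem (s : ℕ) (hs : s = 6 ∨ s = 5) (t : F) : xg F s t ∈ lcent_K F :=
  Subgroup.subset_closure ⟨s, t, hs, xGL_coe chevG2 hG2 F s t⟩

theorem lcent_K_le : lcent_K F ≤ chevG2.rootSubgroup F 6 ⊔ chevG2.rootSubgroup F 5 := by
  unfold lcent_K
  rw [Subgroup.closure_le]
  rintro x ⟨s, t, hs, hx⟩
  have ex : x = xg F s t := Units.ext (by rw [hx, xGL_coe])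
  rw [ex]
  rcases hs with rfl | rfl
  · exact Subgroup.mem_sup_left (mem_rootSubgroup chevG2 hG2 F 6 t)
  · exact Subgroup.mem_sup_right (mem_rootSubgroup chevG2 hG2 F 5 t)

theorem lcent_inRootSub (r : ℕ) (h : chevG2.InRootSub {1} r) : r = 6 ∨ r = 5 := by
  obtain ⟨hr, h0⟩ := h
  have h1 := h0 0 (by decide) (by simp)
  have key : ∀ r < 12, (chevG2.coroot.getD r #[]).getD 0 0 = 0 → r = 6 ∨ r = 5 := by decide
  exact key r hr h1

theorem lcent_levi_le : chevG2.leviSubgroup F {1} ≤ lcent_K F ⊔ chevG2.diagonalSubgroup F := by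
  unfold ChevalleyDatum.leviSubgroup
  apply sup_le le_sup_right
  refine le_trans ?_ le_sup_left
  unfold lcent_K
  apply Subgroup.closure_mono
  rintro x ⟨r, t, hr, hx⟩
  exact ⟨r, t, lcent_inRootSub r hr, hx⟩

theorem lcent_diag_le_normalizer :
    chevG2.diagonalSubgroup F ≤ Subgroup.normalizer (lcent_K F : Set (GL chevG2.Idx F)) := by
  intro h hh
  obtain ⟨χ, hχ, e⟩ := exists_character_of_mem_diagonal chevG2 hG2 F h hh
  obtain ⟨χ', hχ', e'⟩ := exists_character_of_mem_diagonal chevG2 hG2 F h⁻¹ (inv_mem hh)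
  have hlt : ∀ s, (s = 6 ∨ s = 5) → s < chevG2.nroots := by
    rintro s (rfl | rfl) <;> decide
  unfold lcent_K
  apply mem_normalizer_closure
  · rintro x ⟨s, t, hs, hx⟩
    have ex : x = xGL chevG2 hG2 F s t := Units.ext (by rw [hx, xGL_coe])
    rw [ex, diag_conj_xGL chevG2 hG2 F h χ hχ e s (hlt s hs) t]
    exact Subgroup.subset_closure ⟨s, _, hs, xGL_coe chevG2 hG2 F s _⟩
  · rintro x ⟨s, t, hs, hx⟩
    have ex : x = xGL chevG2 hG2 F s t := Units.ext (by rw [hx, xGL_coe])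
    have := diag_conj_xGL chevG2 hG2 F h⁻¹ χ' hχ' e' s (hlt s hs) t
    rw [inv_inv] at this
    rw [ex, this]
    exact Subgroup.subset_closure ⟨s, _, hs, xGL_coe chevG2 hG2 F s _⟩

theorem lcent_K_le_centralizer : lcent_K F ≤ Subgroup.centralizer {xg F 9 1} := by
  unfold lcent_K
  rw [Subgroup.closure_le]
  rintro x ⟨s, c, hs, hx⟩
  have ex : x = xg F s c := Units.ext (by rw [hx, xGL_coe])
  rw [SetLike.mem_coe, Subgroup.mem_centralizer_iff]
  intro y hy
  rw [Set.mem_singleton_iff] at hy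
  subst hy
  rw [ex]
  have hp : ∀ c : ℤ, c % 0 = 0 → (c : F) = 0 := fun c hc => by
    have : c = 0 := by simpa using hc
    rw [this]; simp
  rcases hs with rfl | rfl
  · exact (comm_of_vanish chevG2 hG2 F 0 hp 9 6 (by decide) (by decide) 1 c).symm
  · exact (comm_of_vanish chevG2 hG2 F 0 hp 9 5 (by decide) (by decide) 1 c).symm

theorem lcent_hGL_mem (c : F) : hGL chevG2 hG2 F 6 c ∈ lcent_K F := by
  rw [hGL_eq]
  have hn : ∀ t : F, nGL chevG2 hG2 F 6 t ∈ lcent_K F := by
    intro t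
    rw [nGL_eq]
    have e5 : chevG2.neg 6 = 5 := by decide
    rw [e5]
    exact mul_mem (mul_mem (lcent_xg_mem F 6 (Or.inl rfl) _) (lcent_xg_mem F 5 (Or.inr rfl) _))
      (lcent_xg_mem F 6 (Or.inl rfl) _)
  exact mul_mem (hn _) (hn _)

/-- G2C-LCENT -/
theorem levi_cent (l : GL chevG2.Idx F) (hl : l ∈ chevG2.leviSubgroup F {1})
    (hc : l * xg F 9 1 = xg F 9 1 * l) : l ∈ chevG2.rootSubgroup F 6 ⊔ chevG2.rootSubgroup F 5 := by
  apply lcent_K_le F
  have hl' := lcent_levi_le F hl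
  have hmul := Subgroup.coe_mul_of_right_le_normalizer_left (lcent_K F) (chevG2.diagonalSubgroup F)
    (lcent_diag_le_normalizer F)
  rw [← SetLike.mem_coe, hmul, Set.mem_mul] at hl'
  obtain ⟨q, hq, h, hh, rfl⟩ := hl'
  rw [SetLike.mem_coe] at hq hh
  have hqc := lcent_K_le_centralizer F hq
  rw [Subgroup.mem_centralizer_iff] at hqc
  have hqc' : q * xg F 9 1 = xg F 9 1 * q := (hqc _ rfl).symm
  have hhc : h * xg F 9 1 = xg F 9 1 * h := by
    have : q * (h * xg F 9 1) = q * (xg F 9 1 * h) := by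
      rw [← mul_assoc, hc, ← mul_assoc, ← hqc', mul_assoc]
    exact mul_left_cancel this
  refine mul_mem hq ?_
  -- `h ∈ H` centralising `x_9(1)` is `h_6(c 1)`
  obtain ⟨χ, hχ, e⟩ := exists_character_of_mem_diagonal chevG2 hG2 F h hh
  obtain ⟨c, hc0, ec⟩ := exists_hProd_of_mem_diagonal chevG2 hG2 F h hh
  have h1 := diag_conj_xGL chevG2 hG2 F h χ hχ e 9 (by decide) 1
  have h2 : xGL chevG2 hG2 F 9 ((χ 9 : F) * 1) = xGL chevG2 hG2 F 9 1 := by
    rw [← h1, hhc]; group
  have hχρ : (χ 9 : F) = 1 := by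
    have := xGL_injective' chevG2 hG2 F 9 (by decide) _ _ h2
    rwa [mul_one] at this
  have h3 : (χ 9 : F) = ((List.range chevG2.rank).map fun i => c i ^ chevG2.cartan i 9).prod := by
    have := congrFun (congrFun (e.symm.trans ec) (Sum.inr ⟨9, by decide⟩)) (Sum.inr ⟨9, by decide⟩)
    unfold ChevalleyDatum.charDiag hProd at this
    simpa using this
  have hr : chevG2.rank = 2 := by decide
  have h4 : ((List.range chevG2.rank).map fun i => c i ^ chevG2.cartan i 9).prod = c 0 := by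
    have c09 : chevG2.cartan 0 9 = 1 := by decide
    have c19 : chevG2.cartan 1 9 = 0 := by decide
    rw [hr]
    simp [List.range_succ, c09, c19]
  have hc0' : c 0 = 1 := by rw [← h4, ← h3, hχρ]
  -- `h` as a product
  have hprod : h = ((List.range chevG2.rank).map fun i => hGL chevG2 hG2 F (chevG2.simple i) (c i)).prod := by
    apply Units.ext
    rw [ec]
    have e1 : (Units.val ((List.range chevG2.rank).map fun i => hGL chevG2 hG2 F (chevG2.simple i) (c i)).prod :
        Matrix chevG2.Idx chevG2.Idx F) =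
        ((List.range chevG2.rank).map fun i => chevG2.hMat F (chevG2.simple i) (c i)).prod := by
      rw [units_val_list_prod', List.map_map]
      congr 1
    rw [e1, prod_hMat_simple chevG2 hG2 F c (fun i _ => hc0 i) chevG2.rank le_rfl]
    rfl
  rw [hprod]
  apply Subgroup.list_prod_mem
  intro z hz
  obtain ⟨i, hi, rfl⟩ := List.mem_map.1 hz
  have hi := List.mem_range.1 hi
  rw [hr] at hi
  interval_cases i
  · have : hGL chevG2 hG2 F (chevG2.simple 0) (c 0) = 1 := by
      apply Units.ext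
      rw [hGL_coe, hc0', (hMat_all chevG2 hG2 _ (by decide) 1 one_ne_zero).1, hDiag_one]
      rfl
    rw [this]
    exact one_mem _
  · have e6 : chevG2.simple 1 = 6 := by decide
    rw [e6]
    exact lcent_hGL_mem F (c 1)

end Cfsg.Agent.Lib.Helper20.G2c
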