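import Cfsg.Agent.Lib.Helper20.G2cDefs
import Cfsg.Agent.S1026

/-! # G2i mini-hive (S2177), leaf G2I-NF (helper55)

Every element of `U ≤ G₂(F)` is `x_6(t) · (x_7(s) x_8(s') T(c,d,e))` (ordered product over the positive roots, S1026). -/

set_option autoImplicit false

namespace Cfsg.Agent.Lib.Helper2.G2i

open Cfsg Cfsg.Lie Cfsg.Agent.Lib.Helper36 Cfsg.Agent.Lib.Helper20.G2c

variable (F : Type*) [Field F]

theorem nf_posRoots : chevG2.posRoots = [6, 7, 8, 9, 10, 11] := by decide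

/-- G2I-NF -/
theorem pos_normal_form (u : GL chevG2.Idx F) (hu : u ∈ chevG2.posUnipotent F) :
    ∃ t s s' c d e : F, u = xg F 6 t * (xg F 7 s * xg F 8 s' * T F c d e) := by
  obtain ⟨t, ⟨-, ht⟩, -⟩ := (Cfsg.Agent.S1026.result (F := F) chevG2 hG2).1 u hu
  refine ⟨t 6, t 7, t 8, t 9, t 10, t 11, ?_⟩
  apply Units.ext
  rw [ht, nf_posRoots]
  unfold T xg
  simp only [ChevalleyDatum.wordMat, List.map_cons, List.map_nil, List.prod_cons, List.prod_nil, mul_one,
    Units.val_mul, xGL_coe, mul_assoc]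

end Cfsg.Agent.Lib.Helper2.G2i
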