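import Cfsg.Agent.Lib.Helper2.G2oDefs
import Cfsg.Agent.Lib.Helper36.ChevChar
import Cfsg.Agent.Lib.Helper36.ChevRank1
import Cfsg.Agent.Lib.Helper36.ChevCentRoot
import Cfsg.Agent.Lib.Helper33.G2oPID

/-! # G2O-F2S (helper55, for helper2's G2o hive S4278): for an involution `n ∈ N` of Weyl type `s_β`
(`β` simple) the constant `c_β(n)` is a square -/

set_option autoImplicit false
set_option linter.unusedSectionVars false
set_option linter.unusedVariables false

namespace Cfsg.Agent.Lib.Helper2.G2o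

open Cfsg Cfsg.Lie Cfsg.Agent.Lib.Helper36 Cfsg.Agent.Lib.Helper20.G2c

variable (F : Type*) [Field F]

theorem f2s_eta (i r : ℕ) (hi : i < 2) (hr : r < 12) : nEta chevG2 i r = 1 ∨ nEta chevG2 i r = -1 := by
  interval_cases i <;> interval_cases r <;> decide

/-- the core computation, with G2O-PID as a hypothesis -/
theorem f2s_core
    (hpid : ∀ n : GL chevG2.Idx F, n ∈ chevG2.monomialSubgroup F → Acts F n id → n ∈ chevG2.diagonalSubgroup F)
    (i γ δ : ℕ) (hi : i < 2) (hγ : γ < 12) (hδ : δ < 12)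
    (hrγ : chevG2.reflectRoot i γ = δ) (hrδ : chevG2.reflectRoot i δ = γ)
    (hch : chevG2.chainRoot γ (chevG2.simple i) 1 = some δ)
    (hsg : nEta chevG2 i γ * nEta chevG2 i δ = -1)
    (n : GL chevG2.Idx F) (hn : n ∈ chevG2.monomialSubgroup F) (hnn : n * n = 1)
    (h : Acts F n (chevG2.reflectRoot i)) :
    ∃ y : F, y ≠ 0 ∧ ∀ s : F,
      n * xg F (chevG2.simple i) s * n⁻¹ = xg F (chevG2.neg (chevG2.simple i)) (y ^ 2 * s) := by
  have hrank : chevG2.rank = 2 := by decide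
  have hnr : chevG2.nroots = 12 := by decide
  have hi' : i < chevG2.rank := by rw [hrank]; exact hi
  have hβ : chevG2.simple i < chevG2.nroots := by
    rw [hnr]; interval_cases i <;> decide
  set β := chevG2.simple i with hβdef
  set N : GL chevG2.Idx F := nGL chevG2 hG2 F β 1 with hN
  have hNm : N ∈ chevG2.monomialSubgroup F := nGL_mem_mono chevG2 hG2 F β hβ
  -- conjugation by `N`
  have hNc : ∀ r, r < 12 → ∀ u : F,
      N * xg F r u * N⁻¹ = xg F (chevG2.reflectRoot i r) (((nEta chevG2 i r : ℤ) : F) * u) := by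
    intro r hr u
    have h1 := xGL_reflect chevG2 hG2 F i r hi' (by rw [hnr]; exact hr) (((nEta chevG2 i r : ℤ) : F) * u)
    rw [← hβdef, ← hN] at h1
    have h2 : ((nEta chevG2 i r : ℤ) : F) * (((nEta chevG2 i r : ℤ) : F) * u) = u := by
      rcases f2s_eta i r hi hr with e | e <;> rw [e] <;> simp
    rw [h2] at h1
    exact h1.symm
  have hNc' : ∀ r, r < 12 → ∀ u : F,
      N⁻¹ * xg F (chevG2.reflectRoot i r) u * N = xg F r (((nEta chevG2 i r : ℤ) : F) * u) := by
    intro r hr u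
    have h1 := xGL_reflect chevG2 hG2 F i r hi' (by rw [hnr]; exact hr) u
    rw [← hβdef, ← hN] at h1
    show N⁻¹ * xGL chevG2 hG2 F (chevG2.reflectRoot i r) u * N = _
    rw [h1]
    group
  -- `n0 := N⁻¹ n` acts trivially on the roots
  set n0 : GL chevG2.Idx F := N⁻¹ * n with hn0
  have hn0m : n0 ∈ chevG2.monomialSubgroup F := mul_mem (inv_mem hNm) hn
  have hacts0 : Acts F n0 id := by
    intro r hr
    rw [hnr] at hr
    obtain ⟨c, hc, hcr⟩ := h r (by rw [hnr]; exact hr)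
    refine ⟨((nEta chevG2 i r : ℤ) : F) * c, ?_, fun t => ?_⟩
    · rcases f2s_eta i r hi hr with e | e <;> rw [e] <;> simpa using hc
    · have e1 : n0 * xg F r t * n0⁻¹ = N⁻¹ * (n * xg F r t * n⁻¹) * N := by
        rw [hn0]; group
      rw [e1, hcr t, hNc' r hr, id, mul_assoc]
  have hH : n0 ∈ chevG2.diagonalSubgroup F := hpid n0 hn0m hacts0
  obtain ⟨χ, hχ, hmat⟩ := exists_character_of_mem_diagonal chevG2 hG2 F n0 hH
  have hconj0 : ∀ r, r < 12 → ∀ t : F, n0 * xg F r t * n0⁻¹ = xg F r ((χ r : F) * t) := fun r hr t =>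
    diag_conj_xGL chevG2 hG2 F n0 χ hχ hmat r (by rw [hnr]; exact hr) t
  have hn_eq : n = N * n0 := by rw [hn0, mul_inv_cancel_left]
  have hconj : ∀ r, r < 12 → ∀ t : F, n * xg F r t * n⁻¹ = N * xg F r ((χ r : F) * t) * N⁻¹ := by
    intro r hr t
    rw [← hconj0 r hr t, hn_eq]
    group
  -- the relation from `n * n = 1`
  have hγc : ∀ t : F, n * xg F γ t * n⁻¹ = xg F δ (((nEta chevG2 i γ : ℤ) : F) * ((χ γ : F) * t)) := by
    intro t
    rw [hconj γ hγ t, hNc γ hγ, hrγ]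
  have hδc : ∀ t : F, n * xg F δ t * n⁻¹ = xg F γ (((nEta chevG2 i δ : ℤ) : F) * ((χ δ : F) * t)) := by
    intro t
    rw [hconj δ hδ t, hNc δ hδ, hrδ]
  have hsq : xg F γ (((nEta chevG2 i δ : ℤ) : F) * ((χ δ : F) * (((nEta chevG2 i γ : ℤ) : F) * ((χ γ : F) * 1)))) =
      xg F γ 1 := by
    rw [← hδc, ← hγc]
    have : n * (n * xg F γ 1 * n⁻¹) * n⁻¹ = (n * n) * xg F γ 1 * (n * n)⁻¹ := by group
    rw [this, hnn]
    group
  have hE := xGL_injective' chevG2 hG2 F γ (by rw [hnr]; exact hγ) _ _ hsq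
  have hχδ : χ δ = χ γ * χ β := hχ.2 γ β δ (by rw [hnr]; exact hγ) hβ hch
  have hsgF : ((nEta chevG2 i γ : ℤ) : F) * ((nEta chevG2 i δ : ℤ) : F) = -1 := by
    rw [← Int.cast_mul, hsg]; simp
  rw [hχδ, Units.val_mul] at hE
  set a : F := (χ γ : F) with ha
  set b : F := (χ β : F) with hb
  have ha0 : a ≠ 0 := (χ γ).ne_zero
  have hab : -(a ^ 2 * b) = 1 := by
    linear_combination hE - (a ^ 2 * b) * hsgF
  -- the action on `x_β`
  refine ⟨a⁻¹, inv_ne_zero ha0, fun s => ?_⟩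
  rw [hconj β (by rw [← hnr]; exact hβ) s]
  have hr1 := (rank1Rel_all chevG2 hG2 F β hβ).1 (b * s)
  rw [← hN] at hr1
  have e2 : N * xg F β (b * s) * N⁻¹ = xg F (chevG2.neg β) (-(b * s)) := by
    show N * xGL chevG2 hG2 F β (b * s) * N⁻¹ = _
    rw [hr1]
    group
  rw [e2]
  congr 1
  field_simp
  linear_combination s * hab

/-- G2O-F2S -/
theorem f2s (i : ℕ) (hi : i < 2) (n : GL chevG2.Idx F) (hn : n ∈ chevG2.monomialSubgroup F) (hnn : n * n = 1)
    (h : Acts F n (chevG2.reflectRoot i)) :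
    ∃ y : F, y ≠ 0 ∧ ∀ s : F,
      n * xg F (chevG2.simple i) s * n⁻¹ = xg F (chevG2.neg (chevG2.simple i)) (y ^ 2 * s) := by
  interval_cases i
  · exact f2s_core F (pid F) 0 8 9 (by decide) (by decide) (by decide) (by decide) (by decide) (by decide) (by decide)
      n hn hnn h
  · exact f2s_core F (pid F) 1 7 8 (by decide) (by decide) (by decide) (by decide) (by decide) (by decide) (by decide)
      n hn hnn h

end Cfsg.Agent.Lib.Helper2.G2o
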