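import Cfsg.Agent.Lib.Helper20.F4cDefs

/-! # F4c hive (S2179), leaf F4C-LCENT (helper55)

An element of the Levi subgroup `L_{p₁,p₄} = ⟨H, X_33, X_14, X_24, X_23⟩` of `F₄(F)`, `char F = 2`, centralising
`v = x_39(1) x_45(1)` lies in `⟨X_33, X_14, X_24, X_23⟩`. -/

set_option autoImplicit false

namespace Cfsg.Agent.Lib.Helper20.F4c

open Cfsg Cfsg.Lie Cfsg.Agent.Lib.Helper36

variable (F : Type*) [Field F]

/-- generators of `K = ⟨X_33, X_14, X_24, X_23⟩` -/
def f4clcent_gens : Set (GL chevF4.Idx F) :=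
  {g | ∃ (s : ℕ) (t : F), (s = 33 ∨ s = 14 ∨ s = 24 ∨ s = 23) ∧
    (g : Matrix chevF4.Idx chevF4.Idx F) = chevF4.x F s t}

/-- `K = ⟨X_33, X_14, X_24, X_23⟩` as a closure of root elements -/
def f4clcent_K : Subgroup (GL chevF4.Idx F) := Subgroup.closure (f4clcent_gens F)

theorem f4clcent_xf_mem (s : ℕ) (hs : s = 33 ∨ s = 14 ∨ s = 24 ∨ s = 23) (t : F) : xf F s t ∈ f4clcent_K F :=
  Subgroup.subset_closure ⟨s, t, hs, xGL_coe chevF4 hF4 F s t⟩

theorem f4clcent_K_le : f4clcent_K F ≤ chevF4.rootSubgroup F 33 ⊔ chevF4.rootSubgroup F 14 ⊔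
    chevF4.rootSubgroup F 24 ⊔ chevF4.rootSubgroup F 23 := by
  unfold f4clcent_K
  rw [Subgroup.closure_le]
  rintro x ⟨s, t, hs, hx⟩
  have ex : x = xf F s t := Units.ext (by rw [hx, xGL_coe])
  rw [ex]
  rcases hs with rfl | rfl | rfl | rfl
  · exact Subgroup.mem_sup_left (Subgroup.mem_sup_left (Subgroup.mem_sup_left
      (mem_rootSubgroup chevF4 hF4 F 33 t)))
  · exact Subgroup.mem_sup_left (Subgroup.mem_sup_left (Subgroup.mem_sup_right
      (mem_rootSubgroup chevF4 hF4 F 14 t)))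
  · exact Subgroup.mem_sup_left (Subgroup.mem_sup_right (mem_rootSubgroup chevF4 hF4 F 24 t))
  · exact Subgroup.mem_sup_right (mem_rootSubgroup chevF4 hF4 F 23 t)

theorem f4clcent_inRootSub (r : ℕ) (h : chevF4.InRootSub {0, 3} r) :
    r = 33 ∨ r = 14 ∨ r = 24 ∨ r = 23 := by
  obtain ⟨hr, h0⟩ := h
  have h1 := h0 1 (by decide) (by simp)
  have h2 := h0 2 (by decide) (by simp)
  have key : ∀ r < 48, (chevF4.coroot.getD r #[]).getD 1 0 = 0 → (chevF4.coroot.getD r #[]).getD 2 0 = 0 →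
      r = 33 ∨ r = 14 ∨ r = 24 ∨ r = 23 := by decide
  exact key r hr h1 h2

theorem f4clcent_levi_le : chevF4.leviSubgroup F {0, 3} ≤ f4clcent_K F ⊔ chevF4.diagonalSubgroup F := by
  unfold ChevalleyDatum.leviSubgroup
  apply sup_le le_sup_right
  refine le_trans ?_ le_sup_left
  unfold f4clcent_K
  apply Subgroup.closure_mono
  rintro x ⟨r, t, hr, hx⟩
  exact ⟨r, t, f4clcent_inRootSub r hr, hx⟩

theorem f4clcent_lt (s : ℕ) (hs : s = 33 ∨ s = 14 ∨ s = 24 ∨ s = 23) : s < chevF4.nroots := by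
  rcases hs with rfl | rfl | rfl | rfl <;> decide

theorem f4clcent_diag_le_normalizer :
    chevF4.diagonalSubgroup F ≤ Subgroup.normalizer (f4clcent_K F : Set (GL chevF4.Idx F)) := by
  intro h hh
  obtain ⟨χ, hχ, e⟩ := exists_character_of_mem_diagonal chevF4 hF4 F h hh
  obtain ⟨χ', hχ', e'⟩ := exists_character_of_mem_diagonal chevF4 hF4 F h⁻¹ (inv_mem hh)
  unfold f4clcent_K
  apply mem_normalizer_closure
  · rintro x ⟨s, t, hs, hx⟩
    have ex : x = xGL chevF4 hF4 F s t := Units.ext (by rw [hx, xGL_coe])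
    rw [ex, diag_conj_xGL chevF4 hF4 F h χ hχ e s (f4clcent_lt s hs) t]
    exact Subgroup.subset_closure ⟨s, _, hs, xGL_coe chevF4 hF4 F s _⟩
  · rintro x ⟨s, t, hs, hx⟩
    have ex : x = xGL chevF4 hF4 F s t := Units.ext (by rw [hx, xGL_coe])
    have := diag_conj_xGL chevF4 hF4 F h⁻¹ χ' hχ' e' s (f4clcent_lt s hs) t
    rw [inv_inv] at this
    rw [ex, this]
    exact Subgroup.subset_closure ⟨s, _, hs, xGL_coe chevF4 hF4 F s _⟩

theorem f4clcent_vanish39 : ∀ s ∈ [33, 14, 24, 23], commVanish chevF4 2 39 s = true := by decide +kernel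

theorem f4clcent_vanish45 : ∀ s ∈ [33, 14, 24, 23], commVanish chevF4 2 45 s = true := by decide +kernel

theorem f4clcent_K_le_centralizer [CharP F 2] :
    f4clcent_K F ≤ Subgroup.centralizer {T F 1 0 0 1 0 0} := by
  unfold f4clcent_K
  rw [Subgroup.closure_le]
  rintro x ⟨s, c, hs, hx⟩
  have ex : x = xf F s c := Units.ext (by rw [hx, xGL_coe])
  rw [SetLike.mem_coe, Subgroup.mem_centralizer_iff]
  intro y hy
  rw [Set.mem_singleton_iff] at hy
  subst hy
  rw [ex, T_v]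
  have hmem : s ∈ [33, 14, 24, 23] := by
    rcases hs with rfl | rfl | rfl | rfl <;> simp
  have h39 : xf F s c * xf F 39 1 = xf F 39 1 * xf F s c :=
    comm_of_vanish chevF4 hF4 F 2 (hp2 F) 39 s (by decide) (f4clcent_vanish39 s hmem) 1 c
  have h45 : xf F s c * xf F 45 1 = xf F 45 1 * xf F s c :=
    comm_of_vanish chevF4 hF4 F 2 (hp2 F) 45 s (by decide) (f4clcent_vanish45 s hmem) 1 c
  calc xf F 39 1 * xf F 45 1 * xf F s c = xf F 39 1 * (xf F 45 1 * xf F s c) := by group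
    _ = xf F 39 1 * (xf F s c * xf F 45 1) := by rw [h45]
    _ = (xf F 39 1 * xf F s c) * xf F 45 1 := by group
    _ = (xf F s c * xf F 39 1) * xf F 45 1 := by rw [h39]
    _ = xf F s c * (xf F 39 1 * xf F 45 1) := by group

theorem f4clcent_hGL_mem33 (c : F) : hGL chevF4 hF4 F 33 c ∈ f4clcent_K F := by
  rw [hGL_eq]
  have hn : ∀ t : F, nGL chevF4 hF4 F 33 t ∈ f4clcent_K F := by
    intro t
    rw [nGL_eq]
    have e5 : chevF4.neg 33 = 14 := by decide
    rw [e5]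
    exact mul_mem (mul_mem (f4clcent_xf_mem F 33 (Or.inl rfl) _)
      (f4clcent_xf_mem F 14 (Or.inr (Or.inl rfl)) _)) (f4clcent_xf_mem F 33 (Or.inl rfl) _)
  exact mul_mem (hn _) (hn _)

theorem f4clcent_hGL_mem24 (c : F) : hGL chevF4 hF4 F 24 c ∈ f4clcent_K F := by
  rw [hGL_eq]
  have hn : ∀ t : F, nGL chevF4 hF4 F 24 t ∈ f4clcent_K F := by
    intro t
    rw [nGL_eq]
    have e5 : chevF4.neg 24 = 23 := by decide
    rw [e5]
    exact mul_mem (mul_mem (f4clcent_xf_mem F 24 (Or.inr (Or.inr (Or.inl rfl))) _)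
      (f4clcent_xf_mem F 23 (Or.inr (Or.inr (Or.inr rfl))) _))
      (f4clcent_xf_mem F 24 (Or.inr (Or.inr (Or.inl rfl))) _)
  exact mul_mem (hn _) (hn _)

/-- `x_39(a) x_45(d) = x_39(1) x_45(1)` forces `a = 1`, `d = 1` -/
theorem f4clcent_inj (a d : F) (h : xf F 39 a * xf F 45 d = xf F 39 1 * xf F 45 1) : a = 1 ∧ d = 1 := by
  have h1 : xf F 39 (-1 + a) = xf F 45 (1 + -d) := by
    unfold xf at h ⊢
    rw [xGL_add, xGL_add, ← xGL_inv, ← xGL_inv]
    have := congrArg (fun z => (xGL chevF4 hF4 F 39 1)⁻¹ * z * (xGL chevF4 hF4 F 45 d)⁻¹) h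
    beta_reduce at this
    calc (xGL chevF4 hF4 F 39 1)⁻¹ * xGL chevF4 hF4 F 39 a
        = (xGL chevF4 hF4 F 39 1)⁻¹ * (xGL chevF4 hF4 F 39 a * xGL chevF4 hF4 F 45 d) *
            (xGL chevF4 hF4 F 45 d)⁻¹ := by group
      _ = (xGL chevF4 hF4 F 39 1)⁻¹ * (xGL chevF4 hF4 F 39 1 * xGL chevF4 hF4 F 45 1) *
            (xGL chevF4 hF4 F 45 d)⁻¹ := this
      _ = xGL chevF4 hF4 F 45 1 * (xGL chevF4 hF4 F 45 d)⁻¹ := by group
  have ha : -1 + a = 0 :=
    xGL_eq_root chevF4 hF4 F 39 45 (by decide) (by decide) (by decide) (by decide) _ _ h1.symm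
  have hd : 1 + -d = 0 :=
    xGL_eq_root chevF4 hF4 F 45 39 (by decide) (by decide) (by decide) (by decide) _ _ h1
  constructor
  · linear_combination ha
  · linear_combination -hd

/-- F4C-LCENT -/
theorem levi_cent [CharP F 2] [Fintype F] (l : GL chevF4.Idx F) (hl : l ∈ chevF4.leviSubgroup F {0, 3})
    (hc : l * T F 1 0 0 1 0 0 = T F 1 0 0 1 0 0 * l) :
    l ∈ chevF4.rootSubgroup F 33 ⊔ chevF4.rootSubgroup F 14 ⊔ chevF4.rootSubgroup F 24 ⊔
      chevF4.rootSubgroup F 23 := by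
  apply f4clcent_K_le F
  have hl' := f4clcent_levi_le F hl
  have hmul := Subgroup.coe_mul_of_right_le_normalizer_left (f4clcent_K F) (chevF4.diagonalSubgroup F)
    (f4clcent_diag_le_normalizer F)
  rw [← SetLike.mem_coe, hmul, Set.mem_mul] at hl'
  obtain ⟨q, hq, h, hh, rfl⟩ := hl'
  rw [SetLike.mem_coe] at hq hh
  have hqc := f4clcent_K_le_centralizer F hq
  rw [Subgroup.mem_centralizer_iff] at hqc
  have hqc' : q * T F 1 0 0 1 0 0 = T F 1 0 0 1 0 0 * q := (hqc _ rfl).symm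
  have hhc : h * T F 1 0 0 1 0 0 = T F 1 0 0 1 0 0 * h := by
    have : q * (h * T F 1 0 0 1 0 0) = q * (T F 1 0 0 1 0 0 * h) := by
      rw [← mul_assoc, hc, ← mul_assoc, ← hqc', mul_assoc]
    exact mul_left_cancel this
  refine mul_mem hq ?_
  -- `h ∈ H` centralising `v` is `h_33(c 0) h_24(c 3)`
  obtain ⟨χ, hχ, e⟩ := exists_character_of_mem_diagonal chevF4 hF4 F h hh
  obtain ⟨c, hc0, ec⟩ := exists_hProd_of_mem_diagonal chevF4 hF4 F h hh
  have h39 := diag_conj_xGL chevF4 hF4 F h χ hχ e 39 (by decide) 1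
  have h45 := diag_conj_xGL chevF4 hF4 F h χ hχ e 45 (by decide) 1
  have h2 : xf F 39 ((χ 39 : F) * 1) * xf F 45 ((χ 45 : F) * 1) = xf F 39 1 * xf F 45 1 := by
    unfold xf
    rw [← h39, ← h45]
    rw [T_v] at hhc
    unfold xf at hhc
    calc h * xGL chevF4 hF4 F 39 1 * h⁻¹ * (h * xGL chevF4 hF4 F 45 1 * h⁻¹)
        = h * (xGL chevF4 hF4 F 39 1 * xGL chevF4 hF4 F 45 1) * h⁻¹ := by group
      _ = xGL chevF4 hF4 F 39 1 * xGL chevF4 hF4 F 45 1 * h * h⁻¹ := by rw [hhc]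
      _ = xGL chevF4 hF4 F 39 1 * xGL chevF4 hF4 F 45 1 := by group
  obtain ⟨hχ39, hχ45⟩ := f4clcent_inj F _ _ h2
  rw [mul_one] at hχ39 hχ45
  have hr : chevF4.rank = 4 := by decide
  -- compare the diagonal entries
  have h3 : ∀ ρ (hρ : ρ < chevF4.nroots),
      (χ ρ : F) = ((List.range chevF4.rank).map fun i => c i ^ chevF4.cartan i ρ).prod := by
    intro ρ hρ
    have := congrFun (congrFun (e.symm.trans ec) (Sum.inr ⟨ρ, hρ⟩)) (Sum.inr ⟨ρ, hρ⟩)
    unfold ChevalleyDatum.charDiag hProd at this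
    simpa using this
  have e39 : ((List.range chevF4.rank).map fun i => c i ^ chevF4.cartan i 39).prod = (c 1)⁻¹ * c 2 := by
    have c0 : chevF4.cartan 0 39 = 0 := by decide
    have c1 : chevF4.cartan 1 39 = -1 := by decide
    have c2 : chevF4.cartan 2 39 = 1 := by decide
    have c3 : chevF4.cartan 3 39 = 0 := by decide
    rw [hr]
    simp [List.range_succ, c0, c1, c2, c3]
  have e45 : ((List.range chevF4.rank).map fun i => c i ^ chevF4.cartan i 45).prod = c 1 ^ 2 * (c 2)⁻¹ := by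
    have c0 : chevF4.cartan 0 45 = 0 := by decide
    have c1 : chevF4.cartan 1 45 = 2 := by decide
    have c2 : chevF4.cartan 2 45 = -1 := by decide
    have c3 : chevF4.cartan 3 45 = 0 := by decide
    rw [hr]
    simp [List.range_succ, c0, c1, c2, c3]
  have k39 : (c 1)⁻¹ * c 2 = 1 := by rw [← e39, ← h3 39 (by decide), hχ39]
  have k45 : c 1 ^ 2 * (c 2)⁻¹ = 1 := by rw [← e45, ← h3 45 (by decide), hχ45]
  have hc12 : c 2 = c 1 := by
    have := congrArg (fun z => c 1 * z) k39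
    beta_reduce at this
    rwa [← mul_assoc, mul_inv_cancel₀ (hc0 1), one_mul, mul_one] at this
  have hc1 : c 1 = 1 := by
    rw [hc12, pow_two, mul_assoc, mul_inv_cancel₀ (hc0 1), mul_one] at k45
    exact k45
  have hc2 : c 2 = 1 := by rw [hc12, hc1]
  -- `h` as a product
  have hprod : h = ((List.range chevF4.rank).map fun i => hGL chevF4 hF4 F (chevF4.simple i) (c i)).prod := by
    apply Units.ext
    rw [ec]
    have e1 : (Units.val ((List.range chevF4.rank).map fun i => hGL chevF4 hF4 F (chevF4.simple i) (c i)).prod :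
        Matrix chevF4.Idx chevF4.Idx F) =
        ((List.range chevF4.rank).map fun i => chevF4.hMat F (chevF4.simple i) (c i)).prod := by
      rw [units_val_list_prod', List.map_map]
      congr 1
    rw [e1, prod_hMat_simple chevF4 hF4 F c (fun i _ => hc0 i) chevF4.rank le_rfl]
    rfl
  rw [hprod]
  apply Subgroup.list_prod_mem
  intro z hz
  obtain ⟨i, hi, rfl⟩ := List.mem_map.1 hz
  have hi := List.mem_range.1 hi
  rw [hr] at hi
  have hone : ∀ j, j < chevF4.rank → c j = 1 → hGL chevF4 hF4 F (chevF4.simple j) (c j) ∈ f4clcent_K F := by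
    intro j hj hcj
    have : hGL chevF4 hF4 F (chevF4.simple j) (c j) = 1 := by
      apply Units.ext
      rw [hGL_coe, hcj,
        (hMat_all chevF4 hF4 _ (chkN2_spec chevF4 (chkN2_all chevF4 hF4) j hj).1 1 one_ne_zero).1, hDiag_one]
      rfl
    rw [this]
    exact one_mem _
  interval_cases i
  · have e6 : chevF4.simple 0 = 33 := by decide
    rw [e6]
    exact f4clcent_hGL_mem33 F (c 0)
  · exact hone 1 (by decide) hc1
  · exact hone 2 (by decide) hc2
  · have e6 : chevF4.simple 3 = 24 := by decide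
    rw [e6]
    exact f4clcent_hGL_mem24 F (c 3)

end Cfsg.Agent.Lib.Helper20.F4c
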