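import Mathlib
import Cfsg.Agent.Lib.Helper22.KbDefs

/-! # Kb hive (S1299), leaf KB-K4 (helper55): the norm argument

`M ≤ W` covered and `A`-invariant, `F ∈ ℱ`, `C_{⁅M,M⁆}(F) ≤ Y F`  ⟹  `C_M(F) ≤ Y F`. -/

set_option autoImplicit false

namespace Cfsg.Agent.Lib.Helper22.Kb

open Subgroup
open scoped commutatorElement

variable {G : Type*} [Group G]

variable {p : ℕ} {A W : Subgroup G} {ℱ : Set (Subgroup G)} {Y : Subgroup G → Subgroup G}

/-- the twisted action `q • w = y⁻¹ q y w q⁻¹` of `Q` on `D` -/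
@[reducible] def kbk4_action {Q D : Subgroup G}
    (hQD : Q ≤ normalizer (D : Set G)) (y : G) (hy : ∀ q ∈ Q, y⁻¹ * q * y * q⁻¹ ∈ D) :
    MulAction ↥Q ↥D where
  smul q w := ⟨y⁻¹ * (q : G) * y * (w : G) * (q : G)⁻¹, by
    have h1 : y⁻¹ * (q : G) * y * (q : G)⁻¹ ∈ D := hy q q.2
    have h2 : (q : G) * (w : G) * (q : G)⁻¹ ∈ D := (mem_normalizer_iff.1 (hQD q.2) (w : G)).1 w.2
    have e : y⁻¹ * (q : G) * y * (w : G) * (q : G)⁻¹ =
        (y⁻¹ * (q : G) * y * (q : G)⁻¹) * ((q : G) * (w : G) * (q : G)⁻¹) := by group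
    rw [e]
    exact mul_mem h1 h2⟩
  one_smul w := by
    apply Subtype.ext
    show y⁻¹ * ((1 : ↥Q) : G) * y * (w : G) * ((1 : ↥Q) : G)⁻¹ = (w : G)
    rw [Subgroup.coe_one]
    group
  mul_smul q₁ q₂ w := by
    apply Subtype.ext
    show y⁻¹ * ((q₁ * q₂ : ↥Q) : G) * y * (w : G) * ((q₁ * q₂ : ↥Q) : G)⁻¹ =
      y⁻¹ * (q₁ : G) * y * (y⁻¹ * (q₂ : G) * y * (w : G) * (q₂ : G)⁻¹) * (q₁ : G)⁻¹
    rw [Subgroup.coe_mul]
    group

/-- fixed point of the twisted action: some `y * w`, `w ∈ D`, centralizes the `p`-group `Q` -/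
theorem kbk4_exists_mul_mem_centralizer [Finite G] [Fact p.Prime] {Q D : Subgroup G}
    (hQ : IsPGroup p Q) (hD : ¬ p ∣ Nat.card D) (hQD : Q ≤ normalizer (D : Set G)) (y : G)
    (hy : ∀ q ∈ Q, y⁻¹ * q * y * q⁻¹ ∈ D) : ∃ w ∈ D, y * w ∈ centralizer (Q : Set G) := by
  letI : MulAction ↥Q ↥D := kbk4_action hQD y hy
  obtain ⟨w, hw⟩ := hQ.nonempty_fixed_point_of_prime_not_dvd_card ↥D hD
  refine ⟨(w : G), w.2, ?_⟩
  rw [mem_centralizer_iff]
  intro q hq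
  have h1 : (⟨q, hq⟩ : ↥Q) • w = w := hw ⟨q, hq⟩
  have h2 : y⁻¹ * q * y * (w : G) * q⁻¹ = (w : G) := congrArg Subtype.val h1
  calc q * (y * (w : G)) = y * (y⁻¹ * q * y * (w : G) * q⁻¹) * q := by group
    _ = y * (w : G) * q := by rw [h2]

/-- conjugation by `a ∈ N(M)` as an endomorphism of `↥M` -/
def kbk4_conj {M : Subgroup G} (a : G) (ha : a ∈ normalizer (M : Set G)) : ↥M →* ↥M where
  toFun m := ⟨a * (m : G) * a⁻¹, (mem_normalizer_iff.1 ha (m : G)).1 m.2⟩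
  map_one' := by
    apply Subtype.ext
    show a * ((1 : ↥M) : G) * a⁻¹ = ((1 : ↥M) : G)
    rw [Subgroup.coe_one]
    group
  map_mul' x y := by
    apply Subtype.ext
    show a * ((x * y : ↥M) : G) * a⁻¹ = (a * (x : G) * a⁻¹) * (a * (y : G) * a⁻¹)
    rw [Subgroup.coe_mul]
    group

theorem kbk4_conj_coe {M : Subgroup G} (a : G) (ha : a ∈ normalizer (M : Set G)) (m : ↥M) :
    ((kbk4_conj a ha m : ↥M) : G) = a * (m : G) * a⁻¹ := rfl

/-- membership in the kernel of the abelianization map of `↥M` -/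
theorem kbk4_ker {M : Subgroup G} (z : ↥M) :
    (Abelianization.of z : Abelianization ↥M) = 1 ↔ (z : G) ∈ ⁅M, M⁆ := by
  have hmap : (commutator ↥M).map M.subtype = ⁅M, M⁆ := by
    rw [commutator_def, map_commutator, ← MonoidHom.range_eq_map, M.range_subtype]
  rw [← MonoidHom.mem_ker, Abelianization.ker_of, ← hmap]
  constructor
  · intro hz
    exact ⟨z, hz, rfl⟩
  · rintro ⟨z', hz', e⟩
    have : z' = z := Subtype.ext e
    rwa [← this]

/-- normalizing two subgroups normalizes their intersection -/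
theorem kbk4_normalizer_inf {H K : Subgroup G} {a : G} (hH : a ∈ normalizer (H : Set G))
    (hK : a ∈ normalizer (K : Set G)) : a ∈ normalizer ((H ⊓ K : Subgroup G) : Set G) := by
  rw [mem_normalizer_iff] at hH hK ⊢
  intro g
  rw [mem_inf, mem_inf, hH g, hK g]

/-- LEAF KB-K4 (the norm argument). -/
theorem kb_step [Finite G] [Fact p.Prime] (h : KbSys p A W ℱ Y) {M : Subgroup G} (hMW : M ≤ W)
    (hM : M ≤ kbCov ℱ Y M) (hAM : A ≤ normalizer (M : Set G)) {F : Subgroup G} (hF : F ∈ ℱ)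
    (hIH : ⁅M, M⁆ ⊓ centralizer (F : Set G) ≤ Y F) : M ⊓ centralizer (F : Set G) ≤ Y F := by
  classical
  letI : Fintype ↥F := Fintype.ofFinite ↥F
  have hFA : F ≤ A := h.hFA F hF
  have hFM : F ≤ normalizer (M : Set G) := hFA.trans hAM
  have hFp : IsPGroup p F := h.hAp.to_le hFA
  have hFMM : F ≤ normalizer ((⁅M, M⁆ : Subgroup G) : Set G) := by
    have := kbSeries_normalizer (W := M) hFM 1
    exact this
  -- the homs
  let π : ↥M →* Abelianization ↥M := Abelianization.of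
  let c : ↥F → (↥M →* ↥M) := fun f => kbk4_conj (f : G) (hFM f.2)
  let ψ : ↥M →* Abelianization ↥M := ∏ f : ↥F, π.comp (c f)
  have hψ : ∀ m : ↥M, ψ m = ∏ f : ↥F, π (c f m) := by
    intro m
    show (∏ f : ↥F, π.comp (c f)) m = _
    rw [MonoidHom.finset_prod_apply]
    rfl
  have hcc : ∀ (f f' : ↥F) (m : ↥M), c f (c f' m) = c (f * f') m := by
    intro f f' m
    apply Subtype.ext
    show (f : G) * ((f' : G) * (m : G) * (f' : G)⁻¹) * (f : G)⁻¹ =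
      ((f * f' : ↥F) : G) * (m : G) * ((f * f' : ↥F) : G)⁻¹
    rw [Subgroup.coe_mul]
    group
  -- `ψ ∘ c f = ψ`
  have hψc : ∀ (f : ↥F) (m : ↥M), ψ (c f m) = ψ m := by
    intro f m
    rw [hψ, hψ]
    exact Fintype.prod_equiv (Equiv.mulRight f) _ _ (fun f' => by rw [hcc]; rfl)
  -- the target subgroup
  let Q : Subgroup (Abelianization ↥M) := ((M ⊓ Y F).subgroupOf M).map π
  -- (ii) generators go into `Q`
  have hgen : ∀ F' ∈ ℱ, ∀ m : ↥M, (m : G) ∈ Y F' → ψ m ∈ Q := by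
    intro F' hF' m hm
    have hFYF' : F ≤ normalizer (Y F' : Set G) := hFA.trans (h.hYA F' hF')
    -- the ordered product
    let L : List ↥F := (Finset.univ : Finset ↥F).toList
    let P : ↥M := (L.map fun f => c f m).prod
    have hπP : π P = ψ m := by
      show π (L.map fun f => c f m).prod = ψ m
      rw [map_list_prod, List.map_map, hψ]
      exact Finset.prod_map_toList Finset.univ (fun f : ↥F => π (c f m))
    have hPY : ∀ L' : List ↥F, (((L'.map fun f => c f m).prod : ↥M) : G) ∈ Y F' := by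
      intro L'
      induction L' with
      | nil => simp
      | cons f L' ih =>
        rw [List.map_cons, List.prod_cons, Subgroup.coe_mul]
        refine mul_mem ?_ ih
        rw [kbk4_conj_coe]
        exact (mem_normalizer_iff.1 (hFYF' f.2) (m : G)).1 hm
    have hPY' : (P : G) ∈ Y F' := hPY L
    -- the `p'`-group `D`
    let D : Subgroup G := M ⊓ Y F' ⊓ ⁅M, M⁆
    have hDW : D ≤ W := inf_le_left.trans (inf_le_left.trans hMW)
    have hDp : ¬ p ∣ Nat.card D := fun hd => h.hW (hd.trans (Subgroup.card_dvd_of_le hDW))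
    have hFD : F ≤ normalizer (D : Set G) := fun f hf =>
      kbk4_normalizer_inf (kbk4_normalizer_inf (hFM hf) (hFYF' hf)) (hFMM hf)
    have hy : ∀ f ∈ F, (P : G)⁻¹ * f * (P : G) * f⁻¹ ∈ D := by
      intro f hf
      have e : (P : G)⁻¹ * f * (P : G) * f⁻¹ = (P : G)⁻¹ * (f * (P : G) * f⁻¹) := by group
      rw [e]
      have h1 : f * (P : G) * f⁻¹ ∈ M := (mem_normalizer_iff.1 (hFM hf) (P : G)).1 P.2
      have h2 : f * (P : G) * f⁻¹ ∈ Y F' := (mem_normalizer_iff.1 (hFYF' hf) (P : G)).1 hPY'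
      refine mem_inf.2 ⟨mem_inf.2 ⟨mul_mem (inv_mem P.2) h1, mul_mem (inv_mem hPY') h2⟩, ?_⟩
      have hcP : π (c ⟨f, hf⟩ P) = π P := by
        rw [hπP, hψ]
        show π (c ⟨f, hf⟩ (L.map fun f' => c f' m).prod) = _
        rw [map_list_prod, map_list_prod, List.map_map, List.map_map]
        exact (Finset.prod_map_toList Finset.univ (fun f' : ↥F => π (c ⟨f, hf⟩ (c f' m)))).trans
          (Fintype.prod_equiv (Equiv.mulLeft (⟨f, hf⟩ : ↥F)) _ _ (fun f' => by rw [hcc]; rfl))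
      have h3 : π (P⁻¹ * c ⟨f, hf⟩ P) = 1 := by
        rw [map_mul, map_inv, hcP, inv_mul_cancel]
      have := (kbk4_ker (P⁻¹ * c ⟨f, hf⟩ P)).1 h3
      exact this
    obtain ⟨w, hwD, hwC⟩ := kbk4_exists_mul_mem_centralizer hFp hDp hFD (P : G) hy
    have hwM : w ∈ M := (mem_inf.1 (mem_inf.1 hwD).1).1
    have hwY : w ∈ Y F' := (mem_inf.1 (mem_inf.1 hwD).1).2
    have hwMM : w ∈ ⁅M, M⁆ := (mem_inf.1 hwD).2
    have hbYF : (P : G) * w ∈ Y F :=
      h.hcross F hF F' hF' (mem_inf.2 ⟨mul_mem hPY' hwY, hwC⟩)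
    have hπw : π ⟨w, hwM⟩ = 1 := (kbk4_ker ⟨w, hwM⟩).2 hwMM
    refine ⟨P * ⟨w, hwM⟩, ?_, ?_⟩
    · rw [SetLike.mem_coe, mem_subgroupOf]
      exact mem_inf.2 ⟨mul_mem P.2 hwM, hbYF⟩
    · rw [map_mul, hπw, mul_one, hπP]
  -- (iii) everything goes into `Q`
  have hall : ∀ z : ↥M, ψ z ∈ Q := by
    intro z
    have hz : (z : G) ∈ kbCov ℱ Y M := hM z.2
    unfold kbCov at hz
    rw [iSup_subtype'] at hz
    have key : ∃ hg : (z : G) ∈ M, ψ ⟨(z : G), hg⟩ ∈ Q := by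
      refine Subgroup.iSup_induction (fun F' : ↥ℱ => M ⊓ Y (F' : Subgroup G))
        (C := fun g => ∃ hg : g ∈ M, ψ ⟨g, hg⟩ ∈ Q) hz ?_ ?_ ?_
      · intro F' g hg
        exact ⟨(mem_inf.1 hg).1, hgen F' F'.2 ⟨g, (mem_inf.1 hg).1⟩ (mem_inf.1 hg).2⟩
      · refine ⟨M.one_mem, ?_⟩
        have : (⟨1, M.one_mem⟩ : ↥M) = 1 := rfl
        rw [this, map_one]
        exact one_mem _
      · rintro x y ⟨hx, hx'⟩ ⟨hy, hy'⟩
        refine ⟨mul_mem hx hy, ?_⟩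
        have : (⟨x * y, mul_mem hx hy⟩ : ↥M) = ⟨x, hx⟩ * ⟨y, hy⟩ := rfl
        rw [this, map_mul]
        exact mul_mem hx' hy'
    obtain ⟨_, hq⟩ := key
    exact hq
  -- (iv) the final argument
  intro x hx
  obtain ⟨hxM, hxC⟩ := mem_inf.1 hx
  have hfix : ∀ f : ↥F, c f ⟨x, hxM⟩ = ⟨x, hxM⟩ := by
    intro f
    apply Subtype.ext
    show (f : G) * x * (f : G)⁻¹ = x
    have := (mem_centralizer_iff.1 hxC) (f : G) f.2
    rw [this]
    group
  have hψx : ψ ⟨x, hxM⟩ = π ⟨x, hxM⟩ ^ Fintype.card ↥F := by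
    rw [hψ]
    simp_rw [hfix]
    rw [Finset.prod_const, Finset.card_univ]
  obtain ⟨j, hj⟩ := IsPGroup.iff_card.1 hFp
  have hcop : (Fintype.card ↥F).Coprime (orderOf (π ⟨x, hxM⟩)) := by
    rw [← Nat.card_eq_fintype_card, hj]
    apply Nat.Coprime.pow_left
    rw [Nat.Prime.coprime_iff_not_dvd (Fact.out : p.Prime)]
    intro hd
    apply h.hW
    have h1 : orderOf (π ⟨x, hxM⟩) ∣ orderOf (⟨x, hxM⟩ : ↥M) := orderOf_map_dvd π _
    have h2 : orderOf (⟨x, hxM⟩ : ↥M) ∣ Nat.card ↥M := orderOf_dvd_natCard _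
    exact hd.trans (h1.trans (h2.trans (Subgroup.card_dvd_of_le hMW)))
  obtain ⟨k, hk⟩ := exists_pow_eq_self_of_coprime hcop
  have hπx : π ⟨x, hxM⟩ ∈ Q := by
    rw [← hk, ← hψx]
    exact pow_mem (hall _) k
  obtain ⟨yM, hyQ, hyπ⟩ := hπx
  rw [SetLike.mem_coe, mem_subgroupOf] at hyQ
  have hyY : (yM : G) ∈ Y F := (mem_inf.1 hyQ).2
  have hg1 : π (yM⁻¹ * ⟨x, hxM⟩) = 1 := by
    rw [map_mul, map_inv, hyπ, inv_mul_cancel]
  have hgMM : ((yM⁻¹ * ⟨x, hxM⟩ : ↥M) : G) ∈ ⁅M, M⁆ := (kbk4_ker _).1 hg1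
  have hgC : ((yM⁻¹ * ⟨x, hxM⟩ : ↥M) : G) ∈ centralizer (F : Set G) := by
    show (yM : G)⁻¹ * x ∈ centralizer (F : Set G)
    exact mul_mem (inv_mem (h.hYC F hF hyY)) hxC
  have hgY := hIH (mem_inf.2 ⟨hgMM, hgC⟩)
  have e : x = (yM : G) * ((yM⁻¹ * ⟨x, hxM⟩ : ↥M) : G) := by
    show x = (yM : G) * ((yM : G)⁻¹ * x)
    group
  rw [e]
  exact mul_mem hyY hgY

end Cfsg.Agent.Lib.Helper22.Kb
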