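import Mathlib
import Cfsg.Agent.Lib.Helper23.PComponent

/-! # Lb hive (S1301), leaf LB-INV (helper55)

A nontrivial group generated by its 2-elements contains an involution. -/

set_option autoImplicit false

namespace Cfsg.Agent.Lib.Helper22.Lb

open Subgroup Cfsg
open Cfsg.Agent.Lib.Helper23 (pUp pUp_le mem_pUp_of_pow)

/-- LEAF LB-INV: a nontrivial group generated by its 2-elements contains an involution. -/
theorem exists_involution_of_pUp {X : Type*} [Group X] [Finite X] (I : Subgroup X)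
    (hgen : pUp 2 I = I) (hI : I ≠ ⊥) : ∃ u ∈ I, orderOf u = 2 := by
  -- some generator is nontrivial
  have h1 : ∃ g : X, g ∈ I ∧ (∃ n : ℕ, g ^ 2 ^ n = 1) ∧ g ≠ 1 := by
    by_contra hcon
    push_neg at hcon
    apply hI
    rw [← hgen]
    unfold Cfsg.Agent.Lib.Helper23.pUp
    rw [Subgroup.closure_eq_bot_iff]
    intro g hg
    exact hcon g hg.1 hg.2
  obtain ⟨g, hgI, ⟨n, hn⟩, hg1⟩ := h1
  obtain ⟨k, hk, hord⟩ := (Nat.dvd_prime_pow Nat.prime_two).1 (orderOf_dvd_of_pow_eq_one hn)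
  have hk0 : k ≠ 0 := by
    rintro rfl
    rw [pow_zero, orderOf_eq_one_iff] at hord
    exact hg1 hord
  obtain ⟨j, rfl⟩ := Nat.exists_eq_succ_of_ne_zero hk0
  refine ⟨g ^ 2 ^ j, I.pow_mem hgI _, ?_⟩
  rw [orderOf_pow' _ (by positivity), hord, Nat.gcd_eq_right (pow_dvd_pow 2 (Nat.le_succ j)),
    pow_succ, Nat.mul_div_cancel_left _ (by positivity)]

end Cfsg.Agent.Lib.Helper22.Lb
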