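import Mathlib
import Cfsg.Prelude.Def_CaseTheorems
import Cfsg.Prelude.Def_TwoFusion

/-!
# Glauberman's Z*-theorem: the induction predicate

`ZSProp H` says that every isolated involution of `H` is central modulo the odd core `O(H)`.
-/

set_option autoImplicit false

namespace Cfsg.Agent.Lib.Helper55

universe u

/-- Every isolated involution of `H` is central modulo the odd core of `H`. -/
def ZSProp (H : Type u) [Group H] : Prop :=
  ∀ z : H, Cfsg.IsIsolatedInvolution z → ∀ h : H, z * h * z⁻¹ * h⁻¹ ∈ Cfsg.oddCore H

end Cfsg.Agent.Lib.Helper55
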