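import Cfsg.Agent.S0942
import Cfsg.Agent.S0943
import Cfsg.Agent.Lib.Helper77.StrongOrth
import Cfsg.Agent.Lib.Helper81.OneIrr
import Cfsg.Agent.Lib.Helper79.Basic
import Cfsg.Agent.Lib.Helper74.Osima5
import Cfsg.Agent.Lib.Helper55.ZStarDefs

/-!
# Glauberman's Z*-theorem: the character-theoretic step

Let `x` be an isolated involution and `y ≠ x` an involution commuting with `x`. If all the
products `x^g * y` (and `x^g * (x * y)`) are of the shape `z * v` with `z` conjugate to `x * y`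
(resp. to `y`) and `v ∈ O(C_G(z))`, then the principal `2`-block contains a nonprincipal
irreducible character with `x` in its kernel.
-/

set_option autoImplicit false

namespace Cfsg.Agent.Lib.Helper55

open Cfsg Cfsg.Agent.Lib.Helper77 Cfsg.Agent.Lib.Helper81
open scoped ComplexConjugate

universe u

section ZStarChar

variable {G : Type u} [Group G]

/-- The product condition used for the class-product lemma: every `x^g * y` is `z * v` with
`z` conjugate to `x * y` and `v ∈ O(C_G(z))`. -/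
def ZSProd (x y : G) : Prop :=
  ∀ g : G, ∃ z v : G, g * x * g⁻¹ * y = z * v ∧ IsConj (x * y) z ∧
    v ∈ Cfsg.centralizerPPrimeCore 2 z

theorem zs_orderOf_of_isConj {a b : G} (h : IsConj a b) : orderOf b = orderOf a := by
  obtain ⟨c, rfl⟩ := isConj_iff.1 h
  have := orderOf_injective (MulAut.conj c).toMonoidHom (MulAut.conj c).injective a
  simpa using this

theorem zs_mul_self {z : G} (hz : orderOf z = 2) : z * z = 1 := by
  have := pow_orderOf_eq_one z
  rwa [hz, pow_two] at this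

theorem zs_orderOf_mul {x y : G} (hx : orderOf x = 2) (hy : orderOf y = 2) (hc : Commute x y)
    (hne : y ≠ x) : orderOf (x * y) = 2 := by
  have h1 : (x * y) ^ 2 = 1 := by
    rw [hc.mul_pow, pow_two, pow_two, zs_mul_self hx, zs_mul_self hy, one_mul]
  have h2 : x * y ≠ 1 := by
    intro h
    apply hne
    have : y = x⁻¹ := (eq_inv_of_mul_eq_one_right h)
    rw [this]
    exact inv_eq_of_mul_eq_one_left (zs_mul_self hx)
  exact orderOf_eq_prime h1 h2

variable [Finite G]

/-- The class-product identity for principal block characters. -/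
theorem zs_char_mul {M : Ideal AlgInt} (hM : IsPModular 2 M) {x y : G} (hx : orderOf x = 2)
    (hy : orderOf y = 2) (hc : Commute x y) (hne : y ≠ x) (hprod : ZSProd x y)
    (χ : IrrCharacter G) (hχ : χ ∈ principalBlock M G) :
    (χ : G → ℂ) x * (χ : G → ℂ) y = (χ : G → ℂ) 1 * (χ : G → ℂ) (x * y) := by
  haveI : Fact (Nat.Prime 2) := ⟨Nat.prime_two⟩
  have hχcf : IsClassFunction G (χ : G → ℂ) :=
    Cfsg.Agent.Lib.Helper3.IsCharacter.isClassFunction
      (Cfsg.Agent.Lib.Helper3.IsIrrCharacter.isCharacter χ.2)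
  apply Cfsg.Agent.S0943.result χ x y
  intro a b ha hb
  obtain ⟨c, rfl⟩ := isConj_iff.1 ha
  obtain ⟨d, rfl⟩ := isConj_iff.1 hb
  obtain ⟨z, v, hzv, hconj, hv⟩ := hprod (d⁻¹ * c)
  have h1 : c * x * c⁻¹ * (d * y * d⁻¹) = d * ((d⁻¹ * c) * x * (d⁻¹ * c)⁻¹ * y) * d⁻¹ := by
    group
  rw [h1, hχcf, hzv]
  have hz2 : orderOf z = 2 := by
    rw [zs_orderOf_of_isConj hconj]
    exact zs_orderOf_mul hx hy hc hne
  rw [Cfsg.Agent.S0942.result 2 M hM z ⟨1, by rw [hz2, pow_one]⟩ v hv χ hχ]
  obtain ⟨e, rfl⟩ := isConj_iff.1 hconj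
  exact hχcf _ _

/-- The character-theoretic step of the Z*-theorem. -/
theorem zs_exists_char {M : Ideal AlgInt} (hM : IsPModular 2 M) {x y : G}
    (hx : IsIsolatedInvolution x) (hy : orderOf y = 2) (hc : Commute x y) (hne : y ≠ x)
    (hprod : ZSProd x y) (hprod' : ZSProd x (x * y)) :
    ∃ χ : IrrCharacter G, χ ≠ oneIrr G ∧ (χ : G → ℂ) x = (χ : G → ℂ) 1 := by
  classical
  haveI : Fact (Nat.Prime 2) := ⟨Nat.prime_two⟩
  haveI := Fintype.ofFinite G
  haveI := Fintype.ofFinite (IrrCharacter G)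
  have hMp : M.IsPrime := isPrime_of_isPModular hM
  have hx2 : orderOf x = 2 := hx.1
  have hxy2 : orderOf (x * y) = 2 := zs_orderOf_mul hx2 hy hc hne
  have hc' : Commute x (x * y) := (Commute.refl x).mul_right hc
  have hne' : x * y ≠ x := by
    intro h
    have : y = 1 := by simpa using h
    rw [this, orderOf_one] at hy
    exact absurd hy (by norm_num)
  have hxxy : x * (x * y) = y := by rw [← mul_assoc, zs_mul_self hx2, one_mul]
  -- the parts
  have hPx : IsPPart 2 x x := ⟨1, mul_one x, Commute.one_right x, ⟨1, by rw [hx2, pow_one]⟩,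
    by rw [orderOf_one]; norm_num⟩
  have hPy : IsPPart 2 y y := ⟨1, mul_one y, Commute.one_right y, ⟨1, by rw [hy, pow_one]⟩,
    by rw [orderOf_one]; norm_num⟩
  have hP1 : IsPPart 2 (1 : G) 1 := ⟨1, mul_one 1, Commute.one_right 1,
    ⟨0, by rw [orderOf_one, pow_zero]⟩, by rw [orderOf_one]; norm_num⟩
  have hncxy : ¬ IsConj x y := by
    intro h
    obtain ⟨c, rfl⟩ := isConj_iff.1 h
    exact hne (hx.2 c hc)
  have hnc1y : ¬ IsConj (1 : G) y := by
    intro h
    obtain ⟨c, rfl⟩ := isConj_iff.1 h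
    rw [mul_one, mul_inv_cancel, orderOf_one] at hy
    exact absurd hy (by norm_num)
  have hO1 := IdemTrace.strong_block_orthogonality_finset (M := M) hM (oneIrr G) hPx hPy hncxy
  have hO2 := IdemTrace.strong_block_orthogonality_finset (M := M) hM (oneIrr G) hP1 hPy hnc1y
  by_contra hcon
  push Not at hcon
  have hsum : ∑ χ ∈ Finset.univ.filter (fun χ : IrrCharacter G =>
      χ ∈ blockOf M ((oneIrr G : IrrCharacter G) : G → ℂ)),
      ((χ : G → ℂ) x + (χ : G → ℂ) 1) * conj ((χ : G → ℂ) y) = 0 := by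
    simp_rw [add_mul]
    rw [Finset.sum_add_distrib, hO1, hO2, add_zero]
  have hmem0 : oneIrr G ∈ Finset.univ.filter (fun χ : IrrCharacter G =>
      χ ∈ blockOf M ((oneIrr G : IrrCharacter G) : G → ℂ)) := by
    rw [Finset.mem_filter]
    exact ⟨Finset.mem_univ _, oneIrr_mem_principalBlock hMp⟩
  rw [Finset.sum_eq_single_of_mem (oneIrr G) hmem0] at hsum
  · simp only [oneIrr_apply, map_one, mul_one] at hsum
    norm_num at hsum
  · intro χ hχ hχ1
    rw [Finset.mem_filter] at hχ
    have hχB : χ ∈ principalBlock M G := hχ.2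
    have hne1 := hcon χ hχ1
    have e1 := zs_char_mul hM hx2 hy hc hne hprod χ hχB
    have e2 := zs_char_mul hM hx2 hxy2 hc' hne' hprod' χ hχB
    rw [hxxy] at e2
    set a := (χ : G → ℂ) x
    set b := (χ : G → ℂ) y
    set c := (χ : G → ℂ) (x * y)
    set d := (χ : G → ℂ) 1
    have hsub : a - d ≠ 0 := sub_ne_zero.mpr hne1
    have key : (a - d) * ((a + d) * b) = 0 := by
      calc (a - d) * ((a + d) * b) = a * (a * b) - d * (d * b) := by ring
        _ = a * (d * c) - d * (a * c) := by rw [e1, e2]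
        _ = 0 := by ring
    have h0 : (a + d) * b = 0 := (mul_eq_zero.mp key).resolve_left hsub
    rcases mul_eq_zero.mp h0 with h | h
    · rw [h, zero_mul]
    · rw [h, map_zero, mul_zero]

/-- A nonprincipal irreducible character has a proper kernel. -/
theorem zs_charKer_ne_top (χ : IrrCharacter G) (hχ : χ ≠ oneIrr G) :
    Cfsg.Agent.Lib.Helper79.charKer (Cfsg.Agent.Lib.Helper3.IsIrrCharacter.isCharacter χ.2) ≠ ⊤ := by
  classical
  haveI := Fintype.ofFinite G
  intro htop
  have hall : ∀ g : G, (χ : G → ℂ) g = (χ : G → ℂ) 1 := by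
    intro g
    rw [← Cfsg.Agent.Lib.Helper79.mem_charKer
      (Cfsg.Agent.Lib.Helper3.IsIrrCharacter.isCharacter χ.2), htop]
    exact Subgroup.mem_top g
  have hne : (χ : G → ℂ) ≠ fun _ => (1 : ℂ) := fun h => hχ (Subtype.ext h)
  have hs := irr_sum_eq_zero_of_ne_one χ hne
  simp_rw [hall] at hs
  rw [Finset.sum_const, Finset.card_univ, nsmul_eq_mul] at hs
  rcases mul_eq_zero.mp hs with h | h
  · have : (Fintype.card G : ℂ) ≠ 0 := by exact_mod_cast Fintype.card_ne_zero
    exact this h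
  · exact irr_apply_one_ne_zero χ h

/-- The character-theoretic step of the Z*-theorem, packaged: a proper normal subgroup
containing the isolated involution `x`. -/
theorem cf_step {x y : G} (hx : Cfsg.IsIsolatedInvolution x) (hy : orderOf y = 2)
    (hxy : Commute x y) (hne : y ≠ x)
    (h1 : ∀ g : G, ∃ z v : G, g * x * g⁻¹ * y = z * v ∧ orderOf z = 2 ∧ IsConj z (x * y) ∧
      v ∈ Cfsg.centralizerPPrimeCore 2 z)
    (h2 : ∀ g : G, ∃ z v : G, g * x * g⁻¹ * (x * y) = z * v ∧ orderOf z = 2 ∧ IsConj z y ∧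
      v ∈ Cfsg.centralizerPPrimeCore 2 z) :
    ∃ N : Subgroup G, N.Normal ∧ N ≠ ⊤ ∧ x ∈ N := by
  obtain ⟨M, hM⟩ := Cfsg.Agent.Lib.Helper74.exists_isPModular Nat.prime_two
  have hxxy : x * (x * y) = y := by rw [← mul_assoc, zs_mul_self hx.1, one_mul]
  have hp1 : ZSProd x y := by
    intro g
    obtain ⟨z, v, e, _, hc, hv⟩ := h1 g
    exact ⟨z, v, e, hc.symm, hv⟩
  have hp2 : ZSProd x (x * y) := by
    intro g
    obtain ⟨z, v, e, _, hc, hv⟩ := h2 g
    refine ⟨z, v, e, ?_, hv⟩
    rw [hxxy]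
    exact hc.symm
  obtain ⟨χ, hχ1, hχx⟩ := zs_exists_char hM hx hy hxy hne hp1 hp2
  refine ⟨Cfsg.Agent.Lib.Helper79.charKer
    (Cfsg.Agent.Lib.Helper3.IsIrrCharacter.isCharacter χ.2), inferInstance,
    zs_charKer_ne_top χ hχ1, ?_⟩
  rw [Cfsg.Agent.Lib.Helper79.mem_charKer]
  exact hχx

end ZStarChar

end Cfsg.Agent.Lib.Helper55
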