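import Mathlib
import Cfsg.Agent.Lib.Helper22.LBalS

/-! # Lb hive (S1301), sub-leaf LB-J1C of LB-J1 (helper55)

If `y` centralizes the `p`-group `Q` modulo a `p'`-group `W` normalized by `Q`, then some `y * w`, `w ∈ W`,
centralizes `Q` (fixed point of a twisted action; no Sylow theory). -/

set_option autoImplicit false

namespace Cfsg.Agent.Lib.Helper22.Lb

open Subgroup Cfsg
open scoped commutatorElement

/-- the twisted action `q • w = y⁻¹ q y w q⁻¹` of `Q` on `W` -/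
@[reducible] def lbj1c_action {G : Type*} [Group G] {Q W : Subgroup G}
    (hQW : Q ≤ normalizer (W : Set G)) (y : G) (hy : ∀ q ∈ Q, y⁻¹ * q * y * q⁻¹ ∈ W) :
    MulAction ↥Q ↥W where
  smul q w := ⟨y⁻¹ * (q : G) * y * (w : G) * (q : G)⁻¹, by
    have h1 : y⁻¹ * (q : G) * y * (q : G)⁻¹ ∈ W := hy q q.2
    have h2 : (q : G) * (w : G) * (q : G)⁻¹ ∈ W := (mem_normalizer_iff.1 (hQW q.2) (w : G)).1 w.2
    have e : y⁻¹ * (q : G) * y * (w : G) * (q : G)⁻¹ =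
        (y⁻¹ * (q : G) * y * (q : G)⁻¹) * ((q : G) * (w : G) * (q : G)⁻¹) := by group
    rw [e]
    exact mul_mem h1 h2⟩
  one_smul w := by
    apply Subtype.ext
    show y⁻¹ * ((1 : ↥Q) : G) * y * (w : G) * ((1 : ↥Q) : G)⁻¹ = (w : G)
    rw [Subgroup.coe_one]
    group
  mul_smul q₁ q₂ w := by
    apply Subtype.ext
    show y⁻¹ * ((q₁ * q₂ : ↥Q) : G) * y * (w : G) * ((q₁ * q₂ : ↥Q) : G)⁻¹ =
      y⁻¹ * (q₁ : G) * y * (y⁻¹ * (q₂ : G) * y * (w : G) * (q₂ : G)⁻¹) * (q₁ : G)⁻¹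
    rw [Subgroup.coe_mul]
    group

/-- LB-J1C -/
theorem lbj1_exists_mul_mem_centralizer {G : Type*} [Group G] [Finite G] {p : ℕ} [Fact p.Prime]
    {Q W : Subgroup G} (hQ : IsPGroup p Q) (hW : (Nat.card W).Coprime p)
    (hQW : Q ≤ normalizer (W : Set G)) (y : G) (hy : ∀ q ∈ Q, y⁻¹ * q * y * q⁻¹ ∈ W) :
    ∃ w ∈ W, y * w ∈ centralizer (Q : Set G) := by
  letI : MulAction ↥Q ↥W := lbj1c_action hQW y hy
  have hp : ¬ p ∣ Nat.card ↥W := by
    intro hdvd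
    have h1 : p ∣ Nat.gcd (Nat.card ↥W) p := Nat.dvd_gcd hdvd dvd_rfl
    rw [Nat.Coprime] at hW
    rw [hW] at h1
    exact (Fact.out : p.Prime).one_lt.ne' (Nat.dvd_one.1 h1)
  obtain ⟨w, hw⟩ := hQ.nonempty_fixed_point_of_prime_not_dvd_card ↥W hp
  refine ⟨(w : G), w.2, ?_⟩
  rw [mem_centralizer_iff]
  intro q hq
  have h1 : (⟨q, hq⟩ : ↥Q) • w = w := hw ⟨q, hq⟩
  have h2 : y⁻¹ * q * y * (w : G) * q⁻¹ = (w : G) := congrArg Subtype.val h1
  calc q * (y * (w : G)) = y * (y⁻¹ * q * y * (w : G) * q⁻¹) * q := by group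
    _ = y * (w : G) * q := by rw [h2]

end Cfsg.Agent.Lib.Helper22.Lb
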