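import Mathlib
import Cfsg.Agent.Lib.Helper90.PsuDefs
set_option autoImplicit false

/-! PSU-QR leaf of helper90's Psu hive (S2412): the six `qr_*` lemmas on quasi-reflections. -/

namespace Cfsg.Agent.Lib.Helper90.Psu
open Matrix Cfsg.Agent.Lib.Helper99 Cfsg.Agent.Lib.Helper13
variable {F : Type*} [Field F] [Fintype F] {q n : ℕ}
local notation "hh" => Cfsg.hermForm n F q

theorem qr_aux_ne {b : Fin n → F} (hb : hh b b ≠ 0) {ν : F} (hν : ν ≠ 0) :
    1 + (fun j => ((ν - 1) / hh b b) * (b j) ^ q) ⬝ᵥ b ≠ 0 := by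
  rw [utv_dot]
  have : 1 + (ν - 1) / hh b b * hh b b = ν := by
    field_simp
    ring
  rw [this]
  exact hν

/-- PSU-QR (quasi-reflections; `qr q b ν = rk1GL b _`, use `coe_rk1GL`, `rk1_mulVec`, `det_rk1`
from helper99 SubspaceMax with `1 + ((ν-1)/hh b b) * hh b b = ν ≠ 0`). -/
theorem qr_mulVec {b : Fin n → F} (hb : hh b b ≠ 0) {ν : F} (hν : ν ≠ 0) (x : Fin n → F) :
    ((qr q b ν : GL (Fin n) F) : Matrix (Fin n) (Fin n) F) *ᵥ x =
      x + (((ν - 1) / hh b b) * hh x b) • b := by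
  unfold qr utv
  rw [coe_rk1GL _ _ (qr_aux_ne hb hν), rk1_mulVec, utv_dot]

/-- PSU-QR -/
theorem qr_mem_GU (hF : Fintype.card F = q ^ 2) {b : Fin n → F} (hb : hh b b ≠ 0) {ν : F}
    (hν : ν ^ (q + 1) = 1) : qr q b ν ∈ Cfsg.GU n F q := by
  have hν0 : ν ≠ 0 := by
    rintro rfl
    rw [zero_pow (Nat.succ_ne_zero q)] at hν
    exact zero_ne_one hν
  rw [Helper13.mem_GU_iff]
  intro x y
  rw [qr_mulVec hb hν0, qr_mulVec hb hν0]
  rw [Helper13.hermForm_add_left, Helper13.hermForm_add_right hF, Helper13.hermForm_add_right hF,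
    Helper13.hermForm_smul_left, Helper13.hermForm_smul_left, Helper13.hermForm_smul_right,
    Helper13.hermForm_smul_right, mul_pow, Helper13.hermForm_conj hF n y b]
  have hN : (hh b b) ^ q = hh b b := Helper13.hermForm_conj hF n b b
  have hc : ((ν - 1) / hh b b) ^ q = (ν ^ q - 1) / hh b b := by
    rw [div_pow, frob_sub hF, one_pow, hN]
  rw [hc]
  have hνq : ν ^ q * ν = 1 := by rw [← pow_succ]; exact hν
  field_simp
  ring_nf
  linear_combination (hh x b * hh b y) * hνq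

/-- PSU-QR -/
theorem qr_det {b : Fin n → F} (hb : hh b b ≠ 0) {ν : F} (hν : ν ≠ 0) :
    ((qr q b ν : GL (Fin n) F) : Matrix (Fin n) (Fin n) F).det = ν := by
  unfold qr utv
  rw [coe_rk1GL _ _ (qr_aux_ne hb hν), det_rk1, utv_dot]
  field_simp
  ring

theorem qr_aux_mul {b : Fin n → F} (hb : hh b b ≠ 0) {ν ν' : F} (hν : ν ≠ 0) (hν' : ν' ≠ 0) :
    qr q b ν * qr q b ν' = qr q b (ν * ν') := by
  apply Units.ext
  rw [Matrix.ext_iff_mulVec]
  intro x
  rw [Units.val_mul, ← mulVec_mulVec, qr_mulVec hb hν', qr_mulVec hb hν,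
    qr_mulVec hb (mul_ne_zero hν hν'), Helper13.hermForm_add_left, Helper13.hermForm_smul_left,
    add_assoc, ← add_smul]
  congr 2
  field_simp
  ring

/-- PSU-QR -/
theorem qr_one (b : Fin n → F) : qr q b (1 : F) = 1 := by
  unfold qr utv
  apply Units.ext
  have h0 : (fun j => ((1 : F) - 1) / hh b b * (b j) ^ q) = 0 := by
    funext j
    simp
  rw [h0, coe_rk1GL _ _ (by rw [zero_dotProduct, add_zero]; exact one_ne_zero)]
  unfold rk1
  rw [Units.val_one]
  ext i j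
  simp [vecMulVec_apply]

/-- PSU-QR -/
theorem qr_pow (hF : Fintype.card F = q ^ 2) {b : Fin n → F} (hb : hh b b ≠ 0) {ν : F} (hν : ν ≠ 0)
    (j : ℕ) : qr q b ν ^ j = qr q b (ν ^ j) := by
  induction j with
  | zero => rw [pow_zero, pow_zero, qr_one]
  | succ j ih => rw [pow_succ, ih, qr_aux_mul hb (pow_ne_zero j hν) hν, pow_succ]

/-- PSU-QR -/
theorem qr_comm (hF : Fintype.card F = q ^ 2) {b b' : Fin n → F} (hb : hh b b ≠ 0)
    (hb' : hh b' b' ≠ 0) (hbb' : hh b b' = 0) {ν ν' : F} (hν : ν ≠ 0) (hν' : ν' ≠ 0) :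
    qr q b ν * qr q b' ν' = qr q b' ν' * qr q b ν := by
  have hb'b : hh b' b = 0 := hermForm_eq_zero_comm hF hbb'
  apply Units.ext
  rw [Matrix.ext_iff_mulVec]
  intro x
  rw [Units.val_mul, Units.val_mul, ← mulVec_mulVec, ← mulVec_mulVec, qr_mulVec hb' hν',
    qr_mulVec hb hν, qr_mulVec hb hν, qr_mulVec hb' hν', Helper13.hermForm_add_left,
    Helper13.hermForm_add_left, Helper13.hermForm_smul_left, Helper13.hermForm_smul_left,
    hbb', hb'b, mul_zero, mul_zero, add_zero, add_zero]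
  abel

end Cfsg.Agent.Lib.Helper90.Psu
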