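import Mathlib
import Cfsg.Prelude.Def_Classical
import Cfsg.Prelude.Def_LieClassical
import Cfsg.Agent.Lib.Helper14.TuDefs

/-! # S5953 hive ("Tu"), leaves TU-SS and TU-PERP -/

set_option autoImplicit false

namespace Cfsg.Agent.Lib.Helper14.Tu

open Cfsg.Agent.Lib.Helper40.Herm Cfsg.Agent.Lib.Helper2.BG Polynomial Module

section abs
variable {F : Type*} [Field F] [Fintype F] {q : ℕ} {hF : Fintype.card F = q ^ 2}
  {V : Type*} [AddCommGroup V] [Module F V] [FiniteDimensional F V]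
  {H : V →ₗ[F] V →ₛₗ[tauHom hF] F} {g : Module.End F V} {N : ℕ}

/-- TU-SS. -/
theorem Ctx.isSemisimple (hc : Ctx hF H g N) : g.IsSemisimple :=
  Cfsg.Agent.Lib.Helper40.Symp.isSemisimple_of_pow_eq_one hc.ne hc.pow

/-- TU-PERP. -/
theorem perp_facts (hc : Ctx hF H g N) {Z Y : Submodule F V} (hZi : Inv g Z) (hZ : HNondegOn H Z)
    (hYi : Inv g Y) (hYZ : Y ≤ Z) :
    Inv g (Z ⊓ hperp H Y) ∧ finrank F ↥(Z ⊓ hperp H Y) + finrank F ↥Y = finrank F ↥Z := by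
  have hPi : Inv g (Z ⊓ hperp H Y) :=
    hZi.inf (hperp_invt hc.inv hc.pos hc.pow Y hYi)
  refine ⟨hPi, ?_⟩
  obtain ⟨T, hTi, hTZ, hdisj, hsup, hfr⟩ :=
    exists_inv_compl_in hc.isSemisimple hPi hZi (inf_le_left : Z ⊓ hperp H Y ≤ Z)
  have h1 : ∀ u ∈ T, (∀ w ∈ Y, H u w = 0) → u = 0 := by
    intro u hu h
    have : u ∈ (Z ⊓ hperp H Y) ⊓ T := ⟨⟨hTZ hu, h⟩, hu⟩
    rw [disjoint_iff.mp hdisj] at this
    exact (Submodule.mem_bot F).mp this
  have h2 : ∀ w ∈ Y, (∀ u ∈ T, H u w = 0) → w = 0 := by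
    intro w hw h
    apply hZ w (hYZ hw)
    intro z hz
    apply herm_swap hc.herm
    rw [← hsup] at hz
    obtain ⟨p, hp, t, ht, rfl⟩ := Submodule.mem_sup.mp hz
    rw [map_add, LinearMap.add_apply, hp.2 w hw, h t ht, add_zero]
  have h3 : finrank F ↥T = finrank F ↥Y := finrank_eq_of_perfect hc.herm Y T h1 h2
  omega

end abs

end Cfsg.Agent.Lib.Helper14.Tu
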