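import Mathlib
import Cfsg.Prelude.Def_Classical
import Cfsg.Prelude.Def_LieClassical
import Cfsg.Agent.Lib.Helper14.TuDefs
import Cfsg.Agent.Lib.Helper55.TuSS

/-! # S5953 hive ("Tu"), leaves TU-PEEL and TU-SPLIT -/

set_option autoImplicit false

namespace Cfsg.Agent.Lib.Helper14.Tu

open Cfsg.Agent.Lib.Helper40.Herm Cfsg.Agent.Lib.Helper2.BG Polynomial Module

section abs
variable {F : Type*} [Field F] [Fintype F] {q : ℕ} {hF : Fintype.card F = q ^ 2}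
  {V : Type*} [AddCommGroup V] [Module F V] [FiniteDimensional F V]
  {H : V →ₗ[F] V →ₛₗ[tauHom hF] F} {g : Module.End F V} {N : ℕ}

/-- TU-PEEL. -/
theorem peel (hc : Ctx hF H g N) {Z Y : Submodule F V} (hZi : Inv g Z) (hZ : HNondegOn H Z)
    (hYi : Inv g Y) (hYZ : Y ≤ Z) (hY : HIsotropic H Y) :
    ∃ Z' : Submodule F V, Inv g Z' ∧ Z' ≤ Z ∧ HNondegOn H Z' ∧ (∀ y ∈ Y, ∀ z ∈ Z', H y z = 0) ∧
      Disjoint Y Z' ∧ finrank F ↥Z' + 2 * finrank F ↥Y = finrank F ↥Z := by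
  obtain ⟨hMi, hMfr⟩ := perp_facts hc hZi hZ hYi hYZ
  set M : Submodule F V := Z ⊓ hperp H Y with hM
  have hMZ : M ≤ Z := inf_le_left
  have hYM : Y ≤ M := fun y hy => ⟨hYZ hy, fun w hw => hY y hy w hw⟩
  obtain ⟨-, hM2fr⟩ := perp_facts hc hZi hZ hMi hMZ
  obtain ⟨Z', hZ'i, hZ'M, hdisj, hsup, hfr⟩ := exists_inv_compl_in hc.isSemisimple hYi hMi hYM
  have hYeq : Y = Z ⊓ hperp H M := by
    apply Submodule.eq_of_le_of_finrank_eq
    · intro y hy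
      exact ⟨hYZ hy, fun m hm => herm_swap hc.herm (hm.2 y hy)⟩
    · omega
  refine ⟨Z', hZ'i, hZ'M.trans hMZ, ?_, fun y hy z hz => herm_swap hc.herm ((hZ'M hz).2 y hy),
    hdisj, by omega⟩
  intro w hw hwZ'
  have hwM := hZ'M hw
  have hwY : w ∈ Y := by
    rw [hYeq]
    refine ⟨hwM.1, fun m hm => ?_⟩
    rw [← hsup] at hm
    obtain ⟨y, hy, z', hz', rfl⟩ := Submodule.mem_sup.mp hm
    rw [map_add, hwM.2 y hy, hwZ' z' hz', add_zero]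
  have : w ∈ Y ⊓ Z' := ⟨hwY, hw⟩
  rw [disjoint_iff.mp hdisj] at this
  exact (Submodule.mem_bot F).mp this

/-- TU-SPLIT. -/
theorem split (hc : Ctx hF H g N) {Z Y : Submodule F V} (hZi : Inv g Z) (hZ : HNondegOn H Z)
    (hYi : Inv g Y) (hYZ : Y ≤ Z) (hY : HNondegOn H Y) :
    Inv g (Z ⊓ hperp H Y) ∧ HNondegOn H (Z ⊓ hperp H Y) ∧ Disjoint Y (Z ⊓ hperp H Y) ∧
      Y ⊔ (Z ⊓ hperp H Y) = Z ∧ finrank F ↥(Z ⊓ hperp H Y) + finrank F ↥Y = finrank F ↥Z := by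
  obtain ⟨hPi, hPfr⟩ := perp_facts hc hZi hZ hYi hYZ
  have hdisj : Disjoint Y (Z ⊓ hperp H Y) := by
    rw [Submodule.disjoint_def]
    intro x hx hx'
    exact hY x hx hx'.2
  have hsup : Y ⊔ (Z ⊓ hperp H Y) = Z := by
    apply Submodule.eq_of_le_of_finrank_eq (sup_le hYZ inf_le_left)
    rw [finrank_sup_of_disjoint' _ _ hdisj]
    omega
  refine ⟨hPi, ?_, hdisj, hsup, hPfr⟩
  intro x hx hxP
  apply hZ x hx.1
  intro z hz
  rw [← hsup] at hz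
  obtain ⟨y, hy, p, hp, rfl⟩ := Submodule.mem_sup.mp hz
  rw [map_add, hx.2 y hy, hxP p hp, add_zero]

end abs

end Cfsg.Agent.Lib.Helper14.Tu
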