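import Mathlib
import Cfsg.Prelude.Def_Classical
import Cfsg.Prelude.Def_LieClassical
import Cfsg.Agent.Lib.Helper65.UndDefs
import Cfsg.Agent.Lib.Helper55.TuPEEL

/-! # S5954 hive ("Und", owner helper65), leaves UND-C1 `nd_sup` and UND-C2 `exists_nd_le` -/

set_option autoImplicit false

namespace Cfsg.Agent.Lib.Helper65.Und

open Cfsg.Agent.Lib.Helper40.Herm Cfsg.Agent.Lib.Helper2.BG Cfsg.Agent.Lib.Helper14.Tu Polynomial Module

section absC
variable {F : Type*} [Field F] [Fintype F] {q : ℕ} {hF : Fintype.card F = q ^ 2}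
  {V : Type*} [AddCommGroup V] [Module F V] [FiniteDimensional F V]
  {H : V →ₗ[F] V →ₛₗ[tauHom hF] F} {g : Module.End F V} {N : ℕ}

/-- UND-C1.  Orthogonal sum of two nondegenerate subspaces. -/
theorem nd_sup (hH : IsHermitian H) {Y₁ Y₂ : Submodule F V} (h₁ : HNondegOn H Y₁)
    (h₂ : HNondegOn H Y₂) (horth : ∀ u ∈ Y₁, ∀ v ∈ Y₂, H u v = 0) :
    HNondegOn H (Y₁ ⊔ Y₂) ∧ Disjoint Y₁ Y₂ ∧
      finrank F ↥(Y₁ ⊔ Y₂) = finrank F ↥Y₁ + finrank F ↥Y₂ := by
  have hdisj : Disjoint Y₁ Y₂ := by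
    rw [Submodule.disjoint_def]
    intro x hx1 hx2
    exact h₂ x hx2 (fun y hy => horth x hx1 y hy)
  refine ⟨?_, hdisj, finrank_sup_of_disjoint' Y₁ Y₂ hdisj⟩
  intro x hx hxy
  obtain ⟨u, hu, v, hv, rfl⟩ := Submodule.mem_sup.mp hx
  have hu0 : u = 0 := by
    apply h₁ u hu
    intro y hy
    have h := hxy y (Submodule.mem_sup_left hy)
    rw [map_add, LinearMap.add_apply, herm_swap hH (horth y hy v hv), add_zero] at h
    exact h
  have hv0 : v = 0 := by
    apply h₂ v hv
    intro y hy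
    have h := hxy y (Submodule.mem_sup_right hy)
    rw [map_add, LinearMap.add_apply, horth u hu y hy, zero_add] at h
    exact h
  rw [hu0, hv0, add_zero]

/-- a nonzero nondegenerate hermitian space has an anisotropic vector -/
theorem c2_exists_aniso (hH : IsHermitian H) {Z : Submodule F V} (hZ : HNondegOn H Z)
    (hZ0 : Z ≠ ⊥) : ∃ v ∈ Z, H v v ≠ 0 := by
  by_contra hcon
  push Not at hcon
  obtain ⟨w, hwZ, hw0⟩ := Submodule.exists_mem_ne_zero_of_ne_bot hZ0
  have h2 : ∃ u ∈ Z, H w u ≠ 0 := by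
    by_contra h3
    push Not at h3
    exact hw0 (hZ w hwZ h3)
  obtain ⟨u, huZ, hu⟩ := h2
  obtain ⟨t, ht⟩ := Cfsg.Agent.Lib.Helper44.exists_trace_ne_zero hF
  apply ht
  set c : F := t * (H w u)⁻¹ with hc
  have h4 : H (c • w) u = t := by
    rw [map_smul, LinearMap.smul_apply, smul_eq_mul, hc, mul_assoc, inv_mul_cancel₀ hu, mul_one]
  have h5 := hcon (c • w + u) (Z.add_mem (Z.smul_mem c hwZ) huZ)
  simp only [map_add, LinearMap.add_apply] at h5
  rw [hcon (c • w) (Z.smul_mem c hwZ), hcon u huZ, h4, ← hH (c • w) u, h4, tauHom_apply] at h5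
  linear_combination h5

/-- UND-C2.  A nondegenerate hermitian space contains nondegenerate subspaces of every dimension. -/
theorem exists_nd_le (hH : IsHermitian H) {Z : Submodule F V} (hZ : HNondegOn H Z) (a : ℕ)
    (ha : a ≤ finrank F ↥Z) : ∃ W : Submodule F V, W ≤ Z ∧ HNondegOn H W ∧ finrank F ↥W = a := by
  induction a generalizing Z with
  | zero =>
    refine ⟨⊥, bot_le, ?_, finrank_bot F V⟩
    intro x hx _
    exact (Submodule.mem_bot F).mp hx
  | succ a ih =>
    have hZ0 : Z ≠ ⊥ := by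
      rintro rfl
      rw [finrank_bot] at ha
      omega
    obtain ⟨v, hvZ, hvv⟩ := c2_exists_aniso hH hZ hZ0
    have hv0 : v ≠ 0 := by
      rintro rfl
      apply hvv
      simp
    have hYZ : Submodule.span F {v} ≤ Z := (Submodule.span_singleton_le_iff_mem v Z).mpr hvZ
    have hYnd : HNondegOn H (Submodule.span F {v}) := by
      intro x hx hxy
      obtain ⟨s, rfl⟩ := Submodule.mem_span_singleton.mp hx
      have h := hxy v (Submodule.mem_span_singleton_self v)
      rw [map_smul, LinearMap.smul_apply, smul_eq_mul] at h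
      rcases mul_eq_zero.mp h with h1 | h1
      · rw [h1, zero_smul]
      · exact absurd h1 hvv
    have hYfr : finrank F (Submodule.span F {v}) = 1 := finrank_span_singleton hv0
    have hctx : Ctx hF H (1 : Module.End F V) 1 :=
      ⟨hH, fun u w => by simp, Nat.one_pos, by simp, by simp⟩
    obtain ⟨-, hZ'nd, hdisj, hsup, hfr⟩ :=
      split hctx (Z := Z) (Y := Submodule.span F {v}) (fun x hx => by simpa using hx) hZ
        (fun x hx => by simpa using hx) hYZ hYnd
    rw [hYfr] at hfr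
    obtain ⟨W', hW'Z', hW'nd, hW'fr⟩ := ih hZ'nd (by omega)
    have horth : ∀ x ∈ Submodule.span F {v}, ∀ y ∈ W', H x y = 0 := by
      intro x hx y hy
      exact herm_swap hH ((hW'Z' hy).2 x hx)
    obtain ⟨hnd, -, hfr2⟩ := nd_sup hH hYnd hW'nd horth
    refine ⟨Submodule.span F {v} ⊔ W', sup_le hYZ (hW'Z'.trans inf_le_left), hnd, ?_⟩
    rw [hfr2, hYfr, hW'fr]
    omega

end absC

end Cfsg.Agent.Lib.Helper65.Und
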