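import Mathlib
import Cfsg.Agent.S0004

/-! # S1936 hive, sub-leaf L16e (helper55, for helper32): a Frattini argument with Hall conjugacy -/

set_option autoImplicit false

namespace Cfsg.Agent.Lib.Helper3.S1936

open scoped Pointwise

universe u

theorem l16_frattini {G : Type u} [Group G] [Finite G] {p : ℕ} [Fact p.Prime] {A R H : Subgroup G}
    (hHs : Group.IsSolvable ↥H) (hAH : A ≤ H) (hRH : R ≤ H) (hRp : IsPGroup p ↥R)
    (hAp : (Nat.card ↥A).Coprime p) (hHR : H ≤ Subgroup.normalizer (R : Set G))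
    (hHRA : H ≤ Subgroup.normalizer ((R ⊔ A : Subgroup G) : Set G)) :
    ∀ h ∈ H, ∃ r ∈ R, h * r ∈ Subgroup.normalizer (A : Set G) := by
  intro h hh
  set K : Subgroup G := R ⊔ A with hK
  have hRK : R ≤ K := le_sup_left
  have hAK : A ≤ K := le_sup_right
  have hKH : K ≤ H := sup_le hRH hAH
  haveI : Group.IsSolvable ↥K :=
    solvable_of_solvable_injective (Subgroup.inclusion_injective hKH)
  -- the order of `K`
  haveI hRn : (R.subgroupOf K).Normal :=
    (Subgroup.normal_subgroupOf_iff_le_normalizer hRK).2 (hKH.trans hHR)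
  have hcR : Nat.card ↥(R.subgroupOf K) = Nat.card ↥R :=
    Nat.card_congr (Subgroup.subgroupOfEquivOfLe hRK).toEquiv
  have hcA : Nat.card ↥(A.subgroupOf K) = Nat.card ↥A :=
    Nat.card_congr (Subgroup.subgroupOfEquivOfLe hAK).toEquiv
  obtain ⟨k, hk⟩ := hRp.exists_card_eq
  have hcop : (Nat.card ↥A).Coprime (Nat.card ↥R) := by
    rw [hk]; exact Nat.Coprime.pow_right k hAp
  have hdisj : Disjoint (R.subgroupOf K) (A.subgroupOf K) := by
    apply Subgroup.disjoint_of_coprime_natCard
    rw [hcR, hcA]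
    exact hcop.symm
  have htop : R.subgroupOf K ⊔ A.subgroupOf K = ⊤ := by
    rw [← Subgroup.subgroupOf_sup hRK hAK, ← hK, Subgroup.subgroupOf_self]
  have hmul : ((R.subgroupOf K : Subgroup ↥K) : Set ↥K) * ((A.subgroupOf K : Subgroup ↥K) : Set ↥K) = Set.univ := by
    rw [← Subgroup.normal_mul, htop, Subgroup.coe_top]
  have hcompl := Subgroup.isComplement'_of_disjoint_and_mul_eq_univ hdisj hmul
  have hcard : Nat.card ↥K = Nat.card ↥A * Nat.card ↥R := by
    rw [← hcompl.card_mul_card, hcR, hcA, mul_comm]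
  -- the conjugate `h⁻¹ A h`
  set B : Subgroup G := MulAut.conj h⁻¹ • A with hB
  have hhK : h⁻¹ ∈ Subgroup.normalizer ((K : Subgroup G) : Set G) := inv_mem (hHRA hh)
  have hBK : B ≤ K := by
    intro x hx
    rw [hB, Subgroup.mem_smul_pointwise_iff_exists] at hx
    obtain ⟨a, ha, rfl⟩ := hx
    have := (Subgroup.mem_normalizer_iff.1 hhK a).1 (hAK ha)
    simpa [MulAut.smul_def, MulAut.conj_apply] using this
  have hcB : Nat.card ↥(B.subgroupOf K) = Nat.card ↥A := by
    rw [Nat.card_congr (Subgroup.subgroupOfEquivOfLe hBK).toEquiv, hB]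
    exact Nat.card_congr (Subgroup.equivSMul (MulAut.conj h⁻¹) A).symm.toEquiv
  obtain ⟨g, hg⟩ := Cfsg.Agent.S0004.result (G := ↥K) (Nat.card ↥A) (Nat.card ↥R) hcard hcop
    (A.subgroupOf K) (B.subgroupOf K) hcA hcB
  -- `h * g` normalises `A`
  have hnorm : h * (g : G) ∈ Subgroup.normalizer (A : Set G) := by
    rw [Subgroup.mem_normalizer_iff]
    intro x
    constructor
    · intro hx
      have h1 : MulAut.conj g • (⟨x, hAK hx⟩ : ↥K) ∈ MulAut.conj g • A.subgroupOf K :=
        Subgroup.smul_mem_pointwise_smul _ _ _ (by rw [Subgroup.mem_subgroupOf]; exact hx)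
      rw [hg, Subgroup.mem_subgroupOf, hB, Subgroup.mem_smul_pointwise_iff_exists] at h1
      obtain ⟨a, ha, e⟩ := h1
      have e' : h⁻¹ * a * h = (g : G) * x * (g : G)⁻¹ := by
        simpa [MulAut.smul_def, MulAut.conj_apply] using e
      have : h * (g : G) * x * (h * (g : G))⁻¹ = a := by
        calc h * (g : G) * x * (h * (g : G))⁻¹ = h * ((g : G) * x * (g : G)⁻¹) * h⁻¹ := by group
          _ = a := by rw [← e']; group
      rw [this]; exact ha
    · intro hx
      set a := h * (g : G) * x * (h * (g : G))⁻¹ with ha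
      have hyB : (g : G) * x * (g : G)⁻¹ ∈ B := by
        rw [hB, Subgroup.mem_smul_pointwise_iff_exists]
        refine ⟨a, hx, ?_⟩
        simp only [MulAut.smul_def, MulAut.conj_apply, inv_inv, ha]
        group
      have hyK : (g : G) * x * (g : G)⁻¹ ∈ K := hBK hyB
      have h1 : (⟨(g : G) * x * (g : G)⁻¹, hyK⟩ : ↥K) ∈ B.subgroupOf K := by
        rw [Subgroup.mem_subgroupOf]; exact hyB
      rw [← hg, Subgroup.mem_pointwise_smul_iff_inv_smul_mem, Subgroup.mem_subgroupOf] at h1
      have e : (((MulAut.conj g)⁻¹ • (⟨(g : G) * x * (g : G)⁻¹, hyK⟩ : ↥K) : ↥K) : G) = x := by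
        simp [MulAut.smul_def, MulAut.conj_symm_apply, ← map_inv, MulAut.conj_apply]
        group
      rw [e] at h1
      exact h1
  -- decompose `g = r * a`
  have hgK : (g : G) ∈ ((R ⊔ A : Subgroup G) : Set G) := g.2
  rw [Subgroup.coe_mul_of_right_le_normalizer_left R A (hAH.trans hHR)] at hgK
  obtain ⟨r, hr, a, ha, hra⟩ := hgK
  refine ⟨r, hr, ?_⟩
  have : h * r = h * (g : G) * a⁻¹ := by rw [← hra]; group
  rw [this]
  exact mul_mem hnorm (inv_mem (Subgroup.le_normalizer ha))

end Cfsg.Agent.Lib.Helper3.S1936
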