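import Mathlib
import Cfsg.Agent.Lib.Helper3.SzC0
import Cfsg.Agent.Lib.Helper6.TI
import Cfsg.Agent.S0880

set_option autoImplicit false
set_option linter.style.haveILetI false
set_option linter.unusedSectionVars false

/-! # S0347 part C, leaves C2g, C2h. -/

namespace Cfsg.Agent.Lib.Helper3.Sz

open Cfsg MulAction
open Cfsg.Agent.Lib.Helper97.Zass
open Cfsg.Agent.Lib.Helper3.ZassOdd
open Cfsg.Agent.Lib.Helper3.ZassFeit

variable {G Ω : Type*} [Group G] [MulAction G Ω] [Fintype Ω] {a b : Ω} {Q : Subgroup G} {q : ℕ}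

/-- (local copy of C2a) `h ≠ 1` commuting with a fixed point free `g` is fixed point free. -/
theorem c2gh_fpf_of_commute [Finite G] [IsSimpleGroup G] (c : Ctx G a b Q q) {g h : G}
    (hg : ∀ x : Ω, g • x ≠ x) (hh : h * g = g * h) (h1 : h ≠ 1) : ∀ x : Ω, h • x ≠ x := by
  intro x hx
  have hy := c.hy
  -- `g • x` and `g • g • x` are fixed by `h`
  have hgx : h • (g • x) = g • x := by
    rw [← mul_smul, hh, mul_smul, hx]
  have hggx : h • (g • (g • x)) = g • (g • x) := by
    rw [← mul_smul, hh, mul_smul, hgx]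
  have hne1 : x ≠ g • x := fun h' => hg x h'.symm
  have hne2 : g • x ≠ g • (g • x) := fun h' => hg (g • x) h'.symm
  by_cases hne3 : x = g • (g • x)
  · -- `g` interchanges `x` and `g • x`
    have hgg : g * g = 1 :=
      swap_mul_self c.zass hne1 (c.hodd' hne1) rfl hne3.symm
    have hg1 : g ≠ 1 := by
      rintro rfl
      exact hg x (one_smul _ _)
    obtain ⟨p, hp, -⟩ := c.exists_unique_fix hg1 hgg
    exact hg p hp
  · exact h1 (hy.h3 h x (g • x) (g • (g • x)) hne1 hne2 hne3 hx hgx hggx)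

/-- C2g. `cen g` acts semiregularly on `Ω`, so its order divides `|Ω|`. -/
theorem IsRealFpf.card_dvd [Finite G] [IsSimpleGroup G] (c : Ctx G a b Q q) {g : G}
    (hg : IsRealFpf G Ω g) : Nat.card (cen g) ∣ Fintype.card Ω := by
  classical
  haveI := Fintype.ofFinite G
  have hfree : ∀ m : cen g, m ≠ 1 → ∀ x : Ω, m • x ≠ x := by
    intro m hm x
    have hm1 : (m : G) ≠ 1 := fun h => hm (Subtype.ext h)
    exact c2gh_fpf_of_commute c hg.1 (mem_cen.mp m.2) hm1 x
  have hB := MulAction.sum_card_fixedBy_eq_card_orbits_mul_card_group (cen g) Ω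
  have hsum : ∑ m : cen g, Fintype.card (MulAction.fixedBy Ω m) = Fintype.card Ω := by
    rw [Finset.sum_eq_single (1 : cen g)]
    · apply Fintype.card_congr
      refine ⟨fun x => x.1, fun x => ⟨x, by simp [MulAction.mem_fixedBy]⟩, fun x => rfl,
        fun x => rfl⟩
    · intro m _ hm
      rw [Fintype.card_eq_zero_iff]
      exact ⟨fun x => hfree m hm x.1 x.2⟩
    · intro h
      exact absurd (Finset.mem_univ _) h
  rw [hsum] at hB
  rw [Nat.card_eq_fintype_card, hB]
  exact Dvd.intro_left _ rfl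

/-- C2h. odd order, at least `3`. -/
theorem IsRealFpf.odd_card [Finite G] [IsSimpleGroup G] (c : Ctx G a b Q q) {g : G}
    (hg : IsRealFpf G Ω g) : Odd (Nat.card (cen g)) ∧ 3 ≤ Nat.card (cen g) := by
  classical
  have hodd : Odd (Nat.card (cen g)) := by
    rw [← Nat.not_even_iff_odd]
    intro heven
    haveI : Fact (Nat.Prime 2) := ⟨Nat.prime_two⟩
    obtain ⟨s, hs⟩ := exists_prime_orderOf_dvd_card' 2 (even_iff_two_dvd.mp heven)
    have hs1 : (s : G) ≠ 1 := by
      intro h
      have : s = 1 := Subtype.ext h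
      rw [this, orderOf_one] at hs
      norm_num at hs
    have hs2 : (s : G) * (s : G) = 1 := by
      have h2 : s ^ 2 = 1 := by rw [← hs]; exact pow_orderOf_eq_one s
      have := congrArg Subtype.val h2
      simpa [pow_two] using this
    obtain ⟨p, hp, -⟩ := c.exists_unique_fix hs1 hs2
    exact c2gh_fpf_of_commute c hg.1 (mem_cen.mp s.2) hs1 p hp
  refine ⟨hodd, ?_⟩
  have hg1 : g ≠ 1 := by
    rintro rfl
    exact hg.1 a (one_smul _ _)
  have hgm : g ∈ cen g := mem_cen.mpr rfl
  have h1 : 1 < Nat.card (cen g) := by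
    rw [Finite.one_lt_card_iff_nontrivial]
    exact ⟨⟨⟨g, hgm⟩, 1, fun h => hg1 (congrArg Subtype.val h)⟩⟩
  obtain ⟨r, hr⟩ := hodd
  omega

end Cfsg.Agent.Lib.Helper3.Sz
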