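import Mathlib
import Cfsg.Agent.Lib.Helper3.SzC0
import Cfsg.Agent.Lib.Helper6.TI
import Cfsg.Agent.S0880

set_option autoImplicit false
set_option linter.style.haveILetI false
set_option linter.unusedSectionVars false

/-! # S0347 part C, leaf C3a, C3b. -/

namespace Cfsg.Agent.Lib.Helper3.Sz

open Cfsg MulAction
open Cfsg.Agent.Lib.Helper97.Zass
open Cfsg.Agent.Lib.Helper3.ZassOdd
open Cfsg.Agent.Lib.Helper3.ZassFeit

variable {G Ω : Type*} [Group G] [MulAction G Ω] [Fintype Ω] {a b : Ω} {Q : Subgroup G} {q : ℕ}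

/-- squaring is constant on the cosets of the centre. -/
theorem c3_sq_coset (c : Ctx G a b Q q) (u v : Q) (huv : u⁻¹ * v ∈ Subgroup.center Q) :
    u * u = v * v := by
  obtain ⟨z, rfl⟩ : ∃ z, v = u * z := ⟨u⁻¹ * v, by group⟩
  have hz : z ∈ Subgroup.center Q := by simpa using huv
  have hcomm : u * z = z * u := Subgroup.mem_center_iff.mp hz u
  have hz2 := c.center_sq z hz
  calc u * u = u * u * (z * z) := by rw [hz2, mul_one]
    _ = u * (u * z) * z := by group
    _ = u * (z * u) * z := by rw [hcomm]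
    _ = (u * z) * (u * z) := by group

/-- C3a. Squaring `Q / Z(Q) → Z(Q)` is injective when `|Q| = q²`. -/
theorem sq_inj [Finite G] [IsSimpleGroup G] (c : Ctx G a b Q q) (hQ : Nat.card Q = q ^ 2)
    {x y : G} (hx : x ∈ Q) (hy : y ∈ Q) (hxy : x * x = y * y) :
    (x⁻¹ * y) * (x⁻¹ * y) = 1 := by
  classical
  have hyp := c.hy
  have h4 := c.four_le
  have hZc : Nat.card (Subgroup.center Q) = q := c.card_center
  -- card of quotient
  have hquot : Nat.card (Q ⧸ Subgroup.center Q) = q := by
    have h1 := Subgroup.card_eq_card_quotient_mul_card_subgroup (Subgroup.center Q)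
    rw [hQ, hZc] at h1
    have : q * q = Nat.card (Q ⧸ Subgroup.center Q) * q := by rw [← h1]; ring
    exact (Nat.eq_of_mul_eq_mul_right (by omega) this).symm
  let σ : Q ⧸ Subgroup.center Q → Subgroup.center Q := fun cs =>
    Quotient.liftOn' cs (fun u => (⟨u * u, c.sq_mem u⟩ : Subgroup.center Q)) (by
      intro u v huv
      rw [QuotientGroup.leftRel_apply] at huv
      exact Subtype.ext (c3_sq_coset c u v huv))
  have hσ : ∀ u : Q, σ (QuotientGroup.mk u) = ⟨u * u, c.sq_mem u⟩ := fun u => rfl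
  -- an element outside the centre
  obtain ⟨x₀, hx₀⟩ : ∃ x₀ : Q, x₀ ∉ Subgroup.center Q := by
    by_contra hcon
    push Not at hcon
    have htop : Subgroup.center Q = ⊤ := by
      rw [Subgroup.eq_top_iff']; exact hcon
    have h1 : Nat.card (Subgroup.center Q) = Nat.card Q := by
      rw [htop, Subgroup.card_top]
    rw [hZc, hQ] at h1
    nlinarith
  have hz₀1 : x₀ * x₀ ≠ 1 := by
    intro h
    by_cases hx1 : x₀ = 1
    · exact hx₀ (hx1 ▸ Subgroup.one_mem _)
    · exact hx₀ ((c.inv_iff x₀).mp ⟨hx1, h⟩).1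
  have hz₀Z : x₀ * x₀ ∈ Subgroup.center Q := c.sq_mem x₀
  have hsurj : Function.Surjective σ := by
    intro z
    by_cases hz1 : z = 1
    · refine ⟨QuotientGroup.mk 1, ?_⟩
      rw [hσ, hz1]
      exact Subtype.ext (by simp)
    · have hzQ1 : (z : Q) ≠ 1 := fun h => hz1 (Subtype.ext h)
      have hzz : (z : Q) * (z : Q) = 1 := c.center_sq _ z.2
      have hz₀z₀ : (x₀ * x₀) * (x₀ * x₀) = 1 := c.center_sq _ hz₀Z
      obtain ⟨g, hg, hgz⟩ := c.trans (z := ((x₀ * x₀ : Q) : G)) (y := ((z : Q) : G))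
        (x₀ * x₀ : Q).2 (fun h => hz₀1 (Subtype.ext h)) (congrArg Subtype.val hz₀z₀)
        (z : Q).2 (fun h => hzQ1 (Subtype.ext h)) (congrArg Subtype.val hzz)
      have hga : g • a = a := (mem_twoStab.mp hg).1
      let w : Q := ⟨g * (x₀ : G) * g⁻¹, c.ker.conj_mem hyp hga x₀.2⟩
      refine ⟨QuotientGroup.mk w, ?_⟩
      rw [hσ]
      apply Subtype.ext
      apply Subtype.ext
      show (g * (x₀ : G) * g⁻¹) * (g * (x₀ : G) * g⁻¹) = ((z : Q) : G)
      rw [← hgz]
      simp only [Subgroup.coe_mul]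
      group
  have hinj : Function.Injective σ := by
    obtain ⟨e⟩ := Finite.card_eq.mp (hquot.trans hZc.symm)
    exact (Finite.injective_iff_surjective_of_equiv e).mpr hsurj
  have h1 : σ (QuotientGroup.mk (⟨x, hx⟩ : Q)) = σ (QuotientGroup.mk (⟨y, hy⟩ : Q)) := by
    rw [hσ, hσ]
    exact Subtype.ext (Subtype.ext hxy)
  have h2 := hinj h1
  rw [QuotientGroup.eq] at h2
  have h3 := c.center_sq _ h2
  exact congrArg Subtype.val h3

/-- C3b. A subgroup of `Q` with a unique involution `s` has order `2` or `4`. -/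
theorem card_of_unique_inv [Finite G] [IsSimpleGroup G] (c : Ctx G a b Q q)
    (hQ : Nat.card Q = q ^ 2) (T : Subgroup G) (hT : T ≤ Q) {s : G} (hsT : s ∈ T) (hs1 : s ≠ 1)
    (hs2 : s * s = 1) (huniq : ∀ x ∈ T, x ≠ 1 → x * x = 1 → x = s) :
    Nat.card T = 2 ∨ Nat.card T = 4 := by
  classical
  haveI : Fact (Nat.Prime 2) := ⟨Nat.prime_two⟩
  have hT2 : IsPGroup 2 T := c.two.to_le hT
  obtain ⟨k, hk⟩ := IsPGroup.iff_card.mp hT2
  have h1 : 1 < Nat.card T := by
    rw [Finite.one_lt_card_iff_nontrivial]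
    exact ⟨⟨⟨s, hsT⟩, 1, fun h => hs1 (congrArg Subtype.val h)⟩⟩
  -- squares of the other elements
  have hsq : ∀ x ∈ T, x ≠ 1 → x ≠ s → x * x = s := by
    intro x hxT hx1 hxs
    have hxQ : x ∈ Q := hT hxT
    have h2 : (⟨x, hxQ⟩ * ⟨x, hxQ⟩ : Q) ∈ Subgroup.center Q := c.sq_mem ⟨x, hxQ⟩
    have h3 := congrArg Subtype.val (c.center_sq _ h2)
    have h3' : (x * x) * (x * x) = 1 := h3
    apply huniq (x * x) (T.mul_mem hxT hxT) _ h3'
    intro h
    exact hxs (huniq x hxT hx1 h)
  have hle : Nat.card T ≤ 4 := by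
    by_cases hex : ∃ x ∈ T, x ≠ 1 ∧ x ≠ s
    · obtain ⟨x, hxT, hx1, hxs⟩ := hex
      have hsub : (T : Set G) ⊆ (({1, s, x, x * s} : Finset G) : Set G) := by
        intro y hyT
        have hyT' : y ∈ T := hyT
        simp only [Finset.coe_insert, Finset.coe_singleton, Set.mem_insert_iff,
          Set.mem_singleton_iff]
        by_cases hy1 : y = 1
        · exact Or.inl hy1
        by_cases hys : y = s
        · exact Or.inr (Or.inl hys)
        right; right
        have h5 : x * x = y * y := by rw [hsq x hxT hx1 hxs, hsq y hyT' hy1 hys]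
        have h6 := sq_inj c hQ (hT hxT) (hT hyT') h5
        have h7 : x⁻¹ * y ∈ T := T.mul_mem (T.inv_mem hxT) hyT'
        by_cases h8 : x⁻¹ * y = 1
        · left
          have : y = x * (x⁻¹ * y) := by group
          rw [this, h8, mul_one]
        · right
          have h9 := huniq _ h7 h8 h6
          have : y = x * (x⁻¹ * y) := by group
          rw [this, h9]
      calc Nat.card T = (T : Set G).ncard := (Nat.card_coe_set_eq _)
        _ ≤ ((({1, s, x, x * s} : Finset G) : Set G)).ncard :=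
            Set.ncard_le_ncard hsub (Finset.finite_toSet _)
        _ = ({1, s, x, x * s} : Finset G).card := Set.ncard_coe_finset _
        _ ≤ 4 := Finset.card_le_four
    · push Not at hex
      have hsub : (T : Set G) ⊆ (({1, s} : Finset G) : Set G) := by
        intro y hyT
        have hyT' : y ∈ T := hyT
        simp only [Finset.coe_insert, Finset.coe_singleton, Set.mem_insert_iff,
          Set.mem_singleton_iff]
        by_cases hy1 : y = 1
        · exact Or.inl hy1
        · exact Or.inr (hex y hyT' hy1)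
      calc Nat.card T = (T : Set G).ncard := (Nat.card_coe_set_eq _)
        _ ≤ ((({1, s} : Finset G) : Set G)).ncard :=
            Set.ncard_le_ncard hsub (Finset.finite_toSet _)
        _ = ({1, s} : Finset G).card := Set.ncard_coe_finset _
        _ ≤ 2 := Finset.card_le_two
        _ ≤ 4 := by norm_num
  rw [hk] at h1 hle ⊢
  have hk3 : k < 3 := by
    by_contra hcon
    push Not at hcon
    have : 2 ^ 3 ≤ 2 ^ k := Nat.pow_le_pow_right (by norm_num) hcon
    omega
  interval_cases k
  · omega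
  · left; rfl
  · right; rfl

end Cfsg.Agent.Lib.Helper3.Sz
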