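import Mathlib
import Cfsg.Agent.Lib.Helper3.SzC0

set_option autoImplicit false
set_option linter.style.haveILetI false
set_option linter.unusedSectionVars false

/-! # S0347 part C, leaf C2j. -/

namespace Cfsg.Agent.Lib.Helper3.Sz

open Cfsg MulAction
open Cfsg.Agent.Lib.Helper97.Zass
open Cfsg.Agent.Lib.Helper3.ZassOdd
open Cfsg.Agent.Lib.Helper3.ZassFeit

variable {G Ω : Type*} [Group G] [MulAction G Ω] [Fintype Ω] {a b : Ω} {Q : Subgroup G} {q : ℕ}

/-- C2j. products of `fpfPairs` are exactly the real fixed point free elements. -/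
theorem isRealFpf_iff [Fintype G] [DecidableEq G] [DecidableEq Ω] [IsSimpleGroup G]
    (c : Ctx G a b Q q) (g : G) :
    IsRealFpf G Ω g ↔ ∃ p ∈ fpfPairs G Ω, p.1 * p.2 = g := by
  constructor
  · rintro ⟨hfpf, s, hs1, hs2, hsg⟩
    have hsi : s⁻¹ = s := inv_eq_of_mul_eq_one_right hs2
    rw [hsi] at hsg
    refine ⟨(s, s * g), ?_, ?_⟩
    · rw [fpfPairs, Finset.mem_filter, Finset.mem_product]
      refine ⟨⟨mem_invs.mpr ⟨hs1, hs2⟩, mem_invs.mpr ⟨?_, ?_⟩⟩, ?_⟩
      · intro h
        have h : s * g = 1 := h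
        have hgs : g = s := by
          calc g = (s * s) * g := by rw [hs2, one_mul]
            _ = s * (s * g) := by group
            _ = s := by rw [h, mul_one]
        obtain ⟨p, hp, -⟩ := c.exists_unique_fix hs1 hs2
        exact hfpf p (by rw [hgs]; exact hp)
      · show s * g * (s * g) = 1
        calc s * g * (s * g) = (s * g * s) * g := by group
          _ = 1 := by rw [hsg]; group
      · intro x
        have : s * (s * g) = g := by
          calc s * (s * g) = (s * s) * g := by group
            _ = g := by rw [hs2, one_mul]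
        simp only [this]
        exact hfpf x
    · simp only
      calc s * (s * g) = (s * s) * g := by group
        _ = g := by rw [hs2, one_mul]
  · rintro ⟨⟨s, t⟩, hp, hst⟩
    rw [fpfPairs, Finset.mem_filter, Finset.mem_product] at hp
    obtain ⟨⟨hs, ht⟩, hfpf⟩ := hp
    simp only at hst hfpf hs ht
    obtain ⟨hs1, hs2⟩ := mem_invs.mp hs
    obtain ⟨ht1, ht2⟩ := mem_invs.mp ht
    have hsi : s⁻¹ = s := inv_eq_of_mul_eq_one_right hs2
    have hti : t⁻¹ = t := inv_eq_of_mul_eq_one_right ht2
    refine ⟨?_, s, hs1, hs2, ?_⟩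
    · intro x
      rw [← hst]
      exact hfpf x
    · rw [← hst, hsi]
      calc s * (s * t) * s = (s * s) * t * s := by group
        _ = t * s := by rw [hs2, one_mul]
        _ = t⁻¹ * s⁻¹ := by rw [hsi, hti]
        _ = (s * t)⁻¹ := by group

end Cfsg.Agent.Lib.Helper3.Sz
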