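import Mathlib

set_option autoImplicit false

/-! # S0347 part C, leaf C4: arithmetic. -/

namespace Cfsg.Agent.Lib.Helper3.Sz

/-- C4a. one class: `2 (u - 1) = q t`, so `u = q + 1` or `2 q + 1`, which does not divide `q² + 1`. -/
theorem one_class_false {q u t idx : ℕ} (hq : 4 ≤ q) (hu : 3 ≤ u) (ht : t = 2 ∨ t = 4)
    (hN : idx * (t * u) = (q - 1) * q ^ 2 * (q ^ 2 + 1))
    (hsum : 2 * (idx * (u - 1) * u) = (q - 1) * q ^ 2 * (q ^ 2 + 1) * q)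
    (hd : u ∣ q ^ 2 + 1) : False := by
  obtain ⟨p, rfl⟩ : ∃ p, q = p + 1 := ⟨q - 1, by omega⟩
  obtain ⟨v, rfl⟩ : ∃ v, u = v + 1 := ⟨u - 1, by omega⟩
  have hp : 3 ≤ p := by omega
  simp only [Nat.add_sub_cancel] at hN hsum
  have hΓ : 0 < p * (p + 1) ^ 2 * ((p + 1) ^ 2 + 1) := by positivity
  have hpos : 0 < idx * (v + 1) := by
    rcases Nat.eq_zero_or_pos (idx * (v + 1)) with h | h
    · exfalso
      have : idx * (t * (v + 1)) = t * (idx * (v + 1)) := by ring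
      rw [this, h] at hN
      omega
    · exact h
  have key : 2 * v = t * (p + 1) := by
    have h1 : (idx * (v + 1)) * (2 * v) = (idx * (v + 1)) * (t * (p + 1)) := by
      calc (idx * (v + 1)) * (2 * v) = 2 * (idx * v * (v + 1)) := by ring
        _ = p * (p + 1) ^ 2 * ((p + 1) ^ 2 + 1) * (p + 1) := hsum
        _ = idx * (t * (v + 1)) * (p + 1) := by rw [hN]
        _ = (idx * (v + 1)) * (t * (p + 1)) := by ring
    exact Nat.eq_of_mul_eq_mul_left hpos h1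
  rcases ht with rfl | rfl
  · have hv : v = p + 1 := by omega
    subst hv
    have h2 : (p + 1) ^ 2 + 1 = (p + 1 + 1) * p + 2 := by ring
    rw [h2] at hd
    have h3 : (p + 1 + 1) ∣ 2 := (Nat.dvd_add_right (Dvd.intro _ rfl)).mp hd
    have := Nat.le_of_dvd (by norm_num) h3
    omega
  · have hv : v = 2 * (p + 1) := by omega
    subst hv
    have h4 : (2 * (p + 1) + 1) ∣ 4 * ((p + 1) ^ 2 + 1) := Dvd.dvd.mul_left hd 4
    have h2 : 4 * ((p + 1) ^ 2 + 1) = (2 * (p + 1) + 1) * (2 * p + 1) + 5 := by ring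
    rw [h2] at h4
    have h3 : (2 * (p + 1) + 1) ∣ 5 := (Nat.dvd_add_right (Dvd.intro _ rfl)).mp h4
    have := Nat.le_of_dvd (by norm_num) h3
    omega

/-- C4b. two classes. -/
theorem two_class_sum {q u₁ u₂ t₁ t₂ i₁ i₂ : ℕ} (hq : 4 ≤ q) (hu₁ : 5 ≤ u₁) (hu₂ : 5 ≤ u₂)
    (ht₁ : t₁ = 2 ∨ t₁ = 4) (ht₂ : t₂ = 2 ∨ t₂ = 4)
    (hN₁ : i₁ * (t₁ * u₁) = (q - 1) * q ^ 2 * (q ^ 2 + 1))
    (hN₂ : i₂ * (t₂ * u₂) = (q - 1) * q ^ 2 * (q ^ 2 + 1))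
    (hsum : 2 * (i₁ * (u₁ - 1) * u₁ + i₂ * (u₂ - 1) * u₂) = (q - 1) * q ^ 2 * (q ^ 2 + 1) * q)
    (hle : 2 * (i₁ * (u₁ - 1) + i₂ * (u₂ - 1)) + q ^ 2 * (q ^ 2 - 1) ≤
      (q - 1) * q ^ 2 * (q ^ 2 + 1)) :
    u₁ + u₂ = 2 * q + 2 := by
  obtain ⟨p, rfl⟩ : ∃ p, q = p + 1 := ⟨q - 1, by omega⟩
  obtain ⟨v₁, rfl⟩ : ∃ v, u₁ = v + 1 := ⟨u₁ - 1, by omega⟩
  obtain ⟨v₂, rfl⟩ : ∃ v, u₂ = v + 1 := ⟨u₂ - 1, by omega⟩
  have hp : 3 ≤ p := by omega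
  have hv₁ : 4 ≤ v₁ := by omega
  have hv₂ : 4 ≤ v₂ := by omega
  simp only [Nat.add_sub_cancel] at hN₁ hN₂ hsum hle
  have hΓ : 0 < p * (p + 1) ^ 2 * ((p + 1) ^ 2 + 1) := by positivity
  set Γ := p * (p + 1) ^ 2 * ((p + 1) ^ 2 + 1) with hΓdef
  -- lower bounds for the number of elements
  have hb₁ : 4 * Γ ≤ 5 * (t₁ * (i₁ * v₁)) := by
    rw [← hN₁]
    have : 5 * (t₁ * (i₁ * v₁)) = i₁ * t₁ * (5 * v₁) := by ring
    rw [this]
    have : 4 * (i₁ * (t₁ * (v₁ + 1))) = i₁ * t₁ * (4 * v₁ + 4) := by ring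
    rw [this]
    exact Nat.mul_le_mul_left _ (by omega)
  have hb₂ : 4 * Γ ≤ 5 * (t₂ * (i₂ * v₂)) := by
    rw [← hN₂]
    have : 5 * (t₂ * (i₂ * v₂)) = i₂ * t₂ * (5 * v₂) := by ring
    rw [this]
    have : 4 * (i₂ * (t₂ * (v₂ + 1))) = i₂ * t₂ * (4 * v₂ + 4) := by ring
    rw [this]
    exact Nat.mul_le_mul_left _ (by omega)
  have hle' : 2 * (i₁ * v₁ + i₂ * v₂) ≤ Γ := le_trans (Nat.le_add_right _ _) hle
  have ht₁4 : t₁ = 4 := by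
    rcases ht₁ with rfl | rfl
    · exfalso
      rcases ht₂ with rfl | rfl <;> omega
    · rfl
  have ht₂4 : t₂ = 4 := by
    rcases ht₂ with rfl | rfl
    · exfalso
      rcases ht₁ with rfl | rfl <;> omega
    · rfl
  subst ht₁4 ht₂4
  -- now the pair count
  set A := i₁ * (v₁ + 1) with hA
  set B := i₂ * (v₂ + 1) with hB
  have hA4 : 4 * A = Γ := by rw [← hN₁, hA]; ring
  have hB4 : 4 * B = Γ := by rw [← hN₂, hB]; ring
  have hAB : A = B := by omega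
  have hApos : 0 < A := by omega
  have h1 : A * (2 * (v₁ + v₂)) = A * (4 * (p + 1)) := by
    calc A * (2 * (v₁ + v₂)) = 2 * (A * v₁ + B * v₂) := by rw [← hAB]; ring
      _ = 2 * (i₁ * v₁ * (v₁ + 1) + i₂ * v₂ * (v₂ + 1)) := by rw [hA, hB]; ring
      _ = Γ * (p + 1) := hsum
      _ = A * (4 * (p + 1)) := by rw [← hA4]; ring
  have h2 := Nat.eq_of_mul_eq_mul_left hApos h1
  omega

end Cfsg.Agent.Lib.Helper3.Sz
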