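import Mathlib
import Cfsg.Prelude.Def_ClassicalGeometry
import Cfsg.Agent.Lib.Helper4.NdDefs

set_option autoImplicit false
open Matrix
open Cfsg.Agent.Lib.Helper99 (Nd dker sympB)

/-! S5956 hive (helper4), leaf ND-D3 : `fix_decomp`. -/

namespace Cfsg.Agent.Lib.Helper4.NdH

universe u v

variable {F : Type u} [Field F] {V : Type v} [AddCommGroup V] [Module F V]

theorem d3_skew (B : V →ₗ[F] V →ₗ[F] F) (hB : Alt B) (a b : V) : B a b = - B b a := by
  have h := hB (a + b)
  simp only [map_add, LinearMap.add_apply, hB a, hB b, zero_add, add_zero] at h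
  rw [add_comm] at h
  exact eq_neg_of_add_eq_zero_left h

theorem d3_pow_mem (f : Module.End F V) (X : Submodule F V) (hX : ∀ w ∈ X, f w ∈ X) (k : ℕ) :
    ∀ x ∈ X, (f ^ k) x ∈ X := by
  induction k with
  | zero => intro x hx; simpa using hx
  | succ k ih =>
    intro x hx
    rw [pow_succ, Module.End.mul_apply]
    exact ih _ (hX x hx)

theorem d3_pow_fix (f : Module.End F V) (x : V) (hx : f x = x) (k : ℕ) : (f ^ k) x = x := by
  induction k with
  | zero => simp
  | succ k ih => rw [pow_succ, Module.End.mul_apply, hx, ih]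

/-- `∑_{i<r} f^i = r + (f - 1) * T` -/
theorem d3_geom (f : Module.End F V) (r : ℕ) :
    ∑ i ∈ Finset.range r, f ^ i =
      (r : Module.End F V) + (f - 1) * ∑ i ∈ Finset.range r, ∑ j ∈ Finset.range i, f ^ j := by
  rw [Finset.mul_sum]
  have h : ∀ i ∈ Finset.range r, (f - 1) * ∑ j ∈ Finset.range i, f ^ j = f ^ i - 1 :=
    fun i _ => mul_geom_sum f i
  rw [Finset.sum_congr rfl h, Finset.sum_sub_distrib, Finset.sum_const, Finset.card_range,
    nsmul_eq_mul, mul_one]
  abel

/-- ND-D3 (FIX) -/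
theorem fix_decomp [FiniteDimensional F V] (B : V →ₗ[F] V →ₗ[F] F) (hB : Alt B) (y : V →ₗ[F] V)
    (hy : Isom B y) (r : ℕ) (hr : 0 < r) (hrF : (r : F) ≠ 0) (hyr : (y : Module.End F V) ^ r = 1)
    (X : Submodule F V) (hX : Inv y X) (hXnd : Nd B X) :
    ∃ C R : Submodule F V, C = X ⊓ LinearMap.ker (y - 1) ∧ R ≤ X ∧ C ⊓ R = ⊥ ∧ C ⊔ R = X ∧
      Perp B C R ∧ Nd B C ∧ Nd B R ∧ Inv y R ∧ ∀ v ∈ R, y v = v → v = 0 := by
  set f : Module.End F V := y with hf
  set S : Module.End F V := ∑ i ∈ Finset.range r, f ^ i with hS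
  set T : Module.End F V := ∑ i ∈ Finset.range r, ∑ j ∈ Finset.range i, f ^ j with hT
  have hST : S = (r : Module.End F V) + (f - 1) * T := d3_geom f r
  have h1 : (f - 1) * S = 0 := by rw [hS, mul_geom_sum, hyr, sub_self]
  have h2 : S * (f - 1) = 0 := by rw [hS, geom_sum_mul, hyr, sub_self]
  have hXf : ∀ w ∈ X, f w ∈ X := hX
  have hSX : ∀ x ∈ X, S x ∈ X := by
    intro x hx
    rw [hS, LinearMap.sum_apply]
    exact Submodule.sum_mem _ (fun i _ => d3_pow_mem f X hXf i x hx)
  have hTX : ∀ x ∈ X, T x ∈ X := by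
    intro x hx
    rw [hT, LinearMap.sum_apply]
    refine Submodule.sum_mem _ (fun i _ => ?_)
    rw [LinearMap.sum_apply]
    exact Submodule.sum_mem _ (fun j _ => d3_pow_mem f X hXf j x hx)
  have hSfix : ∀ x, f x = x → S x = (r : F) • x := by
    intro x hx
    rw [hS, LinearMap.sum_apply, Finset.sum_congr rfl (fun i _ => d3_pow_fix f x hx i),
      Finset.sum_const, Finset.card_range, Nat.cast_smul_eq_nsmul]
  have hnat : ∀ x : V, (r : Module.End F V) x = (r : F) • x := by
    intro x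
    rw [← nsmul_one, LinearMap.smul_apply, Module.End.one_apply, Nat.cast_smul_eq_nsmul]
  have hfm1 : ∀ x : V, (f - 1) x = f x - x := fun x => by
    rw [LinearMap.sub_apply, Module.End.one_apply]
  set C : Submodule F V := X ⊓ LinearMap.ker (y - 1) with hC
  set R : Submodule F V := X.map (f - 1) with hR
  have hCfix : ∀ c ∈ C, f c = c := by
    intro c hc
    have := LinearMap.mem_ker.mp hc.2
    rw [hfm1] at this
    exact sub_eq_zero.mp this
  have hRX : R ≤ X := by
    rintro _ ⟨w, hw, rfl⟩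
    rw [hfm1]
    exact X.sub_mem (hXf w hw) hw
  have hinf : C ⊓ R = ⊥ := by
    rw [Submodule.eq_bot_iff]
    rintro x ⟨hxC, w, hw, rfl⟩
    have h3 := hSfix _ (hCfix _ hxC)
    have h4 : S ((f - 1) w) = 0 := by
      rw [← Module.End.mul_apply, h2, LinearMap.zero_apply]
    rw [h4] at h3
    rcases smul_eq_zero.mp h3.symm with h5 | h5
    · exact absurd h5 hrF
    · exact h5
  have hsup : C ⊔ R = X := by
    apply le_antisymm (sup_le inf_le_left hRX)
    intro v hv
    have hdec : v = (r : F)⁻¹ • S v + (f - 1) (-((r : F)⁻¹ • T v)) := by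
      have h5 : S v = (r : F) • v + (f - 1) (T v) := by
        rw [hST, LinearMap.add_apply, hnat, Module.End.mul_apply]
      rw [h5, map_neg, map_smul, smul_add, smul_smul, inv_mul_cancel₀ hrF, one_smul]
      abel
    rw [hdec]
    refine Submodule.add_mem_sup (Submodule.mem_inf.mpr ⟨X.smul_mem _ (hSX v hv), ?_⟩)
      ⟨_, X.neg_mem (X.smul_mem _ (hTX v hv)), rfl⟩
    rw [LinearMap.mem_ker, map_smul]
    have : (y - 1) (S v) = 0 := by
      change (f - 1) (S v) = 0
      rw [← Module.End.mul_apply, h1, LinearMap.zero_apply]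
    rw [this, smul_zero]
  have hperp : Perp B C R := by
    rintro c hc _ ⟨w, hw, rfl⟩
    rw [hfm1, map_sub]
    have h6 : B c (f w) = B c w := by
      conv_lhs => rw [← hCfix c hc]
      exact hy c w
    rw [h6, sub_self]
  refine ⟨C, R, rfl, hRX, hinf, hsup, hperp, ?_, ?_, ?_, ?_⟩
  · intro c hc hcC
    apply hXnd c hc.1
    intro x hx
    rw [← hsup] at hx
    obtain ⟨c', hc', ρ, hρ, rfl⟩ := Submodule.mem_sup.mp hx
    rw [map_add, hcC c' hc', hperp c hc ρ hρ, add_zero]
  · intro ρ hρ hρR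
    apply hXnd ρ (hRX hρ)
    intro x hx
    rw [← hsup] at hx
    obtain ⟨c', hc', ρ', hρ', rfl⟩ := Submodule.mem_sup.mp hx
    rw [map_add, hρR ρ' hρ', d3_skew B hB ρ c', hperp c' hc' ρ hρ, neg_zero, add_zero]
  · rintro _ ⟨w, hw, rfl⟩
    refine ⟨f w, hXf w hw, ?_⟩
    rw [hfm1, hfm1, map_sub]
  · intro v hv hfix
    have hvC : v ∈ C := Submodule.mem_inf.mpr ⟨hRX hv, by
      rw [LinearMap.mem_ker, LinearMap.sub_apply, Module.End.one_apply, hfix, sub_self]⟩
    have : v ∈ C ⊓ R := ⟨hvC, hv⟩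
    rw [hinf] at this
    exact (Submodule.mem_bot F).mp this

end Cfsg.Agent.Lib.Helper4.NdH
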