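import Cfsg.Agent.Lib.Helper37.D4O8Defs

/-! # Do-SWAP1 (helper37's Do hive, S1082): the isometry swapping `e₄` and `f₄` is an involution. -/

set_option autoImplicit false
set_option linter.unusedSectionVars false
set_option linter.unusedVariables false

namespace Cfsg.Agent.Lib.Helper37.D4O8

open Matrix Module QuadraticMap
open Cfsg.Agent.Lib.Helper8 Cfsg.Agent.Lib.Helper13 Cfsg.Agent.Lib.Helper37

variable {F : Type*} [Field F]

/-- DO-SWAP-1. -/
theorem sw_mul_sw : sw F * sw F = 1 := by
  apply reflElt_ext
  intro x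
  rw [act_mul, act_sw, act_sw, act_one]
  apply ext8 <;> simp

end Cfsg.Agent.Lib.Helper37.D4O8
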