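import Cfsg.Agent.Lib.Helper37.D4O8Defs
import Cfsg.Agent.Lib.Helper55.Do_SWAP1

/-! # Do-SWAP3 core (helper37's Do hive, S1082): for a diagonal isometry `d`, `sw d sw⁻¹ d⁻¹ = h_13(c) h_12(c⁻¹)` with `c` the
`e₄`-entry of `d` — with the diagonal action `act_H_b` of `h_r(t)`, `8 ≤ r < 16` (leaf Do-HDIAG-b) as a hypothesis. -/

set_option autoImplicit false
set_option linter.unusedSectionVars false
set_option linter.unusedVariables false

namespace Cfsg.Agent.Lib.Helper37.D4O8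

open Matrix Module QuadraticMap
open Cfsg.Agent.Lib.Helper8 Cfsg.Agent.Lib.Helper13 Cfsg.Agent.Lib.Helper37

variable {F : Type*} [Field F]

theorem swap3_Xn_mem (r : ℕ) (t : F) : Xn r t ∈ EE F := by
  by_cases h : r < 24
  · rw [Xn_of_lt h]; exact X_mem_EE _ _
  · unfold Xn; rw [dif_neg h]; exact one_mem _

theorem swap3_wprod_mem (w : List (ℕ × F)) : wprod w ∈ EE F := by
  unfold wprod
  apply Subgroup.list_prod_mem
  intro g hg
  rw [List.mem_map] at hg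
  obtain ⟨p, -, rfl⟩ := hg
  exact swap3_Xn_mem p.1 p.2

/-- the diagonal entry of `d` at `i` -/
def swap3_ent (d : OG F) (i : I8) : F := ((d : GL I8 F) : Matrix I8 I8 F) i i

/-- the action of a diagonal isometry, coordinatewise -/
theorem swap3_act_apply (d : OG F) (hd : d ∈ DD F) (x : I8 → F) (i : I8) :
    act (Q8 F) d x i = swap3_ent d i * x i := by
  unfold act swap3_ent
  rw [Matrix.mulVec, dotProduct]
  rw [Finset.sum_eq_single i]
  · intro j _ hj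
    rw [hd i j hj.symm, zero_mul]
  · intro hi
    exact absurd (Finset.mem_univ i) hi

theorem swap3_act_diag (d : OG F) (hd : d ∈ DD F) (x : I8 → F) :
    act (Q8 F) d x =
      mk8 (swap3_ent d (Sum.inl 0) * ca1 x) (swap3_ent d (Sum.inl 1) * ca2 x)
        (swap3_ent d (Sum.inl 2) * ca3 x) (swap3_ent d (Sum.inl 3) * ca4 x)
        (swap3_ent d (Sum.inr 0) * cb1 x) (swap3_ent d (Sum.inr 1) * cb2 x)
        (swap3_ent d (Sum.inr 2) * cb3 x) (swap3_ent d (Sum.inr 3) * cb4 x) := by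
  apply ext8 <;>
    simp only [ca1_mk8, ca2_mk8, ca3_mk8, ca4_mk8, cb1_mk8, cb2_mk8, cb3_mk8, cb4_mk8]
  · exact swap3_act_apply d hd x _
  · exact swap3_act_apply d hd x _
  · exact swap3_act_apply d hd x _
  · exact swap3_act_apply d hd x _
  · exact swap3_act_apply d hd x _
  · exact swap3_act_apply d hd x _
  · exact swap3_act_apply d hd x _
  · exact swap3_act_apply d hd x _

/-- the `e₄`- and `f₄`-entries of a diagonal isometry are inverse to each other -/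
theorem swap3_ent_mul (d : OG F) (hd : d ∈ DD F) :
    swap3_ent d (Sum.inl 3) * swap3_ent d (Sum.inr 3) = 1 := by
  have h := Q_act (Q8 F) d (mk8 0 0 0 1 0 0 0 1)
  rw [swap3_act_diag d hd, Q8_apply, Q8_apply] at h
  simpa using h

theorem swap3_core
    (hH : ∀ (r : Fin 24) (hr : 8 ≤ r.val) (hr' : r.val < 16) (t : F) (ht : t ≠ 0) (x : I8 → F),
      act (Q8 F) (wprod (Cfsg.Lie.chevD4.hWord (r : ℕ) t)) x =
        mk8 (ha1 r t * ca1 x) (ha2 r t * ca2 x) (ha3 r t * ca3 x) (ha4 r t * ca4 x)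
          ((ha1 r t)⁻¹ * cb1 x) ((ha2 r t)⁻¹ * cb2 x) ((ha3 r t)⁻¹ * cb3 x) ((ha4 r t)⁻¹ * cb4 x)) :
    ∀ d ∈ DD F, sw F * d * (sw F)⁻¹ * d⁻¹ ∈ EE F := by
  intro d hd
  set c := swap3_ent d (Sum.inl 3) with hc
  set c' := swap3_ent d (Sum.inr 3) with hc'
  have hcc : c * c' = 1 := swap3_ent_mul d hd
  have hc0 : c ≠ 0 := left_ne_zero_of_mul_eq_one hcc
  have hc'0 : c' ≠ 0 := right_ne_zero_of_mul_eq_one hcc
  have hc'_eq : c' = c⁻¹ := eq_inv_of_mul_eq_one_right hcc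
  have hsw : (sw F)⁻¹ = sw F := inv_eq_of_mul_eq_one_left sw_mul_sw
  have key : sw F * d * (sw F)⁻¹ * d⁻¹ =
      wprod (Cfsg.Lie.chevD4.hWord 13 c) * wprod (Cfsg.Lie.chevD4.hWord 12 c⁻¹) := by
    rw [mul_inv_eq_iff_eq_mul, hsw]
    apply reflElt_ext
    intro x
    have h13 : ∀ x : I8 → F, act (Q8 F) (wprod (Cfsg.Lie.chevD4.hWord 13 c)) x =
        mk8 (ha1 13 c * ca1 x) (ha2 13 c * ca2 x) (ha3 13 c * ca3 x) (ha4 13 c * ca4 x)
          ((ha1 13 c)⁻¹ * cb1 x) ((ha2 13 c)⁻¹ * cb2 x) ((ha3 13 c)⁻¹ * cb3 x) ((ha4 13 c)⁻¹ * cb4 x) :=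
      hH 13 (by decide) (by decide) c hc0
    have h12 : ∀ x : I8 → F, act (Q8 F) (wprod (Cfsg.Lie.chevD4.hWord 12 c⁻¹)) x =
        mk8 (ha1 12 c⁻¹ * ca1 x) (ha2 12 c⁻¹ * ca2 x) (ha3 12 c⁻¹ * ca3 x) (ha4 12 c⁻¹ * ca4 x)
          ((ha1 12 c⁻¹)⁻¹ * cb1 x) ((ha2 12 c⁻¹)⁻¹ * cb2 x) ((ha3 12 c⁻¹)⁻¹ * cb3 x)
          ((ha4 12 c⁻¹)⁻¹ * cb4 x) :=
      hH 12 (by decide) (by decide) c⁻¹ (inv_ne_zero hc0)
    rw [act_mul, act_mul, act_mul, act_mul, act_sw, swap3_act_diag d hd, act_sw, swap3_act_diag d hd x]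
    rw [h12, h13]
    apply ext8 <;>
      simp only [ca1_mk8, ca2_mk8, ca3_mk8, ca4_mk8, cb1_mk8, cb2_mk8, cb3_mk8, cb4_mk8] <;>
      simp [ha1, ha2, ha3, ha4, ← hc, ← hc', hc'_eq] <;> field_simp <;> simp
  rw [key]
  exact mul_mem (swap3_wprod_mem _) (swap3_wprod_mem _)

end Cfsg.Agent.Lib.Helper37.D4O8
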