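import Cfsg.Agent.Lib.Helper37.D4O8Defs
import Cfsg.Agent.Lib.Helper55.Do_SWAP3core
import Cfsg.Agent.Lib.Helper27.Do_HDIAGb

/-! # Do-SWAP3 (helper37's Do hive, S1082): `sw d sw⁻¹ d⁻¹ ∈ EE` for diagonal isometries `d`. -/

set_option autoImplicit false
set_option linter.unusedSectionVars false
set_option linter.unusedVariables false

namespace Cfsg.Agent.Lib.Helper37.D4O8

open Matrix Module QuadraticMap
open Cfsg.Agent.Lib.Helper8 Cfsg.Agent.Lib.Helper13 Cfsg.Agent.Lib.Helper37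

variable {F : Type*} [Field F]

/-- DO-SWAP-3. A diagonal isometry is `diag(d₁..d₄; d₁⁻¹..d₄⁻¹)`; `sw d sw⁻¹ d⁻¹ = diag(1,1,1,d₄⁻²; 1,1,1,d₄²)`
`= h_{ε₃-ε₄}(c) h_{ε₃+ε₄}(c)⁻¹` for a suitable `c = d₄^{±1}` (roots 13 and 12; `act_H`, `reflElt_ext`). -/
theorem sw_comm_DD : ∀ d ∈ DD F, sw F * d * (sw F)⁻¹ * d⁻¹ ∈ EE F :=
  swap3_core (fun r hr hr' t ht x => act_H_b r hr hr' t ht x)

end Cfsg.Agent.Lib.Helper37.D4O8
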