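import Mathlib
import Cfsg.Agent.Lib.Helper37.FusDefs

/-!
# FUS-C sub-hive (owner helper61), leaf FUSC-EXT : `fusC_extend`
-/

set_option autoImplicit false

namespace Cfsg.Agent.Lib.Helper37.Fus

open Polynomial

universe u v

variable {F : Type u} [Field F]

section partB

variable {V : Type v} [AddCommGroup V] [Module F V]

theorem fusCEXT_rfl_coe (B : LinearMap.BilinForm F V) (W : Submodule F V) (w x : W) :
    rfl B (w : V) (x : V) = ((rfl (B.restrict W) w x : W) : V) := by
  rw [rfl_apply, rfl_apply]
  simp [LinearMap.BilinForm.restrict_apply]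

theorem fusCEXT_prod_coe (B : LinearMap.BilinForm F V) (W : Submodule F V) (ws : List W) (x : W) :
    (ws.map (fun w : W => rfl B (w : V))).prod (x : V) =
      (((ws.map (rfl (B.restrict W))).prod x : W) : V) := by
  induction ws generalizing x with
  | nil => simp
  | cons w ws ih =>
    rw [List.map_cons, List.prod_cons, List.map_cons, List.prod_cons, Module.End.mul_apply,
      Module.End.mul_apply, ih, fusCEXT_rfl_coe]

theorem fusCEXT_prod_perp (B : LinearMap.BilinForm F V) (W : Submodule F V) (ws : List W) (z : V)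
    (hz : ∀ w ∈ W, B w z = 0) :
    (ws.map (fun w : W => rfl B (w : V))).prod z = z := by
  induction ws with
  | nil => simp
  | cons w ws ih =>
    rw [List.map_cons, List.prod_cons, Module.End.mul_apply, ih, rfl_apply, hz w w.2]
    simp

/-- FUSC-EXT -/
theorem fusC_extend [FiniteDimensional F V] (B : LinearMap.BilinForm F V)
    (hs : ∀ u v, B u v = B v u) (hnd : ∀ u, (∀ v, B u v = 0) → u = 0)
    (a : V →ₗ[F] V) (ha : ∀ u v, B (a u) (a v) = B u v)
    (W : Submodule F V) (hWa : ∀ w ∈ W, a w ∈ W)
    (hWnd : ∀ u ∈ W, (∀ v ∈ W, B u v = 0) → u = 0)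
    (ws : List W)
    (hcomm : (ws.map (rfl (B.restrict W))).prod * a.restrict hWa =
      a.restrict hWa * (ws.map (rfl (B.restrict W))).prod) :
    (ws.map (fun w : W => rfl B (w : V))).prod * a = a * (ws.map (fun w : W => rfl B (w : V))).prod := by
  have hrefl : B.IsRefl := fun x y h => by rw [hs]; exact h
  have hreflW : (B.restrict W).IsRefl := fun x y h => by
    have h' : B (x : V) (y : V) = 0 := h
    change B (y : V) (x : V) = 0
    rw [hs]; exact h'
  have b₂ : (B.restrict W).Nondegenerate := by
    refine (LinearMap.IsRefl.nondegenerate_iff_separatingLeft hreflW).mpr ?_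
    intro x hx
    exact Subtype.ext (hWnd x x.2 (fun v hv => by
      have h' : B (x : V) v = 0 := hx ⟨v, hv⟩
      exact h'))
  have hc : IsCompl W (B.orthogonal W) :=
    LinearMap.BilinForm.isCompl_orthogonal_of_restrict_nondegenerate hrefl b₂
  -- `a` restricted to `W` is bijective
  have hinj : Function.Injective (a.restrict hWa) := by
    rw [← LinearMap.ker_eq_bot, LinearMap.ker_eq_bot']
    intro x hx
    apply Subtype.ext
    apply hWnd x x.2
    intro v hv
    have h1 : a (x : V) = 0 := by
      have := congrArg (Subtype.val) hx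
      simpa [LinearMap.restrict_apply] using this
    rw [← ha, h1]
    simp
  have hsurj : Function.Surjective (a.restrict hWa) :=
    LinearMap.injective_iff_surjective.mp hinj
  have hperp : ∀ z ∈ B.orthogonal W, a z ∈ B.orthogonal W := by
    intro z hz
    rw [LinearMap.BilinForm.mem_orthogonal_iff]
    intro w hw
    obtain ⟨w', hw'⟩ := hsurj ⟨w, hw⟩
    have h2 : a (w' : V) = w := by
      have := congrArg (Subtype.val) hw'
      simpa [LinearMap.restrict_apply] using this
    show B w (a z) = 0
    rw [← h2, ha]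
    exact hz w' w'.2
  apply LinearMap.ext
  intro v
  have hv : v ∈ W ⊔ B.orthogonal W := by rw [hc.sup_eq_top]; exact Submodule.mem_top
  obtain ⟨x, hx, z, hz, rfl⟩ := Submodule.mem_sup.mp hv
  have hz' : ∀ w ∈ W, B w z = 0 := fun w hw => hz w hw
  have haz' : ∀ w ∈ W, B w (a z) = 0 := fun w hw => hperp z hz w hw
  rw [Module.End.mul_apply, Module.End.mul_apply, map_add, map_add, map_add, map_add,
    fusCEXT_prod_perp B W ws z hz', fusCEXT_prod_perp B W ws (a z) haz']
  congr 1
  have h3 := fusCEXT_prod_coe B W ws ⟨a x, hWa x hx⟩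
  have h4 := fusCEXT_prod_coe B W ws ⟨x, hx⟩
  simp only at h3 h4
  rw [h3, h4]
  have h5 := congrArg (fun φ : Module.End F W => ((φ ⟨x, hx⟩ : W) : V)) hcomm
  simp only [Module.End.mul_apply] at h5
  have h6 : (a.restrict hWa) ⟨x, hx⟩ = ⟨a x, hWa x hx⟩ := Subtype.ext (by simp [LinearMap.restrict_apply])
  rw [h6] at h5
  rw [h5]
  simp [LinearMap.restrict_apply]

end partB

end Cfsg.Agent.Lib.Helper37.Fus
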