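import Cfsg.Agent.Lib.Helper37.GtDefs2
import Cfsg.Agent.Lib.Helper6.BN3
import Cfsg.Agent.Lib.Helper36.ChevSimple
import Cfsg.Agent.S1045

/-! # Gt hive (S2734), leaf GT-TITS (helper55)

A normal subgroup of `G₂(F)` (any field `F`, including `𝔽₂`) is trivial or supplements the Borel subgroup:
the dichotomy part of Tits' simplicity criterion for an irreducible (B,N)-pair with core-free `B`. -/

set_option autoImplicit false
set_option linter.unusedSectionVars false
set_option linter.unusedVariables false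

namespace Cfsg.Agent.Lib.Helper37.Gt

open Matrix
open Cfsg Cfsg.Lie Cfsg.Agent.Lib.Helper36

section general

open Cfsg.Agent.Lib.Helper6
open scoped Pointwise

/-- Tits' dichotomy: a normal subgroup of a group with an irreducible (B,N)-pair and core-free `B` is trivial or
supplements `B`. -/
theorem tits_dichotomy {G : Type*} [Group G] (P : Cfsg.BNPair G) (hirr : P.Irreducible)
    (hcore : P.B.normalCore = ⊥) (K : Subgroup G) [hK : K.Normal] : K = ⊥ ∨ K ⊔ P.B = ⊤ := by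
  have hB : P.B ≤ K ⊔ P.B := le_sup_right
  have hM := overgroup_eq_parabolic hB
  set J : Set G := P.S ∩ ((K ⊔ P.B : Subgroup G) : Set G) with hJdef
  have hJS : J ⊆ P.S := Set.inter_subset_left
  have hcomm : ∀ s1 ∈ J, ∀ s2 ∈ P.S \ J, s1 * s2 * s1⁻¹ * s2⁻¹ ∈ P.B := by
    rintro s1 ⟨hs1, hs1M⟩ s2 ⟨hs2, hs2J⟩
    have hs2M : s2 ∉ K ⊔ P.B := fun h => hs2J ⟨hs2, h⟩
    have hs1N := P.subset hs1
    have hs2N := P.subset hs2
    have hmem : s1 ∈ ((K ⊔ P.B : Subgroup G) : Set G) := hs1M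
    rw [Subgroup.normal_mul] at hmem
    obtain ⟨k, hk, b, hb, hkb⟩ := Set.mem_mul.1 hmem
    have hkeq : k = s1 * b⁻¹ := by rw [← hkb]; group
    have hk' : s2 * k * s2⁻¹ ∈ K := hK.conj_mem k hk s2
    have hk'M : s2 * k * s2⁻¹ ∈ K ⊔ P.B := Subgroup.mem_sup_left hk'
    have hg : s2 * s1 * b⁻¹ ∈ C P (s2 * s1) :=
      mul_mem_C_right P (P.B.inv_mem hb) (self_mem_C P _)
    have h3 := T3_right_inv P hs2 (P.N.mul_mem hs2N hs1N) hg
    have e3 : s2 * s1 * b⁻¹ * s2⁻¹ = s2 * k * s2⁻¹ := by rw [hkeq]; group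
    rw [e3, C_mul_inv P hs2] at h3
    have hrepM : ∀ n : G, s2 * k * s2⁻¹ ∈ C P n → n ∈ K ⊔ P.B := by
      intro n hn
      rw [mem_C] at hn
      obtain ⟨a, ha, c, hc, he⟩ := hn
      have e : n = a⁻¹ * (s2 * k * s2⁻¹) * c⁻¹ := by rw [he]; group
      rw [e]
      exact Subgroup.mul_mem _ (Subgroup.mul_mem _ (Subgroup.inv_mem _ (hB ha)) hk'M)
        (Subgroup.inv_mem _ (hB hc))
    rcases h3 with h3 | h3
    · have hn := hrepM _ h3
      have e : s2 * s1 * s2 = s2 * (s1 * s2) := by group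
      rw [e] at hn
      exact comm_of_conj_mem hB hs1 hs2 hs1M hs2M hn
    · exfalso
      have hn := hrepM _ h3
      apply hs2M
      have e : s2 = (s2 * s1) * s1⁻¹ := by group
      rw [e]
      exact Subgroup.mul_mem _ hn (Subgroup.inv_mem _ hs1M)
  by_cases hJne : J.Nonempty
  · by_cases hJc : (P.S \ J).Nonempty
    · exfalso
      obtain ⟨s, hs, s', hs', hnot⟩ := hirr J hJS hJne hJc
      exact hnot (hcomm s hs s' hs')
    · right
      have hJeq : J = P.S := by
        apply Set.Subset.antisymm hJS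
        intro x hx
        by_contra hxJ
        exact hJc ⟨x, hx, hxJ⟩
      rw [hM, hJeq, parabolic_S]
  · left
    have hJeq : J = ∅ := Set.not_nonempty_iff_eq_empty.1 hJne
    have hKB : K ⊔ P.B = P.B := by
      rw [hM, hJeq]
      unfold BNPair.parabolic
      simp
    have hle : K ≤ P.B := by rw [← hKB]; exact le_sup_left
    have := (Subgroup.normal_le_normalCore (H := P.B) (N := K)).2 hle
    rw [hcore] at this
    exact le_bot_iff.1 this

end general

variable {F : Type*} [Field F]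

/-- GT-TITS -/
theorem g2_normal_dichotomy (N : Subgroup ↥(chevG2.group F)) [N.Normal] :
    N = ⊥ ∨ N ⊔ (chevG2.borelSubgroup F).subgroupOf (chevG2.group F) = ⊤ := by
  have hD : chevG2 ∈ [chevG2, chevB2, chevD4, chevF4, chevE6, chevE7, chevE8] := by simp
  have h45 : ∀ i < chevG2.rank, H45 chevG2 F i := fun i hi => Cfsg.Agent.S1045.result chevG2 hD i hi
  obtain ⟨P, hB, hN, hS⟩ := exists_bnPair chevG2 hD F h45
  have hNG := monomial_le_group chevG2 hD F
  have hirr : P.Irreducible := by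
    intro J hJ hJne hJc
    let sG : (i : ℕ) → i < chevG2.rank → ↥(chevG2.group F) := fun i hi =>
      ⟨nGL chevG2 hD F (chevG2.simple i) 1, hNG (nS_mem_monomial chevG2 hD F i hi)⟩
    have hsG : ∀ i (hi : i < chevG2.rank), sG i hi ∈ P.S := by
      intro i hi
      rw [hS]
      exact ⟨i, hi, nGL_coe chevG2 hD F _ _⟩
    have hS' : ∀ s ∈ P.S, ∃ i, ∃ hi : i < chevG2.rank, s = sG i hi := by
      intro s hs
      rw [hS] at hs
      obtain ⟨i, hi, e⟩ := hs
      exact ⟨i, hi, Subtype.ext (Units.ext (by rw [e]; exact (nGL_coe chevG2 hD F _ _).symm))⟩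
    obtain ⟨s0, hs0⟩ := hJne
    obtain ⟨s1, hs1, hs1'⟩ := hJc
    obtain ⟨i0, hi0, rfl⟩ := hS' s0 (hJ hs0)
    obtain ⟨j0, hj0, rfl⟩ := hS' s1 hs1
    obtain ⟨i, j, hi, hj, ⟨hi', hpi⟩, hpj, hadj⟩ :=
      exists_adj chevG2 hD (fun i => ∃ hi : i < chevG2.rank, sG i hi ∈ J)
        i0 j0 hi0 hj0 ⟨hi0, hs0⟩ (fun ⟨_, h⟩ => hs1' h)
    refine ⟨sG i hi, hpi, sG j hj, ⟨hsG j hj, fun h => hpj ⟨hj, h⟩⟩, ?_⟩
    rw [hB, Subgroup.mem_subgroupOf]
    exact comm_not_mem_borel' chevG2 hD F i j hi hj hadj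
  have hcore : P.B.normalCore = ⊥ := by
    rw [hB]
    exact borel_normalCore chevG2 hD F
  have h := tits_dichotomy P hirr hcore N
  rw [hB] at h
  exact h

end Cfsg.Agent.Lib.Helper37.Gt
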