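import Mathlib
import Cfsg.Agent.Lib.Helper38.RhDefs
import Cfsg.Agent.Lib.Helper13.RhCNT
import Cfsg.Agent.Lib.Helper2.RhT5
import Cfsg.Agent.Lib.Helper33.RhT2
import Cfsg.Agent.Lib.Helper34.RhAR5
import Cfsg.Agent.Lib.Helper40.RhT4
import Cfsg.Agent.Lib.Helper70.RhREPS
import Cfsg.Agent.Lib.Helper8.RhAR3
import Cfsg.Agent.Lib.Helper85.RhSUM
import Cfsg.Agent.Lib.Helper70.RhAR0
import Cfsg.Agent.Lib.Helper74.RhPROD

/-! # RH-MAIN (helper38's Rh hive): the abstract assembly `exists_hall_tori` — cyclic Hall tori of order `q ± r + 1` with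
normalisers of index `6` in a group of the order of `²G₂(q)` satisfying `TorusHyp` and the count of elements of order dividing `N`. -/

set_option autoImplicit false

namespace Cfsg.Agent.Lib.Helper38.Rh

theorem main_NN_ne_zero (m : ℕ) : NN m ≠ 0 := by
  unfold NN
  exact Nat.succ_ne_zero _

/-- the rational form of the TI count for one torus -/
theorem main_card_conjUnion {G : Type*} [Group G] [Finite G] (T : Subgroup G) (w : ℕ) (hw : w ≠ 0)
    (hN : Nat.card ↥(Subgroup.normalizer (T : Set G)) = w * Nat.card ↥T)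
    (hcu : Nat.card ↥(conjUnion T) * Nat.card ↥(Subgroup.normalizer (T : Set G)) =
      Nat.card G * (Nat.card ↥T - 1)) :
    (Nat.card ↥(conjUnion T) : ℚ) =
      (Nat.card G : ℚ) * (((Nat.card ↥T : ℚ) - 1) / ((w : ℚ) * (Nat.card ↥T : ℚ))) := by
  have htpos : 0 < Nat.card ↥T := Nat.card_pos
  have ht0 : (Nat.card ↥T : ℚ) ≠ 0 := by exact_mod_cast htpos.ne'
  have hw0 : (w : ℚ) ≠ 0 := by exact_mod_cast hw
  have h1 : ((Nat.card ↥T - 1 : ℕ) : ℚ) = (Nat.card ↥T : ℚ) - 1 := by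
    rw [Nat.cast_sub htpos]; simp
  have h2 : (Nat.card ↥(conjUnion T) : ℚ) * ((w : ℚ) * (Nat.card ↥T : ℚ)) =
      (Nat.card G : ℚ) * ((Nat.card ↥T : ℚ) - 1) := by
    rw [← h1]
    rw [hN] at hcu
    exact_mod_cast hcu
  rw [← mul_div_assoc, eq_div_iff (mul_ne_zero hw0 ht0)]
  exact h2

/-- RH-MAIN.  A group of the order of `²G₂(q)` satisfying `TorusHyp` and the count of the elements of order dividing `N`
(with an a priori unknown index `w₁ ∈ {2,4,6}` of the `(q+1)`-torus in its normaliser) has `w₁ = 6` and cyclic subgroups of order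
`q + r + 1` and `q - r + 1` with normalisers of index `6`, and `N(A₀) = N(A)`.
(Take `R` from RH-REPS; `t T = |T|`, `w T = |N(T)| / |T|`; RH-T4, RH-AR1 give the hypotheses of RH-AR5 / RH-AR3; RH-T5 + RH-CNT
give `|conjUnion T| = |G| (t - 1) / (w t)`; RH-SUM turns `hcount` into the equation; RH-PROD + RH-AR2 give the product; RH-T2.) -/
theorem exists_hall_tori {G : Type*} [Group G] [Finite G] (m : ℕ) (hm : 1 ≤ m) (hcard : Nat.card G = gg m)
    (h : TorusHyp G (NN m)) (w₁ : ℕ) (hw₁ : w₁ = 2 ∨ w₁ = 4 ∨ w₁ = 6)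
    (hcount : (Nat.card {y : G // y ≠ 1 ∧ orderOf y ∣ NN m} : ℚ) +
      (gg m : ℚ) * ((qq m : ℚ) - 3) / ((w₁ : ℚ) * ((qq m : ℚ) + 1)) = (gg m : ℚ) * EE m) :
    w₁ = 6 ∧ ∀ k ∈ ({qq m + rr m + 1, qq m - rr m + 1} : Set ℕ), ∃ A : Subgroup G, IsCyclic ↥A ∧ Nat.card ↥A = k ∧
      Nat.card ↥(Subgroup.normalizer (A : Set G)) = 6 * k ∧
      ∀ A₀ : Subgroup G, A₀ ≤ A → A₀ ≠ ⊥ →
        Subgroup.normalizer (A₀ : Set G) = Subgroup.normalizer (A : Set G) := by
  classical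
  obtain ⟨R, hR⟩ := exists_reps (G := G) (NN m)
  have hbasic : ∀ T ∈ R, IsCyclic ↥T ∧ Nat.card ↥T ∣ NN m ∧ 1 < Nat.card ↥T ∧
      ∃ w : ℕ, w ∣ 6 ∧ Nat.card ↥(Subgroup.normalizer (T : Set G)) = w * Nat.card ↥T :=
    fun T hT => torus_basic h (hR.torus T hT)
  -- the two functions
  set t : Subgroup G → ℕ := fun T => Nat.card ↥T with ht_def
  set w : Subgroup G → ℕ :=
    fun T => Nat.card ↥(Subgroup.normalizer (T : Set G)) / Nat.card ↥T with hw_def
  have hwT : ∀ T ∈ R, w T ∣ 6 ∧ Nat.card ↥(Subgroup.normalizer (T : Set G)) = w T * t T := by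
    intro T hT
    obtain ⟨-, -, h1, w', hw'6, hw'⟩ := hbasic T hT
    have hpos : 0 < Nat.card ↥T := by omega
    have : w T = w' := by
      simp only [hw_def]
      rw [hw', Nat.mul_div_cancel _ hpos]
    rw [this]
    exact ⟨hw'6, hw'⟩
  have ht7 : ∀ T ∈ R, 7 ≤ t T := by
    intro T hT
    obtain ⟨-, hdvd, h1, -⟩ := hbasic T hT
    exact seven_le_of_dvd_NN m hdvd h1
  have hw6 : ∀ T ∈ R, w T ∣ 6 := fun T hT => (hwT T hT).1
  have hfac : ∀ p : ℕ, p.Prime → p ∣ NN m → (Nat.card G).factorization p = (NN m).factorization p := by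
    intro p hp hpN
    rw [hcard]
    exact factorization_gg m hm hp hpN
  have hprod : ∏ T ∈ R, t T = NN m := prod_card_reps h (main_NN_ne_zero m) hfac hR
  -- the count
  have hgg0 : (gg m : ℚ) ≠ 0 := by
    have : 0 < Nat.card G := Nat.card_pos
    rw [hcard] at this
    exact_mod_cast this.ne'
  have hcu : ∀ T ∈ R, (Nat.card ↥(conjUnion T) : ℚ) =
      (gg m : ℚ) * (((t T : ℚ) - 1) / ((w T : ℚ) * (t T : ℚ))) := by
    intro T hT
    have hw0 : w T ≠ 0 := by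
      intro h0
      have := hw6 T hT
      rw [h0] at this
      omega
    have := main_card_conjUnion T (w T) hw0 (hwT T hT).2
      (card_conjUnion T (fun g => torus_ti h (hR.torus T hT) g))
    rw [hcard] at this
    exact this
  have hsum0 : (Nat.card {y : G // y ≠ 1 ∧ orderOf y ∣ NN m} : ℚ) =
      (gg m : ℚ) * ∑ T ∈ R, (((t T : ℚ) - 1) / ((w T : ℚ) * (t T : ℚ))) := by
    rw [card_order_dvd h hR, Nat.cast_sum, Finset.mul_sum]
    exact Finset.sum_congr rfl hcu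
  have hEq : ((qq m : ℚ) - 3) / ((w₁ : ℚ) * ((qq m : ℚ) + 1)) +
      ∑ T ∈ R, (((t T : ℚ) - 1) / ((w T : ℚ) * (t T : ℚ))) = EE m := by
    apply mul_left_cancel₀ hgg0
    rw [← hcount, hsum0, mul_add, mul_div_assoc, add_comm]
  have hw1 : w₁ = 6 := w1_eq_six m hm R t w ht7 hw6 hprod w₁ hw₁ hEq
  refine ⟨hw1, ?_⟩
  have hEq2 : ∑ T ∈ R, (((t T : ℚ) - 1) / ((w T : ℚ) * (t T : ℚ))) =
      ((qq m : ℚ) ^ 2 - 2 * (qq m : ℚ)) / (3 * (NN m : ℚ)) := by
    have h6 : (w₁ : ℚ) = 6 := by exact_mod_cast hw1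
    rw [h6] at hEq
    unfold EE at hEq
    exact add_left_cancel hEq
  obtain ⟨i, hi, j, hj, hti, hwi, htj, hwj⟩ := arith_main m hm R t w ht7 hw6 hprod hEq2
  have key : ∀ T ∈ R, ∀ k : ℕ, t T = k → w T = 6 → ∃ A : Subgroup G, IsCyclic ↥A ∧ Nat.card ↥A = k ∧
      Nat.card ↥(Subgroup.normalizer (A : Set G)) = 6 * k ∧
      ∀ A₀ : Subgroup G, A₀ ≤ A → A₀ ≠ ⊥ →
        Subgroup.normalizer (A₀ : Set G) = Subgroup.normalizer (A : Set G) := by
    intro T hT k htk hwk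
    refine ⟨T, (hbasic T hT).1, htk, ?_, ?_⟩
    · rw [(hwT T hT).2, hwk, htk]
    · intro A₀ hA hne
      exact torus_normalizer_eq h (hR.torus T hT) A₀ hA hne
  intro k hk
  simp only [Set.mem_insert_iff, Set.mem_singleton_iff] at hk
  rcases hk with rfl | rfl
  · exact key i hi _ hti hwi
  · exact key j hj _ htj hwj

end Cfsg.Agent.Lib.Helper38.Rh
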