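import Mathlib
import Cfsg.Prelude.Def_ClassicalGeometry
import Cfsg.Prelude.Def_GeometricClasses
import Cfsg.Agent.Lib.Helper5.HyDefs
import Cfsg.Agent.Lib.Helper33.TiCW
import Cfsg.Agent.Lib.Helper83.HyT3
import Cfsg.Agent.Lib.Helper55.TiPEEL
import Cfsg.Agent.Lib.Helper55.HySUP

/-! # Characteristic-free twin of HY-T3 (`exists_nd_of_type`) for quadratic forms over finite fields:
core with explicit (unfolded) definitions.  Used by the generic `(ε, δ)` layer of helper39
(Qe / Hq / Qm hives, S5988 / S5974 / S5990). -/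

set_option autoImplicit false

namespace Cfsg.Agent.Lib.Helper55.EqT3

open Module
open Cfsg.Agent.Lib.Helper2.BG Cfsg.Agent.Lib.Helper99 Cfsg.Agent.Lib.Helper48.Ti
open Cfsg.Agent.Lib.Helper5.Hy

section abstract

variable {F V : Type*} [Field F] [Fintype F] [AddCommGroup V] [Module F V] [FiniteDimensional F V]

/-- plus type of a subspace for a quadratic form (explicit) -/
def PlusE (Q : QuadraticForm F V) (W : Submodule F V) : Prop :=
  ∃ U : Submodule F V, U ≤ W ∧ (∀ u ∈ U, Q u = 0) ∧ 2 * finrank F U = finrank F W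

omit [Fintype F] [FiniteDimensional F V] in
theorem pb_apply (Q : QuadraticForm F V) (u v : V) :
    QuadraticMap.polarBilin Q u v = QuadraticMap.polar Q u v := rfl

omit [Fintype F] [FiniteDimensional F V] in
theorem pb_symm (Q : QuadraticForm F V) (u v : V) :
    QuadraticMap.polarBilin Q u v = QuadraticMap.polarBilin Q v u := by
  rw [pb_apply, pb_apply, QuadraticMap.polar_comm]

omit [Fintype F] [FiniteDimensional F V] in
theorem pb_self (Q : QuadraticForm F V) (u : V) :
    QuadraticMap.polarBilin Q u u = 2 * Q u := by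
  rw [pb_apply, QuadraticMap.polar_self]
  simp

omit [Fintype F] [FiniteDimensional F V] in
/-- the value of `Q` on a sum -/
theorem q_add (Q : QuadraticForm F V) (u v : V) :
    Q (u + v) = Q u + Q v + QuadraticMap.polarBilin Q u v := by
  rw [pb_apply]
  unfold QuadraticMap.polar
  ring

omit [Fintype F] [FiniteDimensional F V] in
theorem q_smul (Q : QuadraticForm F V) (c : F) (u : V) : Q (c • u) = c * c * Q u := by
  rw [QuadraticMap.map_smul, smul_eq_mul]

/-- Chevalley–Warning: a singular vector in a subspace of dimension at least three -/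
theorem exists_singular (Q : QuadraticForm F V) {Z : Submodule F V} (h3 : 3 ≤ finrank F Z) :
    ∃ v ∈ Z, v ≠ 0 ∧ Q v = 0 := by
  classical
  let bm : Basis (Fin (finrank F V)) F V := Module.finBasis F V
  have hQ : ∀ v, Q v = (Q.toBilin bm) v v := by
    intro v
    have h := QuadraticMap.toQuadraticMap_toBilin Q bm
    have h2 := congrArg (fun q : QuadraticMap F V F => q v) h
    simp only [LinearMap.BilinMap.toQuadraticMap_apply] at h2
    exact h2.symm
  obtain ⟨v, hvZ, hv0, hv⟩ := cw_vector (Q.toBilin bm) 1 (fun _ => (1 : Module.End F V)) Z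
    (by omega)
  refine ⟨v, hvZ, hv0, ?_⟩
  rw [hQ v]
  exact hv 0

/-- a hyperbolic pair in a nondegenerate subspace of dimension at least three -/
theorem exists_hyp (Q : QuadraticForm F V) {Z : Submodule F V}
    (hZ : Nd (QuadraticMap.polarBilin Q) Z) (h3 : 3 ≤ finrank F Z) :
    ∃ e ∈ Z, ∃ f ∈ Z, Q e = 0 ∧ Q f = 0 ∧ QuadraticMap.polarBilin Q e f = 1 := by
  obtain ⟨e, heZ, he0, hQe⟩ := exists_singular Q h3
  have hex : ∃ g ∈ Z, QuadraticMap.polarBilin Q e g ≠ 0 := by
    by_contra hcon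
    push Not at hcon
    exact he0 (hZ e heZ hcon)
  obtain ⟨g, hgZ, heg⟩ := hex
  obtain ⟨g', hg'Z, heg'⟩ : ∃ g' ∈ Z, QuadraticMap.polarBilin Q e g' = 1 := by
    refine ⟨(QuadraticMap.polarBilin Q e g)⁻¹ • g, Z.smul_mem _ hgZ, ?_⟩
    rw [map_smul, smul_eq_mul, inv_mul_cancel₀ heg]
  refine ⟨e, heZ, g' + (-(Q g')) • e, Z.add_mem hg'Z (Z.smul_mem _ heZ), hQe, ?_, ?_⟩
  · rw [q_add, q_smul, hQe, map_smul, smul_eq_mul, pb_symm Q g' e, heg']
    ring
  · rw [map_add, map_smul, smul_eq_mul, pb_self, hQe, heg']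
    ring


omit [Fintype F] in
/-- the plane of a hyperbolic pair -/
theorem hyp_plane (Q : QuadraticForm F V) {e f : V} (he : Q e = 0) (hf : Q f = 0)
    (hef : QuadraticMap.polarBilin Q e f = 1) :
    Nd (QuadraticMap.polarBilin Q) (Submodule.span F {e} ⊔ Submodule.span F {f}) ∧
      finrank F ↥(Submodule.span F {e} ⊔ Submodule.span F {f}) = 2 := by
  apply t3_plane (pb_symm Q) e f
  rw [pb_self, pb_self, he, hf, hef]
  simp

omit [Fintype F] in
/-- membership in the relative perp of a plane -/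
theorem perp_plane (Q : QuadraticForm F V) {Z : Submodule F V} {e f x : V}
    (hx : x ∈ Z ⊓ LinearMap.BilinForm.orthogonal (QuadraticMap.polarBilin Q)
      (Submodule.span F {e} ⊔ Submodule.span F {f})) :
    QuadraticMap.polarBilin Q e x = 0 ∧ QuadraticMap.polarBilin Q f x = 0 :=
  ⟨hx.2 e (Submodule.mem_sup_left (Submodule.mem_span_singleton_self e)),
    hx.2 f (Submodule.mem_sup_right (Submodule.mem_span_singleton_self f))⟩

/-- `k` mutually orthogonal hyperbolic planes inside a nondegenerate subspace of dimension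
`> 2 k`, together with a totally singular subspace of dimension `k` of their sum -/
theorem exists_plus (Q : QuadraticForm F V) (k : ℕ) :
    ∀ {Z : Submodule F V}, Nd (QuadraticMap.polarBilin Q) Z → 2 * k + 1 ≤ finrank F Z →
      ∃ R L : Submodule F V, R ≤ Z ∧ Nd (QuadraticMap.polarBilin Q) R ∧ finrank F R = 2 * k ∧
        L ≤ R ∧ (∀ u ∈ L, Q u = 0) ∧ finrank F L = k := by
  induction k with
  | zero =>
    intro Z _ _
    refine ⟨⊥, ⊥, bot_le, ?_, finrank_bot F V, le_refl _, ?_, finrank_bot F V⟩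
    · intro x hx _
      exact (Submodule.mem_bot F).mp hx
    · intro u hu
      rw [(Submodule.mem_bot F).mp hu, map_zero]
  | succ k ih =>
    intro Z hZ hdim
    obtain ⟨e, heZ, f, hfZ, hQe, hQf, hef⟩ := exists_hyp Q hZ (by omega)
    obtain ⟨hHnd, hHfr⟩ := hyp_plane Q hQe hQf hef
    set H : Submodule F V := Submodule.span F {e} ⊔ Submodule.span F {f} with hH
    have hHZ : H ≤ Z := sup_le ((Submodule.span_singleton_le_iff_mem e Z).mpr heZ)
      ((Submodule.span_singleton_le_iff_mem f Z).mpr hfZ)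
    obtain ⟨hZ'nd, hdisj, hsup⟩ := t3_nd_perp (pb_symm Q) hZ hHZ hHnd
    have hfr := peel_finrank hZ hHZ
    set Z' : Submodule F V :=
      Z ⊓ LinearMap.BilinForm.orthogonal (QuadraticMap.polarBilin Q) H with hZ'
    obtain ⟨R', L', hR'Z', hR'nd, hR'fr, hL'R', hL'ts, hL'fr⟩ := ih hZ'nd (by omega)
    have hOrth : ∀ u ∈ H, ∀ v ∈ R', QuadraticMap.polarBilin Q u v = 0 :=
      fun u hu v hv => (hR'Z' hv).2 u hu
    obtain ⟨hRnd, -, hRfr⟩ := nd_sup (pb_symm Q) hHnd hR'nd hOrth
    refine ⟨H ⊔ R', Submodule.span F {e} ⊔ L', sup_le hHZ (hR'Z'.trans inf_le_left), hRnd,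
      by omega, sup_le_sup le_sup_left hL'R', ?_, ?_⟩
    · intro u hu
      obtain ⟨y, hy, l, hl, rfl⟩ := Submodule.mem_sup.mp hu
      obtain ⟨c, rfl⟩ := Submodule.mem_span_singleton.mp hy
      have hel : QuadraticMap.polarBilin Q e l = 0 :=
        (perp_plane Q (hR'Z' (hL'R' hl))).1
      rw [q_add, q_smul, hQe, hL'ts l hl, map_smul, LinearMap.smul_apply, hel]
      simp
    · have he0 : e ≠ 0 := by
        rintro rfl
        rw [map_zero, LinearMap.zero_apply] at hef
        exact zero_ne_one hef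
      have hd : Disjoint (Submodule.span F {e}) L' :=
        hdisj.mono le_sup_left (hL'R'.trans hR'Z')
      rw [finrank_sup_of_disjoint' _ _ hd, finrank_span_singleton he0, hL'fr]
      omega

/-- a quadratic polynomial `x² + x + γ` without a root -/
theorem exists_gamma : ∃ γ : F, ∀ x : F, x * x + x + γ ≠ 0 := by
  classical
  have hninj : ¬ Function.Injective (fun x : F => x * x + x) := by
    intro hinj
    have h : (fun x : F => x * x + x) 0 = (fun x : F => x * x + x) (-1) := by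
      simp
    have := hinj h
    have h1 : (1 : F) = 0 := by linear_combination this
    exact one_ne_zero h1
  have hnsurj : ¬ Function.Surjective (fun x : F => x * x + x) := fun hs =>
    hninj (Finite.injective_iff_surjective.mpr hs)
  rw [Function.Surjective] at hnsurj
  push Not at hnsurj
  obtain ⟨δ, hδ⟩ := hnsurj
  refine ⟨-δ, fun x hx => hδ x ?_⟩
  show x * x + x = δ
  linear_combination hx

/-- an anisotropic nondegenerate plane in a nondegenerate subspace of dimension at least three -/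
theorem exists_aniso_plane (Q : QuadraticForm F V) {Z : Submodule F V}
    (hZ : Nd (QuadraticMap.polarBilin Q) Z) (h3 : 3 ≤ finrank F Z) :
    ∃ E : Submodule F V, E ≤ Z ∧ Nd (QuadraticMap.polarBilin Q) E ∧ finrank F E = 2 ∧
      ∀ x ∈ E, Q x = 0 → x = 0 := by
  obtain ⟨e, heZ, f, hfZ, hQe, hQf, hef⟩ := exists_hyp Q hZ h3
  obtain ⟨hHnd, hHfr⟩ := hyp_plane Q hQe hQf hef
  set H : Submodule F V := Submodule.span F {e} ⊔ Submodule.span F {f} with hH
  have hHZ : H ≤ Z := sup_le ((Submodule.span_singleton_le_iff_mem e Z).mpr heZ)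
    ((Submodule.span_singleton_le_iff_mem f Z).mpr hfZ)
  obtain ⟨hZ'nd, hdisj, hsup⟩ := t3_nd_perp (pb_symm Q) hZ hHZ hHnd
  have hfr := peel_finrank hZ hHZ
  set Z' : Submodule F V :=
    Z ⊓ LinearMap.BilinForm.orthogonal (QuadraticMap.polarBilin Q) H with hZ'
  have hZ'0 : Z' ≠ ⊥ := by
    intro h
    rw [h, finrank_bot] at hfr
    omega
  -- a nonsingular vector of `Z'`
  have hw : ∃ w ∈ Z', Q w ≠ 0 := by
    by_contra hcon
    push Not at hcon
    obtain ⟨x, hxZ', hx0⟩ := Submodule.exists_mem_ne_zero_of_ne_bot hZ'0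
    apply hx0
    apply hZ'nd x hxZ'
    intro y hy
    have h := q_add Q x y
    rw [hcon x hxZ', hcon y hy, hcon (x + y) (Z'.add_mem hxZ' hy)] at h
    simpa using h.symm
  obtain ⟨w, hwZ', hQw⟩ := hw
  obtain ⟨hew, hfw⟩ := perp_plane Q hwZ'
  obtain ⟨γ, hγ⟩ := exists_gamma (F := F)
  have hγ0 : γ ≠ 0 := by
    intro h
    apply hγ 0
    rw [h]
    simp
  set c : F := Q w with hc
  set α : F := γ / c with hα
  have hαc : α * c = γ := div_mul_cancel₀ γ hQw
  have hα0 : α ≠ 0 := div_ne_zero hγ0 hQw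
  have hfe : QuadraticMap.polarBilin Q f e = 1 := by rw [pb_symm, hef]
  have hwf : QuadraticMap.polarBilin Q w f = 0 := by rw [pb_symm, hfw]
  have hwe : QuadraticMap.polarBilin Q w e = 0 := by rw [pb_symm, hew]
  have hff : QuadraticMap.polarBilin Q f f = 0 := by rw [pb_self, hQf, mul_zero]
  have hee : QuadraticMap.polarBilin Q e e = 0 := by rw [pb_self, hQe, mul_zero]
  set a : V := e + α • f with ha
  set b' : V := w + f with hb'
  have hQa : Q a = α := by
    rw [ha, q_add, q_smul, hQe, hQf, map_smul, smul_eq_mul, hef]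
    ring
  have hQb : Q b' = c := by
    rw [hb', q_add, hQf, hwf]
    ring
  have hab : QuadraticMap.polarBilin Q a b' = 1 := by
    rw [ha, hb']
    simp only [map_add, map_smul, LinearMap.add_apply, LinearMap.smul_apply, smul_eq_mul,
      hew, hef, hfw, hff]
    ring
  have h4γ : 4 * γ - 1 ≠ 0 := by
    intro h
    by_cases h2 : (2 : F) = 0
    · have h4 : (4 : F) = 0 := by
        have : (4 : F) = 2 * 2 := by norm_num
        rw [this, h2, mul_zero]
      rw [h4, zero_mul, zero_sub] at h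
      exact one_ne_zero (neg_eq_zero.mp h)
    · apply hγ (-(2 : F)⁻¹)
      have h2' : (2 : F) * (2 : F)⁻¹ = 1 := mul_inv_cancel₀ h2
      linear_combination ((2 : F)⁻¹ * (2 : F)⁻¹) * h +
        ((2 : F)⁻¹ - γ * (2 * (2 : F)⁻¹ + 1)) * h2'
  obtain ⟨hEnd, hEfr⟩ := t3_plane (pb_symm Q) a b' (by
    rw [pb_self, pb_self, hQa, hQb, hab]
    intro h
    apply h4γ
    rw [← hαc]
    linear_combination h)
  have haZ : a ∈ Z := Z.add_mem heZ (Z.smul_mem _ hfZ)
  have hbZ : b' ∈ Z := Z.add_mem hwZ'.1 hfZ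
  refine ⟨Submodule.span F {a} ⊔ Submodule.span F {b'},
    sup_le ((Submodule.span_singleton_le_iff_mem a Z).mpr haZ)
      ((Submodule.span_singleton_le_iff_mem b' Z).mpr hbZ), hEnd, hEfr, ?_⟩
  intro x hx hQx
  obtain ⟨y, hy, z, hz, rfl⟩ := Submodule.mem_sup.mp hx
  obtain ⟨s, rfl⟩ := Submodule.mem_span_singleton.mp hy
  obtain ⟨t, rfl⟩ := Submodule.mem_span_singleton.mp hz
  simp only [q_add, q_smul, hQa, hQb, map_smul, LinearMap.smul_apply, smul_eq_mul, hab,
    mul_one] at hQx
  by_cases ht : t = 0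
  · rw [ht] at hQx
    have hs : s = 0 := by
      have h1 : s * s * α = 0 := by linear_combination hQx
      rcases mul_eq_zero.mp h1 with h2 | h2
      · exact mul_self_eq_zero.mp h2
      · exact absurd h2 hα0
    rw [hs, ht]
    simp
  · exfalso
    apply hγ (α * s / t)
    rw [← hαc]
    field_simp
    linear_combination α * hQx

/-- core of the characteristic-free `exists_nd_of_type`, with the statement of the
characteristic-free `plus_sup` as a hypothesis -/
theorem exists_nd_of_type_core (Q : QuadraticForm F V)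
    (hT1 : ∀ {W₀ W₁ : Submodule F V}, Nd (QuadraticMap.polarBilin Q) W₀ →
      Nd (QuadraticMap.polarBilin Q) W₁ →
      (∀ u ∈ W₀, ∀ v ∈ W₁, QuadraticMap.polarBilin Q u v = 0) →
      Even (finrank F W₀) → Even (finrank F W₁) →
      (PlusE Q (W₀ ⊔ W₁) ↔ (PlusE Q W₀ ↔ PlusE Q W₁)))
    {Z : Submodule F V} (hZ : Nd (QuadraticMap.polarBilin Q) Z) (m₀ : ℕ) (hme : Even m₀)
    (h0 : 0 < m₀) (hlt : m₀ < finrank F Z) (b : Prop) :
    ∃ W₀ : Submodule F V, W₀ ≤ Z ∧ Nd (QuadraticMap.polarBilin Q) W₀ ∧ finrank F W₀ = m₀ ∧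
      (PlusE Q W₀ ↔ b) := by
  obtain ⟨k, hk⟩ := hme
  by_cases hb : b
  · obtain ⟨R, L, hRZ, hRnd, hRfr, hLR, hLts, hLfr⟩ := exists_plus Q k hZ (by omega)
    refine ⟨R, hRZ, hRnd, by omega, ?_⟩
    exact ⟨fun _ => hb, fun _ => ⟨L, hLR, hLts, by omega⟩⟩
  · obtain ⟨R, L, hRZ, hRnd, hRfr, hLR, hLts, hLfr⟩ := exists_plus Q (k - 1) hZ (by omega)
    obtain ⟨hZ'nd, hdisj, hsup⟩ := t3_nd_perp (pb_symm Q) hZ hRZ hRnd
    have hfr := peel_finrank hZ hRZ
    obtain ⟨E, hEZ', hEnd, hEfr, hEan⟩ := exists_aniso_plane Q hZ'nd (by omega)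
    have hOrth : ∀ u ∈ R, ∀ v ∈ E, QuadraticMap.polarBilin Q u v = 0 :=
      fun u hu v hv => (hEZ' hv).2 u hu
    obtain ⟨hWnd, -, hWfr⟩ := nd_sup (pb_symm Q) hRnd hEnd hOrth
    refine ⟨R ⊔ E, sup_le hRZ (hEZ'.trans inf_le_left), hWnd, by omega, ?_⟩
    have hPR : PlusE Q R := ⟨L, hLR, hLts, by omega⟩
    have hPE : ¬ PlusE Q E := by
      rintro ⟨U, hUE, hUts, hUfr⟩
      have hU0 : U ≠ ⊥ := by
        intro h
        rw [h, finrank_bot] at hUfr
        omega
      obtain ⟨u, huU, hu0⟩ := Submodule.exists_mem_ne_zero_of_ne_bot hU0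
      exact hu0 (hEan u (hUE huU) (hUts u huU))
    rw [hT1 hRnd hEnd hOrth ⟨k - 1, by omega⟩ ⟨1, by omega⟩]
    constructor
    · intro h
      exact absurd (h.mp hPR) hPE
    · intro h
      exact absurd h hb

end abstract

end Cfsg.Agent.Lib.Helper55.EqT3
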