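import Mathlib
import Cfsg.Prelude.Def_ClassicalGeometry
import Cfsg.Prelude.Def_GeometricClasses
import Cfsg.Agent.Lib.Helper39.EqDefs
import Cfsg.Agent.Lib.Helper33.HyT1
import Cfsg.Agent.Lib.Helper43.QeT1
import Cfsg.Agent.Lib.Helper55.EqT3core

/-! # Generic even-dimensional orthogonal layer (helper39), leaf EQ-T3 `exists_ndQ_of_type`
(characteristic free) -/

set_option autoImplicit false

namespace Cfsg.Agent.Lib.Helper39.Eq

open Module
open Cfsg.Agent.Lib.Helper2.BG Cfsg.Agent.Lib.Helper99 Cfsg.Agent.Lib.Helper48.Ti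
open Cfsg.Agent.Lib.Helper5.Hy

section abstract

variable {F V : Type*} [Field F] [Fintype F] [AddCommGroup V] [Module F V] [FiniteDimensional F V]
variable {Q : QuadraticForm F V}

/-- the type of an orthogonal sum, all characteristics (from `Helper33.HyT1` and `Helper43.QeT1`) -/
theorem t3_sup {W₀ W₁ : Submodule F V} (h₀ : Nd (pol Q) W₀) (h₁ : Nd (pol Q) W₁)
    (ho : ∀ u ∈ W₀, ∀ v ∈ W₁, pol Q u v = 0) (he₀ : Even (finrank F W₀))
    (he₁ : Even (finrank F W₁)) :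
    PlusQ Q (W₀ ⊔ W₁) ↔ (PlusQ Q W₀ ↔ PlusQ Q W₁) := by
  by_cases h2 : (2 : F) = 0
  · exact Cfsg.Agent.Lib.Helper65.Qe.plusQ_sup_two h2 h₀ h₁ ho
  · rw [plusQ_iff_plus h2, plusQ_iff_plus h2, plusQ_iff_plus h2]
    exact plus_sup h2 (pol_symm Q) h₀ h₁ ho he₀ he₁

/-- EQ-T3: inside a nondegenerate space `Z` there are nondegenerate subspaces of every even dimension
`0 < m₀ < dim Z` of BOTH types. -/
theorem exists_ndQ_of_type {Z : Submodule F V} (hZ : NdQ Q Z) (m₀ : ℕ) (hme : Even m₀)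
    (h0 : 0 < m₀) (hlt : m₀ < finrank F Z) (b : Prop) :
    ∃ W₀ : Submodule F V, W₀ ≤ Z ∧ NdQ Q W₀ ∧ finrank F W₀ = m₀ ∧ (PlusQ Q W₀ ↔ b) := by
  exact Cfsg.Agent.Lib.Helper55.EqT3.exists_nd_of_type_core Q
    (fun h₀ h₁ ho he₀ he₁ => t3_sup h₀ h₁ ho he₀ he₁) hZ m₀ hme h0 hlt b

end abstract

end Cfsg.Agent.Lib.Helper39.Eq
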