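import Mathlib
import Cfsg.Agent.Lib.Helper39.OoDefs

/-! # S2547 hive (helper39), leaf OO-TORP : `not_dvd_card_T` -/

set_option autoImplicit false

namespace Cfsg.Agent.Lib.Helper39.OoBN

open Matrix Cfsg

variable {F : Type*} [Field F] {m : ℕ}

theorem torp_rk_injective : Function.Injective (rk : Idx m → ℕ) := by
  intro a b h
  rcases a with u | i | i <;> rcases b with u' | j | j
  · rfl
  · have := j.2; simp only [rk] at h; omega
  · have := j.2; simp only [rk] at h; omega
  · have := i.2; simp only [rk] at h; omega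
  · simp only [rk] at h; exact congrArg _ (congrArg _ (Fin.ext h))
  · have := i.2; have := j.2; simp only [rk] at h; omega
  · have := i.2; simp only [rk] at h; omega
  · have := i.2; have := j.2; simp only [rk] at h; omega
  · have := i.2; have := j.2; simp only [rk] at h
    exact congrArg _ (congrArg _ (Fin.ext (by omega)))

/-- elements of `B ∩ N` are diagonal -/
theorem torp_diag (g : OG F m) (hg : g ∈ Bo F m ⊓ No F m) :
    ∀ a b : Idx m, a ≠ b → mat g a b = 0 := by
  obtain ⟨hgB, π, d, hmono⟩ := hg
  have hgB' := (mem_Bo_iff g).1 hgB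
  have hd : ∀ s, d s ≠ 0 := fun s => hmono.ne_zero (mat_inv_mul g) s
  have hle : ∀ s, rk (π s) ≤ rk s := by
    intro s
    by_contra hlt
    push Not at hlt
    have h1 := hmono (π s) s
    rw [if_pos (Eq.refl _)] at h1
    exact hd s (h1.symm.trans (hgB' (π s) s hlt))
  have hsum : ∑ s : Idx m, rk (π s) = ∑ s : Idx m, rk s := Equiv.sum_comp π rk
  have heq := (Finset.sum_eq_sum_iff_of_le (fun s _ => hle s)).mp hsum
  have hπ : ∀ s, π s = s := fun s => torp_rk_injective (heq s (Finset.mem_univ s))
  intro a b hab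
  rw [hmono a b, hπ b, if_neg hab]

theorem torp_mat_pow (g : OG F m) (k : ℕ) : mat (g ^ k) = (mat g) ^ k := by
  induction k with
  | zero => simp
  | succ k ih => rw [pow_succ, mat_mul, ih, pow_succ]

theorem torp_mat_injective : Function.Injective (mat : OG F m → Matrix (Idx m) (Idx m) F) := by
  intro g h hgh
  apply Subtype.ext
  apply Units.ext
  exact hgh

/-- every element of `B ∩ N` has order dividing `q - 1` -/
theorem torp_pow_eq_one [Fintype F] (g : OG F m) (hg : g ∈ Bo F m ⊓ No F m) :
    g ^ (Fintype.card F - 1) = 1 := by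
  have hdiag := torp_diag g hg
  have h1 : mat g = Matrix.diagonal (fun a => mat g a a) := by
    ext a b
    by_cases hab : a = b
    · subst hab; simp
    · rw [hdiag a b hab, Matrix.diagonal_apply_ne _ hab]
  have hne : ∀ a, mat g a a ≠ 0 := by
    intro a h0
    have h2 := congrFun (congrFun (mat_inv_mul g) a) a
    rw [Matrix.mul_apply, Matrix.one_apply_eq] at h2
    have h3 : ∑ j, mat g⁻¹ a j * mat g j a = 0 := by
      apply Finset.sum_eq_zero
      intro j _
      by_cases hja : j = a
      · subst hja; rw [h0, mul_zero]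
      · rw [hdiag j a hja, mul_zero]
    rw [h3] at h2
    exact zero_ne_one h2
  apply torp_mat_injective
  rw [torp_mat_pow, h1, Matrix.diagonal_pow, mat_one]
  ext a b
  by_cases hab : a = b
  · subst hab
    rw [Matrix.diagonal_apply_eq, Matrix.one_apply_eq, Pi.pow_apply,
      FiniteField.pow_card_sub_one_eq_one _ (hne a)]
  · rw [Matrix.diagonal_apply_ne _ hab, Matrix.one_apply_ne hab]

/-- LEAF TORP -/
theorem not_dvd_card_T [Fintype F] (p : ℕ) [Fact p.Prime] [CharP F p] :
    ¬ p ∣ Nat.card (Bo F m ⊓ No F m : Subgroup (OG F m)) := by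
  classical
  intro hdvd
  have hp : p.Prime := Fact.out
  haveI : Finite (OG F m) := inferInstance
  obtain ⟨t, ht⟩ := exists_prime_orderOf_dvd_card' p hdvd
  have h1 : t ^ (Fintype.card F - 1) = 1 := by
    apply Subtype.ext
    rw [Subgroup.coe_pow, Subgroup.coe_one]
    exact torp_pow_eq_one (t : OG F m) t.2
  have h2 : p ∣ Fintype.card F - 1 := by
    rw [← ht]
    exact orderOf_dvd_of_pow_eq_one h1
  obtain ⟨n, -, hcard⟩ := FiniteField.card F p
  have h3 : p ∣ Fintype.card F := by
    rw [hcard]
    exact dvd_pow_self p n.ne_zero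
  have hpos : 1 ≤ Fintype.card F := Fintype.card_pos
  have h4 : p ∣ 1 := by
    have := (Nat.dvd_sub h3 h2)
    rwa [Nat.sub_sub_self hpos] at this
  exact hp.one_lt.ne' (Nat.dvd_one.mp h4)

end Cfsg.Agent.Lib.Helper39.OoBN
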