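import Mathlib
import Cfsg.Agent.Lib.Helper39.OoDefs
import Cfsg.Agent.Lib.Helper55.OoTORP

/-! # S2547 hive (helper39), leaves OO-TORUS `mem_inf_iff`, OO-SQ `S_sq_mem`, OO-INJ `S_inj` -/

set_option autoImplicit false

namespace Cfsg.Agent.Lib.Helper39.OoBN

open Matrix Cfsg

variable {F : Type*} [Field F] {m : ℕ}

/-- LEAF TORUS (M): `B ∩ N` = diagonal isometries. -/
theorem mem_inf_iff (g : OG F m) :
    g ∈ Bo F m ⊓ No F m ↔ ∀ a b : Idx m, a ≠ b → mat g a b = 0 := by
  constructor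
  · exact torp_diag g
  · intro h
    refine ⟨(mem_Bo_iff g).2 (fun a b hab => h a b ?_), 1, fun s => mat g s s, ?_⟩
    · rintro rfl
      exact lt_irrefl _ hab
    · intro a s
      rw [Equiv.Perm.one_apply]
      by_cases has : a = s
      · subst has
        rw [if_pos (Eq.refl _)]
      · rw [if_neg has, h a s has]

theorem torus_permMat_mul (σ τ : Equiv.Perm (Idx m)) :
    permMat F (σ * τ) = permMat F σ * permMat F τ := by
  ext a s
  rw [Matrix.mul_apply, permMat_apply, Finset.sum_eq_single (τ s)]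
  · rw [permMat_apply, permMat_apply, if_pos (Eq.refl _), mul_one, Equiv.Perm.mul_apply]
  · intro b _ hb
    rw [permMat_apply τ b s, if_neg hb, mul_zero]
  · intro h
    exact absurd (Finset.mem_univ _) h

theorem torus_permMat_one : permMat F (1 : Equiv.Perm (Idx m)) = 1 := by
  ext a s
  rw [permMat_apply, Equiv.Perm.one_apply, Matrix.one_apply]

theorem torus_simple_sq (σ : Equiv.Perm (Idx m)) (hσ : IsSimpleGen σ) : σ * σ = 1 := by
  rcases hσ with ⟨k, k', hkk, rfl⟩ | ⟨k, hk, rfl⟩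
  · unfold simpleA
    have hcomm : Commute (Equiv.swap (xi k) (xi k')) (Equiv.swap (yi k) (yi k') : Equiv.Perm (Idx m)) := by
      apply Equiv.Perm.Disjoint.commute
      intro a
      by_cases h1 : a = xi k
      · right; subst h1; exact Equiv.swap_apply_of_ne_of_ne (by simp [xi, yi]) (by simp [xi, yi])
      by_cases h2 : a = xi k'
      · right; subst h2; exact Equiv.swap_apply_of_ne_of_ne (by simp [xi, yi]) (by simp [xi, yi])
      left
      exact Equiv.swap_apply_of_ne_of_ne h1 h2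
    rw [hcomm.symm.mul_mul_mul_comm, Equiv.swap_mul_self, Equiv.swap_mul_self, one_mul]
  · unfold simpleB
    exact Equiv.swap_mul_self _ _

/-- LEAF SQ (S): `s * s = 1`. -/
theorem S_sq_mem : ∀ s ∈ So F m, s * s ∈ Bo F m := by
  rintro s ⟨σ, hσ, hs⟩
  have h1 : s * s = 1 := by
    apply mat_injective
    rw [mat_mul, hs, ← torus_permMat_mul, torus_simple_sq σ hσ, torus_permMat_one, mat_one]
  rw [h1]
  exact (Bo F m).one_mem

/-- LEAF INJ (M). -/
theorem S_inj : ∀ s ∈ So F m, ∀ s' ∈ So F m, s⁻¹ * s' ∈ Bo F m → s = s' := by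
  rintro s ⟨σ, hσ, hs⟩ s' ⟨σ', hσ', hs'⟩ hB
  have hsinv : mat s⁻¹ = permMat F σ := by
    have h1 : s * s = 1 := by
      apply mat_injective
      rw [mat_mul, hs, ← torus_permMat_mul, torus_simple_sq σ hσ, torus_permMat_one, mat_one]
    have h2 : s⁻¹ = s := inv_eq_of_mul_eq_one_left h1
    rw [h2, hs]
  have hmat : mat (s⁻¹ * s') = permMat F (σ * σ') := by
    rw [mat_mul, hsinv, hs', torus_permMat_mul]
  have hN : s⁻¹ * s' ∈ No F m := ⟨σ * σ', fun _ => 1, by rw [hmat]; exact permMat_isMonoG _⟩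
  have hdiag := torp_diag (s⁻¹ * s') ⟨hB, hN⟩
  have hσσ : ∀ a, (σ * σ') a = a := by
    intro a
    by_contra hne
    have h3 := hdiag ((σ * σ') a) a hne
    rw [hmat, permMat_apply, if_pos (Eq.refl _)] at h3
    exact one_ne_zero h3
  have h4 : σ * σ' = 1 := Equiv.ext hσσ
  have h5 : σ' = σ := by
    have h6 : σ * σ = 1 := torus_simple_sq σ hσ
    calc σ' = (σ * σ) * σ' := by rw [h6, one_mul]
      _ = σ * (σ * σ') := by rw [mul_assoc]
      _ = σ := by rw [h4, mul_one]
  apply mat_injective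
  rw [hs, hs', h5]

end Cfsg.Agent.Lib.Helper39.OoBN
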