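import Mathlib
import Cfsg.Prelude.Def_ClassicalGeometry
import Cfsg.Agent.Lib.Helper4.NdDefs
import Cfsg.Agent.Lib.Helper2.BGLin
import Cfsg.Agent.Lib.Helper2.BGPoly
import Cfsg.Agent.Lib.Helper40.SympBasic
import Cfsg.Agent.Lib.Helper55.TiPEEL
import Cfsg.Agent.Lib.Helper55.NdD3

set_option autoImplicit false
open Matrix
open Cfsg.Agent.Lib.Helper99 (Nd dker sympB)

/-! S5956 hive (helper4), leaf ND-D5 : `mod_le_of_good`.

Proved directly from ND-D3 (`fix_decomp`): the moved part `R` of an invariant nondegenerate `W`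
is killed by the `r`-th cyclotomic polynomial, so `i = ord_r(q)` divides its dimension
(helper2's `dvd_finrank_of_inv`); a nondegenerate alternating space has even dimension; hence
`cOf i` divides `finrank R`.  (No use of ND-D1 / ND-D2.) -/

namespace Cfsg.Agent.Lib.Helper4.NdH

universe u v

variable {F : Type u} [Field F] {V : Type v} [AddCommGroup V] [Module F V]

/-- a relatively nondegenerate alternating subspace has even dimension -/
theorem d5_even [FiniteDimensional F V] (B : V →ₗ[F] V →ₗ[F] F) (hB : Alt B) :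
    ∀ (k : ℕ) (Z : Submodule F V), Module.finrank F Z = k → Nd B Z → Even k := by
  intro k
  induction k using Nat.strong_induction_on with
  | _ k ih =>
    intro Z hk hZ
    by_cases hZ0 : Z = ⊥
    · subst hZ0
      rw [finrank_bot] at hk
      subst hk
      exact Even.zero
    obtain ⟨v, hvZ, hv0⟩ := Submodule.exists_mem_ne_zero_of_ne_bot hZ0
    have hYZ : Submodule.span F {v} ≤ Z := (Submodule.span_singleton_le_iff_mem v Z).mpr hvZ
    have hYti : Cfsg.Agent.Lib.Helper48.Ti.TI B (Submodule.span F {v}) := by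
      intro a ha b hb
      obtain ⟨s, rfl⟩ := Submodule.mem_span_singleton.mp ha
      obtain ⟨t, rfl⟩ := Submodule.mem_span_singleton.mp hb
      simp [hB v]
    have hYfr : Module.finrank F (Submodule.span F {v}) = 1 := finrank_span_singleton hv0
    obtain ⟨Z', -, -, hZ'nd, -, -, hfr⟩ :=
      Cfsg.Agent.Lib.Helper48.Ti.peel (B := B) hB (f := (LinearMap.id : Module.End F V))
        (fun _ _ => rfl) Function.injective_id Module.End.isSemisimple_id hZ
        (fun x hx => hx) hYZ (fun x hx => hx) hYti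
    rw [hYfr, hk] at hfr
    have hlt : Module.finrank F Z' < k := by omega
    have := ih _ hlt Z' rfl hZ'nd
    rw [← hfr]
    exact this.add (by decide)

/-- the moved part has dimension divisible by `cOf (ord_r q)` -/
theorem d5_dvd [Fintype F] [FiniteDimensional F V] (p : ℕ) [Fact p.Prime] [CharP F p]
    (B : V →ₗ[F] V →ₗ[F] F) (hB : Alt B) (y : V →ₗ[F] V) (r : ℕ) [Fact r.Prime] (hrp : r ≠ p)
    (hrF : (r : F) ≠ 0) (hyr : (y : Module.End F V) ^ r = 1) (X : Submodule F V) (hX : Inv y X)
    (hXnd : Nd B X) (hfix : ∀ v ∈ X, y v = v → v = 0) :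
    cOf (orderOf ((Fintype.card F : ℕ) : ZMod r)) ∣ Module.finrank F X := by
  have hrprime : r.Prime := Fact.out
  have hss : Module.End.IsSemisimple (y : Module.End F V) :=
    Cfsg.Agent.Lib.Helper40.Symp.isSemisimple_of_pow_eq_one hrF hyr
  have hX' : Cfsg.Agent.Lib.Helper2.BG.Inv (y : Module.End F V) X := hX
  have hkill : ∀ v ∈ X, Polynomial.aeval (y : Module.End F V) (Polynomial.cyclotomic r F) v = 0 := by
    intro v hv
    apply hfix _ (hX'.aeval _ v hv)
    have h1 : Polynomial.aeval (y : Module.End F V)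
        (Polynomial.cyclotomic r F * (Polynomial.X - 1)) = 0 := by
      rw [Polynomial.cyclotomic_prime_mul_X_sub_one]
      simp [hyr]
    have h2 : ((y : Module.End F V) - 1)
        (Polynomial.aeval (y : Module.End F V) (Polynomial.cyclotomic r F) v) = 0 := by
      have h3 : Polynomial.aeval (y : Module.End F V) (Polynomial.cyclotomic r F * (Polynomial.X - 1))
          = ((y : Module.End F V) - 1) *
            Polynomial.aeval (y : Module.End F V) (Polynomial.cyclotomic r F) := by
        rw [mul_comm, map_mul]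
        simp
      rw [← Module.End.mul_apply, ← h3, h1, LinearMap.zero_apply]
    rw [LinearMap.sub_apply, Module.End.one_apply] at h2
    exact sub_eq_zero.mp h2
  have hi : orderOf ((Fintype.card F : ℕ) : ZMod r) ∣ Module.finrank F X :=
    Cfsg.Agent.Lib.Helper2.BG.dvd_finrank_of_inv hss (Polynomial.cyclotomic_ne_zero r F)
      (Cfsg.Agent.Lib.Helper2.BG.allIrrDeg_cyclotomic (p := p) hrp) _ X rfl hX' hkill
  have heven : Even (Module.finrank F X) := d5_even B hB _ X rfl hXnd
  unfold cOf
  split_ifs with hie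
  · exact hi
  · have hodd : Odd (orderOf ((Fintype.card F : ℕ) : ZMod r)) := Nat.not_even_iff_odd.mp hie
    exact Nat.Coprime.mul_dvd_of_dvd_of_dvd (Nat.coprime_two_left.mpr hodd)
      (even_iff_two_dvd.mp heven) hi

/-- ND-D5 (⟹, from D3) -/
theorem mod_le_of_good [Fintype F] [FiniteDimensional F V] (p : ℕ) [Fact p.Prime] [CharP F p]
    (B : V →ₗ[F] V →ₗ[F] F) (hB : Alt B) (hV : Nd B ⊤) (y : V →ₗ[F] V) (hy : Isom B y) (r : ℕ)
    [Fact r.Prime] (hr2 : r ≠ 2) (hrp : r ≠ p) (hyr : (y : Module.End F V) ^ r = 1)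
    (hfd : Module.finrank F (LinearMap.ker (y - 1)) <
      cOf (orderOf ((Fintype.card F : ℕ) : ZMod r))) (m : ℕ) (hgood : Good B y m) :
    m % cOf (orderOf ((Fintype.card F : ℕ) : ZMod r)) ≤
      Module.finrank F (LinearMap.ker (y - 1)) := by
  have hrprime : r.Prime := Fact.out
  have hpprime : p.Prime := Fact.out
  have hrF : (r : F) ≠ 0 := by
    intro h
    have h1 : p ∣ r := (CharP.cast_eq_zero_iff F p r).mp h
    rcases (Nat.dvd_prime hrprime).mp h1 with h2 | h2
    · exact hpprime.one_lt.ne' h2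
    · exact hrp h2.symm
  obtain ⟨W, hWm, hWnd, hWinv⟩ := hgood
  obtain ⟨C, R, hC, hRX, hinf, hsup, hperp, hCnd, hRnd, hRinv, hRfix⟩ :=
    fix_decomp B hB y hy r hrprime.pos hrF hyr W hWinv hWnd
  obtain ⟨s, hs⟩ := d5_dvd p B hB y r hrp hrF hyr R hRinv hRnd hRfix
  have hCle : Module.finrank F C ≤ Module.finrank F (LinearMap.ker (y - 1)) := by
    apply Submodule.finrank_mono
    rw [hC]
    exact inf_le_right
  have hsum : Module.finrank F W = Module.finrank F C + Module.finrank F R := by
    have := Submodule.finrank_sup_add_finrank_inf_eq C R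
    rw [hinf, hsup, finrank_bot, add_zero] at this
    exact this
  rw [← hWm, hsum, hs, Nat.add_mul_mod_self_left, Nat.mod_eq_of_lt (lt_of_le_of_lt hCle hfd)]
  exact hCle

end Cfsg.Agent.Lib.Helper4.NdH
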