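import Mathlib
import Cfsg.Agent.Lib.Helper41.SpBNDefs

/-! # S2545 hive, leaf CARDT (with an independent proof of `B ⊓ N = spTorus`). -/

set_option autoImplicit false

namespace Cfsg.Agent.Lib.Helper41.SpBN

open Matrix Cfsg Cfsg.Agent.Lib.Helper13

variable {F : Type*} [Field F] {m : ℕ}

/-- elements of the torus are monomial with the trivial permutation -/
theorem cardt_isMono_of_mem_spTorus (g : SpG F m) (hg : g ∈ spTorus F m) :
    IsMono g.1 1 (fun s => g.1 s s) := by
  intro a s
  rw [Equiv.Perm.one_apply]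
  by_cases has : a = s
  · rw [if_pos has, has]
  · rw [if_neg has]
    exact (mem_spTorus_iff g).1 hg a s has

/-- `B ⊓ N` is the diagonal torus (independent proof of LEAF TORUS) -/
theorem cardt_B_inf_N : Bsp F m ⊓ Nsp F m = spTorus F m := by
  apply le_antisymm
  · rintro g ⟨hgB, π, d, hmono⟩
    have hgB' := (mem_Bsp_iff g).1 hgB
    have hd : ∀ s, d s ≠ 0 := fun s => hmono.ne_zero g.2 s
    have hπ := (hmono.symp g.2).1
    -- `π (inl j) = inl i` with `i ≤ j`
    have hle : ∀ j : Fin m, ∃ i : Fin m, (i : ℕ) ≤ (j : ℕ) ∧ π (Sum.inl j) = Sum.inl i := by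
      intro j
      have h1 := hmono (π (Sum.inl j)) (Sum.inl j)
      rw [if_pos rfl] at h1
      rcases hp : π (Sum.inl j) with i | i
      · refine ⟨i, ?_, rfl⟩
        by_contra hlt
        push Not at hlt
        rw [hp] at h1
        exact hd _ (h1.symm.trans (hgB'.1 i j hlt))
      · rw [hp] at h1
        exact absurd (h1.symm.trans (hgB'.2 i j)) (hd _)
    have key : ∀ n (hn : n < m), π (Sum.inl ⟨n, hn⟩) = Sum.inl ⟨n, hn⟩ := by
      intro n
      induction n using Nat.strong_induction_on with
      | _ n ih =>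
        intro hn
        obtain ⟨i, hi, hpi⟩ := hle ⟨n, hn⟩
        rcases lt_or_eq_of_le hi with hlt | heq
        · have h2 := ih i hlt i.2
          have h3 : π (Sum.inl ⟨(i : ℕ), i.2⟩) = π (Sum.inl ⟨n, hn⟩) := by
            rw [h2, hpi]
          have h4 := Sum.inl_injective (π.injective h3)
          have h5 : (i : ℕ) = n := by
            have := congrArg Fin.val h4
            simpa using this
          have hlt' : (i : ℕ) < n := hlt
          exact absurd h5 (ne_of_lt hlt')
        · rw [hpi]
          congr 1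
          exact Fin.ext heq
    have hπ1 : ∀ s, π s = s := by
      rintro (j | j)
      · exact key j j.2
      · have := hπ (Sum.inl j)
        rw [Sum.swap_inl, key j j.2, Sum.swap_inl] at this
        exact this
    rw [mem_spTorus_iff]
    intro a s has
    rw [hmono a s, hπ1 s, if_neg has]
  · intro g hg
    refine ⟨?_, 1, _, cardt_isMono_of_mem_spTorus g hg⟩
    show g ∈ Bsp F m
    rw [mem_Bsp_iff]
    have h := (mem_spTorus_iff g).1 hg
    refine ⟨fun i j hij => h _ _ ?_, fun i j => h _ _ Sum.inr_ne_inl⟩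
    intro e
    have := Sum.inl_injective e
    rw [this] at hij
    exact lt_irrefl _ hij

/-- the diagonal coefficients attached to a family of units -/
def cardt_coeff (t : Fin m → Fˣ) : Fin m ⊕ Fin m → F
  | Sum.inl i => (t i : F)
  | Sum.inr i => ((t i)⁻¹ : Fˣ)

theorem cardt_coeff_mul (t : Fin m → Fˣ) (a : Fin m ⊕ Fin m) :
    cardt_coeff t a * cardt_coeff t a.swap = 1 := by
  rcases a with i | i
  · show (t i : F) * (((t i)⁻¹ : Fˣ) : F) = 1
    rw [← Units.val_mul, mul_inv_cancel, Units.val_one]
  · show (((t i)⁻¹ : Fˣ) : F) * (t i : F) = 1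
    rw [← Units.val_mul, inv_mul_cancel, Units.val_one]

theorem cardt_card_spTorus [Fintype F] :
    Nat.card (spTorus F m) = (Fintype.card F - 1) ^ m := by
  classical
  let f : (Fin m → Fˣ) → spTorus F m := fun t =>
    ⟨spDiag (cardt_coeff t) (cardt_coeff_mul t), spDiag_mem_spTorus _ _⟩
  have hf : Function.Bijective f := by
    constructor
    · intro t t' h
      have h1 : Matrix.diagonal (cardt_coeff t) = Matrix.diagonal (cardt_coeff t') :=
        congrArg (fun z : spTorus F m => ((z : SpG F m) : Matrix (Idx m) (Idx m) F)) h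
      funext i
      apply Units.ext
      have h2 := congrFun (Matrix.diagonal_injective h1) (Sum.inl i)
      exact h2
    · rintro ⟨g, hg⟩
      have hmono := cardt_isMono_of_mem_spTorus g hg
      have hd : ∀ s, g.1 s s ≠ 0 := fun s => hmono.ne_zero g.2 s
      have hrel : ∀ s : Idx m, g.1 s s * g.1 s.swap s.swap = 1 := by
        intro s
        have h1 := (hmono.symp g.2).2 s
        rw [Equiv.Perm.one_apply, ← mul_assoc] at h1
        exact mul_right_cancel₀ (eta_ne_zero s) (h1.trans (one_mul _).symm)
      refine ⟨fun i => Units.mk0 (g.1 (Sum.inl i) (Sum.inl i)) (hd _), ?_⟩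
      apply Subtype.ext
      apply Subtype.ext
      show Matrix.diagonal (cardt_coeff _) = g.1
      refine Eq.trans ?_ (eq_diagonal_of_mem_spTorus g hg).symm
      congr 1
      funext s
      rcases s with i | i
      · rfl
      · show ((Units.mk0 (g.1 (Sum.inl i) (Sum.inl i)) (hd _))⁻¹ : Fˣ).1 = g.1 (Sum.inr i) (Sum.inr i)
        rw [Units.val_inv_eq_inv_val, Units.val_mk0]
        have := hrel (Sum.inl i)
        rw [Sum.swap_inl] at this
        exact (eq_inv_of_mul_eq_one_right this).symm
  rw [← Nat.card_congr (Equiv.ofBijective f hf), Nat.card_fun, Nat.card_eq_fintype_card (α := Fˣ),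
    Fintype.card_units, Nat.card_eq_fintype_card, Fintype.card_fin]

/-- LEAF CARDT: the torus `B ∩ N = spTorus` has order `(q-1)^m`. -/
theorem card_T [Fintype F] :
    Nat.card (Bsp F m ⊓ Nsp F m : Subgroup (SpG F m)) = (Fintype.card F - 1) ^ m := by
  rw [cardt_B_inf_N]
  exact cardt_card_spTorus

end Cfsg.Agent.Lib.Helper41.SpBN
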