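import Mathlib
import Cfsg.Agent.Lib.Helper41.SpBNDefs
import Cfsg.Agent.Lib.Helper5.SympCenter

/-! # S2545 hive, leaf CENTER. -/

set_option autoImplicit false

namespace Cfsg.Agent.Lib.Helper41.SpBN

open Matrix Cfsg Cfsg.Agent.Lib.Helper13

variable {F : Type*} [Field F] {m : ℕ}

/-- LEAF CENTER: central elements are `±1`, both in `B`. -/
theorem center_le_B : Subgroup.center (SpG F m) ≤ Bsp F m := by
  intro g hg
  rw [mem_Bsp_iff]
  rcases Nat.eq_zero_or_pos m with hm | hm
  · refine ⟨fun i => ?_, fun i => ?_⟩ <;> exact absurd i.2 (by omega)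
  · haveI : Nonempty (Fin m) := ⟨⟨0, hm⟩⟩
    rcases (Cfsg.Agent.Lib.Helper5.mem_center_symplecticGroup_iff g).1 hg with h | h
    · refine ⟨fun i j hij => ?_, fun i j => ?_⟩
      · rw [h, Matrix.one_apply_ne]
        intro e
        have := Sum.inl_injective e
        rw [this] at hij
        exact lt_irrefl _ hij
      · rw [h, Matrix.one_apply_ne]
        exact Sum.inr_ne_inl
    · refine ⟨fun i j hij => ?_, fun i j => ?_⟩
      · rw [h, Matrix.neg_apply, Matrix.one_apply_ne, neg_zero]
        intro e
        have := Sum.inl_injective e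
        rw [this] at hij
        exact lt_irrefl _ hij
      · rw [h, Matrix.neg_apply, Matrix.one_apply_ne, neg_zero]
        exact Sum.inr_ne_inl

end Cfsg.Agent.Lib.Helper41.SpBN
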