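import Mathlib
import Cfsg.Prelude.Def_GeometricClasses
import Cfsg.Agent.Lib.Helper44.OcDefs
import Cfsg.Agent.Lib.Helper44.OcIdbDefs

set_option autoImplicit false
open Matrix

/-! IDB-LT leaf of helper44's Oc hive (Idb route): Lagrangian transfer. -/

namespace Cfsg.Agent.Lib.Helper44.Oc

universe v w

variable {F : Type v} [Field F] {ι : Type} [Fintype ι] [DecidableEq ι]

/-- IDB-LT : Lagrangian transfer: a totally singular `E`-subspace of the model of `E`-dimension `m` gives a totally singular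
`F`-subspace of `Q` of `F`-dimension `2 m` (`Y = T (X.restrictScalars F)`, `Module.finrank_mul_finrank`). -/
theorem idb_lagrangian_transfer {E : Type w} [Field E] [Algebra F E] (hfr : Module.finrank F E = 2)
    (Q : (ι → F) → F) (J : Matrix ι ι F) (wE : E) {d : ℕ}
    (c : Fin d → E) (T : (Fin d → E) ≃ₗ[F] (ι → F)) (π : E →ₗ[F] F) (hM : IsIdbModel Q J wE c T π)
    (m : ℕ) (X : Submodule E (Fin d → E)) (hX : Module.finrank E X = m) (hXQ : ∀ x ∈ X, idbQE c x = 0) :
    ∃ Y : Submodule F (ι → F), Module.finrank F Y = 2 * m ∧ ∀ y ∈ Y, Q y = 0 := by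
  refine ⟨(X.restrictScalars F).map (T : (Fin d → E) →ₗ[F] (ι → F)), ?_, ?_⟩
  · rw [LinearEquiv.finrank_map_eq]
    have h1 : Module.finrank F (X.restrictScalars F) = Module.finrank F X := rfl
    rw [h1, ← Module.finrank_mul_finrank F E X, hfr, hX]
  · rintro y ⟨x, hx, rfl⟩
    have hx' : x ∈ X := hx
    have := hM.2.2 x
    simp only [LinearEquiv.coe_coe]
    rw [this, hXQ x hx', map_zero]

end Cfsg.Agent.Lib.Helper44.Oc
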