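import Mathlib
import Cfsg.Agent.Lib.Helper45.LtCore

/-! # S2363 hive "Lt" (helper45), leaf LT-PSP `lt_psp` -/

set_option autoImplicit false

namespace Cfsg.Agent.Lib.Helper45.Lt

theorem psp_sum (m : ℕ) : ∑ i ∈ Finset.range m, 2 * (i + 1) = m * (m + 1) := by
  induction m with
  | zero => simp
  | succ m ih =>
    rw [Finset.sum_range_succ, ih]
    ring

/-- LT-PSP (S0245 + S0246) -/
theorem lt_psp {p f m g : ℕ} (hp : p.Prime) (hf : 1 ≤ f) (hm : 2 ≤ m) (hg : 0 < g)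
    (hcard : Nat.gcd 2 (p ^ f - 1) * g =
      (p ^ f) ^ (m ^ 2) * ∏ i ∈ Finset.range m, ((p ^ f) ^ (2 * (i + 1)) - 1)) :
    g < p ^ (3 * g.factorization p) ∧ g ^ 3 < p ^ (8 * g.factorization p) := by
  have hq : 1 ≤ p ^ f := Nat.one_le_pow _ _ hp.pos
  have hpd : ¬ p ∣ Nat.gcd 2 (p ^ f - 1) := by
    have h1 : ¬ p ∣ p ^ f - 1 := by
      have := lt_not_dvd_sub_one (p := p) (f := f) (a := 1) hp hf le_rfl
      rwa [pow_one] at this
    exact lt_not_dvd_of_dvd (Nat.gcd_dvd_right _ _) h1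
  have hpM : ¬ p ∣ ∏ i ∈ Finset.range m, ((p ^ f) ^ (2 * (i + 1)) - 1) := by
    apply lt_not_dvd_prod hp
    intro i _
    exact lt_not_dvd_sub_one hp hf (by omega)
  have hgcd : 1 ≤ Nat.gcd 2 (p ^ f - 1) := Nat.gcd_pos_of_pos_left _ (by omega)
  have hM : ∏ i ∈ Finset.range m, ((p ^ f) ^ (2 * (i + 1)) - 1) <
      Nat.gcd 2 (p ^ f - 1) * (p ^ f) ^ (m ^ 2 + m) := by
    have h1 := lt_prod_sub_one_lt hq (Finset.range m)
      (Finset.nonempty_range_iff.mpr (by omega)) (fun i => 2 * (i + 1))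
    rw [psp_sum] at h1
    have he : m * (m + 1) = m ^ 2 + m := by ring
    rw [he] at h1
    calc _ < (p ^ f) ^ (m ^ 2 + m) := h1
      _ = 1 * (p ^ f) ^ (m ^ 2 + m) := (one_mul _).symm
      _ ≤ _ := Nat.mul_le_mul_right _ hgcd
  have hl : m ≤ m ^ 2 := by nlinarith
  obtain ⟨-, h1, h2⟩ := lt_core hp hf hg hcard hpd hpM hM hl
  exact ⟨h1, h2 (by nlinarith)⟩

end Cfsg.Agent.Lib.Helper45.Lt
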