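import Mathlib
import Cfsg.Agent.Lib.Helper45.LtCore

/-! # S2363 hive "Lt" (helper45), leaf LT-PSU `lt_psu` -/

set_option autoImplicit false

namespace Cfsg.Agent.Lib.Helper45.Lt

/-- the product in the order formula of the unitary groups -/
def psuP (q n : ℕ) : ℕ :=
  ∏ i ∈ Finset.range n, (if Even i then q ^ (i + 1) + 1 else q ^ (i + 1) - 1)

theorem psu_pair {q : ℕ} (hq : 1 ≤ q) (j : ℕ) :
    (q ^ (2 * j + 2) - 1) * (q ^ (2 * j + 3) + 1) < q ^ (4 * j + 5) := by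
  obtain ⟨B, hB⟩ : ∃ B, q ^ (2 * j + 2) = B + 1 :=
    ⟨q ^ (2 * j + 2) - 1, (Nat.sub_add_cancel (Nat.one_le_pow _ _ hq)).symm⟩
  have h1 : q ^ (2 * j + 3) = q * (B + 1) := by
    rw [← hB]
    ring
  have h2 : q ^ (4 * j + 5) = q * ((B + 1) * (B + 1)) := by
    rw [← hB]
    ring
  rw [hB, h1, h2, Nat.add_sub_cancel]
  nlinarith [Nat.zero_le B, Nat.zero_le (q * B)]

theorem psuP_succ_succ_odd (q k : ℕ) :
    psuP q (2 * k + 3) = psuP q (2 * k + 1) *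
      ((q ^ (2 * k + 2) - 1) * (q ^ (2 * k + 3) + 1)) := by
  unfold psuP
  rw [show 2 * k + 3 = (2 * k + 1) + 1 + 1 from rfl, Finset.prod_range_succ,
    Finset.prod_range_succ]
  have ho : ¬ Even (2 * k + 1) := by
    rw [Nat.not_even_iff_odd]
    exact ⟨k, rfl⟩
  have he : Even (2 * k + 1 + 1) := ⟨k + 1, by ring⟩
  rw [if_neg ho, if_pos he, mul_assoc]

theorem psuP_succ_even (q k : ℕ) :
    psuP q (2 * k + 2) = psuP q (2 * k + 1) * (q ^ (2 * k + 2) - 1) := by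
  unfold psuP
  rw [show 2 * k + 2 = (2 * k + 1) + 1 from rfl, Finset.prod_range_succ]
  have ho : ¬ Even (2 * k + 1) := by
    rw [Nat.not_even_iff_odd]
    exact ⟨k, rfl⟩
  rw [if_neg ho]

theorem psuP_pos {q : ℕ} (hq : 2 ≤ q) (n : ℕ) : 0 < psuP q n := by
  unfold psuP
  apply Finset.prod_pos
  intro i _
  split_ifs
  · positivity
  · have : 2 ≤ q ^ (i + 1) := by
      calc 2 ≤ q := hq
        _ = q ^ 1 := (pow_one q).symm
        _ ≤ q ^ (i + 1) := Nat.pow_le_pow_right (by omega) (by omega)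
    omega

theorem psu_odd {q : ℕ} (hq : 2 ≤ q) (k : ℕ) :
    psuP q (2 * k + 1) ≤ (q + 1) * q ^ (2 * k ^ 2 + 3 * k) ∧
      (1 ≤ k → psuP q (2 * k + 1) < (q + 1) * q ^ (2 * k ^ 2 + 3 * k)) := by
  induction k with
  | zero =>
    refine ⟨?_, fun h => absurd h (by omega)⟩
    unfold psuP
    simp
  | succ k ih =>
    have hstep : psuP q (2 * (k + 1) + 1) < (q + 1) * q ^ (2 * (k + 1) ^ 2 + 3 * (k + 1)) := by
      rw [show 2 * (k + 1) + 1 = 2 * k + 3 by ring, psuP_succ_succ_odd]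
      have hpair := psu_pair (q := q) (by omega) k
      have hpos := psuP_pos hq (2 * k + 1)
      have he : 2 * (k + 1) ^ 2 + 3 * (k + 1) = (2 * k ^ 2 + 3 * k) + (4 * k + 5) := by ring
      rw [he, pow_add q (2 * k ^ 2 + 3 * k) (4 * k + 5), ← mul_assoc ((q + 1)) _ _]
      calc psuP q (2 * k + 1) * ((q ^ (2 * k + 2) - 1) * (q ^ (2 * k + 3) + 1))
          < psuP q (2 * k + 1) * q ^ (4 * k + 5) := Nat.mul_lt_mul_of_pos_left hpair hpos
        _ ≤ (q + 1) * q ^ (2 * k ^ 2 + 3 * k) * q ^ (4 * k + 5) :=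
          Nat.mul_le_mul_right _ ih.1
    exact ⟨hstep.le, fun _ => hstep⟩

theorem psu_even {q : ℕ} (hq : 2 ≤ q) (k : ℕ) :
    psuP q (2 * k + 2) < (q + 1) * q ^ (2 * k ^ 2 + 5 * k + 2) := by
  rw [psuP_succ_even]
  have h1 := (psu_odd hq k).1
  have he : 2 * k ^ 2 + 5 * k + 2 = (2 * k ^ 2 + 3 * k) + (2 * k + 2) := by ring
  rw [he, pow_add q (2 * k ^ 2 + 3 * k) (2 * k + 2), ← mul_assoc ((q + 1)) _ _]
  have hpos : 0 < q ^ (2 * k + 2) := by positivity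
  have hq0 : 0 < (q + 1) * q ^ (2 * k ^ 2 + 3 * k) := by positivity
  calc psuP q (2 * k + 1) * (q ^ (2 * k + 2) - 1)
      ≤ (q + 1) * q ^ (2 * k ^ 2 + 3 * k) * (q ^ (2 * k + 2) - 1) := Nat.mul_le_mul_right _ h1
    _ < (q + 1) * q ^ (2 * k ^ 2 + 3 * k) * q ^ (2 * k + 2) :=
      Nat.mul_lt_mul_of_pos_left (Nat.sub_lt hpos Nat.one_pos) hq0

/-- the bound on the product, `n ≥ 2` -/
theorem psu_bound {q : ℕ} (hq : 2 ≤ q) {n N : ℕ} (hn : 2 ≤ n) (hN : 2 * N = n * (n - 1)) :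
    psuP q n < (q + 1) * q ^ (N + (n - 1)) := by
  rcases Nat.even_or_odd' n with ⟨k, rfl | rfl⟩
  · obtain ⟨j, rfl⟩ : ∃ j, k = j + 1 := ⟨k - 1, by omega⟩
    have hNe : N + (2 * (j + 1) - 1) = 2 * j ^ 2 + 5 * j + 2 := by
      have h1 : 2 * (j + 1) - 1 = 2 * j + 1 := by omega
      rw [h1] at hN ⊢
      nlinarith
    rw [hNe]
    exact psu_even hq j
  · have hNe : N + (2 * k + 1 - 1) = 2 * k ^ 2 + 3 * k := by
      have h1 : 2 * k + 1 - 1 = 2 * k := by omega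
      rw [h1] at hN ⊢
      nlinarith
    rw [hNe]
    exact (psu_odd hq k).2 (by omega)

/-- LT-PSU (S0280) -/
theorem lt_psu {p f n g : ℕ} (hp : p.Prime) (hf : 1 ≤ f) (hn : 3 ≤ n) (hg : 0 < g)
    (hcard : Nat.gcd n (p ^ f + 1) * ((p ^ f + 1) * g) = (p ^ f) ^ (n * (n - 1) / 2) *
      ∏ i ∈ Finset.range n, (if Even i then (p ^ f) ^ (i + 1) + 1 else (p ^ f) ^ (i + 1) - 1)) :
    g < p ^ (3 * g.factorization p) ∧ g ^ 3 < p ^ (8 * g.factorization p) := by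
  have hq : 2 ≤ p ^ f := by
    calc 2 ≤ p := hp.two_le
      _ = p ^ 1 := (pow_one p).symm
      _ ≤ p ^ f := Nat.pow_le_pow_right hp.pos hf
  have hN : 2 * (n * (n - 1) / 2) = n * (n - 1) :=
    Nat.two_mul_div_two_of_even (Nat.even_mul_pred_self n)
  set N : ℕ := n * (n - 1) / 2 with hNdef
  have hd : (Nat.gcd n (p ^ f + 1) * (p ^ f + 1)) * g = (p ^ f) ^ N * psuP (p ^ f) n := by
    rw [mul_assoc]
    exact hcard
  have hpq1 : ¬ p ∣ p ^ f + 1 := by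
    have := lt_not_dvd_add_one (p := p) (f := f) (a := 1) hp hf le_rfl
    rwa [pow_one] at this
  have hpd : ¬ p ∣ Nat.gcd n (p ^ f + 1) * (p ^ f + 1) :=
    lt_not_dvd_mul hp (lt_not_dvd_of_dvd (Nat.gcd_dvd_right _ _) hpq1) hpq1
  have hpM : ¬ p ∣ psuP (p ^ f) n := by
    unfold psuP
    apply lt_not_dvd_prod hp
    intro i _
    split_ifs
    · exact lt_not_dvd_add_one hp hf (by omega)
    · exact lt_not_dvd_sub_one hp hf (by omega)
  have hgcd : 1 ≤ Nat.gcd n (p ^ f + 1) := Nat.gcd_pos_of_pos_left _ (by omega)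
  have hM : psuP (p ^ f) n < Nat.gcd n (p ^ f + 1) * (p ^ f + 1) * (p ^ f) ^ (N + (n - 1)) := by
    have h1 := psu_bound hq (by omega : 2 ≤ n) hN
    calc psuP (p ^ f) n < (p ^ f + 1) * (p ^ f) ^ (N + (n - 1)) := h1
      _ = 1 * ((p ^ f + 1) * (p ^ f) ^ (N + (n - 1))) := (one_mul _).symm
      _ ≤ Nat.gcd n (p ^ f + 1) * ((p ^ f + 1) * (p ^ f) ^ (N + (n - 1))) :=
        Nat.mul_le_mul_right _ hgcd
      _ = Nat.gcd n (p ^ f + 1) * (p ^ f + 1) * (p ^ f) ^ (N + (n - 1)) := (mul_assoc _ _ _).symm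
  have hl : n - 1 ≤ N := by
    obtain ⟨m, rfl⟩ : ∃ m, n = m + 3 := ⟨n - 3, by omega⟩
    have h1 : m + 3 - 1 = m + 2 := by omega
    rw [h1] at hN ⊢
    nlinarith
  obtain ⟨-, h1, h2⟩ := lt_core hp hf hg hd hpd hpM hM hl
  refine ⟨h1, h2 ?_⟩
  obtain ⟨m, rfl⟩ : ∃ m, n = m + 3 := ⟨n - 3, by omega⟩
  have h3 : m + 3 - 1 = m + 2 := by omega
  rw [h3] at hN ⊢
  nlinarith

end Cfsg.Agent.Lib.Helper45.Lt
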