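import Mathlib
import Cfsg.Agent.Lib.Helper45.RsDefs
import Cfsg.Agent.S1155

/-! # RS-THREE (helper45's Rs hive, S2361): a group normalizing a non-trivial 3-subgroup of the small Ree group
normalizes a Sylow 3-subgroup.  Uses the TI property `Cfsg.Agent.S1155.result`. -/

set_option autoImplicit false

namespace Cfsg.Agent.Lib.Helper45.Rs

section ree
open Cfsg Cfsg.Lie
variable {K : Type*} [Field K] [Fintype K] {m : ℕ}

/-- RS-THREE (on `Cfsg.Agent.S1155.result`).  A group normalizing a non-trivial 3-subgroup normalizes a Sylow 3-subgroup.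
(`B ≤ P`; for `s ∈ S`, `B ≤ P ⊓ s P s⁻¹ ≠ ⊥`, so `s P s⁻¹ = P` by `S1155.result`.) -/
theorem le_normalizer_sylow_three (hm : 1 ≤ m) (hK : Fintype.card K = 3 ^ (2 * m + 1))
    (S B : Subgroup ↥(twistedG2 K (3 ^ m))) (hB : IsPGroup 3 B) (hBne : B ≠ ⊥)
    (hSB : S ≤ Subgroup.normalizer (B : Set ↥(twistedG2 K (3 ^ m)))) :
    ∃ P : Sylow 3 ↥(twistedG2 K (3 ^ m)),
      S ≤ Subgroup.normalizer (((P : Subgroup ↥(twistedG2 K (3 ^ m)))) : Set ↥(twistedG2 K (3 ^ m))) := by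
  classical
  haveI : Fact (Nat.Prime 3) := ⟨Nat.prime_three⟩
  obtain ⟨P, hBP⟩ := hB.exists_le_sylow
  refine ⟨P, ?_⟩
  intro s hs
  -- `s` normalizes `B`
  have hsB : s ∈ Subgroup.normalizer (B : Set ↥(twistedG2 K (3 ^ m))) := hSB hs
  -- the conjugate Sylow
  have hPeq : (s • P : Sylow 3 ↥(twistedG2 K (3 ^ m))) = P := by
    by_contra hne
    have hTI := Cfsg.Agent.S1155.result hm hK P (s • P) (fun h => hne h.symm)
    apply hBne
    rw [eq_bot_iff]
    intro b hb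
    have hbP : b ∈ (P : Subgroup ↥(twistedG2 K (3 ^ m))) := hBP hb
    have hbsP : b ∈ ((s • P : Sylow 3 ↥(twistedG2 K (3 ^ m))) : Subgroup ↥(twistedG2 K (3 ^ m))) := by
      rw [Sylow.coe_subgroup_smul]
      -- `s⁻¹ b s ∈ B ≤ P`
      have hsinv : s⁻¹ ∈ Subgroup.normalizer (B : Set ↥(twistedG2 K (3 ^ m))) := inv_mem hsB
      have h1 := (Subgroup.mem_normalizer_iff.mp hsinv b).mp hb
      rw [inv_inv] at h1
      refine Subgroup.mem_smul_pointwise_iff_exists _ _ _ |>.mpr ⟨s⁻¹ * b * s, hBP h1, ?_⟩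
      rw [MulAut.smul_def, MulAut.conj_apply]
      group
    have : b ∈ (P : Subgroup ↥(twistedG2 K (3 ^ m))) ⊓
        ((s • P : Sylow 3 ↥(twistedG2 K (3 ^ m))) : Subgroup ↥(twistedG2 K (3 ^ m))) := ⟨hbP, hbsP⟩
    rw [hTI] at this
    exact this
  exact Sylow.smul_eq_iff_mem_normalizer.mp hPeq

end ree

end Cfsg.Agent.Lib.Helper45.Rs
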