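import Cfsg.Agent.Lib.Helper55.ZStarChar

/-! # A5c hive (S3278), leaf A5c-KER (helper55)

In a simple group a nonprincipal irreducible character is faithful: `χ g = χ 1` forces `g = 1`. -/

set_option autoImplicit false
set_option linter.unusedVariables false

universe u

namespace Cfsg.Agent.Lib.Helper47.A5c

open Cfsg Subgroup

/-- LEAF A5c-KER. -/
theorem ker_triv {G : Type u} [Group G] [Finite G] [IsSimpleGroup G] (χ : IrrCharacter G)
    (hχ : (χ : G → ℂ) ≠ fun _ => 1) (g : G) (hg : (χ : G → ℂ) g = (χ : G → ℂ) 1) : g = 1 := by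
  have hne : χ ≠ Cfsg.Agent.Lib.Helper81.oneIrr G := by
    intro h
    apply hχ
    rw [h]
    rfl
  have htop := Cfsg.Agent.Lib.Helper55.zs_charKer_ne_top χ hne
  have hmem : g ∈ Cfsg.Agent.Lib.Helper79.charKer (Cfsg.Agent.Lib.Helper3.IsIrrCharacter.isCharacter χ.2) :=
    (Cfsg.Agent.Lib.Helper79.mem_charKer _ g).2 hg
  have hbot := (Subgroup.Normal.eq_bot_or_eq_top
    (Cfsg.Agent.Lib.Helper79.charKer_normal (Cfsg.Agent.Lib.Helper3.IsIrrCharacter.isCharacter χ.2))).resolve_right htop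
  rw [hbot, Subgroup.mem_bot] at hmem
  exact hmem

end Cfsg.Agent.Lib.Helper47.A5c
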