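import Mathlib
import Cfsg.Prelude.Def_ClassicalGeometry
import Cfsg.Agent.Lib.Helper2.BGLin
import Cfsg.Agent.Lib.Helper2.BGPoly
import Cfsg.Agent.Lib.Helper99.SympForm
import Cfsg.Agent.Lib.Helper48.TiDefs

/-! # S5955 hive, leaf TI-PIGEON : `exists_factor_large` -/

set_option autoImplicit false

namespace Cfsg.Agent.Lib.Helper48.Ti

open Polynomial Module
open Cfsg.Agent.Lib.Helper2.BG Cfsg.Agent.Lib.Helper99

section abstract

variable {F V : Type*} [Field F] [AddCommGroup V] [Module F V] [FiniteDimensional F V]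
variable {B : V →ₗ[F] V →ₗ[F] F}

/-- an invariant subspace killed by a product of pairwise coprime polynomials has dimension at
most the sum of the dimensions of its primary pieces -/
theorem pigeon_sum_le {f : Module.End F V} :
    ∀ (S : Finset F[X]), (∀ a ∈ S, ∀ b ∈ S, a ≠ b → IsCoprime a b) →
    ∀ W : Submodule F V, Inv f W → (∀ v ∈ W, aeval f (∏ φ ∈ S, φ) v = 0) →
    finrank F W ≤ ∑ φ ∈ S, finrank F ↥(W ⊓ LinearMap.ker (aeval f φ)) := by
  classical
  intro S
  induction S using Finset.induction_on with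
  | empty =>
    intro _ W hW hk
    have : W = ⊥ := by
      rw [Submodule.eq_bot_iff]
      intro v hv
      simpa using hk v hv
    subst this
    simp
  | insert a S ha ih =>
    intro hcop W hW hk
    rw [Finset.prod_insert ha] at hk
    have hc : IsCoprime a (∏ φ ∈ S, φ) :=
      IsCoprime.prod_right (fun b hb => hcop a (Finset.mem_insert_self _ _) b
        (Finset.mem_insert_of_mem hb) (by rintro rfl; exact ha hb))
    obtain ⟨-, -, hfr⟩ := finrank_inv_split hc hW hk
    rw [Finset.sum_insert ha, hfr]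
    have hW' : Inv f (W ⊓ LinearMap.ker (aeval f (∏ φ ∈ S, φ))) := hW.inf (inv_ker_aeval f _)
    have h1 := ih (fun a ha b hb => hcop a (Finset.mem_insert_of_mem ha) b
      (Finset.mem_insert_of_mem hb)) _ hW' (fun v hv => LinearMap.mem_ker.mp hv.2)
    refine Nat.add_le_add_left (h1.trans (Finset.sum_le_sum fun φ _ =>
      Submodule.finrank_mono ?_)) _
    exact inf_le_inf_right _ inf_le_left

/-- TI-PIGEON -/
theorem exists_factor_large {f : Module.End F V} (hss : f.IsSemisimple) {P : F[X]}
    (hsq : Squarefree P) {i τ : ℕ} (hdeg : AllIrrDeg P i) (hτ : FactorBound P τ)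
    {W : Submodule F V} (hWf : Inv f W) (hWP : ∀ v ∈ W, aeval f P v = 0)
    (hbig : i * τ < finrank F W) :
    ∃ φ : F[X], Irreducible φ ∧ φ ∣ P ∧
      2 * i ≤ finrank F ↥(W ⊓ LinearMap.ker (aeval f φ)) := by
  classical
  have hP0 : P ≠ 0 := hsq.ne_zero
  by_contra hcon
  push Not at hcon
  set S := (UniqueFactorizationMonoid.normalizedFactors P).toFinset with hS
  have hirr : ∀ g ∈ S, Irreducible g := fun g hg =>
    UniqueFactorizationMonoid.irreducible_of_normalized_factor g (Multiset.mem_toFinset.mp hg)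
  have hdvd : ∀ g ∈ S, g ∣ P := fun g hg =>
    UniqueFactorizationMonoid.dvd_of_mem_normalizedFactors (Multiset.mem_toFinset.mp hg)
  have hnorm : ∀ g ∈ S, normalize g = g := fun g hg =>
    UniqueFactorizationMonoid.normalize_normalized_factor g (Multiset.mem_toFinset.mp hg)
  have hmonic : ∀ g ∈ S, g.Monic := fun g hg => by
    rw [← hnorm g hg]
    exact Polynomial.monic_normalize (hirr g hg).ne_zero
  have hcard : S.card ≤ τ := hτ S (fun g hg => ⟨hirr g hg, hmonic g hg, hdvd g hg⟩)
  have hnodup : (UniqueFactorizationMonoid.normalizedFactors P).Nodup :=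
    (UniqueFactorizationMonoid.squarefree_iff_nodup_normalizedFactors hP0).mp hsq
  have hprod : ∏ φ ∈ S, φ = (UniqueFactorizationMonoid.normalizedFactors P).prod := by
    rw [Finset.prod_eq_multiset_prod, hS, Multiset.toFinset_val, hnodup.dedup, Multiset.map_id']
  obtain ⟨u, hu⟩ := UniqueFactorizationMonoid.prod_normalizedFactors hP0
  have hkill : ∀ v ∈ W, aeval f (∏ φ ∈ S, φ) v = 0 := by
    intro v hv
    have h1 : (∏ φ ∈ S, φ) = P * ((u⁻¹ : (F[X])ˣ) : F[X]) := by
      rw [hprod]
      calc (UniqueFactorizationMonoid.normalizedFactors P).prod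
          = (UniqueFactorizationMonoid.normalizedFactors P).prod * (u : F[X]) *
              ((u⁻¹ : (F[X])ˣ) : F[X]) := by
            rw [mul_assoc, ← Units.val_mul, mul_inv_cancel, Units.val_one, mul_one]
        _ = P * ((u⁻¹ : (F[X])ˣ) : F[X]) := by rw [hu]
    rw [h1, mul_comm, map_mul, Module.End.mul_apply, hWP v hv, map_zero]
  have hcop : ∀ a ∈ S, ∀ b ∈ S, a ≠ b → IsCoprime a b := by
    intro a ha b hb hab
    rcases (hirr a ha).isCoprime_or_dvd b with h | h
    · exact h
    · exfalso
      apply hab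
      have hassoc : Associated a b := (hirr a ha).associated_of_dvd (hirr b hb) h
      rw [← hnorm a ha, ← hnorm b hb]
      exact normalize_eq_normalize hassoc.dvd hassoc.symm.dvd
  have hsum := pigeon_sum_le S hcop W hWf hkill
  have hterm : ∀ φ ∈ S, finrank F ↥(W ⊓ LinearMap.ker (aeval f φ)) ≤ i := by
    intro φ hφ
    have h1 := hcon φ (hirr φ hφ) (hdvd φ hφ)
    have h2 : i ∣ finrank F ↥(W ⊓ LinearMap.ker (aeval f φ)) :=
      dvd_finrank_of_inv hss (hirr φ hφ).ne_zero (hdeg.of_dvd (hdvd φ hφ)) _ _ rfl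
        (hWf.inf (inv_ker_aeval f _)) (fun v hv => LinearMap.mem_ker.mp hv.2)
    obtain ⟨k, hk⟩ := h2
    rw [hk] at h1 ⊢
    have hk2 : k < 2 := by
      by_contra hk2
      push Not at hk2
      have : 2 * i ≤ i * k := by rw [mul_comm]; exact Nat.mul_le_mul_left i hk2
      omega
    interval_cases k <;> simp
  have h3 : ∑ φ ∈ S, finrank F ↥(W ⊓ LinearMap.ker (aeval f φ)) ≤ S.card * i := by
    have := Finset.sum_le_card_nsmul S _ i hterm
    simpa using this
  have h4 : S.card * i ≤ τ * i := Nat.mul_le_mul_right i hcard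
  have h5 : τ * i = i * τ := mul_comm _ _
  omega

end abstract

end Cfsg.Agent.Lib.Helper48.Ti
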