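import Mathlib

/-! # RC-PAIRY + RC-PAIRT (helper52's Rc hive, S2357): elements of order `2 i` (`i` odd) are the products `t * y` of commuting
`t` of order 2 and `y` of order `i`; counting by `y` first, resp. by `t` first. -/

set_option autoImplicit false

namespace Cfsg.Agent.Lib.Helper52.Rc

theorem rcpair_gcd_succ (i : ℕ) (hi : Odd i) : Nat.gcd (2 * i) (i + 1) = 2 := by
  obtain ⟨k, rfl⟩ := hi
  have h1 : 2 * k + 1 + 1 = 2 * (k + 1) := by ring
  rw [h1, Nat.gcd_mul_left]
  have h2 : Nat.Coprime (2 * k + 1) (k + 1) := by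
    have h3 : 2 * k + 1 = k + (k + 1) := by ring
    rw [h3, Nat.coprime_add_self_left]
    exact (Nat.coprime_self_add_right).mpr (Nat.coprime_one_right k)
  rw [Nat.Coprime] at h2
  rw [h2]

theorem rcpair_orderOf_pow {G : Type*} [Group G] (i : ℕ) (hi : Odd i) (x : G) (hx : orderOf x = 2 * i) :
    orderOf (x ^ i) = 2 := by
  have hipos : 0 < i := hi.pos
  rw [orderOf_pow' x hipos.ne', hx, Nat.gcd_eq_right (dvd_mul_left i 2)]
  exact Nat.mul_div_cancel 2 hipos

theorem rcpair_orderOf_pow_succ {G : Type*} [Group G] (i : ℕ) (hi : Odd i) (x : G) (hx : orderOf x = 2 * i) :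
    orderOf (x ^ (i + 1)) = i := by
  rw [orderOf_pow' x (Nat.succ_ne_zero i), hx, rcpair_gcd_succ i hi]
  exact Nat.mul_div_cancel_left i (by norm_num)

theorem rcpair_pow_mul_pow {G : Type*} [Group G] (i : ℕ) (x : G) (hx : orderOf x = 2 * i) :
    x ^ i * x ^ (i + 1) = x := by
  rw [← pow_add]
  have h1 : i + (i + 1) = 2 * i + 1 := by ring
  rw [h1, pow_succ, ← hx, pow_orderOf_eq_one, one_mul]

theorem rcpair_pow_succ_mul_pow {G : Type*} [Group G] (i : ℕ) (x : G) (hx : orderOf x = 2 * i) :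
    x ^ (i + 1) * x ^ i = x := by
  rw [← pow_add]
  have h1 : i + 1 + i = 2 * i + 1 := by ring
  rw [h1, pow_succ, ← hx, pow_orderOf_eq_one, one_mul]

theorem rcpair_comm {G : Type*} [Group G] (i : ℕ) (x : G) : x ^ i * x ^ (i + 1) = x ^ (i + 1) * x ^ i := by
  rw [← pow_add, ← pow_add, add_comm]

theorem rcpair_orderOf_mul {G : Type*} [Group G] (i : ℕ) (hi : Odd i) (t y : G) (ht : orderOf t = 2)
    (hy : orderOf y = i) (hty : t * y = y * t) : orderOf (t * y) = 2 * i := by
  have hc : Commute t y := hty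
  have hcop : Nat.Coprime (orderOf t) (orderOf y) := by
    rw [ht, hy]
    exact (Nat.coprime_two_left).mpr hi
  rw [hc.orderOf_mul_eq_mul_orderOf_of_coprime hcop, ht, hy]

theorem rcpair_mul_pow {G : Type*} [Group G] (i : ℕ) (hi : Odd i) (t y : G) (ht : orderOf t = 2)
    (hy : orderOf y = i) (hty : t * y = y * t) : (t * y) ^ i = t := by
  have hc : Commute t y := hty
  rw [hc.mul_pow, ← hy, pow_orderOf_eq_one, mul_one, hy]
  obtain ⟨k, rfl⟩ := hi
  rw [pow_succ, pow_mul, ← ht, pow_orderOf_eq_one, one_pow, one_mul]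

theorem rcpair_mul_pow_succ {G : Type*} [Group G] (i : ℕ) (hi : Odd i) (t y : G) (ht : orderOf t = 2)
    (hy : orderOf y = i) (hty : t * y = y * t) : (t * y) ^ (i + 1) = y := by
  have hc : Commute t y := hty
  rw [hc.mul_pow]
  have h1 : y ^ (i + 1) = y := by
    rw [pow_succ, ← hy, pow_orderOf_eq_one, one_mul]
  have h2 : t ^ (i + 1) = 1 := by
    obtain ⟨k, rfl⟩ := hi
    have h3 : 2 * k + 1 + 1 = 2 * (k + 1) := by ring
    rw [h3, pow_mul, ← ht, pow_orderOf_eq_one, one_pow]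
  rw [h1, h2, one_mul]

/-- the bijection `x ↦ (y, t) = (x ^ (i + 1), x ^ i)`, indexed by `y` first -/
noncomputable def rcpair_equivY {G : Type*} [Group G] (i : ℕ) (hi : Odd i) :
    {x : G // orderOf x = 2 * i} ≃
      (Σ y : {y : G // orderOf y = i}, {t : G // orderOf t = 2 ∧ t * y.1 = y.1 * t}) where
  toFun x := ⟨⟨x.1 ^ (i + 1), rcpair_orderOf_pow_succ i hi x.1 x.2⟩,
    ⟨x.1 ^ i, rcpair_orderOf_pow i hi x.1 x.2, rcpair_comm i x.1⟩⟩
  invFun p := ⟨p.2.1 * p.1.1, rcpair_orderOf_mul i hi p.2.1 p.1.1 p.2.2.1 p.1.2 p.2.2.2⟩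
  left_inv x := by
    apply Subtype.ext
    exact rcpair_pow_mul_pow i x.1 x.2
  right_inv p := by
    obtain ⟨⟨y, hy⟩, ⟨t, ht, hty⟩⟩ := p
    have h1 : (t * y) ^ (i + 1) = y := rcpair_mul_pow_succ i hi t y ht hy hty
    have h2 : (t * y) ^ i = t := rcpair_mul_pow i hi t y ht hy hty
    refine Sigma.ext (Subtype.ext h1) ?_
    refine (Subtype.heq_iff_coe_eq ?_).mpr h2
    intro t'
    simp only [h1]

/-- the bijection `x ↦ (t, y) = (x ^ i, x ^ (i + 1))`, indexed by `t` first -/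
noncomputable def rcpair_equivT {G : Type*} [Group G] (i : ℕ) (hi : Odd i) :
    {x : G // orderOf x = 2 * i} ≃
      (Σ t : {t : G // orderOf t = 2}, {y : G // orderOf y = i ∧ t.1 * y = y * t.1}) where
  toFun x := ⟨⟨x.1 ^ i, rcpair_orderOf_pow i hi x.1 x.2⟩,
    ⟨x.1 ^ (i + 1), rcpair_orderOf_pow_succ i hi x.1 x.2, rcpair_comm i x.1⟩⟩
  invFun p := ⟨p.1.1 * p.2.1, rcpair_orderOf_mul i hi p.1.1 p.2.1 p.1.2 p.2.2.1 p.2.2.2⟩
  left_inv x := by
    apply Subtype.ext
    exact rcpair_pow_mul_pow i x.1 x.2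
  right_inv p := by
    obtain ⟨⟨t, ht⟩, ⟨y, hy, hty⟩⟩ := p
    have h1 : (t * y) ^ (i + 1) = y := rcpair_mul_pow_succ i hi t y ht hy hty
    have h2 : (t * y) ^ i = t := rcpair_mul_pow i hi t y ht hy hty
    refine Sigma.ext (Subtype.ext h2) ?_
    refine (Subtype.heq_iff_coe_eq ?_).mpr h1
    intro y'
    simp only [h2]

/-- RC-PAIRY. Elements of order `2 i` (`i` odd) are the products `t * y` of commuting `t` of order 2 and `y` of order `i`
(`x ↦ (x ^ i, x ^ (i + 1))`, inverse `(t, y) ↦ t * y`).  Counting by `y` first. -/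
theorem card_orderOf_two_mul_of_forall_y {G : Type*} [Group G] [Finite G] (i c : ℕ) (hi : Odd i)
    (hc : ∀ y : G, orderOf y = i → Nat.card {t : G // orderOf t = 2 ∧ t * y = y * t} = c) :
    Nat.card {x : G // orderOf x = 2 * i} = c * Nat.card {y : G // orderOf y = i} := by
  classical
  haveI : Fintype {y : G // orderOf y = i} := Fintype.ofFinite _
  rw [Nat.card_congr (rcpair_equivY i hi), Nat.card_sigma]
  rw [Finset.sum_congr rfl (fun y _ => hc y.1 y.2)]
  rw [Finset.sum_const, Finset.card_univ, Nat.card_eq_fintype_card, smul_eq_mul, mul_comm]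

/-- RC-PAIRT. The same bijection, counting by `t` first. -/
theorem card_orderOf_two_mul_of_forall_t {G : Type*} [Group G] [Finite G] (i c : ℕ) (hi : Odd i)
    (hc : ∀ t : G, orderOf t = 2 → Nat.card {y : G // orderOf y = i ∧ t * y = y * t} = c) :
    Nat.card {x : G // orderOf x = 2 * i} = c * Nat.card {t : G // orderOf t = 2} := by
  classical
  haveI : Fintype {t : G // orderOf t = 2} := Fintype.ofFinite _
  rw [Nat.card_congr (rcpair_equivT i hi), Nat.card_sigma]
  rw [Finset.sum_congr rfl (fun t _ => hc t.1 t.2)]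
  rw [Finset.sum_const, Finset.card_univ, Nat.card_eq_fintype_card, smul_eq_mul, mul_comm]

end Cfsg.Agent.Lib.Helper52.Rc
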