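import Mathlib
import Cfsg.Agent.Lib.Helper87.AltModel
import Cfsg.Agent.Lib.Helper30.AltFAFF

set_option autoImplicit false

/-! # S5165 leaf U1: the multiplier character is multiplicative on `N(Bs)`. -/

namespace Cfsg.Agent.Lib.Helper87.AltF

open Equiv Subgroup

theorem u1_mulOf_of_affine {I : Type} (p a0 : ℕ) (g : Perm (PtI I p a0)) (σ : Perm I)
    (e : I → (ZMod p)ˣ) (μ : I → ZMod p)
    (hg : ∀ k s, g (Sum.inl (k, s)) = Sum.inl (σ k, (e k : ZMod p) * s + μ k)) (k : I) :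
    mulOf p a0 g k = (e k : ZMod p) := by
  rw [mulOf, hg, hg]
  simp [snd2]

/-- [U1] `uu` is multiplicative on `N(Bs)`. -/
theorem uu_mul {I : Type} [Fintype I] [DecidableEq I] (p a0 : ℕ) [Fact p.Prime]
    (g g' : Perm (PtI I p a0))
    (hg : g ∈ normalizer ((Bs (I := I) p a0 : Subgroup (Perm (PtI I p a0))) : Set (Perm (PtI I p a0))))
    (hg' : g' ∈ normalizer ((Bs (I := I) p a0 : Subgroup (Perm (PtI I p a0))) : Set (Perm (PtI I p a0)))) :
    uu p a0 (g * g') = uu p a0 g * uu p a0 g' := by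
  obtain ⟨σ, e, μ, τ, h1, -⟩ := exists_affine_of_mem_normalizer p a0 g hg
  obtain ⟨σ', e', μ', τ', h1', -⟩ := exists_affine_of_mem_normalizer p a0 g' hg'
  have hm : ∀ k, mulOf p a0 (g * g') k = (e (σ' k) : ZMod p) * (e' k : ZMod p) := by
    intro k
    rw [mulOf, Perm.mul_apply, Perm.mul_apply, h1', h1', h1, h1]
    simp only [snd2, Sum.elim_inl]
    ring
  unfold uu
  simp only [hm, u1_mulOf_of_affine p a0 g σ e μ h1, u1_mulOf_of_affine p a0 g' σ' e' μ' h1']
  rw [Finset.prod_mul_distrib]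
  congr 1
  exact Equiv.prod_comp σ' (fun k => (e k : ZMod p))

end Cfsg.Agent.Lib.Helper87.AltF
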