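import Mathlib
import Cfsg.Agent.Lib.Helper87.AltModel

set_option autoImplicit false

/-! # S5165 leaf V3: `h0 lam` is a product of six transvections of the square. -/

namespace Cfsg.Agent.Lib.Helper87.AltF

open Equiv Subgroup

/-- a general criterion for membership in the normalizer of a generated subgroup -/
theorem v3_mem_normalizer_closure {G : Type*} [Group G] (S : Set G) (x : G)
    (h1 : ∀ g ∈ S, x * g * x⁻¹ ∈ Subgroup.closure S)
    (h2 : ∀ g ∈ S, x⁻¹ * g * x ∈ Subgroup.closure S) :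
    x ∈ normalizer ((Subgroup.closure S : Subgroup G) : Set G) := by
  have key : ∀ y : G, (∀ g ∈ S, y * g * y⁻¹ ∈ Subgroup.closure S) →
      ∀ n ∈ Subgroup.closure S, y * n * y⁻¹ ∈ Subgroup.closure S := by
    intro y hy n hn
    have hle : Subgroup.closure S ≤ (Subgroup.closure S).comap (MulAut.conj y).toMonoidHom := by
      rw [Subgroup.closure_le]
      intro g hg
      have := hy g hg
      simpa using this
    have := hle hn
    simpa using this
  rw [Subgroup.mem_normalizer_iff]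
  intro n
  constructor
  · exact key x h1 n
  · intro h
    have h3 := key x⁻¹ (by simpa using h2) _ h
    have e : x⁻¹ * (x * n * x⁻¹) * x⁻¹⁻¹ = n := by group
    rwa [e] at h3

variable (p a0 m' : ℕ)

/-- extend a permutation of the square by the identity -/
def v3_sq (φ : Perm (ZMod p × ZMod p)) : Perm (Pt p m' a0) where
  toFun := fun z => match z with
    | Sum.inl (Sum.inl a, b) => Sum.inl (Sum.inl (φ (a, b)).1, (φ (a, b)).2)
    | Sum.inl (Sum.inr i, b) => Sum.inl (Sum.inr i, b)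
    | Sum.inr x => Sum.inr x
  invFun := fun z => match z with
    | Sum.inl (Sum.inl a, b) => Sum.inl (Sum.inl (φ.symm (a, b)).1, (φ.symm (a, b)).2)
    | Sum.inl (Sum.inr i, b) => Sum.inl (Sum.inr i, b)
    | Sum.inr x => Sum.inr x
  left_inv := by
    rintro ((⟨a | i, b⟩) | x) <;> simp
  right_inv := by
    rintro ((⟨a | i, b⟩) | x) <;> simp

theorem v3_sq_sq (φ : Perm (ZMod p × ZMod p)) (a b : ZMod p) :
    v3_sq p a0 m' φ (Sum.inl (Sum.inl a, b)) = Sum.inl (Sum.inl (φ (a, b)).1, (φ (a, b)).2) := rfl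

theorem v3_sq_rest (φ : Perm (ZMod p × ZMod p)) (i : Fin m') (b : ZMod p) :
    v3_sq p a0 m' φ (Sum.inl (Sum.inr i, b)) = Sum.inl (Sum.inr i, b) := rfl

theorem v3_sq_inr (φ : Perm (ZMod p × ZMod p)) (x : Fin a0) :
    v3_sq p a0 m' φ (Sum.inr x) = Sum.inr x := rfl

theorem v3_sq_mul (φ ψ : Perm (ZMod p × ZMod p)) :
    v3_sq p a0 m' (φ * ψ) = v3_sq p a0 m' φ * v3_sq p a0 m' ψ := by
  ext z
  rcases z with (⟨a | i, b⟩) | x <;> rfl

theorem v3_sq_one : v3_sq p a0 m' 1 = 1 := by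
  ext z
  rcases z with (⟨a | i, b⟩) | x <;> rfl

/-- `v3_sq` as a homomorphism -/
def v3_sqHom : Perm (ZMod p × ZMod p) →* Perm (Pt p m' a0) where
  toFun := v3_sq p a0 m'
  map_one' := v3_sq_one p a0 m'
  map_mul' := v3_sq_mul p a0 m'

theorem v3_sq_pow (φ : Perm (ZMod p × ZMod p)) (n : ℕ) :
    v3_sq p a0 m' (φ ^ n) = v3_sq p a0 m' φ ^ n :=
  map_pow (v3_sqHom p a0 m') φ n

theorem v3_sq_inv (φ : Perm (ZMod p × ZMod p)) :
    v3_sq p a0 m' φ⁻¹ = (v3_sq p a0 m' φ)⁻¹ :=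
  map_inv (v3_sqHom p a0 m') φ

variable [Fact p.Prime]

theorem v3_vt1 :
    vt1 p a0 m' = v3_sq p a0 m' (Equiv.addRight ((1 : ZMod p), (0 : ZMod p))) := by
  ext z
  rcases z with (⟨a | i, b⟩) | x
  · rw [vt1_sq, v3_sq_sq]; simp
  · rfl
  · rfl

theorem v3_vt2 :
    vt2 p a0 m' = v3_sq p a0 m' (Equiv.addRight ((0 : ZMod p), (1 : ZMod p))) := by
  ext z
  rcases z with (⟨a | i, b⟩) | x
  · rw [vt2_sq, v3_sq_sq]; simp
  · rfl
  · rfl

theorem v3_trans_mem (w : ZMod p × ZMod p) :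
    v3_sq p a0 m' (Equiv.addRight w) ∈ Vg p a0 m' := by
  have h1 : v3_sq p a0 m' (Equiv.addRight ((1 : ZMod p), (0 : ZMod p))) ∈ Vg p a0 m' := by
    rw [← v3_vt1]; exact Subgroup.subset_closure (by simp)
  have h2 : v3_sq p a0 m' (Equiv.addRight ((0 : ZMod p), (1 : ZMod p))) ∈ Vg p a0 m' := by
    rw [← v3_vt2]; exact Subgroup.subset_closure (by simp)
  have e : Equiv.addRight w = Equiv.addRight ((1 : ZMod p), (0 : ZMod p)) ^ w.1.val *
      Equiv.addRight ((0 : ZMod p), (1 : ZMod p)) ^ w.2.val := by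
    rw [Equiv.nsmul_addRight, Equiv.nsmul_addRight, ← Equiv.addRight_add]
    congr 1
    ext <;> simp
  rw [e, v3_sq_mul, v3_sq_pow, v3_sq_pow]
  exact (Vg p a0 m').mul_mem ((Vg p a0 m').pow_mem h1 _) ((Vg p a0 m').pow_mem h2 _)

theorem v3_comm_cyc (φ : Perm (ZMod p × ZMod p)) (i : Fin m') :
    v3_sq p a0 m' φ * cyc p a0 (Sum.inr i : Idx p m') * (v3_sq p a0 m' φ)⁻¹ =
      cyc p a0 (Sum.inr i : Idx p m') := by
  rw [mul_inv_eq_iff_eq_mul]
  ext z
  rcases z with (⟨a | j, b⟩) | x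
  · simp only [Perm.mul_apply]
    rw [cyc_inl_of_ne p a0 (by simp), v3_sq_sq, cyc_inl_of_ne p a0 (by simp)]
  · simp only [Perm.mul_apply]
    by_cases hji : j = i
    · subst hji
      rw [cyc_inl_self, v3_sq_rest, v3_sq_rest, cyc_inl_self]
    · have hne : (Sum.inr j : Idx p m') ≠ Sum.inr i := by
        intro h; exact hji (Sum.inr_injective h)
      rw [cyc_inl_of_ne p a0 hne, v3_sq_rest, cyc_inl_of_ne p a0 hne]
  · rfl

/-- the generating set of `Rg` -/
def v3_gens : Set (Perm (Pt p m' a0)) :=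
  {vt1 p a0 m', vt2 p a0 m'} ∪ Set.range (fun i : Fin m' => cyc p a0 (Sum.inr i : Idx p m'))

theorem v3_Rg_eq : Rg p a0 m' = Subgroup.closure (v3_gens p a0 m') := by
  rw [Rg, Vg, Brest, v3_gens, Subgroup.closure_union]

theorem v3_conj_addRight (f : (ZMod p × ZMod p) ≃+ (ZMod p × ZMod p)) (w : ZMod p × ZMod p) :
    (f.toEquiv : Perm (ZMod p × ZMod p)) * Equiv.addRight w * (f.toEquiv : Perm _)⁻¹ =
      Equiv.addRight (f w) := by
  rw [mul_inv_eq_iff_eq_mul]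
  ext z <;> simp

theorem v3_conj_mem (f : (ZMod p × ZMod p) ≃+ (ZMod p × ZMod p)) :
    ∀ g ∈ v3_gens p a0 m', v3_sq p a0 m' f.toEquiv * g * (v3_sq p a0 m' f.toEquiv)⁻¹ ∈
      Subgroup.closure (v3_gens p a0 m') := by
  intro g hg
  rw [← v3_Rg_eq]
  rcases hg with hg | ⟨i, rfl⟩
  · have hV : ∀ w : ZMod p × ZMod p, v3_sq p a0 m' f.toEquiv * v3_sq p a0 m' (Equiv.addRight w) *
        (v3_sq p a0 m' f.toEquiv)⁻¹ ∈ Rg p a0 m' := by
      intro w
      rw [← v3_sq_inv, ← v3_sq_mul, ← v3_sq_mul, v3_conj_addRight]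
      exact (le_sup_left : Vg p a0 m' ≤ Rg p a0 m') (v3_trans_mem p a0 m' _)
    rcases hg with rfl | hg
    · rw [v3_vt1]; exact hV _
    · rw [Set.mem_singleton_iff] at hg
      rw [hg, v3_vt2]; exact hV _
  · simp only
    rw [v3_comm_cyc]
    exact (le_sup_right : Brest p a0 m' ≤ Rg p a0 m')
      (Subgroup.subset_closure ⟨i, rfl⟩)

theorem v3_symm_toEquiv (f : (ZMod p × ZMod p) ≃+ (ZMod p × ZMod p)) :
    (f.symm.toEquiv : Perm (ZMod p × ZMod p)) = (f.toEquiv : Perm _)⁻¹ := rfl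

theorem v3_good (hp : p ≠ 2) (f : (ZMod p × ZMod p) ≃+ (ZMod p × ZMod p))
    (hf : (f.toEquiv : Perm (ZMod p × ZMod p)) ^ p = 1) :
    v3_sq p a0 m' f.toEquiv ∈ {x : Perm (Pt p m' a0) | x ∈ alternatingGroup (Pt p m' a0) ∧
      x ∈ normalizer ((Rg p a0 m' : Subgroup (Perm (Pt p m' a0))) : Set (Perm (Pt p m' a0))) ∧
      ∃ k : ℕ, orderOf x = p ^ k} := by
  have hpp : p.Prime := Fact.out
  have hpow : v3_sq p a0 m' f.toEquiv ^ p = 1 := by
    rw [← v3_sq_pow, hf, v3_sq_one]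
  refine ⟨?_, ?_, ?_⟩
  · rw [Equiv.Perm.mem_alternatingGroup]
    have h1 : Equiv.Perm.sign (v3_sq p a0 m' f.toEquiv) ^ p = 1 := by
      rw [← map_pow, hpow, map_one]
    rcases Int.units_eq_one_or (Equiv.Perm.sign (v3_sq p a0 m' f.toEquiv)) with h | h
    · exact h
    · rw [h, (hpp.odd_of_ne_two hp).neg_one_pow] at h1
      exact absurd h1 (by decide)
  · rw [v3_Rg_eq]
    apply v3_mem_normalizer_closure
    · exact v3_conj_mem p a0 m' f
    · intro g hg
      have := v3_conj_mem p a0 m' f.symm g hg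
      rw [v3_symm_toEquiv, v3_sq_inv, inv_inv] at this
      exact this
  · have hdvd : orderOf (v3_sq p a0 m' f.toEquiv) ∣ p := orderOf_dvd_of_pow_eq_one hpow
    rcases (Nat.dvd_prime hpp).mp hdvd with h | h
    · exact ⟨0, by rw [h, pow_zero]⟩
    · exact ⟨1, by rw [h, pow_one]⟩

/-- the upper transvection `(a, b) ↦ (a + x b, b)` -/
def v3_U (x : ZMod p) : (ZMod p × ZMod p) ≃+ (ZMod p × ZMod p) where
  toFun z := (z.1 + x * z.2, z.2)
  invFun z := (z.1 - x * z.2, z.2)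
  left_inv z := by ext <;> simp
  right_inv z := by ext <;> simp
  map_add' z w := by ext <;> simp <;> ring

/-- the lower transvection `(a, b) ↦ (a, b + y a)` -/
def v3_L (y : ZMod p) : (ZMod p × ZMod p) ≃+ (ZMod p × ZMod p) where
  toFun z := (z.1, z.2 + y * z.1)
  invFun z := (z.1, z.2 - y * z.1)
  left_inv z := by ext <;> simp
  right_inv z := by ext <;> simp
  map_add' z w := by ext <;> simp <;> ring

theorem v3_U_pow (x : ZMod p) (n : ℕ) (z : ZMod p × ZMod p) :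
    (((v3_U p x).toEquiv : Perm (ZMod p × ZMod p)) ^ n) z = (z.1 + n * x * z.2, z.2) := by
  induction n with
  | zero => simp
  | succ n ih =>
    rw [pow_succ', Perm.mul_apply, ih]
    ext
    · simp [v3_U]; ring
    · simp [v3_U]

theorem v3_L_pow (y : ZMod p) (n : ℕ) (z : ZMod p × ZMod p) :
    (((v3_L p y).toEquiv : Perm (ZMod p × ZMod p)) ^ n) z = (z.1, z.2 + n * y * z.1) := by
  induction n with
  | zero => simp
  | succ n ih =>
    rw [pow_succ', Perm.mul_apply, ih]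
    ext
    · simp [v3_L]
    · simp [v3_L]; ring

theorem v3_U_pow_p (x : ZMod p) : ((v3_U p x).toEquiv : Perm (ZMod p × ZMod p)) ^ p = 1 := by
  ext z <;> rw [v3_U_pow] <;> simp

theorem v3_L_pow_p (y : ZMod p) : ((v3_L p y).toEquiv : Perm (ZMod p × ZMod p)) ^ p = 1 := by
  ext z <;> rw [v3_L_pow] <;> simp

/-- the diagonal map -/
def v3_D (lam : (ZMod p)ˣ) : Perm (ZMod p × ZMod p) :=
  Equiv.prodCongr (Units.mulLeft lam) (Units.mulLeft lam⁻¹)

theorem v3_h0_eq (lam : (ZMod p)ˣ) : h0 p a0 m' lam = v3_sq p a0 m' (v3_D p lam) := by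
  ext z
  rcases z with (⟨a | i, b⟩) | x <;> rfl

theorem v3_D_eq (lam : (ZMod p)ˣ) :
    v3_D p lam = (v3_U p (lam : ZMod p)).toEquiv * (v3_L p (-((lam⁻¹ : (ZMod p)ˣ) : ZMod p))).toEquiv *
      (v3_U p (lam : ZMod p)).toEquiv * (v3_U p (-1)).toEquiv * (v3_L p 1).toEquiv *
      (v3_U p (-1)).toEquiv := by
  have h : (lam : ZMod p) * ((lam⁻¹ : (ZMod p)ˣ) : ZMod p) = 1 := by
    rw [← Units.val_mul, mul_inv_cancel, Units.val_one]
  ext ⟨a, b⟩
  · simp only [v3_D, v3_U, v3_L, Perm.mul_apply, Equiv.prodCongr_apply, Prod.map_fst,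
      Units.mulLeft_apply, AddEquiv.toEquiv_eq_coe, EquivLike.coe_coe, AddEquiv.coe_mk,
      Equiv.coe_fn_mk]
    linear_combination ((lam : ZMod p) * a - b) * h
  · simp only [v3_D, v3_U, v3_L, Perm.mul_apply, Equiv.prodCongr_apply, Prod.map_snd,
      Units.mulLeft_apply, AddEquiv.toEquiv_eq_coe, EquivLike.coe_coe, AddEquiv.coe_mk,
      Equiv.coe_fn_mk]
    linear_combination a * h

/-- [V3] (`p` odd) `h0 lam` is a product of `p`-elements of `N_A(Rg)`. -/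
theorem h0_mem_closure (p a0 m' : ℕ) [Fact p.Prime] (hp : p ≠ 2) (lam : (ZMod p)ˣ) :
    h0 p a0 m' lam ∈ Subgroup.closure {x : Perm (Pt p m' a0) | x ∈ alternatingGroup (Pt p m' a0) ∧
      x ∈ normalizer ((Rg p a0 m' : Subgroup (Perm (Pt p m' a0))) : Set (Perm (Pt p m' a0))) ∧
      ∃ k : ℕ, orderOf x = p ^ k} := by
  rw [v3_h0_eq, v3_D_eq]
  simp only [v3_sq_mul]
  have hU : ∀ x : ZMod p, v3_sq p a0 m' (v3_U p x).toEquiv ∈ Subgroup.closure
      {x : Perm (Pt p m' a0) | x ∈ alternatingGroup (Pt p m' a0) ∧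
      x ∈ normalizer ((Rg p a0 m' : Subgroup (Perm (Pt p m' a0))) : Set (Perm (Pt p m' a0))) ∧
      ∃ k : ℕ, orderOf x = p ^ k} :=
    fun x => Subgroup.subset_closure (v3_good p a0 m' hp _ (v3_U_pow_p p x))
  have hL : ∀ y : ZMod p, v3_sq p a0 m' (v3_L p y).toEquiv ∈ Subgroup.closure
      {x : Perm (Pt p m' a0) | x ∈ alternatingGroup (Pt p m' a0) ∧
      x ∈ normalizer ((Rg p a0 m' : Subgroup (Perm (Pt p m' a0))) : Set (Perm (Pt p m' a0))) ∧
      ∃ k : ℕ, orderOf x = p ^ k} :=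
    fun y => Subgroup.subset_closure (v3_good p a0 m' hp _ (v3_L_pow_p p y))
  exact Subgroup.mul_mem _ (Subgroup.mul_mem _ (Subgroup.mul_mem _ (Subgroup.mul_mem _
    (Subgroup.mul_mem _ (hU _) (hL _)) (hU _)) (hU _)) (hL _)) (hU _)

end Cfsg.Agent.Lib.Helper87.AltF
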