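import Mathlib
import Cfsg.Agent.Lib.Helper87.AltModel
import Cfsg.Agent.Lib.Helper55.AltFU1
import Cfsg.Agent.Lib.Helper55.AltFV3
import Cfsg.Agent.Lib.Helper80.AltFU1p
import Cfsg.Agent.Lib.Helper30.AltFU3
import Cfsg.Agent.Lib.Helper75.AltFV4

set_option autoImplicit false

/-! # S5165 leaf GEN: generation of the even part of `N(Bs)`. -/

namespace Cfsg.Agent.Lib.Helper87.AltF

open Equiv Subgroup

theorem gen_uu_pow {I : Type} [Fintype I] [DecidableEq I] (p a0 : ℕ) [Fact p.Prime]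
    (h : Perm (PtI I p a0))
    (hh : h ∈ normalizer ((Bs (I := I) p a0 : Subgroup (Perm (PtI I p a0))) : Set (Perm (PtI I p a0))))
    (k : ℕ) : uu p a0 (h ^ k) = uu p a0 h ^ k := by
  induction k with
  | zero => rw [pow_zero, pow_zero, uu_one]
  | succ k ih =>
    rw [pow_succ, pow_succ, uu_mul p a0 _ _ (Subgroup.pow_mem _ hh k) hh, ih]

/-- [GEN] (`p` odd) generation: every even element of `N(Bs)` is a product of `p`-elements of
`N_A(Bs)` and of powers of `h0 lam`, `lam` a generator of `(ZMod p)ˣ`. -/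
theorem mem_closure_good (p a0 m' : ℕ) [Fact p.Prime] (hp : p ≠ 2) (ha0 : a0 ≤ 1)
    (lam : (ZMod p)ˣ) (hlam : ∀ y : (ZMod p)ˣ, y ∈ Subgroup.zpowers lam)
    (n : Perm (Pt p m' a0)) (hnA : n ∈ alternatingGroup (Pt p m' a0))
    (hn : n ∈ normalizer ((Bs (I := Idx p m') p a0 : Subgroup (Perm (Pt p m' a0))) :
      Set (Perm (Pt p m' a0)))) :
    n ∈ Subgroup.closure ({x : Perm (Pt p m' a0) | x ∈ alternatingGroup (Pt p m' a0) ∧
      x ∈ normalizer ((Bs (I := Idx p m') p a0 : Subgroup (Perm (Pt p m' a0))) :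
        Set (Perm (Pt p m' a0))) ∧ ∃ k : ℕ, orderOf x = p ^ k} ∪ {h0 p a0 m' lam}) := by
  set h := h0 p a0 m' lam with hh
  have hhN := h0_mem_normalizer_Bs p a0 m' lam
  have hhA : h ∈ alternatingGroup (Pt p m' a0) := by
    have h1 := h0_mem_closure p a0 m' hp lam
    have hle : Subgroup.closure {x : Perm (Pt p m' a0) | x ∈ alternatingGroup (Pt p m' a0) ∧
        x ∈ normalizer ((Rg p a0 m' : Subgroup (Perm (Pt p m' a0))) : Set (Perm (Pt p m' a0))) ∧
        ∃ k : ℕ, orderOf x = p ^ k} ≤ alternatingGroup (Pt p m' a0) := by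
      rw [Subgroup.closure_le]
      intro x hx
      exact hx.1
    exact hle h1
  have hhu : uu (I := Idx p m') p a0 h = ((lam⁻¹ : (ZMod p)ˣ) : ZMod p) := uu_h0 p a0 m' lam
  have hne := uu_ne_zero p a0 n hn
  obtain ⟨k, hk⟩ : ∃ k : ℕ, lam ^ k = Units.mk0 (uu (I := Idx p m') p a0 n) hne := by
    have := hlam (Units.mk0 (uu (I := Idx p m') p a0 n) hne)
    rw [← mem_powers_iff_mem_zpowers] at this
    exact this
  have hun : uu (I := Idx p m') p a0 n = ((lam ^ k : (ZMod p)ˣ) : ZMod p) := by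
    rw [hk]; rfl
  have hkN := Subgroup.pow_mem _ hhN k
  have h1 : uu (I := Idx p m') p a0 (n * h ^ k) = 1 := by
    rw [uu_mul p a0 _ _ hn hkN, gen_uu_pow p a0 h hhN, hhu, hun, ← Units.val_pow_eq_pow_val,
      ← Units.val_mul, ← mul_pow, mul_inv_cancel, one_pow, Units.val_one]
  have hI : p ≤ Fintype.card (Idx p m') := by
    rw [Fintype.card_sum, ZMod.card]
    omega
  have h2 := mem_closure_of_uu_eq_one p a0 hp hI ha0 (n * h ^ k)
    (Subgroup.mul_mem _ hnA (Subgroup.pow_mem _ hhA k)) (Subgroup.mul_mem _ hn hkN) h1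
  have h3 : n * h ^ k ∈ Subgroup.closure ({x : Perm (Pt p m' a0) | x ∈ alternatingGroup (Pt p m' a0) ∧
      x ∈ normalizer ((Bs (I := Idx p m') p a0 : Subgroup (Perm (Pt p m' a0))) :
        Set (Perm (Pt p m' a0))) ∧ ∃ k : ℕ, orderOf x = p ^ k} ∪ {h}) :=
    Subgroup.closure_mono Set.subset_union_left h2
  have h4 : h ∈ Subgroup.closure ({x : Perm (Pt p m' a0) | x ∈ alternatingGroup (Pt p m' a0) ∧
      x ∈ normalizer ((Bs (I := Idx p m') p a0 : Subgroup (Perm (Pt p m' a0))) :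
        Set (Perm (Pt p m' a0))) ∧ ∃ k : ℕ, orderOf x = p ^ k} ∪ {h}) :=
    Subgroup.subset_closure (Set.mem_union_right _ rfl)
  have e : n = (n * h ^ k) * (h ^ k)⁻¹ := by group
  rw [e]
  exact Subgroup.mul_mem _ h3 (Subgroup.inv_mem _ (Subgroup.pow_mem _ h4 k))

end Cfsg.Agent.Lib.Helper87.AltF
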