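import Mathlib
import Cfsg.Agent.Lib.Helper87.AltModel
import Cfsg.Agent.Lib.Helper87.AltCrit2

set_option autoImplicit false

/-! # S5165 leaf T1: from the relative to the absolute form of the hypotheses. -/

namespace Cfsg.Agent.Lib.Helper87.AltF

open Equiv Subgroup Cfsg.Agent.Lib.Helper87.AltCrit

theorem t1_mem_closure_preimage {Ω : Type*} [Group Ω] (A : Subgroup Ω) (Y : Set Ω)
    (hY : Y ⊆ (A : Set Ω)) (x : A) (hx : (x : Ω) ∈ Subgroup.closure Y) :
    x ∈ Subgroup.closure (A.subtype ⁻¹' Y) := by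
  have h : (Subgroup.closure (A.subtype ⁻¹' Y)).map A.subtype = Subgroup.closure Y := by
    rw [MonoidHom.map_closure, Set.image_preimage_eq_of_subset]
    intro y hy
    exact ⟨⟨y, hY hy⟩, rfl⟩
  rw [← h] at hx
  obtain ⟨x', hx', hxx⟩ := hx
  have : x' = x := Subtype.ext hxx
  rw [← this]
  exact hx'

theorem t1_centric {Ω : Type*} [Group Ω] {A P : Subgroup Ω} (hPA : P ≤ A)
    (hP : ∀ g ∈ A, (∀ y ∈ P, g * y = y * g) → g ∈ P) :
    ∀ g : A, (∀ y ∈ P.subgroupOf A, g * y = y * g) → g ∈ P.subgroupOf A := by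
  intro g hg
  rw [Subgroup.mem_subgroupOf]
  apply hP _ g.2
  intro y hy
  have := hg ⟨y, hPA hy⟩ (by rw [Subgroup.mem_subgroupOf]; exact hy)
  exact congrArg Subtype.val this

theorem t1_normalizer {Ω : Type*} [Group Ω] {A Q : Subgroup Ω} (x : A)
    (hx : (x : Ω) ∈ normalizer (Q : Set Ω)) :
    x ∈ normalizer ((Q.subgroupOf A : Subgroup A) : Set A) := by
  rw [Subgroup.mem_normalizer_iff] at hx ⊢
  intro h
  rw [Subgroup.mem_subgroupOf, Subgroup.mem_subgroupOf]
  exact hx h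

/-- [T1] from the relative to the absolute form. -/
theorem BaseHypIn.subgroupOf {Ω : Type*} [Group Ω] {p : ℕ} {A S : Subgroup Ω}
    (h : BaseHypIn p A S) : BaseHyp p (S.subgroupOf A) := by
  obtain ⟨hSA, hS1, hcl, B, X, hBS, hXA, hBc, hX, hgen⟩ := h
  refine ⟨?_, ?_, B.subgroupOf A, A.subtype ⁻¹' X, ?_, ?_, ?_, ?_⟩
  · intro hbot
    apply hS1
    rw [Subgroup.subgroupOf_eq_bot] at hbot
    exact (disjoint_of_le_iff_left_eq_bot hSA).mp hbot
  · intro T hT hT1 hTcl
    have hmapS : T.map A.subtype ≤ S := by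
      rintro _ ⟨x, hx, rfl⟩
      exact Subgroup.mem_subgroupOf.mp (hT hx)
    have hmap1 : T.map A.subtype ≠ ⊥ := by
      intro hbot
      apply hT1
      exact (Subgroup.map_eq_bot_iff_of_injective T A.subtype_injective).mp hbot
    have key := hcl (T.map A.subtype) hmapS hmap1 (by
      rintro _ ⟨x, hx, rfl⟩ g hg hgS
      have := hTcl x hx ⟨g, hg⟩ (by rw [Subgroup.mem_subgroupOf]; exact hgS)
      exact ⟨_, this, rfl⟩)
    have : T = (T.map A.subtype).comap A.subtype :=
      (Subgroup.comap_map_eq_self_of_injective A.subtype_injective T).symm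
    rw [this, key]
    rfl
  · exact Subgroup.comap_mono hBS
  · exact t1_centric (hBS.trans hSA) hBc
  · intro x hx
    obtain ⟨hxB, P, Q, hPQ, hBQ, hQS, hPc, hxQ, hxP⟩ := hX (x : Ω) hx
    refine ⟨t1_normalizer x hxB, P.subgroupOf A, Q.subgroupOf A, Subgroup.comap_mono hPQ,
      Subgroup.comap_mono hBQ, Subgroup.comap_mono hQS,
      t1_centric (hPQ.trans (hQS.trans hSA)) hPc, t1_normalizer x hxQ, ?_⟩
    have h1 := t1_mem_closure_preimage A _ (fun y hy => hy.1) x hxP
    refine Subgroup.closure_mono ?_ h1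
    intro g hg
    obtain ⟨-, hgN, k, hk⟩ := hg
    refine ⟨t1_normalizer g hgN, k, ?_⟩
    rw [← hk]
    exact (Subgroup.orderOf_coe g).symm
  · intro n hn
    apply t1_mem_closure_preimage A X hXA n
    apply hgen (n : Ω) n.2
    intro x hx
    have := hn ⟨x, hSA hx⟩ (by rw [Subgroup.mem_subgroupOf]; exact hx)
    rw [Subgroup.mem_subgroupOf] at this
    exact this

end Cfsg.Agent.Lib.Helper87.AltF
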