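import Mathlib
import Cfsg.Agent.Lib.Helper69.Basic
import Cfsg.Agent.Lib.Helper29.PGroupNormal

set_option autoImplicit false

/-!
Cossey–Hawkes–Mann: a finite group with the same multiset of class sizes as a nilpotent group
is nilpotent.  Elementary proof via `p'`-parts of class sizes and central quotients.
-/

namespace Cfsg.Agent.Lib.Helper55

section basics
variable {X : Type*} [Group X]

/-- The size of the conjugacy class of `x`. -/
noncomputable def cs (x : X) : ℕ := Nat.card (ConjClasses.mk x).carrier

theorem cs_eq_index (x : X) : cs x = (Subgroup.centralizer ({x} : Set X)).index :=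
  (Cfsg.Agent.Lib.Helper69.index_centralizer_eq_card_carrier x).symm

theorem cs_conj (g x : X) : cs (g * x * g⁻¹) = cs x := by
  unfold cs
  have : ConjClasses.mk (g * x * g⁻¹) = ConjClasses.mk x := by
    rw [ConjClasses.mk_eq_mk_iff_isConj, isConj_comm, isConj_iff]
    exact ⟨g, rfl⟩
  rw [this]

theorem cs_eq_one_iff [Finite X] (x : X) : cs x = 1 ↔ x ∈ Subgroup.center X := by
  rw [cs_eq_index, Subgroup.index_eq_one]
  constructor
  · intro h
    rw [Subgroup.mem_center_iff]
    intro g
    have hg : g ∈ Subgroup.centralizer ({x} : Set X) := by rw [h]; exact Subgroup.mem_top g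
    rw [Subgroup.mem_centralizer_iff] at hg
    exact (hg x rfl).symm
  · intro h
    rw [eq_top_iff]
    intro g _
    rw [Subgroup.mem_centralizer_iff]
    intro y hy
    rw [Set.mem_singleton_iff] at hy
    subst hy
    exact (Subgroup.mem_center_iff.mp h g).symm

/-- Number of elements with class size `k`. -/
theorem card_cs_eq [Finite X] (k : ℕ) :
    Nat.card {x : X // cs x = k} =
      k * Nat.card {C : ConjClasses X // Nat.card C.carrier = k} := by
  classical
  haveI : Fintype X := Fintype.ofFinite X
  haveI : Fintype (ConjClasses X) := Fintype.ofFinite _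
  rw [Nat.card_eq_fintype_card, Nat.card_eq_fintype_card, Fintype.card_subtype,
    Fintype.card_subtype]
  rw [Finset.card_eq_sum_card_fiberwise (f := ConjClasses.mk)
    (t := Finset.univ.filter (fun C : ConjClasses X => Nat.card C.carrier = k))]
  · rw [Finset.sum_const_nat (m := k), mul_comm]
    intro C hC
    rw [Finset.mem_filter] at hC
    rw [← hC.2, ← Nat.card_eq_finsetCard]
    apply Nat.card_congr
    refine Equiv.subtypeEquivRight ?_
    intro x
    rw [Finset.mem_filter, Finset.mem_filter, ConjClasses.mem_carrier_iff_mk_eq]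
    constructor
    · intro h; exact h.2
    · intro h
      refine ⟨⟨Finset.mem_univ _, ?_⟩, h⟩
      unfold cs; rw [h]
  · intro x hx
    rw [Finset.mem_coe, Finset.mem_filter] at hx ⊢
    exact ⟨Finset.mem_univ _, hx.2⟩

end basics

/-- Two finite groups with the same class-size statistics admit a class-size preserving
bijection. -/
theorem exists_equiv_cs {G H : Type*} [Group G] [Finite G] [Group H] [Finite H]
    (h : ∀ k : ℕ, Nat.card {C : ConjClasses G // Nat.card C.carrier = k} =
      Nat.card {C : ConjClasses H // Nat.card C.carrier = k}) :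
    ∃ e : G ≃ H, ∀ x, cs (e x) = cs x := by
  classical
  have hk : ∀ k : ℕ, Nonempty ({x : G // cs x = k} ≃ {y : H // cs y = k}) := by
    intro k
    rw [← Finite.card_eq, card_cs_eq, card_cs_eq, h k]
  let ek : ∀ k : ℕ, {x : G // cs x = k} ≃ {y : H // cs y = k} := fun k => (hk k).some
  refine ⟨(Equiv.sigmaFiberEquiv (cs (X := G))).symm.trans
    ((Equiv.sigmaCongrRight ek).trans (Equiv.sigmaFiberEquiv (cs (X := H)))), fun x => ?_⟩
  exact (ek (cs x) ⟨x, rfl⟩).2

section quotient
variable {X : Type*} [Group X] [Finite X] (p : ℕ) [hp : Fact p.Prime]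
  (Z : Subgroup X) [hZn : Z.Normal] (hZc : Z ≤ Subgroup.center X) (hZp : IsPGroup p Z)

include hZc hZp in
/-- Passing to the quotient by a central `p`-subgroup changes class sizes by a power of `p`. -/
theorem cs_quotient (x : X) : ∃ e : ℕ, cs x = p ^ e * cs (QuotientGroup.mk x : X ⧸ Z) := by
  classical
  rw [cs_eq_index, cs_eq_index]
  set π : X →* X ⧸ Z := QuotientGroup.mk' Z with hπ
  have hπs : Function.Surjective π := QuotientGroup.mk'_surjective Z
  set C := Subgroup.centralizer ({x} : Set X) with hC
  set D := (Subgroup.centralizer ({π x} : Set (X ⧸ Z))).comap π with hD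
  have hDidx : D.index = (Subgroup.centralizer ({π x} : Set (X ⧸ Z))).index :=
    Subgroup.index_comap_of_surjective _ hπs
  have hCD : C ≤ D := by
    intro g hg
    rw [hD, Subgroup.mem_comap, Subgroup.mem_centralizer_iff]
    rw [hC, Subgroup.mem_centralizer_iff] at hg
    intro y hy
    rw [Set.mem_singleton_iff] at hy
    subst hy
    rw [← map_mul, ← map_mul, hg x rfl]
  have hmemZ : ∀ g ∈ D, g * x * g⁻¹ * x⁻¹ ∈ Z := by
    intro g hg
    rw [hD, Subgroup.mem_comap, Subgroup.mem_centralizer_iff] at hg
    have h1 := hg (π x) rfl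
    rw [← QuotientGroup.eq_one_iff]
    change π (g * x * g⁻¹ * x⁻¹) = 1
    rw [map_mul, map_mul, map_mul, map_inv, map_inv, ← h1]
    group
  have hcen : ∀ g ∈ D, ∀ y : X, y * (g * x * g⁻¹ * x⁻¹) = (g * x * g⁻¹ * x⁻¹) * y := by
    intro g hg y
    exact (Subgroup.mem_center_iff.mp (hZc (hmemZ g hg)) y)
  let φ : D →* Z := MonoidHom.mk' (fun g => ⟨(g : X) * x * (g : X)⁻¹ * x⁻¹, hmemZ g g.2⟩) (by
    intro a b
    apply Subtype.ext
    simp only [Subgroup.coe_mul]
    have h1 := hcen b b.2 ((a : X) * x)
    calc (a : X) * (b : X) * x * ((a : X) * (b : X))⁻¹ * x⁻¹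
        = ((a : X) * x) * (x⁻¹ * ((b : X) * x * (b : X)⁻¹ * x⁻¹) * x) * (a : X)⁻¹ * x⁻¹ := by group
      _ = ((a : X) * x) * ((b : X) * x * (b : X)⁻¹ * x⁻¹) * (a : X)⁻¹ * x⁻¹ := by
          have h2 := hcen b b.2 x⁻¹
          rw [h2]; group
      _ = ((b : X) * x * (b : X)⁻¹ * x⁻¹) * ((a : X) * x) * (a : X)⁻¹ * x⁻¹ := by rw [h1]
      _ = ((a : X) * x * (a : X)⁻¹ * x⁻¹) * ((b : X) * x * (b : X)⁻¹ * x⁻¹) := by
          have h3 := hcen b b.2 ((a : X) * x * (a : X)⁻¹ * x⁻¹)
          rw [h3]; group)
  have hker : φ.ker = C.subgroupOf D := by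
    ext g
    rw [MonoidHom.mem_ker, Subgroup.mem_subgroupOf, hC, Subgroup.mem_centralizer_iff]
    constructor
    · intro h y hy
      rw [Set.mem_singleton_iff] at hy
      subst hy
      have h1 : (g : X) * y * (g : X)⁻¹ * y⁻¹ = 1 := congrArg Subtype.val h
      have h2 : (g : X) * y * (g : X)⁻¹ = y := by
        rw [mul_inv_eq_one] at h1; exact h1
      calc y * (g : X) = ((g : X) * y * (g : X)⁻¹) * (g : X) := by rw [h2]
        _ = (g : X) * y := by group
    · intro h
      apply Subtype.ext
      have h1 := h x rfl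
      change (g : X) * x * (g : X)⁻¹ * x⁻¹ = 1
      rw [← h1]; group
  have hrel : C.relIndex D = Nat.card φ.range := by
    rw [Subgroup.relIndex, ← hker, Subgroup.index_ker]
  obtain ⟨e, he⟩ := IsPGroup.iff_card.mp (hZp.to_subgroup φ.range)
  refine ⟨e, ?_⟩
  rw [← Subgroup.relIndex_mul_index hCD, hrel, he, hDidx]
  rfl

include hZc hZp in
theorem ordCompl_cs_quotient (x : X) :
    ordCompl[p] (cs (QuotientGroup.mk x : X ⧸ Z)) = ordCompl[p] (cs x) := by
  obtain ⟨e, he⟩ := cs_quotient p Z hZc hZp x
  rw [he, Nat.ordCompl_self_pow_mul _ _ hp.out]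

omit [Finite X] hp in
/-- Counting a full preimage under the quotient map. -/
theorem card_preimage_quotient [Finite X] (ψ : X ⧸ Z → Prop) :
    Nat.card {x : X // ψ (QuotientGroup.mk x)} = Nat.card Z * Nat.card {y : X ⧸ Z // ψ y} := by
  classical
  haveI : Fintype X := Fintype.ofFinite X
  haveI : Fintype (X ⧸ Z) := Fintype.ofFinite _
  rw [Nat.card_eq_fintype_card, Nat.card_eq_fintype_card (α := {y : X ⧸ Z // ψ y}),
    Fintype.card_subtype, Fintype.card_subtype]
  rw [Finset.card_eq_sum_card_fiberwise (f := (QuotientGroup.mk : X → X ⧸ Z))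
    (t := Finset.univ.filter (fun y : X ⧸ Z => ψ y))]
  · rw [Finset.sum_const_nat (m := Nat.card Z), mul_comm]
    intro y hy
    rw [Finset.mem_filter] at hy
    obtain ⟨a, rfl⟩ := QuotientGroup.mk_surjective y
    rw [← Nat.card_eq_finsetCard]
    apply Nat.card_congr
    refine ⟨fun x => ⟨a⁻¹ * x.1, ?_⟩, fun z => ⟨a * z.1, ?_⟩, ?_, ?_⟩
    · have := x.2
      rw [Finset.mem_filter] at this
      exact QuotientGroup.eq.mp this.2.symm
    · rw [Finset.mem_filter, Finset.mem_filter]
      have h1 : (QuotientGroup.mk (a * z.1) : X ⧸ Z) = QuotientGroup.mk a := by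
        rw [eq_comm, QuotientGroup.eq]; simp
      exact ⟨⟨Finset.mem_univ _, by rw [h1]; exact hy.2⟩, h1⟩
    · intro x; apply Subtype.ext; simp
    · intro z; apply Subtype.ext; simp
  · intro x hx
    rw [Finset.mem_coe, Finset.mem_filter] at hx ⊢
    exact ⟨Finset.mem_univ _, hx.2⟩

/-- Number of elements whose class size has `p'`-part `k`. -/
noncomputable def pcount (X : Type*) [Group X] (p k : ℕ) : ℕ :=
  Nat.card {x : X // ordCompl[p] (cs x) = k}

include hZc hZp in
theorem pcount_quotient (k : ℕ) : pcount X p k = Nat.card Z * pcount (X ⧸ Z) p k := by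
  unfold pcount
  rw [← card_preimage_quotient Z (fun y => ordCompl[p] (cs y) = k)]
  apply Nat.card_congr
  refine Equiv.subtypeEquivRight ?_
  intro x
  rw [ordCompl_cs_quotient p Z hZc hZp x]

end quotient

section central
variable {X : Type*} [Group X]

theorem normal_of_le_center' (Z : Subgroup X) (hZc : Z ≤ Subgroup.center X) : Z.Normal := by
  constructor
  intro n hn g
  have h := Subgroup.mem_center_iff.mp (hZc hn) g
  have : g * n * g⁻¹ = n := by rw [h]; group
  rw [this]; exact hn

variable [Finite X] (p : ℕ) [hp : Fact p.Prime]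

/-- The data attached to a central element of order `p`. -/
theorem central_zpowers (z : X) (hz : z ∈ Subgroup.center X) (hzo : orderOf z = p) :
    Subgroup.zpowers z ≤ Subgroup.center X ∧ IsPGroup p (Subgroup.zpowers z) ∧
      Nat.card (Subgroup.zpowers z) = p := by
  refine ⟨(Subgroup.zpowers_le).mpr hz, ?_, ?_⟩
  · apply IsPGroup.of_card (n := 1)
    rw [Nat.card_zpowers, hzo, pow_one]
  · rw [Nat.card_zpowers, hzo]

end central

section main
universe u v

/-- If `|G|_p` divides every `pcount`, the Sylow `p`-subgroups are normal. -/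
theorem sylow_normal_of_star (p : ℕ) [hp : Fact p.Prime] :
    ∀ (n : ℕ) (G : Type u) [Group G] [Finite G], Nat.card G = n →
      (∀ k, ordProj[p] (Nat.card G) ∣ pcount G p k) →
      ∀ P : Sylow p G, (P : Subgroup G).Normal := by
  intro n
  induction n using Nat.strong_induction_on with
  | _ n ih =>
    intro G _ _ hn hstar P
    classical
    have hG0 : Nat.card G ≠ 0 := Nat.card_pos.ne'
    by_cases hpd : p ∣ Nat.card G
    · -- p divides |Z(G)|
      have h1 : p ∣ pcount G p 1 :=
        (Nat.dvd_ordProj_of_dvd hG0 hp.out hpd).trans (hstar 1)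
      -- the action of P on elements of p-power index
      let Δ := {x : G // ordCompl[p] (cs x) = 1}
      letI : MulAction (P : Subgroup G) Δ :=
        { smul := fun g x => ⟨(g : G) * x.1 * (g : G)⁻¹, by rw [cs_conj]; exact x.2⟩
          one_smul := by
            intro x; apply Subtype.ext
            change ((1 : (P : Subgroup G)) : G) * x.1 * ((1 : (P : Subgroup G)) : G)⁻¹ = x.1
            simp
          mul_smul := by
            intro a b x; apply Subtype.ext
            change ((a * b : (P : Subgroup G)) : G) * x.1 * ((a * b : (P : Subgroup G)) : G)⁻¹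
              = (a : G) * ((b : G) * x.1 * (b : G)⁻¹) * (a : G)⁻¹
            simp only [Subgroup.coe_mul]; group }
      have hsmul : ∀ (g : (P : Subgroup G)) (x : Δ), ((g • x : Δ) : G) = (g : G) * x.1 * (g : G)⁻¹ :=
        fun _ _ => rfl
      have hmod := P.isPGroup'.card_modEq_card_fixedPoints Δ
      have hfix : Nat.card (MulAction.fixedPoints (P : Subgroup G) Δ)
          = Nat.card (Subgroup.center G) := by
        apply Nat.card_congr
        refine ⟨fun x => ⟨x.1.1, ?_⟩, fun z => ⟨⟨z.1, ?_⟩, ?_⟩, ?_, ?_⟩
        · -- fixed and p-power index implies central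
          rw [← cs_eq_one_iff]
          have hx2 : ordCompl[p] (cs x.1.1) = 1 := x.1.2
          have hfixx := x.2
          rw [MulAction.mem_fixedPoints] at hfixx
          have hPC : (P : Subgroup G) ≤ Subgroup.centralizer ({x.1.1} : Set G) := by
            intro g hg
            rw [Subgroup.mem_centralizer_iff]
            intro y hy
            rw [Set.mem_singleton_iff] at hy
            subst hy
            have := congrArg Subtype.val (hfixx ⟨g, hg⟩)
            rw [hsmul] at this
            have h2 : g * x.1.1 * g⁻¹ = x.1.1 := this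
            calc x.1.1 * g = (g * x.1.1 * g⁻¹) * g := by rw [h2]
              _ = g * x.1.1 := by group
          have hdvd : cs x.1.1 ∣ (P : Subgroup G).index := by
            rw [cs_eq_index]; exact Subgroup.index_dvd_of_le hPC
          have hnd : ¬ p ∣ cs x.1.1 := fun h => P.not_dvd_index (h.trans hdvd)
          have hself := Nat.ordProj_mul_ordCompl_eq_self (cs x.1.1) p
          rw [hx2, mul_one] at hself
          have hfac : (cs x.1.1).factorization p = 0 :=
            Nat.factorization_eq_zero_of_not_dvd hnd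
          rw [hfac, pow_zero] at hself
          exact hself.symm
        · rw [(cs_eq_one_iff z.1).mpr z.2]
          simp
        · rw [MulAction.mem_fixedPoints]
          intro g
          apply Subtype.ext
          rw [hsmul]
          have := Subgroup.mem_center_iff.mp z.2 (g : G)
          change (g : G) * z.1 * (g : G)⁻¹ = z.1
          rw [this]; group
        · intro x; rfl
        · intro z; rfl
      have hpc : p ∣ Nat.card (Subgroup.center G) := by
        rw [← hfix]
        have h2 : Nat.card Δ = pcount G p 1 := rfl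
        rw [h2] at hmod
        exact (Nat.modEq_zero_iff_dvd.mp ((hmod.symm.trans (Nat.modEq_zero_iff_dvd.mpr h1))))
      obtain ⟨z, hz⟩ := exists_prime_orderOf_dvd_card' p hpc
      have hzo : orderOf (z : G) = p := by rw [Subgroup.orderOf_coe]; exact hz
      obtain ⟨hZc, hZp, hZcard⟩ := central_zpowers p (z : G) z.2 hzo
      set Z := Subgroup.zpowers (z : G) with hZ
      haveI hZn : Z.Normal := normal_of_le_center' Z hZc
      have hcard : Nat.card G = Nat.card (G ⧸ Z) * p := by
        rw [← hZcard]; exact Subgroup.card_eq_card_quotient_mul_card_subgroup Z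
      have hQ0 : Nat.card (G ⧸ Z) ≠ 0 := Nat.card_pos.ne'
      have hlt : Nat.card (G ⧸ Z) < n := by
        rw [← hn, hcard]
        have : 2 ≤ p := hp.out.two_le
        have : 0 < Nat.card (G ⧸ Z) := Nat.card_pos
        nlinarith
      have hstar' : ∀ k, ordProj[p] (Nat.card (G ⧸ Z)) ∣ pcount (G ⧸ Z) p k := by
        intro k
        have h3 := hstar k
        rw [pcount_quotient p Z hZc hZp k, hZcard, hcard,
          Nat.ordProj_mul p hQ0 hp.out.ne_zero, mul_comm] at h3
        have h4 : ordProj[p] p = p := by
          have := Nat.ordProj_self_pow (p := p) (k := 1) hp.out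
          simpa using this
        rw [h4] at h3
        exact Nat.dvd_of_mul_dvd_mul_left hp.out.pos h3
      have hQn := ih (Nat.card (G ⧸ Z)) hlt (G ⧸ Z) rfl hstar'
        (P.mapSurjective (QuotientGroup.mk'_surjective Z))
      rw [Sylow.coe_mapSurjective] at hQn
      have hcomap := hQn.comap (QuotientGroup.mk' Z)
      rw [Subgroup.comap_map_eq, QuotientGroup.ker_mk'] at hcomap
      have hZP : Z ≤ (P : Subgroup G) := hZp.le_sylow_of_normal P
      rwa [sup_eq_left.mpr hZP] at hcomap
    · -- trivial Sylow subgroup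
      have hPcard : Nat.card (P : Subgroup G) = 1 := by
        rw [P.card_eq_multiplicity, Nat.factorization_eq_zero_of_not_dvd hpd, pow_zero]
      have : (P : Subgroup G) = ⊥ := Subgroup.eq_bot_of_card_eq _ hPcard
      rw [this]; infer_instance

/-- A finite nilpotent group of order divisible by `p` has a central element of order `p`. -/
theorem exists_central_orderOf_eq_prime (p : ℕ) [hp : Fact p.Prime] (H : Type u) [Group H]
    [Finite H] [Group.IsNilpotent H] (hpd : p ∣ Nat.card H) :
    ∃ z : H, z ∈ Subgroup.center H ∧ orderOf z = p := by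
  classical
  have hH0 : Nat.card H ≠ 0 := Nat.card_pos.ne'
  let P : Sylow p H := default
  have hPcard := P.card_eq_multiplicity
  have hfpos : 0 < (Nat.card H).factorization p :=
    hp.out.factorization_pos_of_dvd hH0 hpd
  haveI : Nontrivial (P : Subgroup H) := by
    rw [← Finite.one_lt_card_iff_nontrivial, hPcard]
    exact Nat.one_lt_pow hfpos.ne' hp.out.one_lt
  haveI := P.isPGroup'.center_nontrivial
  obtain ⟨w, hw1⟩ := exists_ne (1 : Subgroup.center (P : Subgroup H))
  set z₀ : H := ((w : (P : Subgroup H)) : H) with hz₀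
  have hz₀1 : z₀ ≠ 1 := by
    intro h
    apply hw1
    apply Subtype.ext; apply Subtype.ext
    exact h
  have hz₀P : z₀ ∈ (P : Subgroup H) := (w : (P : Subgroup H)).2
  set C := Subgroup.centralizer ({z₀} : Set H) with hC
  have hPC : (P : Subgroup H) ≤ C := by
    intro g hg
    rw [hC, Subgroup.mem_centralizer_iff]
    intro y hy
    rw [Set.mem_singleton_iff] at hy
    subst hy
    have := Subgroup.mem_center_iff.mp w.2 ⟨g, hg⟩
    exact (congrArg Subtype.val this).symm
  have hQC : ∀ (q : ℕ) [Fact q.Prime], q ≠ p → ∀ Q : Sylow q H, (Q : Subgroup H) ≤ C := by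
    intro q _ hqp Q g hg
    rw [hC, Subgroup.mem_centralizer_iff]
    intro y hy
    rw [Set.mem_singleton_iff] at hy
    subst hy
    have hdis : Disjoint (P : Subgroup H) (Q : Subgroup H) :=
      IsPGroup.disjoint_of_ne p q (Ne.symm hqp) _ _ P.isPGroup' Q.isPGroup'
    exact (Subgroup.commute_of_normal_of_disjoint _ _ inferInstance inferInstance hdis
      z₀ g hz₀P hg).eq
  have hdvd : Nat.card H ∣ Nat.card C := by
    rw [← Nat.factorization_le_iff_dvd hH0 Nat.card_pos.ne']
    intro q
    by_cases hq : q.Prime
    · haveI : Fact q.Prime := ⟨hq⟩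
      rw [← hq.pow_dvd_iff_le_factorization Nat.card_pos.ne']
      by_cases hqp : q = p
      · subst hqp
        rw [← hPcard]
        exact Subgroup.card_dvd_of_le hPC
      · let Q : Sylow q H := default
        rw [← Q.card_eq_multiplicity]
        exact Subgroup.card_dvd_of_le (hQC q hqp Q)
    · rw [Nat.factorization_eq_zero_of_not_prime _ hq]
      exact Nat.zero_le _
  have hCtop : C = ⊤ := by
    apply Subgroup.eq_top_of_card_eq
    exact Nat.dvd_antisymm (Subgroup.card_subgroup_dvd_card C) hdvd
  have hz₀c : z₀ ∈ Subgroup.center H := by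
    rw [Subgroup.mem_center_iff]
    intro g
    have hg : g ∈ C := by rw [hCtop]; exact Subgroup.mem_top g
    rw [hC, Subgroup.mem_centralizer_iff] at hg
    exact (hg z₀ rfl).symm
  have hord : ∃ k, orderOf z₀ = p ^ k := by
    obtain ⟨k, hk⟩ := (IsPGroup.iff_orderOf.mp P.isPGroup') (w : (P : Subgroup H))
    exact ⟨k, by rw [hz₀, Subgroup.orderOf_coe]; exact hk⟩
  obtain ⟨j, hj⟩ := Cfsg.Agent.Lib.Helper29.exists_pow_orderOf_eq_prime hp.out hord hz₀1
  exact ⟨z₀ ^ j, (Subgroup.center H).pow_mem hz₀c j, hj⟩

/-- A finite nilpotent group satisfies the divisibility property. -/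
theorem star_of_nilpotent (p : ℕ) [hp : Fact p.Prime] :
    ∀ (n : ℕ) (H : Type u) [Group H] [Finite H] [Group.IsNilpotent H], Nat.card H = n →
      ∀ k, ordProj[p] (Nat.card H) ∣ pcount H p k := by
  intro n
  induction n using Nat.strong_induction_on with
  | _ n ih =>
    intro H _ _ _ hn k
    classical
    have hH0 : Nat.card H ≠ 0 := Nat.card_pos.ne'
    by_cases hpd : p ∣ Nat.card H
    · obtain ⟨z, hzc, hzo⟩ := exists_central_orderOf_eq_prime p H hpd
      obtain ⟨hZc, hZp, hZcard⟩ := central_zpowers p z hzc hzo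
      set Z := Subgroup.zpowers z with hZ
      haveI hZn : Z.Normal := normal_of_le_center' Z hZc
      have hcard : Nat.card H = Nat.card (H ⧸ Z) * p := by
        rw [← hZcard]; exact Subgroup.card_eq_card_quotient_mul_card_subgroup Z
      have hQ0 : Nat.card (H ⧸ Z) ≠ 0 := Nat.card_pos.ne'
      have hlt : Nat.card (H ⧸ Z) < n := by
        rw [← hn, hcard]
        have : 2 ≤ p := hp.out.two_le
        have : 0 < Nat.card (H ⧸ Z) := Nat.card_pos
        nlinarith
      have hih := ih (Nat.card (H ⧸ Z)) hlt (H ⧸ Z) rfl k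
      rw [pcount_quotient p Z hZc hZp k, hZcard, hcard,
        Nat.ordProj_mul p hQ0 hp.out.ne_zero, mul_comm]
      have h4 : ordProj[p] p = p := by
        have := Nat.ordProj_self_pow (p := p) (k := 1) hp.out
        simpa using this
      rw [h4]
      exact Nat.mul_dvd_mul_left p hih
    · rw [Nat.factorization_eq_zero_of_not_dvd hpd, pow_zero]
      exact one_dvd _

/-- Cossey–Hawkes–Mann. -/
theorem nilpotent_of_same_class_sizes {G : Type u} {H : Type v} [Group G] [Finite G] [Group H] [Finite H]
    (hH : Group.IsNilpotent H)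
    (h : ∀ k : ℕ, Nat.card {C : ConjClasses G // Nat.card C.carrier = k} =
      Nat.card {C : ConjClasses H // Nat.card C.carrier = k}) :
    Group.IsNilpotent G := by
  classical
  obtain ⟨e, he⟩ := exists_equiv_cs h
  have hcard : Nat.card G = Nat.card H := Nat.card_congr e
  have hpc : ∀ p k, pcount G p k = pcount H p k := by
    intro p k
    unfold pcount
    apply Nat.card_congr
    refine e.subtypeEquiv ?_
    intro x
    rw [he x]
  apply (Group.isNilpotent_of_finite_tfae (G := G)).out 3 0 |>.mp
  intro p hp P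
  haveI := hp
  apply sylow_normal_of_star p (Nat.card G) G rfl
  intro k
  rw [hcard, hpc p k]
  exact star_of_nilpotent p (Nat.card H) H rfl k

end main

end Cfsg.Agent.Lib.Helper55
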