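import Cfsg.Agent.Lib.Helper88.CsDefs

/-!
# S5293 leaf CS-SYS: the maps of `E` that extend to `P X` fixing `X` form a fusion system.
-/

set_option autoImplicit false

namespace Cfsg.Agent.Lib.Helper88.Cs

open Cfsg Cfsg.FusionSystem Cfsg.Agent.Lib.Helper88 Cfsg.Agent.Lib.Helper88.Crav
open Cfsg.Agent.Lib.Helper87 (restrict_mem hom_le hom_mem_S subtype_mem mem_autGroup_iff)

variable {Ω : Type*} [Group Ω] {S T : Subgroup Ω} {p : ℕ} [Fact p.Prime]
  {F : FusionSystem S} {E : FusionSystem T}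

/-- a subgroup of `P ⊔ X` containing `P` and `X` is everything -/
theorem sys_forall_mem {P X : Subgroup Ω} (K : Subgroup ↥(P ⊔ X))
    (hP : ∀ x : P, Subgroup.inclusion le_sup_left x ∈ K)
    (hX : ∀ x : X, Subgroup.inclusion le_sup_right x ∈ K) : ∀ y : ↥(P ⊔ X), y ∈ K := by
  have h1 : P ≤ K.map (P ⊔ X).subtype := by
    intro x hx
    exact ⟨Subgroup.inclusion le_sup_left ⟨x, hx⟩, hP _, rfl⟩
  have h2 : X ≤ K.map (P ⊔ X).subtype := by
    intro x hx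
    exact ⟨Subgroup.inclusion le_sup_right ⟨x, hx⟩, hX _, rfl⟩
  intro y
  obtain ⟨y', hy', hyy⟩ := (sup_le h1 h2) y.2
  have : y' = y := Subtype.ext hyy
  rw [← this]
  exact hy'

theorem sys_comm_of_mem {X : Subgroup Ω} (hX : X ≤ centralizerIn S T) {x g : Ω} (hx : x ∈ X)
    (hg : g ∈ T) : g * x = x * g := by
  have h : x ∈ Subgroup.centralizer (T : Set Ω) := (hX hx).2
  rw [Subgroup.mem_centralizer_iff] at h
  exact h g hg

theorem sys_le_of_mem {X P : Subgroup Ω} {φ : P →* Ω} (h : φ ∈ fixHom F E X P) :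
    P ≤ T ∧ ∀ x : P, φ x ∈ T :=
  E.le_of_mem h.1

theorem sys_conj_mem (hTS : T ≤ S) {X : Subgroup Ω} (hX : X ≤ centralizerIn S T)
    {P : Subgroup Ω} {g : Ω} (hP : P ≤ T) (hg : g ∈ T) : conjHom P g ∈ fixHom F E X P := by
  refine ⟨E.conj_mem hP hg, conjHom (P ⊔ X) g, ?_, ?_, ?_⟩
  · exact F.conj_mem (sup_le (hP.trans hTS) (hX.trans inf_le_left)) (hTS hg)
  · intro x
    rfl
  · intro x
    show g * (x : Ω) * g⁻¹ = x
    rw [sys_comm_of_mem hX x.2 hg, mul_assoc, mul_inv_cancel, mul_one]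

theorem sys_comp_mem {X : Subgroup Ω} {P Q : Subgroup Ω} {φ : P →* Ω} {ψ : Q →* Ω}
    (hφ : φ ∈ fixHom F E X P) (hψ : ψ ∈ fixHom F E X Q) (h : ∀ x : P, φ x ∈ Q) :
    ψ.comp (φ.codRestrict Q h) ∈ fixHom F E X P := by
  obtain ⟨hφE, φ', hφ', hφP, hφX⟩ := hφ
  obtain ⟨hψE, ψ', hψ', hψP, hψX⟩ := hψ
  have hmap : ∀ y : ↥(P ⊔ X), φ' y ∈ Q ⊔ X := by
    apply sys_forall_mem ((Q ⊔ X).comap φ')
    · intro x
      rw [Subgroup.mem_comap, hφP]
      exact (le_sup_left : Q ≤ Q ⊔ X) (h x)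
    · intro x
      rw [Subgroup.mem_comap, hφX]
      exact (le_sup_right : X ≤ Q ⊔ X) x.2
  refine ⟨E.comp_mem hφE hψE h, ψ'.comp (φ'.codRestrict (Q ⊔ X) hmap), F.comp_mem hφ' hψ' hmap,
    ?_, ?_⟩
  · intro x
    have e : (φ'.codRestrict (Q ⊔ X) hmap) (Subgroup.inclusion le_sup_left x) =
        Subgroup.inclusion le_sup_left ⟨φ x, h x⟩ := Subtype.ext (hφP x)
    show ψ' ((φ'.codRestrict (Q ⊔ X) hmap) (Subgroup.inclusion le_sup_left x)) = _
    rw [e, hψP]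
    rfl
  · intro x
    have e : (φ'.codRestrict (Q ⊔ X) hmap) (Subgroup.inclusion le_sup_right x) =
        Subgroup.inclusion le_sup_right x := Subtype.ext (hφX x)
    show ψ' ((φ'.codRestrict (Q ⊔ X) hmap) (Subgroup.inclusion le_sup_right x)) = _
    rw [e, hψX]

theorem sys_inv_mem {X : Subgroup Ω} {P : Subgroup Ω} {φ : P →* Ω}
    (hφ : φ ∈ fixHom F E X P) :
    ∃ ψ ∈ fixHom F E X φ.range, ∀ x : P, ψ ⟨φ x, ⟨x, rfl⟩⟩ = (x : Ω) := by
  obtain ⟨hφE, φ', hφ', hφP, hφX⟩ := hφ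
  obtain ⟨ψ, hψE, hψ⟩ := E.inv_mem hφE
  obtain ⟨χ, hχ, hχi⟩ := F.inv_mem hφ'
  have hle : φ.range ⊔ X ≤ φ'.range := by
    apply sup_le
    · rintro _ ⟨x, rfl⟩
      exact ⟨Subgroup.inclusion le_sup_left x, hφP x⟩
    · intro x hx
      exact ⟨Subgroup.inclusion le_sup_right ⟨x, hx⟩, hφX ⟨x, hx⟩⟩
  refine ⟨ψ, ⟨hψE, χ.comp (Subgroup.inclusion hle), restrict_mem F hχ hle, ?_, ?_⟩, hψ⟩
  · intro y
    obtain ⟨x, hx⟩ := y.2
    have hy : y = ⟨φ x, ⟨x, rfl⟩⟩ := Subtype.ext hx.symm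
    rw [hy, hψ]
    have e : Subgroup.inclusion hle (Subgroup.inclusion le_sup_left
        (⟨φ x, ⟨x, rfl⟩⟩ : φ.range)) =
        ⟨φ' (Subgroup.inclusion le_sup_left x), ⟨_, rfl⟩⟩ := Subtype.ext (hφP x).symm
    show χ (Subgroup.inclusion hle (Subgroup.inclusion le_sup_left
        (⟨φ x, ⟨x, rfl⟩⟩ : φ.range))) = _
    rw [e, hχi]
    rfl
  · intro x
    have e : Subgroup.inclusion hle (Subgroup.inclusion le_sup_right x) =
        ⟨φ' (Subgroup.inclusion le_sup_right x), ⟨_, rfl⟩⟩ := Subtype.ext (hφX x).symm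
    show χ (Subgroup.inclusion hle (Subgroup.inclusion le_sup_right x)) = _
    rw [e, hχi]
    rfl

/-- **CS-SYS**: the maps of `E` that extend to `P X` fixing `X` form a fusion system over `T`. -/
def fixSys (F : FusionSystem S) (E : FusionSystem T) (hTS : T ≤ S) (X : Subgroup Ω)
    (hX : X ≤ centralizerIn S T) : FusionSystem T where
  Hom := fixHom F E X
  le_of_mem := fun h => sys_le_of_mem h
  injective_of_mem := fun h => E.injective_of_mem h.1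
  conj_mem := fun hP hg => sys_conj_mem hTS hX hP hg
  comp_mem := fun hφ hψ h => sys_comp_mem hφ hψ h
  inv_mem := fun hφ => sys_inv_mem hφ

end Cfsg.Agent.Lib.Helper88.Cs
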