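import Cfsg.Agent.Lib.Helper88.CsDefs
import Cfsg.Agent.Lib.Helper55.CsSYS
import Cfsg.Agent.S5082

/-!
# S5293 leaf CS-ALP: Alperin's theorem for `E` and `fixSys`.
-/

set_option autoImplicit false

namespace Cfsg.Agent.Lib.Helper88.Cs

open Cfsg Cfsg.FusionSystem Cfsg.Agent.Lib.Helper88 Cfsg.Agent.Lib.Helper88.Crav
open Cfsg.Agent.Lib.Helper87 (restrict_mem hom_le hom_mem_S subtype_mem mem_autGroup_iff)

variable {Ω : Type*} [Group Ω] {S T : Subgroup Ω} {p : ℕ} [Fact p.Prime]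
  {F : FusionSystem S} {E : FusionSystem T}

/-- **CS-ALP**: Alperin's theorem for `E`. -/
theorem hom_subset_centralizerHom [Finite T] (hTp : IsPGroup p T) (hTS : T ≤ S)
    (hEsat : E.IsSaturated p) {X : Subgroup Ω} (hX : X ≤ centralizerIn S T)
    (h : ∀ Q : Subgroup Ω, E.IsCentric Q → ∀ β : MulAut Q, β ∈ E.autGroup Q →
      Q.subtype.comp β.toMonoidHom ∈ fixHom F E X Q) :
    ∀ P : Subgroup Ω, E.Hom P ⊆ F.centralizerHom X P := by
  have hle : E ≤ fixSys F E hTS X hX := by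
    apply Cfsg.Agent.S5082.result p hTp E hEsat (fixSys F E hTS X hX)
    intro P hP β hβ
    have hPc : E.IsCentric P := by
      rcases hP with rfl | hP
      · exact isCentric_self E
      · exact hP.1
    exact Subgroup.subset_closure (h P hPc β hβ)
  intro P φ hφ
  obtain ⟨hφE, ψ, hψ, hψP, hψX⟩ := hle P hφ
  have hPT : P ≤ T := (E.le_of_mem hφE).1
  have hφT : ∀ x : P, φ x ∈ T := (E.le_of_mem hφE).2
  have hcen : ∀ t ∈ T, t ∈ centralizerIn S X := by
    intro t ht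
    refine ⟨hTS ht, ?_⟩
    show t ∈ Subgroup.centralizer (X : Set Ω)
    rw [Subgroup.mem_centralizer_iff]
    intro x hx
    exact (sys_comm_of_mem hX hx ht).symm
  refine ⟨?_, fun x hx => hcen x (hPT hx), fun x => hcen _ (hφT x), ψ, hψ, hψP, hψX⟩
  have h1 := restrict_mem F hψ (le_sup_left : P ≤ P ⊔ X)
  have e : ψ.comp (Subgroup.inclusion (le_sup_left : P ≤ P ⊔ X)) = φ := by
    ext x
    exact hψP x
  rwa [e] at h1

end Cfsg.Agent.Lib.Helper88.Cs
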