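import Cfsg.Agent.Lib.Helper88.CsDefs
import Cfsg.Agent.Lib.Helper88.Reduction2
import Cfsg.Agent.Lib.Helper2.CsGEN

/-!
# S5293 leaf CS-FOC: generation of the focal subgroup.
-/

set_option autoImplicit false

namespace Cfsg.Agent.Lib.Helper88.Cs

open Cfsg Cfsg.FusionSystem Cfsg.Agent.Lib.Helper88 Cfsg.Agent.Lib.Helper88.Crav
open Cfsg.Agent.Lib.Helper87 (restrict_mem hom_le hom_mem_S subtype_mem mem_autGroup_iff)
open scoped commutatorElement

variable {Ω : Type*} [Group Ω] {S T : Subgroup Ω} {p : ℕ} [Fact p.Prime]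
  {F : FusionSystem S} {E : FusionSystem T}

/-- the automorphisms `γ` of `U` with `x⁻¹ γ(x) ∈ C` for all `x` -/
def foc_sub (U C : Subgroup Ω) : Subgroup (MulAut U) where
  carrier := {γ | ∀ x : U, (x : Ω)⁻¹ * ((γ x : U) : Ω) ∈ C}
  one_mem' := by
    intro x
    show (x : Ω)⁻¹ * (x : Ω) ∈ C
    rw [inv_mul_cancel]
    exact C.one_mem
  mul_mem' := by
    intro γ γ' hγ hγ' x
    have e : (x : Ω)⁻¹ * (((γ * γ') x : U) : Ω) =
        ((x : Ω)⁻¹ * ((γ' x : U) : Ω)) * (((γ' x : U) : Ω)⁻¹ * ((γ (γ' x) : U) : Ω)) := by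
      rw [MulAut.mul_apply]; group
    rw [e]
    exact C.mul_mem (hγ' x) (hγ (γ' x))
  inv_mem' := by
    intro γ hγ x
    have h := hγ (γ⁻¹ x)
    rw [MulAut.apply_inv_self] at h
    have e : (x : Ω)⁻¹ * (((γ⁻¹) x : U) : Ω) = ((((γ⁻¹) x : U) : Ω)⁻¹ * (x : Ω))⁻¹ := by group
    rw [e]
    exact C.inv_mem h

theorem foc_mem_sub {U C : Subgroup Ω} {γ : MulAut U} :
    γ ∈ foc_sub U C ↔ ∀ x : U, (x : Ω)⁻¹ * ((γ x : U) : Ω) ∈ C := Iff.rfl

/-- **CS-FOC**. -/
theorem focal_le_of {R : Subgroup Ω} [Finite R] (hRp : IsPGroup p R) (D : FusionSystem R)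
    (hD : D.IsSaturated p) (C : Subgroup Ω) (hcomm : ⁅R, R⁆ ≤ C)
    (hpp : ∀ (U : Subgroup Ω) (γ : MulAut U), U.subtype.comp γ.toMonoidHom ∈ D.Hom U →
      (orderOf γ).Coprime p → ∀ c : U, (c : Ω)⁻¹ * ((γ c : U) : Ω) ∈ C) :
    D.focalSubgroup ≤ C := by
  apply Cfsg.Agent.Lib.Helper54.FusFoc.focal_propagation hRp D
    {U | D.IsFullyAutomized p U ∧ D.IsReceptive U}
  · intro P hP
    obtain ⟨Q, hc, hfa, hrec⟩ := hD P hP
    exact ⟨Q, ⟨hfa, hrec⟩, hc, hfa, hrec⟩
  · rintro U ⟨hfa, -⟩ ψ hψ hr x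
    have hUR : U ≤ R := hfa.1
    haveI : Finite U := Cfsg.Agent.Lib.Helper87.finite_of_le hUR
    haveI : Finite (MulAut U) := Finite.of_injective (fun f : MulAut U => (f : U → U))
      (fun f g h => by ext x; exact congrArg Subtype.val (congrFun h x))
    obtain ⟨R₀, hR₀⟩ := hfa.2
    -- the subgroup `B`
    have hBtop : (foc_sub U C).subgroupOf (D.autGroup U) = ⊤ := by
      apply eq_top_of_sylow_le_of_pprime R₀
      · rw [hR₀]
        apply Subgroup.comap_mono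
        unfold autInducedBy
        rw [Subgroup.closure_le]
        rintro α ⟨g, hg, hα⟩
        show α ∈ foc_sub U C
        rw [foc_mem_sub]
        intro y
        rw [hα y]
        apply hcomm
        have e : (y : Ω)⁻¹ * (g * (y : Ω) * g⁻¹) = ⁅(y : Ω)⁻¹, g⁆ := by
          rw [commutatorElement_def]; group
        rw [e]
        exact Subgroup.commutator_mem_commutator (R.inv_mem (hUR y.2)) hg
      · intro a ha
        rw [Subgroup.mem_subgroupOf, foc_mem_sub]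
        have h1 : U.subtype.comp (a : MulAut U).toMonoidHom ∈ D.Hom U :=
          (mem_autGroup_iff D hUR (a : MulAut U)).mp a.2
        have h2 : (orderOf (a : MulAut U)).Coprime p := by
          rw [Subgroup.orderOf_coe]; exact ha
        exact hpp U (a : MulAut U) h1 h2
    have hU' : ∀ z : U, ψ z ∈ U := by
      intro z
      have hz : ψ z ∈ ψ.range := ⟨z, rfl⟩
      rwa [hr] at hz
    obtain ⟨γ, hγ, hγψ⟩ := Cfsg.Agent.Lib.Helper88.exists_aut_of_hom D hψ hU'
    have hmem : (⟨γ, hγ⟩ : D.autGroup U) ∈ (foc_sub U C).subgroupOf (D.autGroup U) := by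
      rw [hBtop]; exact Subgroup.mem_top _
    rw [Subgroup.mem_subgroupOf, foc_mem_sub] at hmem
    have := hmem x
    rw [hγψ x] at this
    exact this

end Cfsg.Agent.Lib.Helper88.Cs
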