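import Cfsg.Agent.Lib.Helper55.SylowQuot
import Mathlib.Algebra.Group.Subgroup.Pointwise

set_option autoImplicit false
set_option linter.style.haveILetI false
open scoped Pointwise

namespace Cfsg.Agent.Lib.Helper55

variable {G : Type*} [Group G]

theorem mem_conj_smul_iff (H : Subgroup G) (g x : G) :
    x ∈ MulAut.conj g • H ↔ g⁻¹ * x * g ∈ H := by
  rw [Subgroup.mem_pointwise_smul_iff_inv_smul_mem, MulAut.smul_def, ← map_inv, MulAut.conj_apply,
    inv_inv]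

/-- A TI Sylow subgroup: any two Sylow subgroups sharing a non-identity element are equal. -/
theorem sylow_eq_of_TI [Finite G] (p : ℕ) [Fact p.Prime] (P : Sylow p G)
    (hTI : ∀ g : G, g ∉ Subgroup.normalizer ((P : Subgroup G) : Set G) →
      (P : Subgroup G) ⊓ (MulAut.conj g • (P : Subgroup G)) = ⊥)
    (S₁ S₂ : Sylow p G) (y : G) (hy1 : y ∈ S₁) (hy2 : y ∈ S₂) (hy : y ≠ 1) : S₁ = S₂ := by
  obtain ⟨a, rfl⟩ := MulAction.exists_smul_eq G P S₁
  obtain ⟨b, rfl⟩ := MulAction.exists_smul_eq G P S₂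
  have h1 : a⁻¹ * y * a ∈ (P : Subgroup G) := by
    have : y ∈ ((a • P : Sylow p G) : Subgroup G) := hy1
    rwa [Sylow.coe_subgroup_smul, mem_conj_smul_iff] at this
  have h2 : b⁻¹ * y * b ∈ (P : Subgroup G) := by
    have : y ∈ ((b • P : Sylow p G) : Subgroup G) := hy2
    rwa [Sylow.coe_subgroup_smul, mem_conj_smul_iff] at this
  have hg : a⁻¹ * b ∈ Subgroup.normalizer ((P : Subgroup G) : Set G) := by
    by_contra hg
    have hbot := hTI _ hg
    have hmem : a⁻¹ * y * a ∈ (P : Subgroup G) ⊓ (MulAut.conj (a⁻¹ * b) • (P : Subgroup G)) := by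
      refine Subgroup.mem_inf.mpr ⟨h1, ?_⟩
      rw [mem_conj_smul_iff]
      have : (a⁻¹ * b)⁻¹ * (a⁻¹ * y * a) * (a⁻¹ * b) = b⁻¹ * y * b := by group
      rw [this]; exact h2
    rw [hbot, Subgroup.mem_bot] at hmem
    apply hy
    calc y = a * (a⁻¹ * y * a) * a⁻¹ := by group
      _ = 1 := by rw [hmem]; group
  have hsm : (a⁻¹ * b) • P = P := Sylow.smul_eq_iff_mem_normalizer.mpr hg
  calc a • P = a • ((a⁻¹ * b) • P) := by rw [hsm]
    _ = b • P := by rw [smul_smul]; congr 1; group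

/-- The TI property of Sylow subgroups passes to quotients. -/
theorem TI_quotient [Finite G] (p : ℕ) [Fact p.Prime] (P : Sylow p G)
    (hTI : ∀ g : G, g ∉ Subgroup.normalizer ((P : Subgroup G) : Set G) →
      (P : Subgroup G) ⊓ (MulAut.conj g • (P : Subgroup G)) = ⊥)
    (N : Subgroup G) [N.Normal] (Q : Sylow p (G ⧸ N)) (x : G ⧸ N)
    (hx : x ∉ Subgroup.normalizer ((Q : Subgroup (G ⧸ N)) : Set (G ⧸ N))) :
    (Q : Subgroup (G ⧸ N)) ⊓ (MulAut.conj x • (Q : Subgroup (G ⧸ N))) = ⊥ := by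
  have hf : Function.Surjective (QuotientGroup.mk' N) := QuotientGroup.mk'_surjective N
  by_contra hne
  have hne' : (x • Q : Sylow p (G ⧸ N)) ≠ Q := fun h => hx (Sylow.smul_eq_iff_mem_normalizer.mp h)
  have hD' : IsPGroup p ↥((Q : Subgroup (G ⧸ N)) ⊓ (MulAut.conj x • (Q : Subgroup (G ⧸ N)))) :=
    Q.2.to_le inf_le_left
  obtain ⟨D, hD, hDmap⟩ := exists_pgroup_map_eq p hf _ hD'
  obtain ⟨S₁, hDS₁, hS₁⟩ := exists_sylow_ge_map_eq p hf Q D hD (by rw [hDmap]; exact inf_le_left)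
  obtain ⟨S₂, hDS₂, hS₂⟩ := exists_sylow_ge_map_eq p hf (x • Q) D hD
    (by rw [hDmap, Sylow.coe_subgroup_smul]; exact inf_le_right)
  have hDne : D ≠ ⊥ := by
    rintro rfl
    rw [Subgroup.map_bot] at hDmap
    exact hne hDmap.symm
  obtain ⟨d, hd1⟩ := (Subgroup.ne_bot_iff_exists_ne_one.mp hDne)
  have hd1' : (d : G) ≠ 1 := fun h => hd1 (Subtype.ext h)
  have := sylow_eq_of_TI p P hTI S₁ S₂ d (hDS₁ d.2) (hDS₂ d.2) hd1'
  apply hne'
  apply Sylow.ext
  rw [← hS₂, ← hS₁, this]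

end Cfsg.Agent.Lib.Helper55
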