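import Mathlib
import Cfsg.Agent.Lib.Helper55.TISylow

set_option autoImplicit false
set_option linter.style.haveILetI false
open scoped Pointwise

namespace Cfsg.Agent.Lib.Helper55

theorem nt_aux (p : ℕ) [hp : Fact p.Prime] (k m j r : ℕ) (h1 : m * j ≡ j [MOD p ^ k])
    (hj : ¬ p ^ k ∣ j) (h2 : m ^ r ≡ 1 [MOD p ^ k]) (hr : r.Coprime p) : m ≡ 1 [MOD p ^ k] := by
  have hpZ : Prime (p : ℤ) := Nat.prime_iff_prime_int.mp hp.out
  have h1' : ((p ^ k : ℕ) : ℤ) ∣ (j : ℤ) * ((m : ℤ) - 1) := by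
    have := (Nat.modEq_iff_dvd.mp h1.symm)
    push_cast at this ⊢
    convert this using 1; ring
  have h2' : ((p ^ k : ℕ) : ℤ) ∣ (m : ℤ) ^ r - 1 := by
    have := (Nat.modEq_iff_dvd.mp h2.symm)
    push_cast at this ⊢
    exact this
  have s1 : (p : ℤ) ∣ (m : ℤ) - 1 := by
    by_contra hnd
    have hcop : IsCoprime ((p ^ k : ℕ) : ℤ) ((m : ℤ) - 1) := by
      push_cast
      exact (hpZ.coprime_iff_not_dvd.mpr hnd).pow_left
    have := hcop.dvd_of_dvd_mul_right h1'
    exact hj (Int.natCast_dvd_natCast.mp this)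
  have s3 : ¬ (p : ℤ) ∣ ∑ i ∈ Finset.range r, (m : ℤ) ^ i := by
    intro hd
    have hz : ((∑ i ∈ Finset.range r, (m : ℤ) ^ i : ℤ) : ZMod p) = 0 :=
      (ZMod.intCast_zmod_eq_zero_iff_dvd _ p).mpr hd
    have hm1 : ((m : ℤ) : ZMod p) = 1 := by
      have := (ZMod.intCast_zmod_eq_zero_iff_dvd _ p).mpr s1
      push_cast at this
      push_cast
      exact sub_eq_zero.mp this
    push_cast at hz hm1
    simp only [hm1, one_pow, Finset.sum_const, Finset.card_range, nsmul_eq_mul, mul_one] at hz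
    have := (ZMod.natCast_eq_zero_iff r p).mp hz
    have hp1 : p ∣ Nat.gcd r p := Nat.dvd_gcd this dvd_rfl
    rw [hr] at hp1
    exact hp.out.one_lt.ne' (Nat.dvd_one.mp hp1)
  have s2 : (m : ℤ) ^ r - 1 = (∑ i ∈ Finset.range r, (m : ℤ) ^ i) * ((m : ℤ) - 1) :=
    (geom_sum_mul _ _).symm
  rw [s2] at h2'
  have hcop : IsCoprime ((p ^ k : ℕ) : ℤ) (∑ i ∈ Finset.range r, (m : ℤ) ^ i) := by
    push_cast
    exact (hpZ.coprime_iff_not_dvd.mpr s3).pow_left
  have := hcop.dvd_of_dvd_mul_left h2'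
  exact (Nat.modEq_iff_dvd.mpr (by push_cast; push_cast at this; exact this)).symm

variable {G : Type*} [Group G] [Finite G]

/-- An element normalizing a cyclic Sylow `p`-subgroup `P` and centralizing a non-identity
element of `P` centralizes `P`. -/
theorem mem_centralizer_of_cyclic_sylow (p : ℕ) [Fact p.Prime] (P : Sylow p G)
    (hcyc : IsCyclic ↥(P : Subgroup G)) (g : G)
    (hg : g ∈ Subgroup.normalizer ((P : Subgroup G) : Set G)) (x : G) (hx : x ∈ (P : Subgroup G))
    (hx1 : x ≠ 1) (hgx : g * x = x * g) :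
    g ∈ Subgroup.centralizer ((P : Subgroup G) : Set G) := by
  obtain ⟨y₀, hy₀⟩ := hcyc.exists_generator
  set y : G := (y₀ : G) with hy
  have hyP : y ∈ (P : Subgroup G) := y₀.2
  have hpow : ∀ z ∈ (P : Subgroup G), ∃ i : ℕ, y ^ i = z := by
    intro z hz
    have h1 : (⟨z, hz⟩ : (P : Subgroup G)) ∈ Subgroup.zpowers y₀ := hy₀ _
    rw [← mem_powers_iff_mem_zpowers, Submonoid.mem_powers_iff] at h1
    obtain ⟨i, hi⟩ := h1
    exact ⟨i, by have := congrArg Subtype.val hi; simpa using this⟩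
  obtain ⟨k, hk⟩ := IsPGroup.iff_card.mp P.2
  have hord : orderOf y = p ^ k := by
    rw [hy, Subgroup.orderOf_coe, orderOf_eq_card_of_forall_mem_zpowers hy₀, hk]
  -- conjugation
  have hconjP : g * y * g⁻¹ ∈ (P : Subgroup G) := (Subgroup.mem_normalizer_iff.mp hg y).mp hyP
  obtain ⟨m, hm⟩ := hpow _ hconjP
  have hA : ∀ i : ℕ, g ^ i * y * (g ^ i)⁻¹ = y ^ (m ^ i) := by
    intro i
    induction i with
    | zero => simp
    | succ i ih =>
      have : g ^ (i + 1) * y * (g ^ (i + 1))⁻¹ = g * (g ^ i * y * (g ^ i)⁻¹) * g⁻¹ := by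
        rw [pow_succ']; group
      rw [this, ih]
      have h2 : g * y ^ (m ^ i) * g⁻¹ = (g * y * g⁻¹) ^ (m ^ i) := by
        rw [conj_pow]
      rw [h2, ← hm, ← pow_mul, pow_succ, mul_comm]
  -- x as a power of y
  obtain ⟨j, hj⟩ := hpow x hx
  have hj1 : ¬ p ^ k ∣ j := by
    intro hd
    apply hx1
    rw [← hj, ← hord] at *
    exact orderOf_dvd_iff_pow_eq_one.mp hd
  have h1 : m * j ≡ j [MOD p ^ k] := by
    rw [← hord, ← pow_eq_pow_iff_modEq, pow_mul, hm, conj_pow, hj]
    rw [hgx]; group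
  -- the index of the centralizer in the normalizer
  set N := Subgroup.normalizer ((P : Subgroup G) : Set G) with hN
  set C := Subgroup.centralizer ((P : Subgroup G) : Set G) with hC
  set r := (C.subgroupOf N).index with hr
  have hgr : g ^ r ∈ C := by
    have := Subgroup.pow_index_mem (C.subgroupOf N) (⟨g, hg⟩ : N)
    rw [Subgroup.mem_subgroupOf] at this
    simpa using this
  have hPC : (P : Subgroup G) ≤ C := by
    haveI : IsMulCommutative ↥(P : Subgroup G) := IsCyclic.isMulCommutative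
    exact Subgroup.le_centralizer (P : Subgroup G)
  have hrcop : r.Coprime p := by
    have h1 : r ∣ (P : Subgroup G).relIndex N := Subgroup.relIndex_dvd_of_le_left N hPC
    have h2 : (P : Subgroup G).relIndex N ∣ (P : Subgroup G).index :=
      Subgroup.relIndex_dvd_index_of_le Subgroup.le_normalizer
    have h3 : ¬ p ∣ r := fun h => P.not_dvd_index (h.trans (h1.trans h2))
    exact ((Nat.Prime.coprime_iff_not_dvd Fact.out).mpr h3).symm
  have h2 : m ^ r ≡ 1 [MOD p ^ k] := by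
    rw [← hord, ← pow_eq_pow_iff_modEq, ← hA r, pow_one]
    have := hgr y hyP
    rw [← this]; group
  have hm1 := nt_aux p k m j r h1 hj1 h2 hrcop
  rw [← hord, ← pow_eq_pow_iff_modEq, pow_one, hm] at hm1
  -- g commutes with y, hence with P
  have hgy : g * y = y * g := by
    calc g * y = (g * y * g⁻¹) * g := by group
      _ = y * g := by rw [hm1]
  intro z hz
  obtain ⟨i, rfl⟩ := hpow z hz
  exact ((Commute.pow_right (show Commute g y from hgy) i).eq).symm

end Cfsg.Agent.Lib.Helper55
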