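import Mathlib

set_option autoImplicit false

/-!
Transitive permutation groups in which all derangements are involutions:
every nonidentity element fixes at most one point (Cameron–Cohen style count).
-/

namespace Cfsg.Agent.Lib.Helper55

open Classical in
/-- number of group elements fixing both points -/
noncomputable def sfix (G : Type*) {Ω : Type*} [Group G] [Fintype G] [MulAction G Ω] (β γ : Ω) : ℕ :=
  (Finset.univ.filter (fun g : G => g • β = β ∧ g • γ = γ)).card

open Classical in
/-- number of fixed points -/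
noncomputable def fixc {G Ω : Type*} [Group G] [MulAction G Ω] [Fintype Ω] (g : G) : ℕ :=
  (Finset.univ.filter (fun ω : Ω => g • ω = ω)).card

section
variable {G Ω : Type*} [Group G] [Fintype G] [MulAction G Ω] [Fintype Ω]

theorem sfix_smul (x : G) (β γ : Ω) : sfix G (x • β) (x • γ) = sfix G β γ := by
  classical
  unfold sfix
  refine Finset.card_bij (fun g _ => x⁻¹ * g * x) ?_ ?_ ?_
  · intro g hg
    simp only [Finset.mem_filter, Finset.mem_univ, true_and] at hg ⊢
    constructor
    · rw [mul_smul, mul_smul, hg.1, inv_smul_smul]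
    · rw [mul_smul, mul_smul, hg.2, inv_smul_smul]
  · intro a _ b _ h
    simpa using h
  · intro g hg
    simp only [Finset.mem_filter, Finset.mem_univ, true_and] at hg
    refine ⟨x * g * x⁻¹, ?_, by group⟩
    simp only [Finset.mem_filter, Finset.mem_univ, true_and]
    constructor
    · rw [mul_smul, mul_smul, inv_smul_smul, hg.1]
    · rw [mul_smul, mul_smul, inv_smul_smul, hg.2]

theorem sum_fixc_sq : ∑ g : G, fixc (Ω := Ω) g * fixc (Ω := Ω) g = ∑ β : Ω, ∑ γ : Ω, sfix G β γ := by
  classical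
  have h1 : ∀ g : G, fixc (Ω := Ω) g * fixc (Ω := Ω) g
      = ∑ β : Ω, ∑ γ : Ω, (if g • β = β ∧ g • γ = γ then 1 else 0) := by
    intro g
    unfold fixc
    rw [Finset.card_filter, Finset.sum_mul_sum]
    refine Finset.sum_congr rfl (fun β _ => Finset.sum_congr rfl (fun γ _ => ?_))
    by_cases hb : g • β = β <;> by_cases hc : g • γ = γ <;> simp [hb, hc]
  have h2 : ∀ β γ : Ω, sfix G β γ = ∑ g : G, (if g • β = β ∧ g • γ = γ then 1 else 0) := by
    intro β γ
    unfold sfix
    rw [Finset.card_filter]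
  simp_rw [h1, h2]
  rw [Finset.sum_comm]
  refine Finset.sum_congr rfl (fun β _ => ?_)
  rw [Finset.sum_comm]

theorem sum_fixc : ∑ g : G, fixc (Ω := Ω) g = ∑ β : Ω, sfix G β β := by
  classical
  have h1 : ∀ g : G, fixc (Ω := Ω) g = ∑ β : Ω, (if g • β = β ∧ g • β = β then 1 else 0) := by
    intro g
    unfold fixc
    rw [Finset.card_filter]
    refine Finset.sum_congr rfl (fun β _ => ?_)
    by_cases hb : g • β = β <;> simp [hb]
  have h2 : ∀ β : Ω, sfix G β β = ∑ g : G, (if g • β = β ∧ g • β = β then 1 else 0) := by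
    intro β
    unfold sfix
    rw [Finset.card_filter]
  simp_rw [h1, h2]
  rw [Finset.sum_comm]

theorem fixc_le (g : G) : fixc (Ω := Ω) g ≤ Fintype.card Ω := by
  classical
  unfold fixc
  exact Finset.card_le_univ _

theorem fixc_pos_iff (g : G) : 0 < fixc (Ω := Ω) g ↔ ∃ ω : Ω, g • ω = ω := by
  classical
  unfold fixc
  rw [Finset.card_pos]
  constructor
  · rintro ⟨ω, hω⟩
    exact ⟨ω, (Finset.mem_filter.mp hω).2⟩
  · rintro ⟨ω, hω⟩
    exact ⟨ω, Finset.mem_filter.mpr ⟨Finset.mem_univ _, hω⟩⟩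

theorem fixc_eq_card_iff (g : G) : fixc (Ω := Ω) g = Fintype.card Ω ↔ ∀ ω : Ω, g • ω = ω := by
  classical
  unfold fixc
  rw [← Finset.card_univ, Finset.card_filter_eq_iff]
  simp

theorem one_lt_fixc_of_two (g : G) (β γ : Ω) (hne : β ≠ γ) (hβ : g • β = β) (hγ : g • γ = γ) :
    1 < fixc (Ω := Ω) g := by
  classical
  unfold fixc
  rw [Finset.one_lt_card]
  exact ⟨β, Finset.mem_filter.mpr ⟨Finset.mem_univ _, hβ⟩, γ,
    Finset.mem_filter.mpr ⟨Finset.mem_univ _, hγ⟩, hne⟩

variable [MulAction.IsPretransitive G Ω]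

theorem sfix_diag (α β : Ω) : sfix G β β = sfix G α α := by
  obtain ⟨x, rfl⟩ := MulAction.exists_smul_eq G α β
  exact sfix_smul x α α

theorem sfix_row (α β : Ω) : ∑ γ : Ω, sfix G β γ = ∑ γ : Ω, sfix G α γ := by
  obtain ⟨x, rfl⟩ := MulAction.exists_smul_eq G α β
  rw [← (MulAction.bijective x).sum_comp (fun γ => sfix G (x • α) γ)]
  exact Finset.sum_congr rfl (fun γ _ => sfix_smul x α γ)

theorem card_eq_mul_sfix (α : Ω) : Fintype.card G = Fintype.card Ω * sfix G α α := by
  classical
  have h := MulAction.card_orbit_mul_card_stabilizer_eq_card_group G α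
  have h1 : Fintype.card (MulAction.orbit G α) = Fintype.card Ω := by
    rw [← Nat.card_eq_fintype_card, ← Nat.card_eq_fintype_card (α := Ω)]
    rw [MulAction.orbit_eq_univ]
    exact Nat.card_congr (Equiv.Set.univ Ω)
  have h2 : Fintype.card (MulAction.stabilizer G α) = sfix G α α := by
    unfold sfix
    rw [Fintype.card_subtype]
    congr 1
    ext g
    simp [MulAction.mem_stabilizer_iff]
  rw [← h, h1, h2]

/-- Main counting theorem: if all derangements are involutions then every element fixing two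
distinct points fixes everything. -/
theorem fixes_all_of_two (hinv : ∀ g : G, (∀ ω : Ω, g • ω ≠ ω) → orderOf g = 2)
    (g : G) (β γ : Ω) (hne : β ≠ γ) (hβ : g • β = β) (hγ : g • γ = γ) :
    ∀ ω : Ω, g • ω = ω := by
  classical
  set n := Fintype.card Ω with hn
  set α := β with hα
  set h := sfix G α α with hh
  set D : Finset G := Finset.univ.filter (fun g : G => ∀ ω : Ω, g • ω ≠ ω) with hD
  set T := ∑ δ ∈ Finset.univ.erase α, sfix G α δ with hT
  have hinvol : ∀ d ∈ D, ∀ ω : Ω, d • d • ω = ω := by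
    intro d hd ω
    have h2 : orderOf d = 2 := hinv d (Finset.mem_filter.mp hd).2
    have : d ^ 2 = 1 := by rw [← h2]; exact pow_orderOf_eq_one d
    rw [← mul_smul, ← pow_two, this, one_smul]
  have hinv' : ∀ d ∈ D, ∀ ω : Ω, d⁻¹ • ω = d • ω := by
    intro d hd ω
    rw [inv_smul_eq_iff, hinvol d hd]
  -- upper bound
  have hU : D.card ≤ T := by
    have hmap : ∀ d ∈ D, d • α ∈ Finset.univ.erase α := by
      intro d hd
      exact Finset.mem_erase.mpr ⟨(Finset.mem_filter.mp hd).2 α, Finset.mem_univ _⟩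
    rw [Finset.card_eq_sum_card_fiberwise hmap]
    refine Finset.sum_le_sum (fun δ _ => ?_)
    by_cases hemp : (D.filter (fun d => d • α = δ)) = ∅
    · rw [hemp]; simp
    · obtain ⟨d₀, hd₀⟩ := Finset.nonempty_iff_ne_empty.mpr hemp
      have hd₀D : d₀ ∈ D := (Finset.mem_filter.mp hd₀).1
      have hd₀α : d₀ • α = δ := (Finset.mem_filter.mp hd₀).2
      unfold sfix
      refine Finset.card_le_card_of_injOn (fun d => d₀⁻¹ * d) ?_ ?_
      · intro d hd
        have hd' := Finset.mem_coe.mp hd
        have hdD : d ∈ D := (Finset.mem_filter.mp hd').1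
        have hdα : d • α = δ := (Finset.mem_filter.mp hd').2
        simp only [Finset.coe_filter, Finset.mem_univ, true_and, Set.mem_setOf_eq]
        constructor
        · rw [mul_smul, hdα, ← hd₀α, inv_smul_smul]
        · rw [mul_smul, ← hdα, hinvol d hdD, hinv' d₀ hd₀D, hdα, hd₀α]
      · intro a _ b _ hab
        simpa using hab
  -- sums
  have hS1 : ∑ g : G, fixc (Ω := Ω) g = n * h := by
    rw [sum_fixc, Finset.sum_congr rfl (fun δ _ => sfix_diag α δ)]
    simp [hn, hh]
  have hS2 : ∑ g : G, fixc (Ω := Ω) g * fixc (Ω := Ω) g = n * (h + T) := by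
    rw [sum_fixc_sq, Finset.sum_congr rfl (fun δ _ => sfix_row α δ)]
    rw [Finset.sum_const, Finset.card_univ, smul_eq_mul]
    congr 1
    rw [hT, hh, ← Finset.add_sum_erase Finset.univ (fun δ => sfix G α δ) (Finset.mem_univ α)]
  have hOS : Fintype.card G = n * h := card_eq_mul_sfix α
  have hnpos : 0 < n := Fintype.card_pos_iff.mpr ⟨α⟩
  -- termwise inequality
  have hterm : ∀ x ∈ (Finset.univ : Finset G), fixc (Ω := Ω) x * fixc (Ω := Ω) x + n
      ≤ (n + 1) * fixc (Ω := Ω) x + n * (if x ∈ D then 1 else 0) := by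
    intro x _
    by_cases hx : x ∈ D
    · have : fixc (Ω := Ω) x = 0 := by
        by_contra hne0
        obtain ⟨ω, hω⟩ := (fixc_pos_iff x).mp (Nat.pos_of_ne_zero hne0)
        exact (Finset.mem_filter.mp hx).2 ω hω
      simp [hx, this]
    · have h1 : 1 ≤ fixc (Ω := Ω) x := by
        have : ∃ ω : Ω, x • ω = ω := by
          by_contra hcon
          push Not at hcon
          exact hx (Finset.mem_filter.mpr ⟨Finset.mem_univ _, hcon⟩)
        exact (fixc_pos_iff x).mpr this
      have h2 : fixc (Ω := Ω) x ≤ n := fixc_le x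
      simp only [hx, if_false, mul_zero, add_zero]
      obtain ⟨a, ha⟩ := Nat.exists_eq_add_of_le h1
      obtain ⟨b, hb⟩ := Nat.exists_eq_add_of_le h2
      rw [hb, ha]
      nlinarith [Nat.zero_le (a * b)]
  have hsum_le := Finset.sum_le_sum hterm
  have hlhs : ∑ x : G, (fixc (Ω := Ω) x * fixc (Ω := Ω) x + n) = n * (h + T) + n * (n * h) := by
    rw [Finset.sum_add_distrib, hS2, Finset.sum_const, Finset.card_univ, hOS, smul_eq_mul]
    ring
  have hrhs : ∑ x : G, ((n + 1) * fixc (Ω := Ω) x + n * (if x ∈ D then 1 else 0))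
      = (n + 1) * (n * h) + n * D.card := by
    rw [Finset.sum_add_distrib, ← Finset.mul_sum, hS1, ← Finset.mul_sum]
    congr 2
    rw [Finset.sum_boole]
    simp
  have hTD : T = D.card := by
    rw [hlhs, hrhs] at hsum_le
    have : n * T ≤ n * D.card := by nlinarith
    exact le_antisymm (Nat.le_of_mul_le_mul_left this hnpos) hU
  have hsum_eq : ∑ x : G, (fixc (Ω := Ω) x * fixc (Ω := Ω) x + n)
      = ∑ x : G, ((n + 1) * fixc (Ω := Ω) x + n * (if x ∈ D then 1 else 0)) := by
    rw [hlhs, hrhs, hTD]; ring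
  have hall := (Finset.sum_eq_sum_iff_of_le hterm).mp hsum_eq
  -- apply to g
  have hgD : g ∉ D := by
    intro hgD
    exact (Finset.mem_filter.mp hgD).2 β hβ
  have hg := hall g (Finset.mem_univ _)
  simp only [hgD, if_false, mul_zero, add_zero] at hg
  have h1 : 1 < fixc (Ω := Ω) g := one_lt_fixc_of_two g β γ hne hβ hγ
  have h2 : fixc (Ω := Ω) g ≤ n := fixc_le g
  have hfn : fixc (Ω := Ω) g = n := by
    obtain ⟨a, ha⟩ := Nat.exists_eq_add_of_lt h1
    obtain ⟨b, hb⟩ := Nat.exists_eq_add_of_le h2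
    rcases Nat.eq_zero_or_pos b with hb0 | hbpos
    · rw [hb, hb0]; simp
    · exfalso
      rw [hb] at hg
      rw [ha] at hg hb
      nlinarith [Nat.zero_le (a * b)]
  exact (fixc_eq_card_iff g).mp hfn

end

end Cfsg.Agent.Lib.Helper55
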