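import Mathlib
import Cfsg.Prelude.Def_GeometricClasses
import Cfsg.Agent.Lib.Helper81.EsDefs

/-!
# Es hive (S5877), leaf ES-R1a : `r1a`

If `dim (eig g c) > n / 2` then `W ⊓ a W ≠ 0`, and every `g^i a g^-i a⁻¹` fixes this
intersection pointwise; a scalar matrix fixing a nonzero vector is `1`.
-/

set_option autoImplicit false
set_option linter.style.haveILetI false
set_option linter.unusedVariables false
set_option linter.unusedSectionVars false

namespace Cfsg.Agent.Lib.Helper81.Es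

open scoped MatrixGroups

variable {F : Type*} [Field F] {n : ℕ}

/-- the action of an invertible matrix on column vectors -/
def r1a_act (x : GL (Fin n) F) (v : Fin n → F) : Fin n → F :=
  (x : Matrix (Fin n) (Fin n) F).mulVec v

theorem r1a_act_mul (x y : GL (Fin n) F) (v : Fin n → F) :
    r1a_act (x * y) v = r1a_act x (r1a_act y v) := by
  simp [r1a_act, Matrix.mulVec_mulVec]

theorem r1a_act_one (v : Fin n → F) : r1a_act (1 : GL (Fin n) F) v = v := by
  simp [r1a_act]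

theorem r1a_act_inv_act (x : GL (Fin n) F) (v : Fin n → F) :
    r1a_act x⁻¹ (r1a_act x v) = v := by
  rw [← r1a_act_mul, inv_mul_cancel, r1a_act_one]

theorem r1a_act_act_inv (x : GL (Fin n) F) (v : Fin n → F) :
    r1a_act x (r1a_act x⁻¹ v) = v := by
  rw [← r1a_act_mul, mul_inv_cancel, r1a_act_one]

theorem r1a_act_smul (x : GL (Fin n) F) (s : F) (v : Fin n → F) :
    r1a_act x (s • v) = s • r1a_act x v := by
  simp [r1a_act, Matrix.mulVec_smul]

theorem r1a_mem_eig (g : GL (Fin n) F) (c : F) (v : Fin n → F) :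
    v ∈ eig g c ↔ r1a_act g v = c • v := by
  simp [eig, r1a_act, Module.End.mem_eigenspace_iff]

theorem r1a_pow_act (g : GL (Fin n) F) (c : F) (v : Fin n → F) (hv : r1a_act g v = c • v)
    (i : ℕ) : r1a_act (g ^ i) v = c ^ i • v := by
  induction i with
  | zero => simp [r1a_act_one]
  | succ k ih =>
    rw [pow_succ, r1a_act_mul, hv, r1a_act_smul, ih, smul_smul, pow_succ, mul_comm]

theorem r1a_pow_inv_act (g : GL (Fin n) F) (c : F) (v : Fin n → F) (hc : c ≠ 0)
    (hv : r1a_act g v = c • v) (i : ℕ) : r1a_act (g ^ i)⁻¹ v = (c ^ i)⁻¹ • v := by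
  have h := r1a_pow_act g c v hv i
  have h2 : v = r1a_act (g ^ i) ((c ^ i)⁻¹ • v) := by
    rw [r1a_act_smul, h, smul_smul, inv_mul_cancel₀ (pow_ne_zero i hc), one_smul]
  conv_lhs => rw [h2]
  rw [r1a_act_inv_act]

/-- if an element fixes `w`, so does its inverse -/
theorem r1a_inv_fix (x : GL (Fin n) F) (w : Fin n → F) (h : r1a_act x w = w) :
    r1a_act x⁻¹ w = w := by
  conv_lhs => rw [← h]
  rw [r1a_act_inv_act]

/-- a commutator of two elements fixing `w` fixes `w` -/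
theorem r1a_cm_fix (x y : GL (Fin n) F) (w : Fin n → F) (hx : r1a_act x w = w)
    (hy : r1a_act y w = w) : r1a_act (cm x y) w = w := by
  unfold cm
  rw [r1a_act_mul, r1a_act_mul, r1a_act_mul, r1a_inv_fix y w hy, r1a_inv_fix x w hx, hy, hx]

/-- the fixed-vector computation -/
theorem r1a_fix (g a : GL (Fin n) F) (c : F) (hc : c ≠ 0) (w : Fin n → F)
    (hw : r1a_act g w = c • w) (hv : r1a_act g (r1a_act a⁻¹ w) = c • r1a_act a⁻¹ w) (i : ℕ) :
    r1a_act (cm (g ^ i) a) w = w := by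
  unfold cm
  rw [r1a_act_mul, r1a_act_mul, r1a_act_mul, r1a_pow_inv_act g c _ hc hv i, r1a_act_smul,
    r1a_act_act_inv, r1a_act_smul, r1a_pow_act g c w hw i, smul_smul,
    inv_mul_cancel₀ (pow_ne_zero i hc), one_smul]

/-- `eig g 0 = ⊥` -/
theorem r1a_eig_zero (g : GL (Fin n) F) (v : Fin n → F) (hv : r1a_act g v = (0 : F) • v) :
    v = 0 := by
  have h := r1a_act_inv_act g v
  rw [hv, zero_smul] at h
  rw [← h]
  simp [r1a_act]

/-- a nonzero vector in `W ⊓ a W` -/
theorem r1a_exists (g a : GL (Fin n) F) (c : F) (hW : n < 2 * Module.finrank F (eig g c)) :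
    ∃ w : Fin n → F, w ≠ 0 ∧ w ∈ eig g c ∧ r1a_act a⁻¹ w ∈ eig g c := by
  have h1 : ((a⁻¹ : GL (Fin n) F) : Matrix (Fin n) (Fin n) F) *
      ((a : GL (Fin n) F) : Matrix (Fin n) (Fin n) F) = 1 := by
    rw [← Units.val_mul, inv_mul_cancel, Units.val_one]
  have h2 : ((a : GL (Fin n) F) : Matrix (Fin n) (Fin n) F) *
      ((a⁻¹ : GL (Fin n) F) : Matrix (Fin n) (Fin n) F) = 1 := by
    rw [← Units.val_mul, mul_inv_cancel, Units.val_one]
  let e : (Fin n → F) ≃ₗ[F] (Fin n → F) := Matrix.toLin'OfInv h1 h2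
  have he : ∀ v, e v = r1a_act a v := fun v => by
    simp [e, Matrix.toLin'OfInv, r1a_act]
  have hes : ∀ v, e.symm v = r1a_act a⁻¹ v := fun v => by
    simp [e, Matrix.toLin'OfInv, r1a_act]
  set W := eig g c with hWdef
  have hfr : Module.finrank F ((W.map (e : (Fin n → F) →ₗ[F] (Fin n → F)) : Submodule F (Fin n → F))) =
      Module.finrank F W := LinearEquiv.finrank_map_eq e W
  have hsum := Submodule.finrank_sup_add_finrank_inf_eq W
    (W.map (e : (Fin n → F) →ₗ[F] (Fin n → F)))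
  have hle : Module.finrank F ((W ⊔ W.map (e : (Fin n → F) →ₗ[F] (Fin n → F)) :
      Submodule F (Fin n → F))) ≤ n := by
    have := Submodule.finrank_le (W ⊔ W.map (e : (Fin n → F) →ₗ[F] (Fin n → F)))
    simpa using this
  have hpos : 0 < Module.finrank F ((W ⊓ W.map (e : (Fin n → F) →ₗ[F] (Fin n → F)) :
      Submodule F (Fin n → F))) := by omega
  obtain ⟨⟨w, hwm⟩, hw0⟩ := Module.finrank_pos_iff_exists_ne_zero.mp hpos
  obtain ⟨hwW, hwW'⟩ := Submodule.mem_inf.mp hwm
  obtain ⟨v, hvW, hvw⟩ := Submodule.mem_map.mp hwW'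
  refine ⟨w, fun h => hw0 (Subtype.ext h), hwW, ?_⟩
  have : r1a_act a⁻¹ w = v := by
    rw [← hvw]
    change r1a_act a⁻¹ (e v) = v
    rw [he, r1a_act_inv_act]
  rw [this]
  exact hvW

/-- ES-R1a : if `dim (eig g c) > n / 2`, two elements `g^i a g^-i a⁻¹`, `g^j a g^-j a⁻¹` whose
commutator is scalar commute (both fix `eig g c ⊓ a (eig g c) ≠ 0` pointwise). -/
theorem r1a (g a : GL (Fin n) F) (c : F) (hW : n < 2 * Module.finrank F (eig g c)) (i j : ℕ)
    (hsc : IsSc (cm (cm (g ^ i) a) (cm (g ^ j) a))) :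
    Commute (cm (g ^ i) a) (cm (g ^ j) a) := by
  obtain ⟨w, hw0, hwW, hvW⟩ := r1a_exists g a c hW
  rw [r1a_mem_eig] at hwW hvW
  have hc : c ≠ 0 := by
    rintro rfl
    exact hw0 (r1a_eig_zero g w hwW)
  have hi := r1a_fix g a c hc w hwW hvW i
  have hj := r1a_fix g a c hc w hwW hvW j
  have hcm : r1a_act (cm (cm (g ^ i) a) (cm (g ^ j) a)) w = w :=
    r1a_cm_fix _ _ w hi hj
  obtain ⟨s, hs⟩ := hsc
  have hs1 : s = 1 := by
    have h3 : s • w = w := by
      have : r1a_act (cm (cm (g ^ i) a) (cm (g ^ j) a)) w = s • w := by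
        rw [r1a_act, hs, Matrix.smul_mulVec, Matrix.one_mulVec]
      rw [← this, hcm]
    by_contra hne
    apply hw0
    have h4 : (s - 1) • w = 0 := by rw [sub_smul, h3, one_smul, sub_self]
    rcases smul_eq_zero.mp h4 with h5 | h5
    · exact absurd (sub_eq_zero.mp h5) hne
    · exact h5
  have h1 : cm (cm (g ^ i) a) (cm (g ^ j) a) = 1 := by
    apply Units.ext
    rw [hs, hs1, one_smul, Units.val_one]
  -- x * y * x⁻¹ * y⁻¹ = 1 → x * y = y * x
  unfold Commute SemiconjBy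
  have h2 : cm (g ^ i) a * cm (g ^ j) a * (cm (g ^ i) a)⁻¹ * (cm (g ^ j) a)⁻¹ = 1 := h1
  have h3 := congrArg (fun t => t * cm (g ^ j) a * cm (g ^ i) a) h2
  simpa [mul_assoc] using h3

end Cfsg.Agent.Lib.Helper81.Es
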