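import Mathlib
import Cfsg.Agent.Lib.Helper2.PGroup
import Cfsg.Agent.Lib.Helper47.Frattini

set_option autoImplicit false

/-!
Character-sum count of square roots of the identity in a 2-group whose Frattini subgroup has order 2.
-/

namespace Cfsg.Agent.Lib.Helper55

open scoped commutatorElement

open Classical in
/-- `1` on the identity, `-1` elsewhere. -/
noncomputable def sgnOne {G : Type*} [Group G] (g : G) : ℤ := if g = 1 then 1 else -1

section
variable {G : Type*} [Group G]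

theorem sgnOne_one : sgnOne (1 : G) = 1 := by simp [sgnOne]

theorem sgnOne_sq (g : G) : sgnOne g * sgnOne g = 1 := by
  unfold sgnOne; split_ifs <;> simp

theorem sgnOne_eq_one_iff (g : G) : sgnOne g = 1 ↔ g = 1 := by
  unfold sgnOne; split_ifs with h <;> simp [h]

theorem sgnOne_eq_neg_one_iff (g : G) : sgnOne g = -1 ↔ g ≠ 1 := by
  unfold sgnOne; split_ifs with h <;> simp [h]

theorem sgnOne_cases (g : G) : sgnOne g = 1 ∨ sgnOne g = -1 := by
  unfold sgnOne; split_ifs <;> simp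

variable (Φ : Subgroup G) (hΦ2 : Nat.card Φ = 2)

include hΦ2 in
theorem sgnOne_mul_of_mem {a b : G} (ha : a ∈ Φ) (hb : b ∈ Φ) :
    sgnOne (a * b) = sgnOne a * sgnOne b := by
  classical
  obtain ⟨z, hz1, hzu⟩ := (Nat.card_eq_two_iff' (1 : Φ)).mp hΦ2
  have hall : ∀ c : G, c ∈ Φ → c = 1 ∨ c = (z : G) := by
    intro c hc
    by_cases h : c = 1
    · exact Or.inl h
    · right
      have : (⟨c, hc⟩ : Φ) = z := hzu ⟨c, hc⟩ (fun h' => h (by simpa using congrArg Subtype.val h'))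
      rw [← this]
  have hzne : (z : G) ≠ 1 := fun h => hz1 (Subtype.ext h)
  have hzz : (z : G) * (z : G) = 1 := by
    rcases hall _ (Φ.mul_mem z.2 z.2) with h | h
    · exact h
    · exfalso
      apply hzne
      have : (z : G) * (z : G) = (z : G) * 1 := by rw [mul_one]; exact h
      exact mul_left_cancel this
  rcases hall a ha with rfl | rfl
  · simp [sgnOne_one]
  · rcases hall b hb with rfl | rfl
    · simp [sgnOne_one]
    · rw [hzz, sgnOne_one, (sgnOne_eq_neg_one_iff _).mpr hzne]; norm_num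

variable (hΦc : Φ ≤ Subgroup.center G) (hsq : ∀ x : G, x ^ 2 ∈ Φ)
  (hcomm : ∀ x y : G, x⁻¹ * y * x * y⁻¹ ∈ Φ)

include hΦ2 hΦc hsq hcomm in
theorem eps_mul (x w : G) :
    sgnOne ((x * w) ^ 2) = sgnOne (x ^ 2) * sgnOne (w ^ 2) * sgnOne (x⁻¹ * w * x * w⁻¹) := by
  set k := x⁻¹ * w * x * w⁻¹ with hk
  have hkΦ : k ∈ Φ := hcomm x w
  have hkc : ∀ g : G, g * k = k * g := fun g => Subgroup.mem_center_iff.mp (hΦc hkΦ) g
  have h1 : (x * w) ^ 2 = x ^ 2 * w ^ 2 * k := by
    have h2 : x ^ 2 * w ^ 2 * k = x ^ 2 * k * w ^ 2 := by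
      rw [mul_assoc, hkc (w ^ 2), ← mul_assoc]
    rw [h2, hk]
    simp only [pow_two]
    group
  rw [h1, sgnOne_mul_of_mem Φ hΦ2 (Φ.mul_mem (hsq x) (hsq w)) hkΦ,
    sgnOne_mul_of_mem Φ hΦ2 (hsq x) (hsq w)]

include hΦ2 hΦc hcomm in
theorem beta_mul (w x₀ x : G) :
    sgnOne ((x₀ * x)⁻¹ * w * (x₀ * x) * w⁻¹)
      = sgnOne (x₀⁻¹ * w * x₀ * w⁻¹) * sgnOne (x⁻¹ * w * x * w⁻¹) := by
  set k₀ := x₀⁻¹ * w * x₀ * w⁻¹ with hk₀
  have hkΦ : k₀ ∈ Φ := hcomm x₀ w
  have hkc : ∀ g : G, g * k₀ = k₀ * g := fun g => Subgroup.mem_center_iff.mp (hΦc hkΦ) g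
  have h1 : (x₀ * x)⁻¹ * w * (x₀ * x) * w⁻¹ = k₀ * (x⁻¹ * w * x * w⁻¹) := by
    have h2 : k₀ * (x⁻¹ * w * x * w⁻¹) = x⁻¹ * k₀ * (w * x * w⁻¹) := by
      rw [hkc x⁻¹]; group
    rw [h2, hk₀]; group
  rw [h1, sgnOne_mul_of_mem Φ hΦ2 hkΦ (hcomm x w)]

variable [Fintype G]

include hΦ2 hΦc hcomm in
theorem beta_sum (w : G) [Decidable (w ∈ Subgroup.center G)] :
    ∑ x : G, sgnOne (x⁻¹ * w * x * w⁻¹) = if w ∈ Subgroup.center G then (Fintype.card G : ℤ) else 0 := by
  classical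
  split_ifs with hw
  · have : ∀ x : G, sgnOne (x⁻¹ * w * x * w⁻¹) = 1 := by
      intro x
      rw [sgnOne_eq_one_iff]
      have := Subgroup.mem_center_iff.mp hw x
      rw [mul_assoc x⁻¹, ← this]; group
    simp [this]
  · have hex : ∃ x₀ : G, x₀ * w ≠ w * x₀ := by
      by_contra hcon
      push Not at hcon
      exact hw (Subgroup.mem_center_iff.mpr hcon)
    obtain ⟨x₀, hx₀⟩ := hex
    have hb0 : sgnOne (x₀⁻¹ * w * x₀ * w⁻¹) = -1 := by
      rw [sgnOne_eq_neg_one_iff]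
      intro h
      apply hx₀
      have : x₀⁻¹ * w * x₀ = w := by
        have := mul_inv_eq_one.mp h
        exact this
      calc x₀ * w = x₀ * (x₀⁻¹ * w * x₀) := by rw [this]
        _ = w * x₀ := by group
    have hre : ∑ x : G, sgnOne (x⁻¹ * w * x * w⁻¹)
        = ∑ x : G, sgnOne ((x₀ * x)⁻¹ * w * (x₀ * x) * w⁻¹) :=
      (Equiv.sum_comp (Equiv.mulLeft x₀) (fun x => sgnOne (x⁻¹ * w * x * w⁻¹))).symm
    have hneg : ∑ x : G, sgnOne ((x₀ * x)⁻¹ * w * (x₀ * x) * w⁻¹)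
        = - ∑ x : G, sgnOne (x⁻¹ * w * x * w⁻¹) := by
      rw [← Finset.sum_neg_distrib]
      refine Finset.sum_congr rfl (fun x _ => ?_)
      rw [beta_mul Φ hΦ2 hΦc hcomm w x₀ x, hb0]; ring
    linarith

include hΦ2 hΦc hsq hcomm in
theorem eps_sum_sq [DecidablePred (· ∈ Subgroup.center G)] :
    (∑ x : G, sgnOne (x ^ 2)) ^ 2
      = (Fintype.card G : ℤ) * ∑ w : G, (if w ∈ Subgroup.center G then sgnOne (w ^ 2) else 0) := by
  classical
  rw [pow_two, Finset.sum_mul_sum]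
  have h1 : ∀ x : G, ∑ y : G, sgnOne (x ^ 2) * sgnOne (y ^ 2)
      = ∑ w : G, sgnOne (w ^ 2) * sgnOne (x⁻¹ * w * x * w⁻¹) := by
    intro x
    rw [← Equiv.sum_comp (Equiv.mulLeft x) (fun y => sgnOne (x ^ 2) * sgnOne (y ^ 2))]
    refine Finset.sum_congr rfl (fun w _ => ?_)
    simp only [Equiv.coe_mulLeft]
    rw [eps_mul Φ hΦ2 hΦc hsq hcomm x w]
    have := sgnOne_sq (x ^ 2)
    calc sgnOne (x ^ 2) * (sgnOne (x ^ 2) * sgnOne (w ^ 2) * sgnOne (x⁻¹ * w * x * w⁻¹))
        = (sgnOne (x ^ 2) * sgnOne (x ^ 2)) * sgnOne (w ^ 2) * sgnOne (x⁻¹ * w * x * w⁻¹) := by ring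
      _ = sgnOne (w ^ 2) * sgnOne (x⁻¹ * w * x * w⁻¹) := by rw [this, one_mul]
  rw [Finset.sum_congr rfl (fun x _ => h1 x), Finset.sum_comm, Finset.mul_sum]
  refine Finset.sum_congr rfl (fun w _ => ?_)
  rw [← Finset.mul_sum, beta_sum Φ hΦ2 hΦc hcomm w]
  split_ifs <;> ring

include hΦ2 hΦc hsq hcomm in
theorem center_sum [DecidablePred (· ∈ Subgroup.center G)] :
    (∑ w : G, (if w ∈ Subgroup.center G then sgnOne (w ^ 2) else 0) = 0) ∨
    ((∀ w ∈ Subgroup.center G, w ^ 2 = 1) ∧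
      ∑ w : G, (if w ∈ Subgroup.center G then sgnOne (w ^ 2) else 0)
        = (Nat.card (Subgroup.center G) : ℤ)) := by
  classical
  by_cases hall : ∀ w ∈ Subgroup.center G, w ^ 2 = 1
  · right
    refine ⟨hall, ?_⟩
    have : ∀ w : G, (if w ∈ Subgroup.center G then sgnOne (w ^ 2) else 0)
        = if w ∈ Subgroup.center G then (1 : ℤ) else 0 := by
      intro w
      split_ifs with hw
      · rw [hall w hw, sgnOne_one]
      · rfl
    rw [Finset.sum_congr rfl (fun w _ => this w), Finset.sum_boole]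
    rw [Nat.card_eq_fintype_card, Fintype.card_subtype]
  · left
    push Not at hall
    obtain ⟨w₀, hw₀, hw₀sq⟩ := hall
    have h0 : sgnOne (w₀ ^ 2) = -1 := (sgnOne_eq_neg_one_iff _).mpr hw₀sq
    have hre : ∑ w : G, (if w ∈ Subgroup.center G then sgnOne (w ^ 2) else 0)
        = ∑ w : G, (if w₀ * w ∈ Subgroup.center G then sgnOne ((w₀ * w) ^ 2) else 0) :=
      (Equiv.sum_comp (Equiv.mulLeft w₀)
        (fun w => if w ∈ Subgroup.center G then sgnOne (w ^ 2) else 0)).symm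
    have hneg : ∑ w : G, (if w₀ * w ∈ Subgroup.center G then sgnOne ((w₀ * w) ^ 2) else 0)
        = - ∑ w : G, (if w ∈ Subgroup.center G then sgnOne (w ^ 2) else 0) := by
      rw [← Finset.sum_neg_distrib]
      refine Finset.sum_congr rfl (fun w _ => ?_)
      have hiff : w₀ * w ∈ Subgroup.center G ↔ w ∈ Subgroup.center G :=
        (Subgroup.center G).mul_mem_cancel_left hw₀
      by_cases hw : w ∈ Subgroup.center G
      · rw [if_pos (hiff.mpr hw), if_pos hw, eps_mul Φ hΦ2 hΦc hsq hcomm w₀ w, h0]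
        have : w₀⁻¹ * w * w₀ * w⁻¹ = 1 := by
          have := Subgroup.mem_center_iff.mp hw w₀
          rw [mul_assoc w₀⁻¹, ← this]; group
        rw [this, sgnOne_one]; ring
      · rw [if_neg (fun h => hw (hiff.mp h)), if_neg hw]; simp
    linarith

end

theorem int_sq_eq_two_pow {S : ℤ} {m : ℕ} (h : S ^ 2 = 2 ^ m) :
    ∃ k : ℕ, m = 2 * k ∧ (S = 2 ^ k ∨ S = -2 ^ k) := by
  have hn : S.natAbs ^ 2 = 2 ^ m := by
    have : ((S.natAbs ^ 2 : ℕ) : ℤ) = ((2 ^ m : ℕ) : ℤ) := by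
      push_cast
      rw [sq_abs, h]
    exact_mod_cast this
  have hdvd : S.natAbs ∣ 2 ^ m := by
    rw [← hn]; exact dvd_pow_self _ (by norm_num)
  obtain ⟨k, _, hk⟩ := (Nat.dvd_prime_pow Nat.prime_two).mp hdvd
  refine ⟨k, ?_, ?_⟩
  · rw [hk, ← pow_mul] at hn
    have := Nat.pow_right_injective (le_refl 2) hn
    omega
  · rcases Int.natAbs_eq S with h1 | h1
    · left; rw [h1, hk]; push_cast; rfl
    · right; rw [h1, hk]; push_cast; rfl

theorem frattini_le_center_of_card_two {G : Type*} [Group G]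
    (hΦ : Nat.card (frattini G) = 2) : frattini G ≤ Subgroup.center G := by
  classical
  set Φ := frattini G with hΦdef
  haveI hΦn : Φ.Normal := Subgroup.normal_of_characteristic Φ
  obtain ⟨z, hz1, hzu⟩ := (Nat.card_eq_two_iff' (1 : Φ)).mp hΦ
  intro a ha
  rw [Subgroup.mem_center_iff]
  intro g
  by_cases h1 : a = 1
  · rw [h1, mul_one, one_mul]
  · have hmem : g * a * g⁻¹ ∈ Φ := hΦn.conj_mem a ha g
    have hne : g * a * g⁻¹ ≠ 1 := by
      intro h
      apply h1
      have : a = g⁻¹ * (g * a * g⁻¹) * g := by group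
      rw [this, h]; group
    have e1 : (⟨a, ha⟩ : Φ) = z := hzu ⟨a, ha⟩ (fun h' => h1 (by simpa using congrArg Subtype.val h'))
    have e2 : (⟨g * a * g⁻¹, hmem⟩ : Φ) = z :=
      hzu ⟨_, hmem⟩ (fun h' => hne (by simpa using congrArg Subtype.val h'))
    have : g * a * g⁻¹ = a := by
      have := congrArg Subtype.val (e2.trans e1.symm)
      simpa using this
    calc g * a = (g * a * g⁻¹) * g := by group
      _ = a * g := by rw [this]

/-- Core count: in a finite 2-group with Frattini subgroup of order 2 and index `2^d`, the number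
`j` of square roots of `1` is `2^d`, or `2^d ± 2^k'` with `d + ζ = 2 k' + 1`, `|Z(G)| = 2^ζ`,
`1 ≤ ζ ≤ d - 1`. -/
theorem frattini_two_count {G : Type*} [Group G] [Finite G] (hG : IsPGroup 2 G)
    (hΦ : Nat.card (frattini G) = 2) (d : ℕ) (hd : (frattini G).index = 2 ^ d) :
    Nat.card {x : G // x ^ 2 = 1} = 2 ^ d ∨
    ∃ ζ k' : ℕ, Nat.card (Subgroup.center G) = 2 ^ ζ ∧ 1 ≤ ζ ∧ ζ + 1 ≤ d ∧ d + ζ = 2 * k' + 1 ∧
      (Nat.card {x : G // x ^ 2 = 1} = 2 ^ d + 2 ^ k' ∨
        Nat.card {x : G // x ^ 2 = 1} + 2 ^ k' = 2 ^ d) := by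
  classical
  haveI : Fintype G := Fintype.ofFinite G
  haveI : Fact (Nat.Prime 2) := ⟨Nat.prime_two⟩
  set Φ := frattini G with hΦdef
  haveI hΦn : Φ.Normal := Subgroup.normal_of_characteristic Φ
  -- Φ central
  have hΦc : Φ ≤ Subgroup.center G := by
    obtain ⟨z, hz1, hzu⟩ := (Nat.card_eq_two_iff' (1 : Φ)).mp hΦ
    intro a ha
    rw [Subgroup.mem_center_iff]
    intro g
    by_cases h1 : a = 1
    · rw [h1, mul_one, one_mul]
    · have hmem : g * a * g⁻¹ ∈ Φ := hΦn.conj_mem a ha g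
      have hne : g * a * g⁻¹ ≠ 1 := by
        intro h
        apply h1
        have : a = g⁻¹ * (g * a * g⁻¹) * g := by group
        rw [this, h]; group
      have e1 : (⟨a, ha⟩ : Φ) = z := hzu ⟨a, ha⟩ (fun h' => h1 (by simpa using congrArg Subtype.val h'))
      have e2 : (⟨g * a * g⁻¹, hmem⟩ : Φ) = z :=
        hzu ⟨_, hmem⟩ (fun h' => hne (by simpa using congrArg Subtype.val h'))
      have : g * a * g⁻¹ = a := by
        have := congrArg Subtype.val (e2.trans e1.symm)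
        simpa using this
      calc g * a = (g * a * g⁻¹) * g := by group
        _ = a * g := by rw [this]
  have hsq : ∀ x : G, x ^ 2 ∈ Φ := fun x => Cfsg.Agent.Lib.Helper2.pow_mem_frattini hG x
  have hcomm : ∀ x y : G, x⁻¹ * y * x * y⁻¹ ∈ Φ := by
    intro x y
    apply Cfsg.Agent.Lib.Helper2.commutator_le_frattini hG
    have : x⁻¹ * y * x * y⁻¹ = ⁅x⁻¹, y⁆ := by rw [commutatorElement_def, inv_inv]
    rw [this, commutator_def]
    exact Subgroup.commutator_mem_commutator (Subgroup.mem_top _) (Subgroup.mem_top _)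
  -- cardinalities
  have hcardG : Fintype.card G = 2 ^ (d + 1) := by
    have := Subgroup.card_mul_index Φ
    rw [hΦ, hd, Nat.card_eq_fintype_card] at this
    rw [← this]; ring
  set j := Nat.card {x : G // x ^ 2 = 1} with hj
  have hjcard : j = (Finset.univ.filter (fun x : G => x ^ 2 = 1)).card := by
    rw [hj, Nat.card_eq_fintype_card, Fintype.card_subtype]
  have hS : ∑ x : G, sgnOne (x ^ 2) = 2 * (j : ℤ) - 2 ^ (d + 1) := by
    have h1 : ∀ x : G, sgnOne (x ^ 2) = 2 * (if x ^ 2 = 1 then (1 : ℤ) else 0) - 1 := by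
      intro x
      unfold sgnOne
      split_ifs <;> norm_num
    rw [Finset.sum_congr rfl (fun x _ => h1 x), Finset.sum_sub_distrib, ← Finset.mul_sum,
      Finset.sum_boole, Finset.sum_const, Finset.card_univ, hcardG, hjcard]
    simp
  have hsumsq := eps_sum_sq Φ hΦ hΦc hsq hcomm
  rw [hS, hcardG] at hsumsq
  rcases center_sum Φ hΦ hΦc hsq hcomm with hC | ⟨hall, hC⟩
  · left
    rw [hC, mul_zero] at hsumsq
    have h0 : 2 * (j : ℤ) - 2 ^ (d + 1) = 0 := by
      rcases sq_eq_zero_iff.mp hsumsq with h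
      exact h
    have h2 : (2 : ℤ) ^ (d + 1) = 2 * 2 ^ d := by rw [pow_succ]; ring
    have : (j : ℤ) = ((2 ^ d : ℕ) : ℤ) := by push_cast; linarith
    exact_mod_cast this
  · right
    obtain ⟨ζ, hζ⟩ := (IsPGroup.iff_card.mp (hG.to_subgroup (Subgroup.center G)))
    have hζ1 : 1 ≤ ζ := by
      by_contra hlt
      have h0 : ζ = 0 := by omega
      have hle := Subgroup.card_le_of_le hΦc
      rw [hΦ, hζ, h0] at hle
      norm_num at hle
    have hζle : ζ ≤ d + 1 := by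
      have hdvd := Subgroup.card_subgroup_dvd_card (Subgroup.center G)
      rw [hζ, Nat.card_eq_fintype_card, hcardG] at hdvd
      exact (Nat.pow_dvd_pow_iff_le_right (by norm_num)).mp hdvd
    have hζne : ζ ≠ d + 1 := by
      intro he
      have htop : Subgroup.center G = ⊤ := by
        apply Subgroup.eq_top_of_card_eq
        rw [hζ, he, Nat.card_eq_fintype_card, hcardG]
      have hbot : frattini G ≤ ⊥ := by
        apply Cfsg.Agent.Lib.Helper47.frattini_le_of_elementary_abelian_quotient 2 ⊥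
        · intro x y
          rw [Subgroup.mem_bot, commutatorElement_eq_one_iff_mul_comm]
          have hy : y ∈ Subgroup.center G := by rw [htop]; exact Subgroup.mem_top _
          exact (Subgroup.mem_center_iff.mp hy x)
        · intro x
          rw [Subgroup.mem_bot]
          exact hall x (by rw [htop]; exact Subgroup.mem_top _)
      have : Nat.card (frattini G) = 1 := by
        rw [le_bot_iff.mp hbot]; exact Subgroup.card_bot
      rw [← hΦdef, hΦ] at this
      norm_num at this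
    rw [hC, hζ] at hsumsq
    have hpow : (2 * (j : ℤ) - 2 ^ (d + 1)) ^ 2 = 2 ^ (d + 1 + ζ) := by
      rw [hsumsq]; push_cast; rw [← pow_add]
    obtain ⟨k, hk2, hkS⟩ := int_sq_eq_two_pow hpow
    have hk1 : 1 ≤ k := by omega
    obtain ⟨k', rfl⟩ := Nat.exists_eq_add_of_le hk1
    refine ⟨ζ, k', hζ, hζ1, by omega, by omega, ?_⟩
    have h2 : (2 : ℤ) ^ (d + 1) = 2 * ((2 ^ d : ℕ) : ℤ) := by push_cast; rw [pow_succ]; ring
    have h3 : (2 : ℤ) ^ (1 + k') = 2 * ((2 ^ k' : ℕ) : ℤ) := by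
      push_cast; rw [add_comm, pow_succ]; ring
    rw [h2, h3] at hkS
    rcases hkS with h | h
    · left
      have : (j : ℤ) = ((2 ^ d + 2 ^ k' : ℕ) : ℤ) := by push_cast; push_cast at h; linarith
      exact_mod_cast this
    · right
      have : ((j + 2 ^ k' : ℕ) : ℤ) = ((2 ^ d : ℕ) : ℤ) := by push_cast; push_cast at h; linarith
      exact_mod_cast this

end Cfsg.Agent.Lib.Helper55
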