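import Cfsg.Agent.Lib.Helper37.G2zDefs
import Cfsg.Agent.Lib.Helper36.ChevBN
import Cfsg.Agent.Lib.Helper36.ChevTwPerf

/-! # G2Z-COMM (helper55, for helper37's G2z mini-hive S4279): `L1 = ⟨X_6, X_5⟩` and `L2 = ⟨X_9, X_2⟩` commute elementwise -/

set_option autoImplicit false
set_option linter.unusedSectionVars false
set_option linter.unusedVariables false

namespace Cfsg.Agent.Lib.Helper37.G2z

open Cfsg Cfsg.Lie Cfsg.Agent.Lib.Helper36 Cfsg.Agent.Lib.Helper20.G2c Cfsg.Agent.Lib.Helper18

variable (F : Type*) [Field F]

/-- root subgroups of roots with empty commutator formula commute elementwise -/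
theorem g2zcomm_root (r s : ℕ) (hr : r < chevG2.nroots) (hs : s < chevG2.nroots) (hrs : s ≠ r) (hneg : s ≠ chevG2.neg r)
    (hterms : chevG2.commTerms r s = []) (x : GL chevG2.Idx F) (hx : x ∈ chevG2.rootSubgroup F r)
    (y : GL chevG2.Idx F) (hy : y ∈ chevG2.rootSubgroup F s) : Commute x y := by
  obtain ⟨t, rfl⟩ := (mem_rootSubgroup_iff chevG2 hG2 F r x).1 hx
  obtain ⟨u, rfl⟩ := (mem_rootSubgroup_iff chevG2 hG2 F s y).1 hy
  exact xGL_commute_of_nil chevG2 hG2 F r s hr hs hrs hneg hterms t u

/-- G2Z-COMM -/
theorem comm_L (x : GL chevG2.Idx F) (hx : x ∈ L1 F) (y : GL chevG2.Idx F) (hy : y ∈ L2 F) : x * y = y * x := by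
  -- every element of `L2` commutes with `X_6` and `X_5`
  have h2 : ∀ y ∈ L2 F, ∀ r, (r = 6 ∨ r = 5) → ∀ x ∈ chevG2.rootSubgroup F r, Commute x y := by
    intro y hy r hr x hx
    unfold L2 at hy
    rw [Subgroup.sup_eq_closure] at hy
    induction hy using Subgroup.closure_induction with
    | mem z hz =>
      rcases hz with hz | hz
      · rcases hr with rfl | rfl
        · exact g2zcomm_root F 6 9 (by decide) (by decide) (by decide) (by decide) (by decide) x hx z hz
        · exact g2zcomm_root F 5 9 (by decide) (by decide) (by decide) (by decide) (by decide) x hx z hz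
      · rcases hr with rfl | rfl
        · exact g2zcomm_root F 6 2 (by decide) (by decide) (by decide) (by decide) (by decide) x hx z hz
        · exact g2zcomm_root F 5 2 (by decide) (by decide) (by decide) (by decide) (by decide) x hx z hz
    | one => exact Commute.one_right x
    | mul a b _ _ iha ihb => exact iha.mul_right ihb
    | inv a _ iha => exact iha.inv_right
  have h1 : Commute x y := by
    unfold L1 at hx
    rw [Subgroup.sup_eq_closure] at hx
    induction hx using Subgroup.closure_induction with
    | mem z hz =>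
      rcases hz with hz | hz
      · exact h2 y hy 6 (Or.inl rfl) z hz
      · exact h2 y hy 5 (Or.inr rfl) z hz
    | one => exact Commute.one_left y
    | mul a b _ _ iha ihb => exact iha.mul_left ihb
    | inv a _ iha => exact iha.inv_left
  exact h1.eq

end Cfsg.Agent.Lib.Helper37.G2z
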