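import Cfsg.Agent.S0007
import Cfsg.Agent.Lib.Helper3.Burnside
import Cfsg.Agent.Lib.Helper24.SolvableMin
import Cfsg.Agent.Lib.Helper55.Cores

set_option autoImplicit false
set_option linter.style.haveILetI false

namespace Cfsg.Agent.Lib.Helper55

universe u

/-- `G` has a `p`-complement for every prime `p` (flexible form: a subgroup of order prime to `p`
and index a power of `p`). -/
def HasCompls (G : Type u) [Group G] : Prop :=
  ∀ p : ℕ, p.Prime → ∃ H : Subgroup G, (Nat.card H).Coprime p ∧ ∃ k : ℕ, H.index = p ^ k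

theorem HasCompls.subgroup {G : Type u} [Group G] [Finite G] (hG : HasCompls G)
    (H₀ : Subgroup G) (p₀ k : ℕ) (hp₀ : p₀.Prime) (hcop : (Nat.card H₀).Coprime p₀)
    (hidx : H₀.index = p₀ ^ k) : HasCompls ↥H₀ := by
  intro r hr
  by_cases hrp : r = p₀
  · refine ⟨⊤, ?_, 0, ?_⟩
    · rw [Subgroup.card_top, hrp]; exact hcop
    · rw [Subgroup.index_top, pow_zero]
  · obtain ⟨K, hKcop, j, hKj⟩ := hG r hr
    refine ⟨K.subgroupOf H₀, ?_, j, ?_⟩
    · exact Nat.Coprime.coprime_dvd_left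
        (Subgroup.card_comap_dvd_of_injective K H₀.subtype H₀.subtype_injective) hKcop
    · have hc : K.index.Coprime H₀.index := by
        rw [hKj, hidx]
        exact Nat.Coprime.pow _ _ ((Nat.coprime_primes hr hp₀).mpr hrp)
      have h1 := (Cfsg.Agent.S0007.result K H₀ hc).1
      have h2 := Subgroup.relIndex_mul_index (H := K ⊓ H₀) (K := H₀) inf_le_right
      rw [Subgroup.inf_relIndex_right, h1] at h2
      have h3 : K.relIndex H₀ = K.index :=
        Nat.eq_of_mul_eq_mul_right (Nat.pos_of_ne_zero Subgroup.index_ne_zero_of_finite) h2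
      show K.relIndex H₀ = r ^ j
      rw [h3, hKj]

theorem HasCompls.quotient {G : Type u} [Group G] [Finite G] (hG : HasCompls G)
    (M : Subgroup G) [M.Normal] : HasCompls (G ⧸ M) := by
  intro p hp
  obtain ⟨H, hHcop, k, hHk⟩ := hG p hp
  refine ⟨H.map (QuotientGroup.mk' M), ?_, ?_⟩
  · exact Nat.Coprime.coprime_dvd_left (Subgroup.card_map_dvd _ _) hHcop
  · have hdvd := Subgroup.index_map_dvd H (QuotientGroup.mk'_surjective M)
    rw [hHk] at hdvd
    obtain ⟨j, -, hj⟩ := (Nat.dvd_prime_pow hp).mp hdvd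
    exact ⟨j, hj⟩

/-- **P. Hall's converse theorem** (flexible form), by induction on the order. -/
theorem isSolvable_of_hasCompls : ∀ (n : ℕ) (G : Type u) [Group G] [Finite G],
    Nat.card G = n → HasCompls G → Group.IsSolvable G := by
  intro n
  induction n using Nat.strong_induction_on with
  | _ n ih =>
  intro G _ _ hn hG
  by_cases h1 : n = 1
  · haveI : Subsingleton G := (Nat.card_eq_one_iff_unique.mp (hn.trans h1)).1
    infer_instance
  set p₁ := n.minFac with hp₁def
  have hp₁ : p₁.Prime := Nat.minFac_prime h1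
  have hp₁n : p₁ ∣ n := Nat.minFac_dvd n
  obtain ⟨H, hHcop, k, hHk⟩ := hG p₁ hp₁
  have hHcard : Nat.card H * p₁ ^ k = n := by rw [← hHk, ← hn]; exact H.card_mul_index
  have hk : k ≠ 0 := by
    intro h0
    rw [h0, pow_zero, mul_one] at hHcard
    rw [hHcard] at hHcop
    have := Nat.Coprime.eq_one_of_dvd hHcop.symm hp₁n
    exact hp₁.one_lt.ne' this
  have hHpos : 0 < Nat.card H := Nat.card_pos
  have hHlt : Nat.card H < n := by
    rw [← hHcard]
    have : 1 < p₁ ^ k := Nat.one_lt_pow hk hp₁.one_lt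
    nlinarith
  have hHsolv : Group.IsSolvable H :=
    ih _ hHlt H rfl (hG.subgroup H p₁ k hp₁ hHcop hHk)
  by_cases hH1 : Nat.card H = 1
  · -- `G` is a `p₁`-group
    apply Cfsg.Agent.Lib.Helper3.isSolvable_of_two_primes_aux p₁ p₁ hp₁ hp₁ n G hn
    intro s hs hsn
    left
    rw [hn, ← hHcard, hH1, one_mul] at hsn
    exact (Nat.prime_dvd_prime_iff_eq hs hp₁).mp (hs.dvd_of_dvd_pow hsn)
  -- a nontrivial normal r-subgroup of H
  haveI : Nontrivial H := by
    rw [← Finite.one_lt_card_iff_nontrivial]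
    omega
  obtain ⟨r, hr, N, hNnormal, hN1, hNp⟩ :=
    Cfsg.Agent.Lib.Helper24.exists_normal_pSubgroup_of_solvable H
  by_cases h2 : ∀ s : ℕ, s.Prime → s ∣ Nat.card G → s = p₁ ∨ s = r
  · exact Cfsg.Agent.Lib.Helper3.isSolvable_of_two_primes_aux p₁ r hp₁ hr n G hn h2
  push Not at h2
  obtain ⟨s, hs, hsn, hsp, hsr⟩ := h2
  obtain ⟨K, hKcop, j, hKj⟩ := hG s hs
  have hKcard : Nat.card K * s ^ j = n := by rw [← hKj, ← hn]; exact K.card_mul_index
  have hj : j ≠ 0 := by
    intro h0
    rw [h0, pow_zero, mul_one] at hKcard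
    rw [hKcard] at hKcop
    rw [hn] at hsn
    have := Nat.Coprime.eq_one_of_dvd hKcop.symm hsn
    exact hs.one_lt.ne' this
  have hKlt : Nat.card K < n := by
    rw [← hKcard]
    have : 1 < s ^ j := Nat.one_lt_pow hj hs.one_lt
    have : 0 < Nat.card K := Nat.card_pos
    nlinarith
  have hKsolv : Group.IsSolvable K :=
    ih _ hKlt K rfl (hG.subgroup K s j hs hKcop hKj)
  -- N ≤ K (inside H)
  have hLidx : (K.subgroupOf H).index = s ^ j := by
    have hc : K.index.Coprime H.index := by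
      rw [hKj, hHk]
      exact Nat.Coprime.pow _ _ ((Nat.coprime_primes hs hp₁).mpr hsp)
    have h1 := (Cfsg.Agent.S0007.result K H hc).1
    have h2 := Subgroup.relIndex_mul_index (H := K ⊓ H) (K := H) inf_le_right
    rw [Subgroup.inf_relIndex_right, h1] at h2
    have h3 : K.relIndex H = K.index :=
      Nat.eq_of_mul_eq_mul_right (Nat.pos_of_ne_zero Subgroup.index_ne_zero_of_finite) h2
    show K.relIndex H = s ^ j
    rw [h3, hKj]
  have hNL : N ≤ K.subgroupOf H := by
    set L := K.subgroupOf H with hL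
    set T := L ⊔ N with hT
    have hdvd1 : Nat.card T ∣ Nat.card L * Nat.card N := card_sup_dvd_mul L N
    have hLT : L ≤ T := le_sup_left
    have h3 : Nat.card L * L.relIndex T = Nat.card T := card_mul_relIndex_eq hLT
    have h4 : L.relIndex T ∣ Nat.card N := by
      rw [← h3] at hdvd1
      exact Nat.dvd_of_mul_dvd_mul_left Nat.card_pos hdvd1
    have h5 : L.relIndex T ∣ s ^ j := by
      rw [← hLidx]
      exact Subgroup.relIndex_dvd_index_of_le hLT
    haveI : Fact r.Prime := ⟨hr⟩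
    obtain ⟨e, he⟩ := IsPGroup.iff_card.mp hNp
    rw [he] at h4
    have hcop : (r ^ e).Coprime (s ^ j) :=
      Nat.Coprime.pow _ _ ((Nat.coprime_primes hr hs).mpr (Ne.symm hsr))
    have h6 : L.relIndex T = 1 := Nat.eq_one_of_dvd_coprimes hcop h4 h5
    have h7 : T ≤ L := Subgroup.relIndex_eq_one.mp h6
    exact le_sup_right.trans h7
  -- the normal closure of N in G
  set N₀ : Subgroup G := N.map H.subtype with hN₀
  have hN₀K : N₀ ≤ K := by
    rintro _ ⟨x, hx, rfl⟩
    exact Subgroup.mem_subgroupOf.mp (hNL hx)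
  have hN₀H : ∀ h ∈ H, ∀ x ∈ N₀, h * x * h⁻¹ ∈ N₀ := by
    rintro h hh _ ⟨x, hx, rfl⟩
    exact ⟨⟨h, hh⟩ * x * ⟨h, hh⟩⁻¹, hNnormal.conj_mem x hx ⟨h, hh⟩, rfl⟩
  have hN₀1 : N₀ ≠ ⊥ := by
    intro h
    apply hN1
    rw [hN₀] at h
    exact (Subgroup.map_eq_bot_iff_of_injective N H.subtype_injective).mp h
  set M := Subgroup.normalClosure (N₀ : Set G) with hM
  have hMK : M ≤ K := by
    rw [hM, Subgroup.normalClosure, Subgroup.closure_le]
    intro y hy
    obtain ⟨x, hx, hxy⟩ := Group.mem_conjugatesOfSet_iff.mp hy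
    obtain ⟨g, rfl⟩ := isConj_iff.mp hxy
    have hc : K.index.Coprime H.index := by
      rw [hKj, hHk]
      exact Nat.Coprime.pow _ _ ((Nat.coprime_primes hs hp₁).mpr hsp)
    obtain ⟨a, ha, b, hb, rfl⟩ := (Cfsg.Agent.S0007.result K H hc).2 g
    have h1 : b * x * b⁻¹ ∈ N₀ := hN₀H b hb x hx
    have h2 : a * b * x * (a * b)⁻¹ = a * (b * x * b⁻¹) * a⁻¹ := by group
    show a * b * x * (a * b)⁻¹ ∈ K
    rw [h2]
    exact K.mul_mem (K.mul_mem ha (hN₀K h1)) (K.inv_mem ha)
  haveI : M.Normal := by rw [hM]; infer_instance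
  have hM1 : M ≠ ⊥ := by
    intro h
    apply hN₀1
    rw [eq_bot_iff, ← h, hM]
    exact Subgroup.le_normalClosure
  have hMsolv : Group.IsSolvable M := by
    haveI := hKsolv
    exact solvable_of_solvable_injective (Subgroup.inclusion_injective hMK)
  have hQlt : Nat.card (G ⧸ M) < n := by
    have h1 : Nat.card M * Nat.card (G ⧸ M) = n := by
      rw [← hn, ← Subgroup.index_eq_card]; exact M.card_mul_index
    have h2 : 1 < Nat.card M := by
      rw [Subgroup.one_lt_card_iff_ne_bot]; exact hM1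
    have h3 : 0 < Nat.card (G ⧸ M) := Nat.card_pos
    nlinarith
  have hQsolv : Group.IsSolvable (G ⧸ M) := ih _ hQlt (G ⧸ M) rfl (hG.quotient M)
  exact solvable_of_ker_le_range M.subtype (QuotientGroup.mk' M)
    (by rw [QuotientGroup.ker_mk', Subgroup.range_subtype])

end Cfsg.Agent.Lib.Helper55
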