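import Mathlib

set_option autoImplicit false
set_option linter.style.haveILetI false
set_option linter.unusedSectionVars false

namespace Cfsg.Agent.Lib.Helper55

/-- An involutive endomorphism of a nontrivial finite `p`-group either fixes or inverts some
element of order `p`. -/
theorem exists_fixed_or_inverted {K : Type*} [Group K] [Finite K] (p : ℕ) [Fact p.Prime]
    (hK : IsPGroup p K) [Nontrivial K] (σ : K →* K) (hσ : Function.Involutive σ) :
    ∃ u : K, orderOf u = p ∧ (σ u = u ∨ σ u = u⁻¹) := by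
  classical
  by_cases hfpf : MonoidHom.FixedPointFree σ
  · have hinv := hfpf.coe_eq_inv_of_involutive hσ
    haveI : Fintype K := Fintype.ofFinite K
    have hdvd : p ∣ Fintype.card K := by
      obtain ⟨n, hn⟩ := IsPGroup.iff_card.mp hK
      rw [← Nat.card_eq_fintype_card, hn]
      rcases Nat.eq_zero_or_pos n with h0 | h0
      · exfalso
        rw [h0, pow_zero] at hn
        have := Finite.one_lt_card (α := K)
        omega
      · exact dvd_pow_self p h0.ne'
    obtain ⟨u, hu⟩ := exists_prime_orderOf_dvd_card p hdvd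
    exact ⟨u, hu, Or.inr (by rw [hinv])⟩
  · unfold MonoidHom.FixedPointFree at hfpf
    push Not at hfpf
    obtain ⟨g, hg, hg1⟩ := hfpf
    obtain ⟨k, hk⟩ := (IsPGroup.iff_orderOf.mp hK) g
    have hk0 : k ≠ 0 := by
      rintro rfl
      rw [pow_zero, orderOf_eq_one_iff] at hk
      exact hg1 hk
    obtain ⟨j, rfl⟩ := Nat.exists_eq_succ_of_ne_zero hk0
    refine ⟨g ^ p ^ j, ?_, Or.inl (by rw [map_pow, hg])⟩
    rw [orderOf_pow' g (pow_ne_zero j (Fact.out : p.Prime).ne_zero), hk, pow_succ]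
    have : Nat.gcd (p ^ j * p) (p ^ j) = p ^ j := Nat.gcd_eq_right (dvd_mul_right _ _)
    rw [this, Nat.mul_div_cancel_left _ (pow_pos (Fact.out : p.Prime).pos j)]

variable {G : Type*} [Group G] [Finite G]

/-- If an involution `y` normalizes `p`-subgroups `Q < M` with `M ≤ N(Q)`, then some `x ∈ M ∖ Q` with
`x ^ p ∈ Q` is centralized or inverted by `y` modulo `Q`. -/
theorem exists_centralized_or_inverted_mod (p : ℕ) [Fact p.Prime] (Q M : Subgroup G)
    (hQM : Q ≤ M) (hne : Q ≠ M) (hMN : M ≤ Subgroup.normalizer (Q : Set G)) (hM : IsPGroup p M)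
    (y : G) (hy2 : y * y = 1) (hyQ : ∀ q ∈ Q, y * q * y⁻¹ ∈ Q) (hyM : ∀ m ∈ M, y * m * y⁻¹ ∈ M) :
    ∃ x ∈ M, x ∉ Q ∧ x ^ p ∈ Q ∧ (y * x * y⁻¹ * x⁻¹ ∈ Q ∨ y * x * y⁻¹ * x ∈ Q) := by
  classical
  let τ : ↥M →* ↥M := MonoidHom.mk' (fun m => ⟨y * m * y⁻¹, hyM m m.2⟩) (by
    intro a b
    apply Subtype.ext
    simp only [Subgroup.coe_mul]
    group)
  haveI hn : (Q.subgroupOf M).Normal := Subgroup.normal_subgroupOf_of_le_normalizer hMN
  have hle : Q.subgroupOf M ≤ (Q.subgroupOf M).comap τ := by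
    intro m hm
    rw [Subgroup.mem_comap, Subgroup.mem_subgroupOf]
    exact hyQ _ (Subgroup.mem_subgroupOf.mp hm)
  let σ : (↥M ⧸ Q.subgroupOf M) →* (↥M ⧸ Q.subgroupOf M) :=
    QuotientGroup.map (Q.subgroupOf M) (Q.subgroupOf M) τ hle
  have hyinv : y⁻¹ = y := inv_eq_of_mul_eq_one_left hy2
  have hσ : Function.Involutive σ := by
    intro k
    obtain ⟨m, rfl⟩ := QuotientGroup.mk_surjective k
    show QuotientGroup.map _ _ τ hle (QuotientGroup.map _ _ τ hle (QuotientGroup.mk m)) = _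
    rw [QuotientGroup.map_mk, QuotientGroup.map_mk]
    congr 1
    apply Subtype.ext
    show y * (y * (m : G) * y⁻¹) * y⁻¹ = m
    rw [hyinv]
    calc y * (y * (m : G) * y) * y = (y * y) * (m : G) * (y * y) := by group
      _ = m := by rw [hy2, one_mul, mul_one]
  have hKp : IsPGroup p (↥M ⧸ Q.subgroupOf M) := hM.to_quotient _
  haveI : Nontrivial (↥M ⧸ Q.subgroupOf M) := by
    rw [← not_subsingleton_iff_nontrivial]
    intro hs
    apply hne
    apply le_antisymm hQM
    intro m hm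
    have : (QuotientGroup.mk (⟨m, hm⟩ : M) : ↥M ⧸ Q.subgroupOf M) = 1 := Subsingleton.elim _ _
    rw [QuotientGroup.eq_one_iff, Subgroup.mem_subgroupOf] at this
    exact this
  obtain ⟨u, hu, hfix⟩ := exists_fixed_or_inverted p hKp σ hσ
  obtain ⟨m, rfl⟩ := QuotientGroup.mk_surjective u
  have hmN : (m : G) ∈ Subgroup.normalizer (Q : Set G) := hMN m.2
  refine ⟨m, m.2, ?_, ?_, ?_⟩
  · intro hmQ
    have : (QuotientGroup.mk m : ↥M ⧸ Q.subgroupOf M) = 1 := by
      rw [QuotientGroup.eq_one_iff, Subgroup.mem_subgroupOf]; exact hmQ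
    rw [this, orderOf_one] at hu
    exact (Fact.out : p.Prime).ne_one hu.symm
  · have h1 : (QuotientGroup.mk m : ↥M ⧸ Q.subgroupOf M) ^ p = 1 := by
      rw [← hu]; exact pow_orderOf_eq_one _
    rw [← QuotientGroup.mk_pow, QuotientGroup.eq_one_iff, Subgroup.mem_subgroupOf] at h1
    simpa using h1
  · have hσm : σ (QuotientGroup.mk m) = QuotientGroup.mk (τ m) := QuotientGroup.map_mk _ _ _ _ _
    rcases hfix with h | h
    · left
      rw [hσm, QuotientGroup.eq, Subgroup.mem_subgroupOf] at h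
      have h1 : (y * (m : G) * y⁻¹)⁻¹ * (m : G) ∈ Q := h
      have h2 : (m : G)⁻¹ * (y * (m : G) * y⁻¹) ∈ Q := by
        have := Q.inv_mem h1
        simpa [mul_assoc] using this
      have h3 := (Subgroup.mem_normalizer_iff.mp hmN _).mp h2
      have e : (m : G) * ((m : G)⁻¹ * (y * (m : G) * y⁻¹)) * (m : G)⁻¹ =
          y * (m : G) * y⁻¹ * (m : G)⁻¹ := by group
      rw [e] at h3
      exact h3
    · right
      rw [hσm, ← QuotientGroup.mk_inv, QuotientGroup.eq, Subgroup.mem_subgroupOf] at h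
      have h1 : (y * (m : G) * y⁻¹)⁻¹ * (m : G)⁻¹ ∈ Q := h
      have h2 : (m : G) * (y * (m : G) * y⁻¹) ∈ Q := by
        have := Q.inv_mem h1
        simpa [mul_assoc] using this
      have h3 := (Subgroup.mem_normalizer_iff''.mp hmN _).mp h2
      have e : (m : G)⁻¹ * ((m : G) * (y * (m : G) * y⁻¹)) * (m : G) =
          y * (m : G) * y⁻¹ * (m : G) := by group
      rw [e] at h3
      exact h3

end Cfsg.Agent.Lib.Helper55
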