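import Mathlib
import Cfsg.Agent.Lib.Helper2.FixedPoints
import Cfsg.Agent.Lib.Helper55.InvolSylow
import Cfsg.Agent.Lib.Helper55.TISylow

set_option autoImplicit false
set_option linter.style.haveILetI false
open scoped Pointwise

namespace Cfsg.Agent.Lib.Helper55.Ord7920

open Subgroup

variable {X : Type*} [Group X] [Finite X]

/-- Frattini divisibility: if `M` is normal, `p ∣ |X|`, `p ∤ |M|` and `Q` is a Sylow subgroup of
`M`, then `p ∣ |N_X(Q)|`. -/
theorem dvd_card_normalizer_of_frattini {p q : ℕ} [Fact q.Prime] (hp : p.Prime)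
    (M : Subgroup X) [M.Normal] (Q : Sylow q M) (hpX : p ∣ Nat.card X) (hpM : ¬ p ∣ Nat.card M) :
    p ∣ Nat.card (normalizer (((Q : Subgroup M).map M.subtype : Subgroup X) : Set X)) := by
  have h1 := Sylow.normalizer_sup_eq_top Q
  set NQ := normalizer (((Q : Subgroup M).map M.subtype : Subgroup X) : Set X) with hNQ
  have h2 : M.relIndex (NQ ⊔ M) = M.relIndex NQ := relIndex_sup_right NQ M
  rw [h1, relIndex_top_right] at h2
  have h3 : Nat.card M * M.index = Nat.card X := M.card_mul_index
  have h4 : p ∣ M.index := by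
    rw [← h3] at hpX
    exact (hp.dvd_mul.mp hpX).resolve_left hpM
  rw [h2] at h4
  exact h4.trans (relIndex_dvd_card M NQ)

/-- If `y` has prime order `p` and `p ^ 2 ∤ |X|`, every subgroup of order divisible by `p`
contains a conjugate of `y`. -/
theorem exists_conj_mem_of_dvd_card {p : ℕ} [Fact p.Prime] (y : X) (hy : orderOf y = p)
    (hp2 : ¬ p ^ 2 ∣ Nat.card X) (H : Subgroup X) (hH : p ∣ Nat.card H) :
    ∃ g : X, g * y * g⁻¹ ∈ H := by
  have hp : p.Prime := Fact.out
  obtain ⟨w, hw⟩ := exists_prime_orderOf_dvd_card' p hH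
  have hw' : orderOf (w : X) = p := by rw [Subgroup.orderOf_coe]; exact hw
  -- Sylow subgroups containing them
  have hzy : IsPGroup p (zpowers y) := IsPGroup.of_card (n := 1) (by rw [Nat.card_zpowers, hy, pow_one])
  have hzw : IsPGroup p (zpowers (w : X)) :=
    IsPGroup.of_card (n := 1) (by rw [Nat.card_zpowers, hw', pow_one])
  obtain ⟨P, hP⟩ := hzy.exists_le_sylow
  obtain ⟨P', hP'⟩ := hzw.exists_le_sylow
  have hcardP : ∀ R : Sylow p X, Nat.card (R : Subgroup X) = p := by
    intro R
    rw [Sylow.card_eq_multiplicity]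
    have h1 : 1 ≤ (Nat.card X).factorization p := by
      rw [← hp.pow_dvd_iff_le_factorization Nat.card_pos.ne', pow_one]
      rw [← hy]; exact orderOf_dvd_natCard y
    have h2 : ¬ 2 ≤ (Nat.card X).factorization p := by
      rw [← hp.pow_dvd_iff_le_factorization Nat.card_pos.ne']
      exact hp2
    have : (Nat.card X).factorization p = 1 := by omega
    rw [this, pow_one]
  have hPeq : (P : Subgroup X) = zpowers y := by
    symm
    apply Subgroup.eq_of_le_of_card_ge hP
    rw [hcardP P, Nat.card_zpowers, hy]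
  have hP'eq : (P' : Subgroup X) = zpowers (w : X) := by
    symm
    apply Subgroup.eq_of_le_of_card_ge hP'
    rw [hcardP P', Nat.card_zpowers, hw']
  obtain ⟨g, hg⟩ := MulAction.exists_smul_eq X P P'
  refine ⟨g, ?_⟩
  have h1 : g * y * g⁻¹ ∈ ((g • P : Sylow p X) : Subgroup X) := by
    rw [Sylow.coe_subgroup_smul]
    have : y ∈ (P : Subgroup X) := by rw [hPeq]; exact mem_zpowers y
    have h2 := Subgroup.smul_mem_pointwise_smul y (MulAut.conj g) (P : Subgroup X) this
    rwa [MulAut.smul_def, MulAut.conj_apply] at h2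
  rw [hg, hP'eq] at h1
  have hle : zpowers (w : X) ≤ H := (zpowers_le).mpr w.2
  exact hle h1


/-- Conjugating a normalizing relation: if `g y g⁻¹` normalizes `Q` then `y` normalizes
`g⁻¹ Q g`. -/
theorem mem_normalizer_conj_inv (Q : Subgroup X) (g y : X)
    (h : g * y * g⁻¹ ∈ normalizer (Q : Set X)) :
    y ∈ normalizer ((MulAut.conj g⁻¹ • Q : Subgroup X) : Set X) := by
  apply mem_normalizer_of_conj_mem
  intro x hx
  rw [mem_conj_smul_iff, inv_inv] at hx ⊢
  have h1 := (mem_normalizer_iff.mp h (g * x * g⁻¹)).mp hx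
  have e : g * (y * x * y⁻¹) * g⁻¹ = g * y * g⁻¹ * (g * x * g⁻¹) * (g * y * g⁻¹)⁻¹ := by group
  rw [e]; exact h1

/-- Coprime action: an element `y` of prime order `p` generating a Sylow `p`-subgroup centralizes
every normal `p'`-subgroup `M` all of whose Sylow orders `q ^ a` satisfy: the only divisor of
`q ^ a` congruent to `q ^ a` mod `p` is `q ^ a` itself. -/
theorem le_centralizer_of_sylow_cond {p : ℕ} [Fact p.Prime] (y : X) (hy : orderOf y = p)
    (hp2 : ¬ p ^ 2 ∣ Nat.card X) (M : Subgroup X) [M.Normal] (hpM : ¬ p ∣ Nat.card M)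
    (h : ∀ q : ℕ, q.Prime → ∀ d : ℕ, d ∣ q ^ (Nat.card M).factorization q →
      q ^ (Nat.card M).factorization q ≡ d [MOD p] → d = q ^ (Nat.card M).factorization q) :
    M ≤ centralizer {y} := by
  have hp : p.Prime := Fact.out
  have hpX : p ∣ Nat.card X := by rw [← hy]; exact orderOf_dvd_natCard y
  set D : Subgroup X := M ⊓ centralizer {y} with hD
  have hM0 : Nat.card M ≠ 0 := Nat.card_pos.ne'
  have hD0 : Nat.card D ≠ 0 := Nat.card_pos.ne'
  have hdvd : Nat.card M ∣ Nat.card D := by
    rw [← Nat.factorization_le_iff_dvd hM0 hD0]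
    intro q
    by_cases hq : q.Prime
    · haveI : Fact q.Prime := ⟨hq⟩
      rw [← hq.pow_dvd_iff_le_factorization hD0]
      obtain ⟨Q⟩ : Nonempty (Sylow q M) := inferInstance
      have hfr := dvd_card_normalizer_of_frattini hp M Q hpX hpM
      obtain ⟨g, hg⟩ := exists_conj_mem_of_dvd_card y hy hp2 _ hfr
      set Q' : Subgroup X := (Q : Subgroup M).map M.subtype with hQ'
      have hcQ' : Nat.card Q' = q ^ (Nat.card M).factorization q := by
        rw [hQ', Subgroup.card_map_of_injective M.subtype_injective, Sylow.card_eq_multiplicity]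
      set Q'' : Subgroup X := MulAut.conj g⁻¹ • Q' with hQ''
      have hcQ'' : Nat.card Q'' = q ^ (Nat.card M).factorization q := by
        rw [hQ'', ← hcQ']
        exact Nat.card_congr (Subgroup.equivSMul (MulAut.conj g⁻¹) Q').symm.toEquiv
      have hyN : y ∈ normalizer (Q'' : Set X) := mem_normalizer_conj_inv Q' g y hg
      have hQ''M : Q'' ≤ M := by
        intro x hx
        rw [hQ'', mem_conj_smul_iff, inv_inv] at hx
        have h1 : g * x * g⁻¹ ∈ M := by
          rw [hQ'] at hx
          exact (Subgroup.map_subtype_le _) hx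
        have h2 := (inferInstance : M.Normal).conj_mem _ h1 g⁻¹
        have e : g⁻¹ * (g * x * g⁻¹) * g⁻¹⁻¹ = x := by group
        rwa [e] at h2
      have hmod := Cfsg.Agent.Lib.Helper2.card_modEq_card_inf_centralizer Q'' y hyN (r := p) (k := 1)
        (by rw [pow_one, ← hy, pow_orderOf_eq_one])
      have hdd : Nat.card (Q'' ⊓ centralizer {y} : Subgroup X) ∣ Nat.card Q'' :=
        Subgroup.card_dvd_of_le inf_le_left
      rw [hcQ''] at hmod hdd
      have heq := h q hq _ hdd hmod
      have hle : Q'' ≤ centralizer {y} := by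
        have : Q'' ⊓ centralizer {y} = Q'' := by
          apply Subgroup.eq_of_le_of_card_ge inf_le_left
          rw [heq, hcQ'']
        rw [← this]; exact inf_le_right
      have hQD : Q'' ≤ D := le_inf hQ''M hle
      rw [← hcQ'']
      exact Subgroup.card_dvd_of_le hQD
    · rw [Nat.factorization_eq_zero_of_not_prime _ hq]
      exact Nat.zero_le _
  have hDM : D = M := by
    apply Subgroup.eq_of_le_of_card_ge inf_le_left
    exact Nat.le_of_dvd Nat.card_pos hdvd
  rw [← hDM]; exact inf_le_right

/-- Producing an element of order `p * q`: `C` normal, `p ∣ |X|`, `p ∤ |C|`, and the Sylow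
`q`-subgroups of `C` have order not congruent to `1` mod `p`. -/
theorem exists_orderOf_eq_mul {p q : ℕ} [Fact p.Prime] [Fact q.Prime] (hpq : p ≠ q)
    (C : Subgroup X) [C.Normal] (hpX : p ∣ Nat.card X) (hpC : ¬ p ∣ Nat.card C)
    (hmod : ¬ (q ^ (Nat.card C).factorization q ≡ 1 [MOD p])) :
    ∃ g : X, orderOf g = p * q := by
  have hp : p.Prime := Fact.out
  have hq : q.Prime := Fact.out
  obtain ⟨Q⟩ : Nonempty (Sylow q C) := inferInstance
  have hfr := dvd_card_normalizer_of_frattini hp C Q hpX hpC
  set Q' : Subgroup X := (Q : Subgroup C).map C.subtype with hQ'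
  have hcQ' : Nat.card Q' = q ^ (Nat.card C).factorization q := by
    rw [hQ', Subgroup.card_map_of_injective C.subtype_injective, Sylow.card_eq_multiplicity]
  obtain ⟨t, ht⟩ := exists_prime_orderOf_dvd_card' p hfr
  have ht' : orderOf (t : X) = p := by rw [Subgroup.orderOf_coe]; exact ht
  have hm := Cfsg.Agent.Lib.Helper2.card_modEq_card_inf_centralizer Q' (t : X) t.2 (r := p) (k := 1)
    (by rw [pow_one, ← ht', pow_orderOf_eq_one])
  rw [hcQ'] at hm
  set E : Subgroup X := Q' ⊓ centralizer {(t : X)} with hE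
  have hE1 : Nat.card E ≠ 1 := by
    intro h1
    rw [h1] at hm
    exact hmod hm
  have hEq : IsPGroup q E := by
    have : IsPGroup q Q' := IsPGroup.of_card hcQ'
    exact this.to_le inf_le_left
  have hqE : q ∣ Nat.card E := by
    obtain ⟨n, hn⟩ := (IsPGroup.iff_card.mp hEq)
    rw [hn] at hE1 ⊢
    cases n with
    | zero => simp at hE1
    | succ n => exact dvd_pow_self q (Nat.succ_ne_zero n)
  obtain ⟨c, hc⟩ := exists_prime_orderOf_dvd_card' q hqE
  have hc' : orderOf (c : X) = q := by rw [Subgroup.orderOf_coe]; exact hc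
  have hcomm : Commute (t : X) (c : X) := by
    have := Subgroup.mem_centralizer_singleton_iff.mp (Subgroup.mem_inf.mp c.2).2
    exact Commute.symm this
  refine ⟨(t : X) * (c : X), ?_⟩
  rw [hcomm.orderOf_mul_eq_mul_orderOf_of_coprime, ht', hc']
  rw [ht', hc']
  exact (Nat.coprime_primes hp hq).mpr hpq


theorem prime_dvd_720 {q : ℕ} (hq : q.Prime) (h : q ∣ 720) : q = 2 ∨ q = 3 ∨ q = 5 := by
  have e : (720 : ℕ) = 2 ^ 4 * 3 ^ 2 * 5 := by norm_num
  rw [e] at h
  rcases hq.dvd_mul.mp h with h | h
  · rcases hq.dvd_mul.mp h with h | h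
    · left
      exact (Nat.prime_dvd_prime_iff_eq hq Nat.prime_two).mp (hq.dvd_of_dvd_pow h)
    · right; left
      exact (Nat.prime_dvd_prime_iff_eq hq Nat.prime_three).mp (hq.dvd_of_dvd_pow h)
  · right; right
    exact (Nat.prime_dvd_prime_iff_eq hq Nat.prime_five).mp h

/-- The arithmetic condition of `le_centralizer_of_sylow_cond` for `p = 11` and `m ∣ 720`. -/
theorem cond_720 (m : ℕ) (hm : m ∣ 720) (q : ℕ) (hq : q.Prime) (d : ℕ)
    (hd : d ∣ q ^ m.factorization q) (hmod : q ^ m.factorization q ≡ d [MOD 11]) :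
    d = q ^ m.factorization q := by
  have hqa : q ^ m.factorization q ∣ 720 := (Nat.ordProj_dvd m q).trans hm
  generalize m.factorization q = a at *
  obtain ⟨b, hb, rfl⟩ := (Nat.dvd_prime_pow hq).mp hd
  rcases Nat.eq_zero_or_pos a with ha | ha
  · subst ha
    have : b = 0 := by omega
    subst this; rfl
  · have hq720 : q ∣ 720 := (dvd_pow_self q ha.ne').trans hqa
    rcases prime_dvd_720 hq hq720 with rfl | rfl | rfl
    · have ha4 : a ≤ 4 := by
        by_contra hcon
        push Not at hcon
        have : 2 ^ 5 ∣ 720 := (pow_dvd_pow 2 hcon).trans hqa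
        norm_num at this
      interval_cases a <;> interval_cases b <;> first | rfl | (exfalso; revert hmod; decide)
    · have ha4 : a ≤ 2 := by
        by_contra hcon
        push Not at hcon
        have : 3 ^ 3 ∣ 720 := (pow_dvd_pow 3 hcon).trans hqa
        norm_num at this
      interval_cases a <;> interval_cases b <;> first | rfl | (exfalso; revert hmod; decide)
    · have ha4 : a ≤ 1 := by
        by_contra hcon
        push Not at hcon
        have : 5 ^ 2 ∣ 720 := (pow_dvd_pow 5 hcon).trans hqa
        norm_num at this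
      interval_cases a <;> interval_cases b <;> first | rfl | (exfalso; revert hmod; decide)

/-- An element of order `11` generating a Sylow subgroup centralizes every normal subgroup
whose order divides `720`. -/
theorem le_centralizer_of_dvd_720 (y : X) (hy : orderOf y = 11)
    (hp2 : ¬ 11 ^ 2 ∣ Nat.card X) (M : Subgroup X) [M.Normal] (hM : Nat.card M ∣ 720) :
    M ≤ centralizer {y} := by
  haveI : Fact (Nat.Prime 11) := ⟨by norm_num⟩
  apply le_centralizer_of_sylow_cond y hy hp2 M
  · intro h
    have := h.trans hM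
    norm_num at this
  · intro q hq d hd hmod
    exact cond_720 _ hM q hq d hd hmod


/-- The subgroup generated by an element of prime order `p` with `p ^ 2 ∤ |X|` is a Sylow
subgroup. -/
theorem exists_sylow_eq_zpowers {p : ℕ} [Fact p.Prime] (y : X) (hy : orderOf y = p)
    (hp2 : ¬ p ^ 2 ∣ Nat.card X) : ∃ P : Sylow p X, (P : Subgroup X) = zpowers y := by
  have hp : p.Prime := Fact.out
  have hzy : IsPGroup p (zpowers y) :=
    IsPGroup.of_card (n := 1) (by rw [Nat.card_zpowers, hy, pow_one])
  obtain ⟨P, hP⟩ := hzy.exists_le_sylow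
  refine ⟨P, ?_⟩
  symm
  apply Subgroup.eq_of_le_of_card_ge hP
  rw [Sylow.card_eq_multiplicity]
  have h1 : 1 ≤ (Nat.card X).factorization p := by
    rw [← hp.pow_dvd_iff_le_factorization Nat.card_pos.ne', pow_one]
    rw [← hy]; exact orderOf_dvd_natCard y
  have h2 : ¬ 2 ≤ (Nat.card X).factorization p := by
    rw [← hp.pow_dvd_iff_le_factorization Nat.card_pos.ne']
    exact hp2
  have : (Nat.card X).factorization p = 1 := by omega
  rw [this, pow_one, Nat.card_zpowers, hy]

theorem centralizer_zpowers (y : X) : centralizer ((zpowers y : Subgroup X) : Set X) = centralizer {y} := by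
  rw [zpowers_eq_closure, centralizer_closure]

/-- Burnside's normal complement for a Sylow subgroup of prime order generated by `y`. -/
theorem exists_normal_complement {p : ℕ} [Fact p.Prime] (y : X) (hy : orderOf y = p)
    (hp2 : ¬ p ^ 2 ∣ Nat.card X)
    (hNC : normalizer ((zpowers y : Subgroup X) : Set X) ≤ centralizer {y}) :
    ∃ K : Subgroup X, K.Normal ∧ Nat.card K * p = Nat.card X := by
  obtain ⟨P, hP⟩ := exists_sylow_eq_zpowers y hy hp2
  have hP' : normalizer ((P : Subgroup X) : Set X) ≤ centralizer ((P : Subgroup X) : Set X) := by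
    rw [hP, centralizer_zpowers]; exact hNC
  have hc := MonoidHom.ker_transferSylow_isComplement' P hP'
  refine ⟨(MonoidHom.transferSylow P hP').ker, inferInstance, ?_⟩
  have := hc.card_mul
  have hcP : Nat.card (P : Subgroup X) = p := by rw [hP, Nat.card_zpowers, hy]
  rw [hcP] at this
  exact this

end Cfsg.Agent.Lib.Helper55.Ord7920
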