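import Mathlib
import Cfsg.Agent.Lib.Helper17.SylowTools
import Cfsg.Agent.Lib.Helper17.MiscTools
import Cfsg.Agent.Lib.Helper17.PPartCount
import Cfsg.Agent.Lib.Helper17.SylowConj
import Cfsg.Agent.Lib.Helper17.CountTools
import Cfsg.Agent.Lib.Helper17.DvdTools
import Cfsg.Agent.Lib.Helper17.FixedPoints
import Cfsg.Agent.Lib.Helper55.Ord7920A

set_option autoImplicit false
set_option linter.style.haveILetI false
open scoped Pointwise

/-!
# Groups of order dividing `175560`: generic tools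

`LocalIH L` says every proper subgroup of `L` has a normal Sylow `19`-subgroup.  `IsData L p n e r c`
packages the Sylow data of a prime `p` exactly dividing `|L|`.
-/

namespace Cfsg.Agent.Lib.Helper55.J1Ord

open Subgroup MulAction

universe u

variable {L : Type u} [Group L] [Finite L]

theorem prime19 : Nat.Prime 19 := by norm_num

local instance fact19 : Fact (Nat.Prime 19) := ⟨prime19⟩

/-- Every proper subgroup has a normal Sylow `19`-subgroup. -/
def LocalIH (L : Type u) [Group L] : Prop :=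
  ∀ H : Subgroup L, H ≠ ⊤ → ∀ R : Sylow 19 H, (R : Subgroup H).Normal

/-- Sylow data of a prime `p`: `n` Sylow subgroups, of order `p`, normalizers of order `p * e`,
centralizers of order `p * c`, `r = |N : C|`. -/
def IsData (L : Type u) [Group L] (p n e r c : ℕ) : Prop :=
  Nat.card (Sylow p L) = n ∧
  (∀ P : Sylow p L, Nat.card (P : Subgroup L) = p ∧
     Nat.card (normalizer ((P : Subgroup L) : Set L)) = p * e ∧
     Nat.card (centralizer ((P : Subgroup L) : Set L)) = p * c) ∧
  n * e * p = Nat.card L ∧ n % p = 1 ∧ 1 < n ∧ r ∣ p - 1 ∧ r ≠ 1 ∧ c * r = e ∧ ¬ p ∣ n * e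

theorem exists_data [IsSimpleGroup L] {p m : ℕ} [hp : Fact p.Prime] (hcard : Nat.card L = p * m)
    (hpm : ¬ p ∣ m) (hm : 1 < m) : ∃ n e r c : ℕ, IsData L p n e r c := by
  obtain ⟨P⟩ : Nonempty (Sylow p L) := inferInstance
  have hp1 : 1 < p := hp.out.one_lt
  have hcard1 : Nat.card L = p ^ 1 * m := by rw [pow_one]; exact hcard
  have hcP : ∀ Q : Sylow p L, Nat.card (Q : Subgroup L) = p := fun Q => by
    have := Cfsg.Agent.Lib.Helper17.card_sylow_of_card_eq Q hcard1 hpm
    rwa [pow_one] at this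
  have hNn : ∀ Q : Sylow p L, Nat.card (normalizer ((Q : Subgroup L) : Set L)) *
      Nat.card (Sylow p L) = Nat.card L := fun Q =>
    Cfsg.Agent.Lib.Helper17.card_normalizer_mul_card_sylow Q
  have hpN : p ∣ Nat.card (normalizer ((P : Subgroup L) : Set L)) := by
    have h1 : Nat.card (P : Subgroup L) ∣ Nat.card (normalizer ((P : Subgroup L) : Set L)) :=
      Subgroup.card_dvd_of_le le_normalizer
    rwa [hcP P] at h1
  obtain ⟨e, he⟩ := hpN
  have hPbot : (P : Subgroup L) ≠ ⊥ := by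
    apply Cfsg.Agent.Lib.Helper17.subgroup_ne_bot_of_one_lt_card
    rw [hcP P]; exact hp1
  have hPtop : (P : Subgroup L) ≠ ⊤ := by
    apply Cfsg.Agent.Lib.Helper17.subgroup_ne_top_of_card_lt
    rw [hcP P, hcard]
    nlinarith
  have hn1 : 1 < Nat.card (Sylow p L) :=
    Cfsg.Agent.Lib.Helper17.one_lt_card_sylow_of_simple P hPbot hPtop
  have hG : p < Nat.card L := by rw [hcard]; nlinarith
  obtain ⟨r, hr1, hr2, hr3, hr4, -, -⟩ :=
    Cfsg.Agent.Lib.Helper17.card_centralizer_sylow_mul P (hcP P) hG he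
  obtain ⟨c, hc⟩ := hr2
  have hr0 : 0 < r := by
    rcases Nat.eq_zero_or_pos r with h | h
    · rw [h, zero_dvd_iff] at hr1; omega
    · exact h
  have hCP : Nat.card (centralizer ((P : Subgroup L) : Set L)) = p * c := by
    have : Nat.card (centralizer ((P : Subgroup L) : Set L)) * r = p * c * r := by
      rw [hr4, hc]; ring
    exact Nat.eq_of_mul_eq_mul_right hr0 this
  have hn0 : 0 < Nat.card (Sylow p L) := by omega
  have hne : Nat.card (Sylow p L) * e = m := by
    have h2 := hNn P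
    rw [he, hcard] at h2
    have h3 : p * (Nat.card (Sylow p L) * e) = p * m := by rw [← h2]; ring
    exact Nat.eq_of_mul_eq_mul_left (by omega) h3
  refine ⟨Nat.card (Sylow p L), e, r, c, rfl, ?_, ?_, ?_, hn1, hr1, hr3, ?_, ?_⟩
  · intro Q
    refine ⟨hcP Q, ?_, ?_⟩
    · have h1 := hNn Q
      have h2 := hNn P
      rw [← h2] at h1
      rw [← he]
      exact Nat.eq_of_mul_eq_mul_right hn0 h1
    · rw [Cfsg.Agent.Lib.Helper17.card_centralizer_sylow_eq P Q, hCP]
  · have h2 := hNn P
    rw [he] at h2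
    rw [← h2]; ring
  · have := card_sylow_modEq_one p L
    unfold Nat.ModEq at this
    rw [this, Nat.mod_eq_of_lt hp1]
  · rw [hc]; ring
  · rw [hne]; exact hpm

theorem IsData.not_sq_dvd {p n e r c : ℕ} (d : IsData L p n e r c) (hp : p.Prime) :
    ¬ p ^ 2 ∣ Nat.card L := by
  intro hcon
  rw [← d.2.2.1, pow_two, mul_comm (n * e) p] at hcon
  exact d.2.2.2.2.2.2.2.2 (Nat.dvd_of_mul_dvd_mul_left hp.pos hcon)

/-- A proper subgroup containing a Sylow `19`-subgroup normalizes it. -/
theorem le_normalizer_of_ih (ih : LocalIH L) (H : Subgroup L) (hH : H ≠ ⊤) (P : Sylow 19 L)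
    (hP : (P : Subgroup L) ≤ H) : H ≤ normalizer ((P : Subgroup L) : Set L) := by
  have h1 := ih H hH (P.subtype hP)
  rw [Sylow.coe_subtype] at h1
  exact (normal_subgroupOf_iff_le_normalizer hP).mp h1

/-- A proper subgroup contains at most one Sylow `19`-subgroup. -/
theorem sylow_eq_of_le_of_ih (ih : LocalIH L) (H : Subgroup L) (hH : H ≠ ⊤) (P P' : Sylow 19 L)
    (hP : (P : Subgroup L) ≤ H) (hP' : (P' : Subgroup L) ≤ H) : P = P' := by
  have h1 := ih H hH (P.subtype hP)
  haveI := Sylow.unique_of_normal (P.subtype hP) h1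
  have h2 : P.subtype hP = P'.subtype hP' := Subsingleton.elim _ _
  exact Sylow.subtype_injective h2

/-- A subgroup of order divisible by `19` contains a Sylow `19`-subgroup. -/
theorem exists_sylow_le_of_dvd (h192 : ¬ 19 ^ 2 ∣ Nat.card L) (H : Subgroup L)
    (h : 19 ∣ Nat.card H) : ∃ P : Sylow 19 L, (P : Subgroup L) ≤ H := by
  obtain ⟨w, hw⟩ := exists_prime_orderOf_dvd_card' 19 h
  have hw' : orderOf (w : L) = 19 := by rw [Subgroup.orderOf_coe]; exact hw
  obtain ⟨P, hP⟩ := Cfsg.Agent.Lib.Helper55.Ord7920.exists_sylow_eq_zpowers (w : L) hw' h192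
  refine ⟨P, ?_⟩
  rw [hP]
  exact (zpowers_le).mpr w.2

/-- A proper subgroup of order divisible by `19` has order dividing `|N(P)|`. -/
theorem card_dvd_of_ih (ih : LocalIH L) {n e r c : ℕ} (d : IsData L 19 n e r c) (H : Subgroup L)
    (hH : H ≠ ⊤) (h : 19 ∣ Nat.card H) : Nat.card H ∣ 19 * e := by
  have h192 : ¬ 19 ^ 2 ∣ Nat.card L := d.not_sq_dvd prime19
  obtain ⟨P, hP⟩ := exists_sylow_le_of_dvd h192 H h
  have h1 := le_normalizer_of_ih ih H hH P hP
  rw [← (d.2.1 P).2.1]
  exact Subgroup.card_dvd_of_le h1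

end Cfsg.Agent.Lib.Helper55.J1Ord
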