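import Mathlib
import Cfsg.Agent.Lib.Helper17.InvolTools
import Cfsg.Agent.Lib.Helper55.J1OrdA

set_option autoImplicit false
set_option linter.style.haveILetI false
open scoped Pointwise

/-!
# Groups of order dividing `175560`: constraints on Sylow data
-/

namespace Cfsg.Agent.Lib.Helper55.J1Ord

open Subgroup MulAction

universe u

variable {L : Type u} [Group L] [Finite L]

local instance fact19' : Fact (Nat.Prime 19) := ⟨prime19⟩

/-- In a noncommutative simple group the centralizer of a nontrivial element is proper. -/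
theorem centralizer_ne_top [IsSimpleGroup L] (hnc : ¬ IsMulCommutative L) (x : L) (hx : x ≠ 1) :
    centralizer ({x} : Set L) ≠ ⊤ := by
  intro h
  have hxc : x ∈ center L := by
    rw [mem_center_iff]
    intro g
    have : g ∈ centralizer ({x} : Set L) := by rw [h]; exact mem_top g
    exact (mem_centralizer_singleton_iff.mp this)
  rcases (inferInstance : (center L).Normal).eq_bot_or_eq_top with h1 | h1
  · rw [h1, mem_bot] at hxc; exact hx hxc
  · apply hnc
    refine ⟨⟨fun a b => ?_⟩⟩
    have : a ∈ center L := by rw [h1]; exact mem_top a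
    exact ((mem_center_iff.mp this) b).symm

/-- `|C| * |N : C| = |N|` for `C ≤ N`. -/
theorem card_mul_relIndex_of_le (C N : Subgroup L) (h : C ≤ N) :
    Nat.card C * C.relIndex N = Nat.card N := by
  have := Cfsg.Agent.Lib.Helper17.card_inf_mul_relIndex C N
  rwa [inf_eq_left.mpr h] at this

/-- An element of order prime to `|N(P) : C(P)|` normalizing `P` centralizes it. -/
theorem mem_centralizer_of_coprime (P : Subgroup L) {q k : ℕ} (x : L)
    (hx : x ∈ normalizer (P : Set L)) (hxq : x ^ q = 1)
    (hk : (centralizer (P : Set L)).relIndex (normalizer (P : Set L)) = k)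
    (hcop : Nat.Coprime q k) : x ∈ centralizer (P : Set L) := by
  set N := normalizer (P : Set L) with hN
  set C := centralizer (P : Set L) with hC
  haveI : (C.subgroupOf N).Normal := normal_subgroupOf_centralizer_normalizer _
  have h1 := Subgroup.pow_index_mem (C.subgroupOf N) (⟨x, hx⟩ : N)
  have h2 : (C.subgroupOf N).index = k := hk
  rw [h2, mem_subgroupOf] at h1
  have h3 : x ^ k ∈ C := by simpa using h1
  -- x = (x^k)^s
  have hord : orderOf x ∣ q := orderOf_dvd_of_pow_eq_one hxq
  have hcop' : Nat.Coprime (orderOf x) k := Nat.Coprime.coprime_dvd_left hord hcop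
  have hz : zpowers (x ^ k) = zpowers x := by
    apply le_antisymm
    · exact zpowers_le.mpr (pow_mem (mem_zpowers x) k)
    · apply le_of_eq
      symm
      apply Subgroup.eq_of_le_of_card_ge (zpowers_le.mpr (pow_mem (mem_zpowers x) k))
      rw [Nat.card_zpowers, Nat.card_zpowers, hcop'.orderOf_pow]
  have : x ∈ zpowers (x ^ k) := by rw [hz]; exact mem_zpowers x
  exact (zpowers_le.mpr h3) this

/-- Constraint (B): a prime `q` dividing `|C(P)|/19` but not `|N(P) : C(P)|` has
`n₁₉ ≡ 1 (mod q)`. -/
theorem mod_eq_one_of_dvd [IsSimpleGroup L] (hnc : ¬ IsMulCommutative L) (ih : LocalIH L)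
    {n e r c : ℕ} (d : IsData L 19 n e r c) {q : ℕ} [hq : Fact q.Prime] (hqc : q ∣ c)
    (hqr : ¬ q ∣ r) : n % q = 1 := by
  obtain ⟨P⟩ : Nonempty (Sylow 19 L) := inferInstance
  obtain ⟨hcP, hcN, hcC⟩ := d.2.1 P
  have hqC : q ∣ Nat.card (centralizer ((P : Subgroup L) : Set L)) := by
    rw [hcC]; exact hqc.mul_left 19
  obtain ⟨w, hw⟩ := exists_prime_orderOf_dvd_card' q hqC
  set x : L := (w : L) with hx
  have hxo : orderOf x = q := by rw [hx, Subgroup.orderOf_coe]; exact hw
  have hxC : x ∈ centralizer ((P : Subgroup L) : Set L) := w.2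
  have hx1 : x ≠ 1 := by
    intro h
    rw [h, orderOf_one] at hxo
    exact hq.out.one_lt.ne hxo
  have hA : IsPGroup q (zpowers x) :=
    IsPGroup.of_card (n := 1) (by rw [Nat.card_zpowers, hxo, pow_one])
  have hmod := Cfsg.Agent.Lib.Helper17.card_modEq_card_fixedPoints_subgroup
    (X := Sylow 19 L) (zpowers x) hA
  have hfix : fixedPoints (zpowers x) (Sylow 19 L) = {P} := by
    rw [Cfsg.Agent.Lib.Helper17.fixedPoints_zpowers_eq]
    ext P'
    rw [Cfsg.Agent.Lib.Helper17.mem_fixedBy_sylow_iff, Set.mem_singleton_iff]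
    constructor
    · intro hxN
      obtain ⟨hcP', hcN', hcC'⟩ := d.2.1 P'
      have hrel : (centralizer ((P' : Subgroup L) : Set L)).relIndex
          (normalizer ((P' : Subgroup L) : Set L)) = r := by
        have h1 := card_mul_relIndex_of_le _ _
          (centralizer_le_normalizer ((P' : Subgroup L) : Set L))
        rw [hcC', hcN', ← d.2.2.2.2.2.2.2.1] at h1
        have h2 : 19 * c * (centralizer ((P' : Subgroup L) : Set L)).relIndex
            (normalizer ((P' : Subgroup L) : Set L)) = 19 * c * r := by rw [h1]; ring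
        have hc0 : 0 < 19 * c := by rw [← hcC']; exact Nat.card_pos
        exact Nat.eq_of_mul_eq_mul_left hc0 h2
      have hcop : Nat.Coprime q r := (Nat.Prime.coprime_iff_not_dvd hq.out).mpr hqr
      have hxC' := mem_centralizer_of_coprime (P' : Subgroup L) x hxN
        (by rw [← hxo]; exact pow_orderOf_eq_one x) hrel hcop
      have hH := centralizer_ne_top hnc x hx1
      have h1 : (P : Subgroup L) ≤ centralizer ({x} : Set L) := by
        intro a ha
        rw [mem_centralizer_singleton_iff]
        exact (mem_centralizer_iff.mp hxC a ha)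
      have h2 : (P' : Subgroup L) ≤ centralizer ({x} : Set L) := by
        intro a ha
        rw [mem_centralizer_singleton_iff]
        exact (mem_centralizer_iff.mp hxC' a ha)
      exact (sylow_eq_of_le_of_ih ih _ hH P P' h1 h2).symm
    · rintro rfl
      exact centralizer_le_normalizer _ hxC
  rw [hfix, d.1] at hmod
  have h1 : Nat.card ({P} : Set (Sylow 19 L)) = 1 := by simp
  rw [h1] at hmod
  unfold Nat.ModEq at hmod
  rw [hmod, Nat.mod_eq_of_lt hq.out.one_lt]

/-- Constraint (C): counting elements of order divisible by `p`. -/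
theorem card_singular {p n e r c : ℕ} [hp : Fact p.Prime] (d : IsData L p n e r c) :
    Nat.card {g : L // p ∣ orderOf g} = n * (p - 1) * c := by
  have h1 : Nat.card L = p * (n * e) := by rw [← d.2.2.1]; ring
  have := Cfsg.Agent.Lib.Helper17.card_dvd_orderOf_eq h1 d.2.2.2.2.2.2.2.2
    (fun P => (d.2.1 P).2.2)
  rw [this, d.1]

/-- Disjointness: an element of order divisible by `p` has order prime to `q` if `q ∤ |C(P)|`. -/
theorem not_dvd_orderOf {p n e r c : ℕ} [hp : Fact p.Prime] (d : IsData L p n e r c) {q : ℕ}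
    (hq : q.Prime) (hqc : ¬ q ∣ p * c) (g : L) (hg : p ∣ orderOf g) : ¬ q ∣ orderOf g := by
  intro hqg
  have ho : orderOf g ≠ 0 := (orderOf_pos g).ne'
  set x := g ^ (orderOf g / p) with hx
  set z := g ^ (orderOf g / q) with hz
  have hxo : orderOf x = p := orderOf_pow_orderOf_div ho hg
  have hzo : orderOf z = q := orderOf_pow_orderOf_div ho hqg
  obtain ⟨P, hP⟩ := Cfsg.Agent.Lib.Helper55.Ord7920.exists_sylow_eq_zpowers x hxo
    (d.not_sq_dvd hp.out)
  have hzC : z ∈ centralizer ((P : Subgroup L) : Set L) := by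
    rw [hP, Cfsg.Agent.Lib.Helper55.Ord7920.centralizer_zpowers, mem_centralizer_singleton_iff]
    rw [hx, hz, ← pow_add, ← pow_add, add_comm]
  have h1 : orderOf z ∣ Nat.card (centralizer ((P : Subgroup L) : Set L)) := by
    have := orderOf_dvd_natCard (⟨z, hzC⟩ : centralizer ((P : Subgroup L) : Set L))
    rwa [Subgroup.orderOf_mk] at this
  rw [hzo, (d.2.1 P).2.2] at h1
  exact hqc h1

/-- Constraint (D): symmetry of commuting primes. -/
theorem dvd_of_dvd {p n e r c q n' e' r' c' : ℕ} [hp : Fact p.Prime] [hq : Fact q.Prime]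
    (d : IsData L p n e r c) (d' : IsData L q n' e' r' c') (hpq : p ≠ q) (h : q ∣ c) :
    p ∣ c' := by
  obtain ⟨P⟩ : Nonempty (Sylow p L) := inferInstance
  obtain ⟨hcP, hcN, hcC⟩ := d.2.1 P
  have hqC : q ∣ Nat.card (centralizer ((P : Subgroup L) : Set L)) := by
    rw [hcC]; exact h.mul_left p
  obtain ⟨w, hw⟩ := exists_prime_orderOf_dvd_card' q hqC
  set z : L := (w : L) with hz
  have hzo : orderOf z = q := by rw [hz, Subgroup.orderOf_coe]; exact hw
  have hzC : z ∈ centralizer ((P : Subgroup L) : Set L) := w.2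
  obtain ⟨Q, hQ⟩ := Cfsg.Agent.Lib.Helper55.Ord7920.exists_sylow_eq_zpowers z hzo
    (d'.not_sq_dvd hq.out)
  have hPC : (P : Subgroup L) ≤ centralizer ((Q : Subgroup L) : Set L) := by
    rw [hQ, Cfsg.Agent.Lib.Helper55.Ord7920.centralizer_zpowers]
    intro a ha
    rw [mem_centralizer_singleton_iff]
    exact (mem_centralizer_iff.mp hzC a ha)
  have h1 := Subgroup.card_dvd_of_le hPC
  rw [hcP, (d'.2.1 Q).2.2] at h1
  rcases (hp.out.dvd_mul).mp h1 with h2 | h2
  · exact absurd ((Nat.prime_dvd_prime_iff_eq hp.out hq.out).mp h2) hpq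
  · exact h2

/-- Constraint (A) for normalizers. -/
theorem normalizer_dvd_of_ih [IsSimpleGroup L] (ih : LocalIH L) {n e r c : ℕ}
    (d : IsData L 19 n e r c) {q n' e' r' c' : ℕ} [hq : Fact q.Prime]
    (d' : IsData L q n' e' r' c') (h : 19 ∣ q * e') : q * e' ∣ 19 * e := by
  obtain ⟨Q⟩ : Nonempty (Sylow q L) := inferInstance
  obtain ⟨hcQ, hcN, hcC⟩ := d'.2.1 Q
  have hne : normalizer ((Q : Subgroup L) : Set L) ≠ ⊤ := by
    intro htop
    have hn : (Q : Subgroup L).Normal := normalizer_eq_top_iff.mp htop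
    haveI := Sylow.unique_of_normal Q hn
    have h1 : Nat.card (Sylow q L) = 1 := Nat.card_unique
    have h2 := d'.2.2.2.2.1
    rw [d'.1] at h1
    omega
  have := card_dvd_of_ih ih d _ hne (by rw [hcN]; exact h)
  rwa [hcN] at this

/-- Constraint (A) for centralizers. -/
theorem centralizer_dvd_of_ih [IsSimpleGroup L] (ih : LocalIH L) {n e r c : ℕ}
    (d : IsData L 19 n e r c) {q n' e' r' c' : ℕ} [hq : Fact q.Prime]
    (d' : IsData L q n' e' r' c') (h : 19 ∣ q * c') : q * c' ∣ 19 * e := by
  obtain ⟨Q⟩ : Nonempty (Sylow q L) := inferInstance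
  obtain ⟨hcQ, hcN, hcC⟩ := d'.2.1 Q
  have hne : centralizer ((Q : Subgroup L) : Set L) ≠ ⊤ := by
    intro htop
    have hn : normalizer ((Q : Subgroup L) : Set L) = ⊤ := by
      rw [eq_top_iff, ← htop]; exact centralizer_le_normalizer _
    have hn : (Q : Subgroup L).Normal := normalizer_eq_top_iff.mp hn
    haveI := Sylow.unique_of_normal Q hn
    have h1 : Nat.card (Sylow q L) = 1 := Nat.card_unique
    have h2 := d'.2.2.2.2.1
    rw [d'.1] at h1
    omega
  have := card_dvd_of_ih ih d _ hne (by rw [hcC]; exact h)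
  rwa [hcC] at this

end Cfsg.Agent.Lib.Helper55.J1Ord
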