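import Mathlib
import Cfsg.Agent.Lib.Helper53.Transfer
import Cfsg.Agent.Lib.Helper17.ElementCount
import Cfsg.Agent.Lib.Helper55.J1OrdB

set_option autoImplicit false
set_option linter.style.haveILetI false
open scoped Pointwise

/-!
# Groups of order dividing `175560`: involution tools (Thompson transfer)
-/

namespace Cfsg.Agent.Lib.Helper55.J1Ord

open Subgroup MulAction

universe u

variable {L : Type u} [Group L] [Finite L]

local instance fact19'' : Fact (Nat.Prime 19) := ⟨prime19⟩
local instance fact2 : Fact (Nat.Prime 2) := ⟨Nat.prime_two⟩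

theorem no_index_two [IsSimpleGroup L] (h : 2 < Nat.card L) (K : Subgroup L) (hK : K.Normal)
    (hidx : K.index = 2) : False := by
  rcases hK.eq_bot_or_eq_top with h1 | h1
  · rw [h1, index_bot] at hidx; omega
  · rw [h1, index_top] at hidx; omega

theorem exists_pow_of_mem_zpowers (c x : L) (h : x ∈ zpowers c) : ∃ k < orderOf c, c ^ k = x := by
  classical
  rw [mem_zpowers_iff_mem_range_orderOf] at h
  obtain ⟨k, hk, rfl⟩ := Finset.mem_image.mp h
  exact ⟨k, Finset.mem_range.mp hk, rfl⟩

theorem comm_of_sq_eq_one {a b : L} (ha : a * a = 1) (hb : b * b = 1) (hab : a * b * (a * b) = 1) :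
    a * b = b * a := by
  have h1 : a⁻¹ = a := inv_eq_of_mul_eq_one_right ha
  have h2 : b⁻¹ = b := inv_eq_of_mul_eq_one_right hb
  have h3 : (a * b)⁻¹ = a * b := inv_eq_of_mul_eq_one_right hab
  rw [mul_inv_rev, h1, h2] at h3
  exact h3.symm

/-- Thompson transfer for an involution in a simple group: it is fused into every maximal
subgroup of a Sylow `2`-subgroup. -/
theorem exists_conj_mem_of_relIndex_two [IsSimpleGroup L] (h2 : 2 < Nat.card L) (S : Sylow 2 L)
    (M : Subgroup L) (hM : M.relIndex (S : Subgroup L) = 2) (z : L) (hz : z * z = 1) (hz1 : z ≠ 1) :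
    ∃ g : L, g * z * g⁻¹ ∈ M := by
  by_contra hcon
  push Not at hcon
  have hzo : orderOf z = 2 ^ 1 := by
    rw [pow_one]
    exact orderOf_eq_prime (by rw [pow_two]; exact hz) hz1
  obtain ⟨N, hN, hidx, -⟩ := Cfsg.Agent.Lib.Helper53.thompson_transfer S M hM 1 le_rfl
    (by
      intro y _ hyM
      have hy1 : y ≠ 1 := by rintro rfl; exact hyM (one_mem M)
      have h0 : 0 < orderOf y := orderOf_pos y
      have h1 : orderOf y ≠ 1 := by rw [Ne, orderOf_eq_one_iff]; exact hy1
      simp only [Nat.sub_self, pow_zero]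
      omega) z hzo hcon
  exact no_index_two h2 N hN hidx

/-- (F): in a simple group with Sylow `2`-subgroups of order `8`, every involution is centralized
by a Sylow `2`-subgroup. -/
theorem eight_dvd_card_centralizer [IsSimpleGroup L] (h2 : 2 < Nat.card L) (S : Sylow 2 L)
    (h8 : Nat.card (S : Subgroup L) = 8) (z : L) (hzS : z ∈ (S : Subgroup L)) (hz : z * z = 1)
    (hz1 : z ≠ 1) : 8 ∣ Nat.card (centralizer ({z} : Set L)) := by
  by_cases hcomm : ∀ s ∈ (S : Subgroup L), s * z = z * s
  · have hle : (S : Subgroup L) ≤ centralizer ({z} : Set L) := by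
      intro s hs
      rw [mem_centralizer_singleton_iff]
      exact hcomm s hs
    have := Subgroup.card_dvd_of_le hle
    rwa [h8] at this
  · push Not at hcomm
    obtain ⟨s₀, hs₀, hs₀z⟩ := hcomm
    have hord : ∀ a ∈ (S : Subgroup L), orderOf a ∣ 8 := by
      intro a ha
      have := orderOf_dvd_natCard (⟨a, ha⟩ : (S : Subgroup L))
      rwa [Subgroup.orderOf_mk, h8] at this
    by_cases h4 : ∃ c ∈ (S : Subgroup L), orderOf c = 4
    · obtain ⟨c, hcS, hc4⟩ := h4
      set M : Subgroup L := zpowers c with hMdef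
      have hMS : M ≤ (S : Subgroup L) := zpowers_le.mpr hcS
      have hcM : Nat.card M = 4 := by rw [hMdef, Nat.card_zpowers, hc4]
      have hM : M.relIndex (S : Subgroup L) = 2 := by
        have := card_mul_relIndex_of_le M (S : Subgroup L) hMS
        rw [hcM, h8] at this
        omega
      have hc4' : c ^ 4 = 1 := by rw [← hc4]; exact pow_orderOf_eq_one c
      have hc2 : c ^ 2 ≠ 1 := by
        intro h
        have := orderOf_dvd_of_pow_eq_one h
        rw [hc4] at this
        omega
      have hc1 : c ≠ 1 := by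
        rintro rfl
        exact hc2 (one_pow 2)
      -- involutions of M
      have key1 : ∀ x ∈ M, x * x = 1 → x ≠ 1 → x = c ^ 2 := by
        intro x hx hxx hx1
        obtain ⟨k, hk, rfl⟩ := exists_pow_of_mem_zpowers c x hx
        rw [hc4] at hk
        interval_cases k
        · exact absurd (pow_zero c) hx1
        · exfalso
          apply hc2
          rw [pow_one] at hxx
          rw [pow_two]; exact hxx
        · rfl
        · exfalso
          apply hc2
          have : c ^ 3 * c ^ 3 = c ^ 4 * c ^ 2 := by rw [← pow_add, ← pow_add]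
          rw [this, hc4', one_mul] at hxx
          exact hxx
      -- c^2 central in S
      haveI hMn : (M.subgroupOf (S : Subgroup L)).Normal := Subgroup.normal_of_index_eq_two hM
      have key2 : ∀ s ∈ (S : Subgroup L), s * c ^ 2 = c ^ 2 * s := by
        intro s hs
        have h1 : (⟨s, hs⟩ : (S : Subgroup L)) * ⟨c, hcS⟩ * (⟨s, hs⟩ : (S : Subgroup L))⁻¹ ∈
            M.subgroupOf (S : Subgroup L) :=
          hMn.conj_mem _ (by rw [mem_subgroupOf]; exact mem_zpowers c) _
        rw [mem_subgroupOf] at h1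
        have h1' : s * c * s⁻¹ ∈ M := by simpa using h1
        obtain ⟨k, hk, hkeq⟩ := exists_pow_of_mem_zpowers c _ h1'
        rw [hc4] at hk
        have hsq : s * c ^ 2 * s⁻¹ = (s * c * s⁻¹) ^ 2 := by
          rw [pow_two, pow_two]; group
        have hne1 : s * c * s⁻¹ ≠ 1 := by
          intro h
          apply hc1
          have : c = s⁻¹ * (s * c * s⁻¹) * s := by group
          rw [this, h]; group
        have hne2 : (s * c * s⁻¹) ^ 2 ≠ 1 := by
          intro h
          apply hc2
          rw [← hsq] at h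
          have : c ^ 2 = s⁻¹ * (s * c ^ 2 * s⁻¹) * s := by group
          rw [this, h]; group
        have h3 : (s * c * s⁻¹) ^ 2 = c ^ 2 := by
          rw [← hkeq] at hne1 hne2 ⊢
          interval_cases k
          · exact absurd (pow_zero c) hne1
          · rw [pow_one]
          · exfalso
            apply hne2
            rw [← pow_mul]; exact hc4'
          · rw [← pow_mul]
            have : c ^ (3 * 2) = c ^ 4 * c ^ 2 := by rw [← pow_add]
            rw [this, hc4', one_mul]
        rw [← hsq] at h3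
        calc s * c ^ 2 = (s * c ^ 2 * s⁻¹) * s := by group
          _ = c ^ 2 * s := by rw [h3]
      -- z is fused to c^2
      obtain ⟨g, hg⟩ := exists_conj_mem_of_relIndex_two h2 S M hM z hz hz1
      have hgz : g * z * g⁻¹ = c ^ 2 := by
        apply key1 _ hg
        · have : g * z * g⁻¹ * (g * z * g⁻¹) = g * (z * z) * g⁻¹ := by group
          rw [this, hz]; group
        · intro h
          apply hz1
          have : z = g⁻¹ * (g * z * g⁻¹) * g := by group
          rw [this, h]; group
      have hzeq : z = g⁻¹ * c ^ 2 * g := by rw [← hgz]; group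
      set S' : Subgroup L := MulAut.conj g⁻¹ • (S : Subgroup L) with hS'
      have hcS' : Nat.card S' = 8 := by
        rw [hS', ← h8]
        exact Nat.card_congr (Subgroup.equivSMul (MulAut.conj g⁻¹) (S : Subgroup L)).symm.toEquiv
      have hle : S' ≤ centralizer ({z} : Set L) := by
        intro a ha
        rw [hS', Cfsg.Agent.Lib.Helper55.mem_conj_smul_iff, inv_inv] at ha
        rw [mem_centralizer_singleton_iff, hzeq]
        have h5 := key2 _ ha
        calc a * (g⁻¹ * c ^ 2 * g) = g⁻¹ * ((g * a * g⁻¹) * c ^ 2) * g := by group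
          _ = g⁻¹ * (c ^ 2 * (g * a * g⁻¹)) * g := by rw [h5]
          _ = g⁻¹ * c ^ 2 * g * a := by group
      have := Subgroup.card_dvd_of_le hle
      rwa [hcS'] at this
    · exfalso
      push Not at h4
      apply hs₀z
      have hdvd8 : ∀ k : ℕ, k ∣ 8 → k = 1 ∨ k = 2 ∨ k = 4 ∨ k = 8 := by
        intro k hk
        have : k ≤ 8 := Nat.le_of_dvd (by norm_num) hk
        interval_cases k <;> simp_all
      by_cases h8' : ∃ c ∈ (S : Subgroup L), orderOf c = 8
      · obtain ⟨c, hcS, hc8⟩ := h8'
        have hSc : (S : Subgroup L) = zpowers c := by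
          symm
          apply Subgroup.eq_of_le_of_card_ge (zpowers_le.mpr hcS)
          rw [h8, Nat.card_zpowers, hc8]
        rw [hSc] at hs₀ hzS
        obtain ⟨i, rfl⟩ := Subgroup.mem_zpowers_iff.mp hs₀
        obtain ⟨j, rfl⟩ := Subgroup.mem_zpowers_iff.mp hzS
        rw [← zpow_add, ← zpow_add, add_comm]
      · push Not at h8'
        have hsq : ∀ a ∈ (S : Subgroup L), a * a = 1 := by
          intro a ha
          rcases hdvd8 _ (hord a ha) with h | h | h | h
          · rw [orderOf_eq_one_iff] at h; rw [h, one_mul]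
          · rw [← pow_two, ← h]; exact pow_orderOf_eq_one a
          · exact absurd h (h4 a ha)
          · exact absurd h (h8' a ha)
        exact comm_of_sq_eq_one (hsq _ hs₀) hz (hsq _ ((S : Subgroup L).mul_mem hs₀ hzS))

/-- (E1): if `N(P)` contains a Sylow `2`-subgroup and `|N(P) : C(P)|` divides `18`, every
involution is conjugate into `C(P)`. -/
theorem exists_conj_mem_centralizer [IsSimpleGroup L] (h2 : 2 < Nat.card L) (P : Subgroup L)
    (hr18 : (centralizer (P : Set L)).relIndex (normalizer (P : Set L)) ∣ 18)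
    (S : Sylow 2 L) (hS : (S : Subgroup L) ≤ normalizer (P : Set L)) (t : L) (ht : t * t = 1)
    (ht1 : t ≠ 1) : ∃ g : L, g * t * g⁻¹ ∈ centralizer (P : Set L) := by
  set N := normalizer (P : Set L) with hN
  set M := centralizer (P : Set L) with hM
  -- move t into S
  have hto : orderOf t = 2 := orderOf_eq_prime (by rw [pow_two]; exact ht) ht1
  have hzt : IsPGroup 2 (zpowers t) :=
    IsPGroup.of_card (n := 1) (by rw [Nat.card_zpowers, hto, pow_one])
  obtain ⟨S', hS'⟩ := hzt.exists_le_sylow
  obtain ⟨a, ha⟩ := MulAction.exists_smul_eq L S S'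
  have htS : a⁻¹ * t * a ∈ (S : Subgroup L) := by
    have : t ∈ ((a • S : Sylow 2 L) : Subgroup L) := by rw [ha]; exact hS' (mem_zpowers t)
    exact (Cfsg.Agent.Lib.Helper17.mem_smul_sylow_iff a t S).mp this
  set t' := a⁻¹ * t * a with ht'
  have ht'2 : t' * t' = 1 := by
    have : t' * t' = a⁻¹ * (t * t) * a := by rw [ht']; group
    rw [this, ht]; group
  have ht'1 : t' ≠ 1 := by
    intro h
    apply ht1
    have : t = a * t' * a⁻¹ := by rw [ht']; group
    rw [this, h]; group
  -- the index of S ∩ C in S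
  have h1 : (M.subgroupOf N).relIndex ((S : Subgroup L).subgroupOf N) =
      M.relIndex (S : Subgroup L) := relIndex_subgroupOf hS
  haveI : (M.subgroupOf N).Normal := normal_subgroupOf_centralizer_normalizer _
  have h3 : (M.subgroupOf N).relIndex ((S : Subgroup L).subgroupOf N) ∣ (M.subgroupOf N).index :=
    relIndex_dvd_index_of_normal _ _
  rw [h1] at h3
  have h4 : M.relIndex (S : Subgroup L) ∣ 18 := h3.trans hr18
  have h5 : M.relIndex (S : Subgroup L) ∣ Nat.card (S : Subgroup L) := relIndex_dvd_card _ _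
  rw [Sylow.card_eq_multiplicity] at h5
  obtain ⟨j, -, hj⟩ := (Nat.dvd_prime_pow Nat.prime_two).mp h5
  have hj1 : j ≤ 1 := by
    by_contra hcon
    have : 2 ^ 2 ∣ 2 ^ j := pow_dvd_pow 2 (by omega)
    rw [← hj] at this
    have := this.trans h4
    omega
  have hcases : M.relIndex (S : Subgroup L) = 1 ∨ M.relIndex (S : Subgroup L) = 2 := by
    interval_cases j
    · left; rw [hj, pow_zero]
    · right; rw [hj, pow_one]
  rcases hcases with h | h
  · rw [relIndex_eq_one] at h
    refine ⟨a⁻¹, ?_⟩
    rw [inv_inv]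
    exact h htS
  · obtain ⟨g, hg⟩ := exists_conj_mem_of_relIndex_two h2 S M h t' ht'2 ht'1
    refine ⟨g * a⁻¹, ?_⟩
    have : g * a⁻¹ * t * (g * a⁻¹)⁻¹ = g * t' * g⁻¹ := by rw [ht']; group
    rw [this]; exact hg

/-- (E): if `N(P)` contains a Sylow `2`-subgroup, then for primes `q ∤ |N(P)|` the centralizer of
a Sylow `q`-subgroup has odd order. -/
theorem odd_of_sylow_two_le [IsSimpleGroup L] (hnc : ¬ IsMulCommutative L) (h2 : 2 < Nat.card L)
    (ih : LocalIH L) {n e r c : ℕ} (d : IsData L 19 n e r c)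
    (hS : ∀ S : Sylow 2 L, Nat.card (S : Subgroup L) ∣ 19 * e)
    {q n' e' r' c' : ℕ} [hq : Fact q.Prime] (d' : IsData L q n' e' r' c') (hq19 : ¬ q ∣ 19 * e) :
    ¬ 2 ∣ q * c' := by
  intro h2c
  obtain ⟨P⟩ : Nonempty (Sylow 19 L) := inferInstance
  obtain ⟨hcP, hcN, hcC⟩ := d.2.1 P
  obtain ⟨Q⟩ : Nonempty (Sylow q L) := inferInstance
  obtain ⟨hcQ, hcNQ, hcCQ⟩ := d'.2.1 Q
  obtain ⟨S₀⟩ : Nonempty (Sylow 2 L) := inferInstance
  -- a Sylow 2-subgroup inside N(P)
  set N := normalizer ((P : Subgroup L) : Set L) with hN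
  have hdvd : 2 ^ (Nat.card L).factorization 2 ∣ Nat.card N := by
    rw [hcN, ← S₀.card_eq_multiplicity]; exact hS S₀
  obtain ⟨K, hK⟩ := Sylow.exists_subgroup_card_pow_prime 2 hdvd
  have hcK : Nat.card (K.map N.subtype) = 2 ^ (Nat.card L).factorization 2 := by
    rw [Subgroup.card_map_of_injective N.subtype_injective, hK]
  set S : Sylow 2 L := Sylow.ofCard (K.map N.subtype) hcK with hSdef
  have hSN : (S : Subgroup L) ≤ N := by
    rw [hSdef, Sylow.coe_ofCard]; exact Subgroup.map_subtype_le K
  -- an involution in C(Q)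
  have h2C : 2 ∣ Nat.card (centralizer ((Q : Subgroup L) : Set L)) := by rw [hcCQ]; exact h2c
  obtain ⟨w, hw⟩ := exists_prime_orderOf_dvd_card' 2 h2C
  set t : L := (w : L) with ht
  have hto : orderOf t = 2 := by rw [ht, Subgroup.orderOf_coe]; exact hw
  have htC : t ∈ centralizer ((Q : Subgroup L) : Set L) := w.2
  have ht2 : t * t = 1 := by rw [← pow_two, ← hto]; exact pow_orderOf_eq_one t
  have ht1 : t ≠ 1 := by
    intro h
    rw [h, orderOf_one] at hto
    omega
  have hrel : (centralizer ((P : Subgroup L) : Set L)).relIndex N ∣ 18 := by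
    have := Cfsg.Agent.Lib.Helper17.relIndex_centralizer_normalizer_dvd_pred prime19
      (P : Subgroup L) hcP
    exact this
  obtain ⟨g, hg⟩ := exists_conj_mem_centralizer h2 (P : Subgroup L) hrel S hSN t ht2 ht1
  -- the centralizer of t
  set H := centralizer ({t} : Set L) with hH
  have hHne : H ≠ ⊤ := centralizer_ne_top hnc t ht1
  have hQH : (Q : Subgroup L) ≤ H := by
    intro a ha
    rw [hH, mem_centralizer_singleton_iff]
    exact (mem_centralizer_iff.mp htC a ha)
  have hqH : q ∣ Nat.card H := by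
    have := Subgroup.card_dvd_of_le hQH
    rwa [hcQ] at this
  have h19H : 19 ∣ Nat.card H := by
    have hP1 : (P : Subgroup L) ≠ ⊥ := by
      apply Cfsg.Agent.Lib.Helper17.subgroup_ne_bot_of_one_lt_card
      rw [hcP]; norm_num
    obtain ⟨y, hyP, hy1⟩ : ∃ y : L, y ∈ (P : Subgroup L) ∧ y ≠ 1 := by
      obtain ⟨y, hy⟩ := (Subgroup.ne_bot_iff_exists_ne_one).mp hP1
      exact ⟨(y : L), y.2, fun h => hy (Subtype.ext h)⟩
    have hyo : orderOf y = 19 :=
      Cfsg.Agent.Lib.Helper17.orderOf_eq_of_mem_of_card_prime (P : Subgroup L) hcP y hyP hy1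
    have hcomm : y * (g * t * g⁻¹) = (g * t * g⁻¹) * y := by
      have := mem_centralizer_iff.mp hg y hyP
      exact this
    have hy'H : g⁻¹ * y * g ∈ H := by
      rw [hH, mem_centralizer_singleton_iff]
      calc g⁻¹ * y * g * t = g⁻¹ * (y * (g * t * g⁻¹)) * g := by group
        _ = g⁻¹ * ((g * t * g⁻¹) * y) * g := by rw [hcomm]
        _ = t * (g⁻¹ * y * g) := by group
    have hy'o : orderOf (g⁻¹ * y * g) = 19 := by
      have : g⁻¹ * y * g = MulAut.conj g⁻¹ y := by rw [MulAut.conj_apply, inv_inv]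
      rw [this, MulEquiv.orderOf_eq, hyo]
    have := orderOf_dvd_natCard (⟨g⁻¹ * y * g, hy'H⟩ : H)
    rwa [Subgroup.orderOf_mk, hy'o] at this
  have hdvdH := card_dvd_of_ih ih d H hHne h19H
  exact hq19 (hqH.trans hdvdH)

end Cfsg.Agent.Lib.Helper55.J1Ord
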