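import Mathlib
import Cfsg.Agent.Lib.Helper17.Engine
import Cfsg.Agent.Lib.Helper55.J1OrdC

set_option autoImplicit false
set_option linter.style.haveILetI false
open scoped Pointwise

/-!
# Groups of order dividing `175560`: arithmetic helpers and the first hard orders
-/

namespace Cfsg.Agent.Lib.Helper55.J1Ord

open Subgroup MulAction

universe u

variable {L : Type u} [Group L] [Finite L]

open Cfsg.Agent.Lib.Helper17 in
/-- Enumerating the factorizations `n * e = m` with `n ≡ 1 (mod p)`, `1 < n`, by kernel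
evaluation. -/
theorem pairs_of_mul (m p : ℕ) (P : ℕ → ℕ → Prop) [∀ a b, Decidable (P a b)]
    (h : allLt (m + 1) (fun d => decide (m % d ≠ 0) || decide (d % p ≠ 1) || decide (d ≤ 1) ||
      decide (P d (m / d))) = true) (hm : 0 < m)
    {n e : ℕ} (hne : n * e = m) (h1 : n % p = 1) (h2 : 1 < n) : P n e := by
  rw [allLt_spec] at h
  have hn : n ∣ m := Dvd.intro _ hne
  have hle : n < m + 1 := by
    have := Nat.le_of_dvd hm hn
    omega
  have h3 := h n hle
  simp only [Bool.or_eq_true, decide_eq_true_eq] at h3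
  have he : m / n = e := by
    rw [← hne]
    exact Nat.mul_div_cancel_left e (by omega)
  rcases h3 with ((h3 | h3) | h3) | h3
  · exact absurd (Nat.mod_eq_zero_of_dvd hn) h3
  · exact absurd h1 h3
  · omega
  · rwa [he] at h3

theorem three_disjoint (p q r : L → Prop) (hpq : ∀ a, p a → ¬ q a) (hpr : ∀ a, p a → ¬ r a)
    (hqr : ∀ a, q a → ¬ r a) :
    Nat.card {a // p a} + Nat.card {a // q a} + Nat.card {a // r a} ≤ Nat.card L := by
  have h1 := Cfsg.Agent.Lib.Helper17.card_add_card_le_card_or q r hqr
  have h2 := Cfsg.Agent.Lib.Helper17.card_add_card_le_of_disjoint p (fun a => q a ∨ r a)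
    (fun a ha hqr' => hqr'.elim (hpq a ha) (hpr a ha))
  omega

theorem mul_eq_of_data {p n e r c N m : ℕ} (d : IsData L p n e r c) (hcard : Nat.card L = N)
    (hN : N = m * p) (hp : 0 < p) : n * e = m := by
  have h := d.2.2.1
  rw [hcard, hN] at h
  exact Nat.eq_of_mul_eq_mul_right hp h

end Cfsg.Agent.Lib.Helper55.J1Ord
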