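import Mathlib
import Cfsg.Agent.Lib.Helper55.J1OrdD

set_option autoImplicit false
set_option linter.style.haveILetI false
set_option maxRecDepth 100000
open scoped Pointwise

/-!
# Groups of order dividing `175560`: hard orders, part 1
-/

namespace Cfsg.Agent.Lib.Helper55.J1Ord

open Subgroup MulAction

universe u

variable {L : Type u} [Group L] [Finite L]

local instance fact19e : Fact (Nat.Prime 19) := ⟨prime19⟩
local instance fact7e : Fact (Nat.Prime 7) := ⟨by norm_num⟩
local instance fact5e : Fact (Nat.Prime 5) := ⟨by norm_num⟩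
local instance fact11e : Fact (Nat.Prime 11) := ⟨by norm_num⟩
local instance fact3e : Fact (Nat.Prime 3) := ⟨by norm_num⟩
local instance fact2e : Fact (Nat.Prime 2) := ⟨Nat.prime_two⟩

theorem false_5852 [IsSimpleGroup L] (ih : LocalIH L) (hcard : Nat.card L = 5852) : False := by
  obtain ⟨n, e, r, c, d⟩ := exists_data (L := L) (p := 19) (m := 308) (by rw [hcard]) (by norm_num)
    (by norm_num)
  obtain ⟨n7, e7, r7, c7, d7⟩ := exists_data (L := L) (p := 7) (m := 836) (by rw [hcard])
    (by norm_num) (by norm_num)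
  have h1 := mul_eq_of_data d hcard (m := 308) (by norm_num) (by norm_num)
  have h2 := mul_eq_of_data d7 hcard (m := 836) (by norm_num) (by norm_num)
  have k1 := pairs_of_mul 308 19 (fun a b => a = 77 ∧ b = 4) (by decide +kernel) (by norm_num) h1
    d.2.2.2.1 d.2.2.2.2.1
  have k2 := pairs_of_mul 836 7 (fun a b => a = 22 ∧ b = 38) (by decide +kernel) (by norm_num) h2
    d7.2.2.2.1 d7.2.2.2.2.1
  obtain ⟨rfl, rfl⟩ := k1
  obtain ⟨rfl, rfl⟩ := k2
  have := normalizer_dvd_of_ih ih d d7 (by norm_num)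
  norm_num at this

theorem false_29260 [IsSimpleGroup L] (ih : LocalIH L) (hcard : Nat.card L = 29260) : False := by
  have hnc : ¬ IsMulCommutative L :=
    Cfsg.Agent.Lib.Helper17.not_comm_of_simple_of_not_prime (by rw [hcard]; norm_num)
  obtain ⟨n, e, r, c, d⟩ := exists_data (L := L) (p := 19) (m := 1540) (by rw [hcard])
    (by norm_num) (by norm_num)
  have h1 := mul_eq_of_data d hcard (m := 1540) (by norm_num) (by norm_num)
  have k1 := pairs_of_mul 1540 19
    (fun a b => (a = 20 ∧ b = 77) ∨ (a = 77 ∧ b = 20) ∨ (a = 1540 ∧ b = 1))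
    (by decide +kernel) (by norm_num) h1 d.2.2.2.1 d.2.2.2.2.1
  have hr : r ∣ 18 := by have := d.2.2.2.2.2.1; norm_num at this; exact this
  have hr1 := d.2.2.2.2.2.2.1
  have hcr := d.2.2.2.2.2.2.2.1
  have hrle : r ≤ 18 := Nat.le_of_dvd (by norm_num) hr
  rcases k1 with ⟨rfl, rfl⟩ | ⟨rfl, rfl⟩ | ⟨rfl, rfl⟩
  · interval_cases r <;> omega
  · have hrc : r = 2 ∧ c = 10 := by interval_cases r <;> omega
    obtain ⟨rfl, rfl⟩ := hrc
    have := mod_eq_one_of_dvd hnc ih d (q := 5) (by norm_num) (by norm_num)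
    norm_num at this
  · interval_cases r <;> omega

theorem false_7980 [IsSimpleGroup L] (ih : LocalIH L) (hcard : Nat.card L = 7980) : False := by
  have hnc : ¬ IsMulCommutative L :=
    Cfsg.Agent.Lib.Helper17.not_comm_of_simple_of_not_prime (by rw [hcard]; norm_num)
  obtain ⟨n, e, r, c, d⟩ := exists_data (L := L) (p := 19) (m := 420) (by rw [hcard])
    (by norm_num) (by norm_num)
  have h1 := mul_eq_of_data d hcard (m := 420) (by norm_num) (by norm_num)
  have k1 := pairs_of_mul 420 19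
    (fun a b => (a = 20 ∧ b = 21) ∨ (a = 210 ∧ b = 2))
    (by decide +kernel) (by norm_num) h1 d.2.2.2.1 d.2.2.2.2.1
  have hr : r ∣ 18 := by have := d.2.2.2.2.2.1; norm_num at this; exact this
  have hr1 := d.2.2.2.2.2.2.1
  have hcr := d.2.2.2.2.2.2.2.1
  have hrle : r ≤ 18 := Nat.le_of_dvd (by norm_num) hr
  rcases k1 with ⟨rfl, rfl⟩ | ⟨rfl, rfl⟩
  · have hrc : r = 3 ∧ c = 7 := by interval_cases r <;> omega
    obtain ⟨rfl, rfl⟩ := hrc
    have := mod_eq_one_of_dvd hnc ih d (q := 7) (by norm_num) (by norm_num)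
    norm_num at this
  · have hrc : r = 2 ∧ c = 1 := by interval_cases r <;> omega
    obtain ⟨rfl, rfl⟩ := hrc
    -- the prime 5
    obtain ⟨n5, e5, r5, c5, d5⟩ := exists_data (L := L) (p := 5) (m := 1596) (by rw [hcard])
      (by norm_num) (by norm_num)
    have h5 := mul_eq_of_data d5 hcard (m := 1596) (by norm_num) (by norm_num)
    have k5 := pairs_of_mul 1596 5
      (fun a b => (a = 6 ∧ b = 266) ∨ (a = 21 ∧ b = 76) ∨ (a = 76 ∧ b = 21) ∨ (a = 266 ∧ b = 6) ∨
        (a = 1596 ∧ b = 1))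
      (by decide +kernel) (by norm_num) h5 d5.2.2.2.1 d5.2.2.2.2.1
    have hr5 : r5 ∣ 4 := by have := d5.2.2.2.2.2.1; norm_num at this; exact this
    have hr51 := d5.2.2.2.2.2.2.1
    have hcr5 := d5.2.2.2.2.2.2.2.1
    have hrle5 : r5 ≤ 4 := Nat.le_of_dvd (by norm_num) hr5
    have key5 : n5 = 266 ∧ e5 = 6 ∧ r5 = 2 ∧ c5 = 3 := by
      rcases k5 with ⟨rfl, rfl⟩ | ⟨rfl, rfl⟩ | ⟨rfl, rfl⟩ | ⟨rfl, rfl⟩ | ⟨rfl, rfl⟩
      · exfalso
        have := normalizer_dvd_of_ih ih d d5 (by norm_num)
        norm_num at this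
      · exfalso
        have := normalizer_dvd_of_ih ih d d5 (by norm_num)
        norm_num at this
      · exfalso
        interval_cases r5 <;> omega
      · refine ⟨rfl, rfl, ?_⟩
        interval_cases r5 <;> omega
      · exfalso
        interval_cases r5 <;> omega
    obtain ⟨rfl, rfl, rfl, rfl⟩ := key5
    -- the prime 7
    obtain ⟨n7, e7, r7, c7, d7⟩ := exists_data (L := L) (p := 7) (m := 1140) (by rw [hcard])
      (by norm_num) (by norm_num)
    have h7 := mul_eq_of_data d7 hcard (m := 1140) (by norm_num) (by norm_num)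
    have k7 := pairs_of_mul 1140 7
      (fun a b => (a = 15 ∧ b = 76) ∨ (a = 57 ∧ b = 20) ∨ (a = 190 ∧ b = 6))
      (by decide +kernel) (by norm_num) h7 d7.2.2.2.1 d7.2.2.2.2.1
    have hr7 : r7 ∣ 6 := by have := d7.2.2.2.2.2.1; norm_num at this; exact this
    have hr71 := d7.2.2.2.2.2.2.1
    have hcr7 := d7.2.2.2.2.2.2.2.1
    have hrle7 : r7 ≤ 6 := Nat.le_of_dvd (by norm_num) hr7
    rcases k7 with ⟨rfl, rfl⟩ | ⟨rfl, rfl⟩ | ⟨rfl, rfl⟩
    · have := normalizer_dvd_of_ih ih d d7 (by norm_num)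
      norm_num at this
    · have hrc7 : r7 = 2 ∧ c7 = 10 := by interval_cases r7 <;> omega
      obtain ⟨rfl, rfl⟩ := hrc7
      have := dvd_of_dvd d7 d5 (by norm_num) (by norm_num)
      norm_num at this
    · have hc7 : 1 ≤ c7 := by
        rcases Nat.eq_zero_or_pos c7 with h | h
        · rw [h] at hcr7; omega
        · exact h
      have s19 := card_singular d
      have s5 := card_singular d5
      have s7 := card_singular d7
      have hdis := three_disjoint (L := L) (fun g => 19 ∣ orderOf g) (fun g => 5 ∣ orderOf g)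
        (fun g => 7 ∣ orderOf g)
        (fun g hg => not_dvd_orderOf d (q := 5) (by norm_num) (by norm_num) g hg)
        (fun g hg => not_dvd_orderOf d (q := 7) (by norm_num) (by norm_num) g hg)
        (fun g hg => not_dvd_orderOf d5 (q := 7) (by norm_num) (by norm_num) g hg)
      rw [s19, s5, s7, hcard] at hdis
      norm_num at hdis
      omega

end Cfsg.Agent.Lib.Helper55.J1Ord
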