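import Mathlib
import Cfsg.Agent.Lib.Helper55.J1OrdE

set_option autoImplicit false
set_option linter.style.haveILetI false
set_option maxRecDepth 100000
open scoped Pointwise

/-!
# Groups of order dividing `175560`: hard orders, part 2
-/

namespace Cfsg.Agent.Lib.Helper55.J1Ord

open Subgroup MulAction

universe u

variable {L : Type u} [Group L] [Finite L]

local instance fact19f : Fact (Nat.Prime 19) := ⟨prime19⟩
local instance fact7f : Fact (Nat.Prime 7) := ⟨by norm_num⟩
local instance fact5f : Fact (Nat.Prime 5) := ⟨by norm_num⟩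
local instance fact11f : Fact (Nat.Prime 11) := ⟨by norm_num⟩
local instance fact3f : Fact (Nat.Prime 3) := ⟨by norm_num⟩
local instance fact2f : Fact (Nat.Prime 2) := ⟨Nat.prime_two⟩

theorem false_15960 [IsSimpleGroup L] (ih : LocalIH L) (hcard : Nat.card L = 15960) : False := by
  have hnc : ¬ IsMulCommutative L :=
    Cfsg.Agent.Lib.Helper17.not_comm_of_simple_of_not_prime (by rw [hcard]; norm_num)
  obtain ⟨n, e, r, c, d⟩ := exists_data (L := L) (p := 19) (m := 840) (by rw [hcard])
    (by norm_num) (by norm_num)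
  have h1 := mul_eq_of_data d hcard (m := 840) (by norm_num) (by norm_num)
  have k1 := pairs_of_mul 840 19
    (fun a b => (a = 20 ∧ b = 42) ∨ (a = 210 ∧ b = 4))
    (by decide +kernel) (by norm_num) h1 d.2.2.2.1 d.2.2.2.2.1
  have hr : r ∣ 18 := by have := d.2.2.2.2.2.1; norm_num at this; exact this
  have hr1 := d.2.2.2.2.2.2.1
  have hcr := d.2.2.2.2.2.2.2.1
  have hrle : r ≤ 18 := Nat.le_of_dvd (by norm_num) hr
  rcases k1 with ⟨rfl, rfl⟩ | ⟨rfl, rfl⟩
  · have hrc : (r = 2 ∧ c = 21) ∨ (r = 3 ∧ c = 14) ∨ (r = 6 ∧ c = 7) := by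
      interval_cases r <;> omega
    rcases hrc with ⟨rfl, rfl⟩ | ⟨rfl, rfl⟩ | ⟨rfl, rfl⟩
    · have := mod_eq_one_of_dvd hnc ih d (q := 7) (by norm_num) (by norm_num)
      norm_num at this
    · have := mod_eq_one_of_dvd hnc ih d (q := 7) (by norm_num) (by norm_num)
      norm_num at this
    · have := mod_eq_one_of_dvd hnc ih d (q := 7) (by norm_num) (by norm_num)
      norm_num at this
  · have hrc : r = 2 ∧ c = 2 := by interval_cases r <;> omega
    obtain ⟨rfl, rfl⟩ := hrc
    obtain ⟨P⟩ : Nonempty (Sylow 19 L) := inferInstance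
    obtain ⟨hcP, hcN, hcC⟩ := d.2.1 P
    have h2C : 2 ∣ Nat.card (centralizer ((P : Subgroup L) : Set L)) := by rw [hcC]; norm_num
    obtain ⟨w, hw⟩ := exists_prime_orderOf_dvd_card' 2 h2C
    set z : L := (w : L) with hz
    have hzo : orderOf z = 2 := by rw [hz, Subgroup.orderOf_coe]; exact hw
    have hzC : z ∈ centralizer ((P : Subgroup L) : Set L) := w.2
    have hz2 : z * z = 1 := by rw [← pow_two, ← hzo]; exact pow_orderOf_eq_one z
    have hz1 : z ≠ 1 := by
      intro h
      rw [h, orderOf_one] at hzo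
      omega
    set H := centralizer ({z} : Set L) with hH
    have hHne : H ≠ ⊤ := centralizer_ne_top hnc z hz1
    have hPH : (P : Subgroup L) ≤ H := by
      intro a ha
      rw [hH, mem_centralizer_singleton_iff]
      exact (mem_centralizer_iff.mp hzC a ha)
    have h19H : 19 ∣ Nat.card H := by
      have := Subgroup.card_dvd_of_le hPH
      rwa [hcP] at this
    have hdvd := card_dvd_of_ih ih d H hHne h19H
    have hzt : IsPGroup 2 (zpowers z) :=
      IsPGroup.of_card (n := 1) (by rw [Nat.card_zpowers, hzo, pow_one])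
    obtain ⟨S, hS⟩ := hzt.exists_le_sylow
    have h8 : Nat.card (S : Subgroup L) = 8 := by
      have := Cfsg.Agent.Lib.Helper17.card_sylow_of_card_eq S (k := 3) (m := 1995)
        (by rw [hcard]; norm_num) (by norm_num)
      rw [this]; norm_num
    have h8dvd := eight_dvd_card_centralizer (by rw [hcard]; norm_num) S h8 z
      (hS (mem_zpowers z)) hz2 hz1
    have := h8dvd.trans hdvd
    norm_num at this

theorem false_17556 [IsSimpleGroup L] (ih : LocalIH L) (hcard : Nat.card L = 17556) : False := by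
  have hnc : ¬ IsMulCommutative L :=
    Cfsg.Agent.Lib.Helper17.not_comm_of_simple_of_not_prime (by rw [hcard]; norm_num)
  obtain ⟨n, e, r, c, d⟩ := exists_data (L := L) (p := 19) (m := 924) (by rw [hcard])
    (by norm_num) (by norm_num)
  have h1 := mul_eq_of_data d hcard (m := 924) (by norm_num) (by norm_num)
  have k1 := pairs_of_mul 924 19 (fun a b => a = 77 ∧ b = 12)
    (by decide +kernel) (by norm_num) h1 d.2.2.2.1 d.2.2.2.2.1
  obtain ⟨rfl, rfl⟩ := k1
  have hS : ∀ S : Sylow 2 L, Nat.card (S : Subgroup L) ∣ 19 * 12 := by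
    intro S
    have := Cfsg.Agent.Lib.Helper17.card_sylow_of_card_eq S (k := 2) (m := 4389)
      (by rw [hcard]; norm_num) (by norm_num)
    rw [this]; norm_num
  obtain ⟨n11, e11, r11, c11, d11⟩ := exists_data (L := L) (p := 11) (m := 1596) (by rw [hcard])
    (by norm_num) (by norm_num)
  have h11 := mul_eq_of_data d11 hcard (m := 1596) (by norm_num) (by norm_num)
  have k11 := pairs_of_mul 1596 11
    (fun a b => (a = 12 ∧ b = 133) ∨ (a = 133 ∧ b = 12) ∨ (a = 1596 ∧ b = 1))
    (by decide +kernel) (by norm_num) h11 d11.2.2.2.1 d11.2.2.2.2.1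
  have hr11 : r11 ∣ 10 := by have := d11.2.2.2.2.2.1; norm_num at this; exact this
  have hr111 := d11.2.2.2.2.2.2.1
  have hcr11 := d11.2.2.2.2.2.2.2.1
  have hrle11 : r11 ≤ 10 := Nat.le_of_dvd (by norm_num) hr11
  rcases k11 with ⟨rfl, rfl⟩ | ⟨rfl, rfl⟩ | ⟨rfl, rfl⟩
  · have := normalizer_dvd_of_ih ih d d11 (by norm_num)
    norm_num at this
  · have hrc : r11 = 2 ∧ c11 = 6 := by interval_cases r11 <;> omega
    obtain ⟨rfl, rfl⟩ := hrc
    have := odd_of_sylow_two_le hnc (by rw [hcard]; norm_num) ih d hS d11 (by norm_num)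
    norm_num at this
  · interval_cases r11 <;> omega

theorem false_35112 [IsSimpleGroup L] (ih : LocalIH L) (hcard : Nat.card L = 35112) : False := by
  have hnc : ¬ IsMulCommutative L :=
    Cfsg.Agent.Lib.Helper17.not_comm_of_simple_of_not_prime (by rw [hcard]; norm_num)
  obtain ⟨n, e, r, c, d⟩ := exists_data (L := L) (p := 19) (m := 1848) (by rw [hcard])
    (by norm_num) (by norm_num)
  have h1 := mul_eq_of_data d hcard (m := 1848) (by norm_num) (by norm_num)
  have k1 := pairs_of_mul 1848 19 (fun a b => a = 77 ∧ b = 24)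
    (by decide +kernel) (by norm_num) h1 d.2.2.2.1 d.2.2.2.2.1
  obtain ⟨rfl, rfl⟩ := k1
  have hS : ∀ S : Sylow 2 L, Nat.card (S : Subgroup L) ∣ 19 * 24 := by
    intro S
    have := Cfsg.Agent.Lib.Helper17.card_sylow_of_card_eq S (k := 3) (m := 4389)
      (by rw [hcard]; norm_num) (by norm_num)
    rw [this]; norm_num
  obtain ⟨n7, e7, r7, c7, d7⟩ := exists_data (L := L) (p := 7) (m := 5016) (by rw [hcard])
    (by norm_num) (by norm_num)
  have h7 := mul_eq_of_data d7 hcard (m := 5016) (by norm_num) (by norm_num)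
  have k7 := pairs_of_mul 5016 7
    (fun a b => (a = 8 ∧ b = 627) ∨ (a = 22 ∧ b = 228) ∨ (a = 57 ∧ b = 88) ∨ (a = 456 ∧ b = 11) ∨
      (a = 1254 ∧ b = 4))
    (by decide +kernel) (by norm_num) h7 d7.2.2.2.1 d7.2.2.2.2.1
  have hr7 : r7 ∣ 6 := by have := d7.2.2.2.2.2.1; norm_num at this; exact this
  have hr71 := d7.2.2.2.2.2.2.1
  have hcr7 := d7.2.2.2.2.2.2.2.1
  have hrle7 : r7 ≤ 6 := Nat.le_of_dvd (by norm_num) hr7
  rcases k7 with ⟨rfl, rfl⟩ | ⟨rfl, rfl⟩ | ⟨rfl, rfl⟩ | ⟨rfl, rfl⟩ | ⟨rfl, rfl⟩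
  · have := normalizer_dvd_of_ih ih d d7 (by norm_num)
    norm_num at this
  · have := normalizer_dvd_of_ih ih d d7 (by norm_num)
    norm_num at this
  · have hrc : r7 = 2 ∧ c7 = 44 := by interval_cases r7 <;> omega
    obtain ⟨rfl, rfl⟩ := hrc
    have := odd_of_sylow_two_le hnc (by rw [hcard]; norm_num) ih d hS d7 (by norm_num)
    norm_num at this
  · interval_cases r7 <;> omega
  · have hrc : r7 = 2 ∧ c7 = 2 := by interval_cases r7 <;> omega
    obtain ⟨rfl, rfl⟩ := hrc
    have := odd_of_sylow_two_le hnc (by rw [hcard]; norm_num) ih d hS d7 (by norm_num)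
    norm_num at this

end Cfsg.Agent.Lib.Helper55.J1Ord
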