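import Mathlib
import Cfsg.Agent.Lib.Helper55.J1OrdF

set_option autoImplicit false
set_option linter.style.haveILetI false
set_option maxRecDepth 100000
open scoped Pointwise

/-!
# Groups of order dividing `175560`: hard orders, part 3 (`58520` and `87780`)
-/

namespace Cfsg.Agent.Lib.Helper55.J1Ord

open Subgroup MulAction

universe u

variable {L : Type u} [Group L] [Finite L]

local instance fact19g : Fact (Nat.Prime 19) := ⟨prime19⟩
local instance fact7g : Fact (Nat.Prime 7) := ⟨by norm_num⟩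
local instance fact5g : Fact (Nat.Prime 5) := ⟨by norm_num⟩
local instance fact11g : Fact (Nat.Prime 11) := ⟨by norm_num⟩
local instance fact3g : Fact (Nat.Prime 3) := ⟨by norm_num⟩
local instance fact2g : Fact (Nat.Prime 2) := ⟨Nat.prime_two⟩

theorem not_dvd_mul_of_prime {q a b : ℕ} (hq : q.Prime) (ha : ¬ q ∣ a) (hb : ¬ q ∣ b) :
    ¬ q ∣ a * b := by
  intro h
  rcases hq.dvd_mul.mp h with h | h
  · exact ha h
  · exact hb h

/-- final step for `58520`, given the data of the prime `7`. -/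
theorem final_58520 [IsSimpleGroup L] (ih : LocalIH L) (hcard : Nat.card L = 58520)
    (d : IsData L 19 1540 2 2 1) {n7 e7 r7 c7 : ℕ} (d7 : IsData L 7 n7 e7 r7 c7)
    (hnc7 : n7 * c7 = 4180) (h5c7 : ¬ 5 ∣ c7) : False := by
  obtain ⟨n5, e5, r5, c5, d5⟩ := exists_data (L := L) (p := 5) (m := 11704) (by rw [hcard])
    (by norm_num) (by norm_num)
  have h5 := mul_eq_of_data d5 hcard (m := 11704) (by norm_num) (by norm_num)
  have k5 := pairs_of_mul 11704 5
    (fun a b => (a = 11 ∧ b = 1064) ∨ (a = 56 ∧ b = 209) ∨ (a = 76 ∧ b = 154) ∨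
      (a = 266 ∧ b = 44) ∨ (a = 616 ∧ b = 19) ∨ (a = 836 ∧ b = 14) ∨ (a = 2926 ∧ b = 4))
    (by decide +kernel) (by norm_num) h5 d5.2.2.2.1 d5.2.2.2.2.1
  have hr5 : r5 ∣ 4 := by have := d5.2.2.2.2.2.1; norm_num at this; exact this
  have hr51 := d5.2.2.2.2.2.2.1
  have hcr5 := d5.2.2.2.2.2.2.2.1
  have hrle5 : r5 ≤ 4 := Nat.le_of_dvd (by norm_num) hr5
  have key : 2926 ≤ n5 * c5 ∧ ¬ 7 ∣ c5 := by
    rcases k5 with ⟨rfl, rfl⟩ | ⟨rfl, rfl⟩ | ⟨rfl, rfl⟩ | ⟨rfl, rfl⟩ | ⟨rfl, rfl⟩ | ⟨rfl, rfl⟩ |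
      ⟨rfl, rfl⟩
    · exfalso
      have := normalizer_dvd_of_ih ih d d5 (by norm_num)
      norm_num at this
    · exfalso
      have := normalizer_dvd_of_ih ih d d5 (by norm_num)
      norm_num at this
    · exfalso
      have hrc : r5 = 2 ∧ c5 = 77 := by interval_cases r5 <;> omega
      obtain ⟨rfl, rfl⟩ := hrc
      exact h5c7 (dvd_of_dvd d5 d7 (by norm_num) (by norm_num))
    · have hrc : (r5 = 2 ∧ c5 = 22) ∨ (r5 = 4 ∧ c5 = 11) := by interval_cases r5 <;> omega
      rcases hrc with ⟨rfl, rfl⟩ | ⟨rfl, rfl⟩ <;> norm_num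
    · exfalso
      have := normalizer_dvd_of_ih ih d d5 (by norm_num)
      norm_num at this
    · exfalso
      have hrc : r5 = 2 ∧ c5 = 7 := by interval_cases r5 <;> omega
      obtain ⟨rfl, rfl⟩ := hrc
      exact h5c7 (dvd_of_dvd d5 d7 (by norm_num) (by norm_num))
    · have hrc : (r5 = 2 ∧ c5 = 2) ∨ (r5 = 4 ∧ c5 = 1) := by interval_cases r5 <;> omega
      rcases hrc with ⟨rfl, rfl⟩ | ⟨rfl, rfl⟩ <;> norm_num
  obtain ⟨hge, h7c5⟩ := key
  have s19 := card_singular d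
  have s5 := card_singular d5
  have s7 := card_singular d7
  have hdis := three_disjoint (L := L) (fun g => 19 ∣ orderOf g) (fun g => 7 ∣ orderOf g)
    (fun g => 5 ∣ orderOf g)
    (fun g hg => not_dvd_orderOf d (q := 7) (by norm_num) (by norm_num) g hg)
    (fun g hg => not_dvd_orderOf d (q := 5) (by norm_num) (by norm_num) g hg)
    (fun g hg => not_dvd_orderOf d7 (q := 5) (by norm_num)
      (not_dvd_mul_of_prime (by norm_num) (by norm_num) h5c7) g hg)
  rw [s19, s5, s7, hcard] at hdis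
  have e1 : n7 * (7 - 1) * c7 = 6 * (n7 * c7) := by norm_num; ring
  have e2 : n5 * (5 - 1) * c5 = 4 * (n5 * c5) := by norm_num; ring
  rw [e1, e2, hnc7] at hdis
  omega

theorem false_58520 [IsSimpleGroup L] (ih : LocalIH L) (hcard : Nat.card L = 58520) : False := by
  have hnc : ¬ IsMulCommutative L :=
    Cfsg.Agent.Lib.Helper17.not_comm_of_simple_of_not_prime (by rw [hcard]; norm_num)
  obtain ⟨n, e, r, c, d⟩ := exists_data (L := L) (p := 19) (m := 3080) (by rw [hcard])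
    (by norm_num) (by norm_num)
  have h1 := mul_eq_of_data d hcard (m := 3080) (by norm_num) (by norm_num)
  have k1 := pairs_of_mul 3080 19
    (fun a b => (a = 20 ∧ b = 154) ∨ (a = 77 ∧ b = 40) ∨ (a = 1540 ∧ b = 2))
    (by decide +kernel) (by norm_num) h1 d.2.2.2.1 d.2.2.2.2.1
  have hr : r ∣ 18 := by have := d.2.2.2.2.2.1; norm_num at this; exact this
  have hr1 := d.2.2.2.2.2.2.1
  have hcr := d.2.2.2.2.2.2.2.1
  have hrle : r ≤ 18 := Nat.le_of_dvd (by norm_num) hr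
  rcases k1 with ⟨rfl, rfl⟩ | ⟨rfl, rfl⟩ | ⟨rfl, rfl⟩
  · have hrc : r = 2 ∧ c = 77 := by interval_cases r <;> omega
    obtain ⟨rfl, rfl⟩ := hrc
    have := mod_eq_one_of_dvd hnc ih d (q := 7) (by norm_num) (by norm_num)
    norm_num at this
  · have hrc : r = 2 ∧ c = 20 := by interval_cases r <;> omega
    obtain ⟨rfl, rfl⟩ := hrc
    have := mod_eq_one_of_dvd hnc ih d (q := 5) (by norm_num) (by norm_num)
    norm_num at this
  · have hrc : r = 2 ∧ c = 1 := by interval_cases r <;> omega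
    obtain ⟨rfl, rfl⟩ := hrc
    obtain ⟨n7, e7, r7, c7, d7⟩ := exists_data (L := L) (p := 7) (m := 8360) (by rw [hcard])
      (by norm_num) (by norm_num)
    have h7 := mul_eq_of_data d7 hcard (m := 8360) (by norm_num) (by norm_num)
    have k7 := pairs_of_mul 8360 7
      (fun a b => (a = 8 ∧ b = 1045) ∨ (a = 22 ∧ b = 380) ∨ (a = 190 ∧ b = 44) ∨
        (a = 4180 ∧ b = 2))
      (by decide +kernel) (by norm_num) h7 d7.2.2.2.1 d7.2.2.2.2.1
    have hr7 : r7 ∣ 6 := by have := d7.2.2.2.2.2.1; norm_num at this; exact this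
    have hr71 := d7.2.2.2.2.2.2.1
    have hcr7 := d7.2.2.2.2.2.2.2.1
    have hrle7 : r7 ≤ 6 := Nat.le_of_dvd (by norm_num) hr7
    rcases k7 with ⟨rfl, rfl⟩ | ⟨rfl, rfl⟩ | ⟨rfl, rfl⟩ | ⟨rfl, rfl⟩
    · have := normalizer_dvd_of_ih ih d d7 (by norm_num)
      norm_num at this
    · have := normalizer_dvd_of_ih ih d d7 (by norm_num)
      norm_num at this
    · have hrc : r7 = 2 ∧ c7 = 22 := by interval_cases r7 <;> omega
      obtain ⟨rfl, rfl⟩ := hrc
      exact final_58520 ih hcard d d7 (by norm_num) (by norm_num)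
    · have hrc : r7 = 2 ∧ c7 = 1 := by interval_cases r7 <;> omega
      obtain ⟨rfl, rfl⟩ := hrc
      exact final_58520 ih hcard d d7 (by norm_num) (by norm_num)

end Cfsg.Agent.Lib.Helper55.J1Ord
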