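import Mathlib
import Cfsg.Agent.Lib.Helper55.J1OrdG

set_option autoImplicit false
set_option linter.style.haveILetI false
set_option maxRecDepth 100000
open scoped Pointwise

/-!
# Groups of order dividing `175560`: the hard order `87780`
-/

namespace Cfsg.Agent.Lib.Helper55.J1Ord

open Subgroup MulAction

universe u

variable {L : Type u} [Group L] [Finite L]

local instance fact19h : Fact (Nat.Prime 19) := ⟨prime19⟩
local instance fact7h : Fact (Nat.Prime 7) := ⟨by norm_num⟩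
local instance fact5h : Fact (Nat.Prime 5) := ⟨by norm_num⟩
local instance fact11h : Fact (Nat.Prime 11) := ⟨by norm_num⟩
local instance fact3h : Fact (Nat.Prime 3) := ⟨by norm_num⟩
local instance fact2h : Fact (Nat.Prime 2) := ⟨Nat.prime_two⟩

/-- data of the prime `5` in a simple group of order `87780`. -/
theorem data5_87780 [IsSimpleGroup L] (ih : LocalIH L) (hcard : Nat.card L = 87780)
    {n e r c : ℕ} (d : IsData L 19 n e r c) (he : ¬ 5 ∣ 19 * e) :
    ∃ n5 e5 r5 c5 : ℕ, IsData L 5 n5 e5 r5 c5 ∧ n5 * c5 = 8778 ∧ (c5 = 33 ∨ c5 = 3) := by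
  obtain ⟨n5, e5, r5, c5, d5⟩ := exists_data (L := L) (p := 5) (m := 17556) (by rw [hcard])
    (by norm_num) (by norm_num)
  refine ⟨n5, e5, r5, c5, d5, ?_⟩
  have h5 := mul_eq_of_data d5 hcard (m := 17556) (by norm_num) (by norm_num)
  have k5 := pairs_of_mul 17556 5
    (fun a b => (a = 6 ∧ b = 2926) ∨ (a = 11 ∧ b = 1596) ∨ (a = 21 ∧ b = 836) ∨
      (a = 66 ∧ b = 266) ∨ (a = 76 ∧ b = 231) ∨ (a = 231 ∧ b = 76) ∨ (a = 266 ∧ b = 66) ∨
      (a = 836 ∧ b = 21) ∨ (a = 1596 ∧ b = 11) ∨ (a = 2926 ∧ b = 6) ∨ (a = 17556 ∧ b = 1))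
    (by decide +kernel) (by norm_num) h5 d5.2.2.2.1 d5.2.2.2.2.1
  have hr5 : r5 ∣ 4 := by have := d5.2.2.2.2.2.1; norm_num at this; exact this
  have hr51 := d5.2.2.2.2.2.2.1
  have hcr5 := d5.2.2.2.2.2.2.2.1
  have hrle5 : r5 ≤ 4 := Nat.le_of_dvd (by norm_num) hr5
  have hA : 19 ∣ 5 * e5 → False := by
    intro h
    have h1 := normalizer_dvd_of_ih ih d d5 h
    exact he ((Dvd.intro _ rfl).trans h1)
  rcases k5 with ⟨rfl, rfl⟩ | ⟨rfl, rfl⟩ | ⟨rfl, rfl⟩ | ⟨rfl, rfl⟩ | ⟨rfl, rfl⟩ | ⟨rfl, rfl⟩ |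
    ⟨rfl, rfl⟩ | ⟨rfl, rfl⟩ | ⟨rfl, rfl⟩ | ⟨rfl, rfl⟩ | ⟨rfl, rfl⟩
  · exact (hA (by norm_num)).elim
  · exact (hA (by norm_num)).elim
  · exact (hA (by norm_num)).elim
  · exact (hA (by norm_num)).elim
  · exfalso; interval_cases r5 <;> omega
  · exact (hA (by norm_num)).elim
  · have hrc : r5 = 2 ∧ c5 = 33 := by interval_cases r5 <;> omega
    obtain ⟨rfl, rfl⟩ := hrc
    norm_num
  · exfalso; interval_cases r5 <;> omega
  · exfalso; interval_cases r5 <;> omega
  · have hrc : r5 = 2 ∧ c5 = 3 := by interval_cases r5 <;> omega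
    obtain ⟨rfl, rfl⟩ := hrc
    norm_num
  · exfalso; interval_cases r5 <;> omega

/-- data of the prime `7` in a simple group of order `87780`. -/
theorem data7_87780 [IsSimpleGroup L] (ih : LocalIH L) (hcard : Nat.card L = 87780)
    {n e r c : ℕ} (d : IsData L 19 n e r c) (he : ¬ 7 ∣ 19 * e)
    {n5 e5 r5 c5 : ℕ} (d5 : IsData L 5 n5 e5 r5 c5) (hc5 : ¬ 7 ∣ c5) :
    ∃ n7 e7 r7 c7 : ℕ, IsData L 7 n7 e7 r7 c7 ∧
      ((n7 = 190 ∧ (c7 = 33 ∨ c7 = 22 ∨ c7 = 11)) ∨ (n7 = 4180 ∧ c7 = 1)) := by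
  obtain ⟨n7, e7, r7, c7, d7⟩ := exists_data (L := L) (p := 7) (m := 12540) (by rw [hcard])
    (by norm_num) (by norm_num)
  refine ⟨n7, e7, r7, c7, d7, ?_⟩
  have h7 := mul_eq_of_data d7 hcard (m := 12540) (by norm_num) (by norm_num)
  have k7 := pairs_of_mul 12540 7
    (fun a b => (a = 15 ∧ b = 836) ∨ (a = 22 ∧ b = 570) ∨ (a = 57 ∧ b = 220) ∨
      (a = 190 ∧ b = 66) ∨ (a = 330 ∧ b = 38) ∨ (a = 1254 ∧ b = 10) ∨ (a = 4180 ∧ b = 3))
    (by decide +kernel) (by norm_num) h7 d7.2.2.2.1 d7.2.2.2.2.1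
  have hr7 : r7 ∣ 6 := by have := d7.2.2.2.2.2.1; norm_num at this; exact this
  have hr71 := d7.2.2.2.2.2.2.1
  have hcr7 := d7.2.2.2.2.2.2.2.1
  have hrle7 : r7 ≤ 6 := Nat.le_of_dvd (by norm_num) hr7
  have hA : 19 ∣ 7 * e7 → False := by
    intro h
    have h1 := normalizer_dvd_of_ih ih d d7 h
    exact he ((Dvd.intro _ rfl).trans h1)
  rcases k7 with ⟨rfl, rfl⟩ | ⟨rfl, rfl⟩ | ⟨rfl, rfl⟩ | ⟨rfl, rfl⟩ | ⟨rfl, rfl⟩ | ⟨rfl, rfl⟩ |
    ⟨rfl, rfl⟩
  · exact (hA (by norm_num)).elim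
  · exact (hA (by norm_num)).elim
  · exfalso
    have hrc : r7 = 2 ∧ c7 = 110 := by interval_cases r7 <;> omega
    obtain ⟨rfl, rfl⟩ := hrc
    exact hc5 (dvd_of_dvd d7 d5 (by norm_num) (by norm_num))
  · left
    refine ⟨rfl, ?_⟩
    interval_cases r7 <;> omega
  · exact (hA (by norm_num)).elim
  · exfalso
    have hrc : r7 = 2 ∧ c7 = 5 := by interval_cases r7 <;> omega
    obtain ⟨rfl, rfl⟩ := hrc
    exact hc5 (dvd_of_dvd d7 d5 (by norm_num) (by norm_num))
  · right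
    refine ⟨rfl, ?_⟩
    interval_cases r7 <;> omega

theorem false_87780 [IsSimpleGroup L] (ih : LocalIH L) (hcard : Nat.card L = 87780) : False := by
  have hnc : ¬ IsMulCommutative L :=
    Cfsg.Agent.Lib.Helper17.not_comm_of_simple_of_not_prime (by rw [hcard]; norm_num)
  obtain ⟨n, e, r, c, d⟩ := exists_data (L := L) (p := 19) (m := 4620) (by rw [hcard])
    (by norm_num) (by norm_num)
  have h1 := mul_eq_of_data d hcard (m := 4620) (by norm_num) (by norm_num)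
  have k1 := pairs_of_mul 4620 19
    (fun a b => (a = 20 ∧ b = 231) ∨ (a = 77 ∧ b = 60) ∨ (a = 210 ∧ b = 22) ∨ (a = 1540 ∧ b = 3))
    (by decide +kernel) (by norm_num) h1 d.2.2.2.1 d.2.2.2.2.1
  have hr : r ∣ 18 := by have := d.2.2.2.2.2.1; norm_num at this; exact this
  have hr1 := d.2.2.2.2.2.2.1
  have hcr := d.2.2.2.2.2.2.2.1
  have hrle : r ≤ 18 := Nat.le_of_dvd (by norm_num) hr
  rcases k1 with ⟨rfl, rfl⟩ | ⟨rfl, rfl⟩ | ⟨rfl, rfl⟩ | ⟨rfl, rfl⟩
  · have hrc : r = 3 ∧ c = 77 := by interval_cases r <;> omega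
    obtain ⟨rfl, rfl⟩ := hrc
    have := mod_eq_one_of_dvd hnc ih d (q := 7) (by norm_num) (by norm_num)
    norm_num at this
  · have hrc : (r = 2 ∧ c = 30) ∨ (r = 3 ∧ c = 20) ∨ (r = 6 ∧ c = 10) := by
      interval_cases r <;> omega
    rcases hrc with ⟨rfl, rfl⟩ | ⟨rfl, rfl⟩ | ⟨rfl, rfl⟩
    · have := mod_eq_one_of_dvd hnc ih d (q := 5) (by norm_num) (by norm_num)
      norm_num at this
    · have := mod_eq_one_of_dvd hnc ih d (q := 5) (by norm_num) (by norm_num)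
      norm_num at this
    · have := mod_eq_one_of_dvd hnc ih d (q := 5) (by norm_num) (by norm_num)
      norm_num at this
  · -- n = 210, |N| = 418
    have hrc : r = 2 ∧ c = 11 := by interval_cases r <;> omega
    obtain ⟨rfl, rfl⟩ := hrc
    obtain ⟨n5, e5, r5, c5, d5, hn5, hc5⟩ := data5_87780 ih hcard d (by norm_num)
    have h7c5 : ¬ 7 ∣ c5 := by rcases hc5 with rfl | rfl <;> norm_num
    obtain ⟨n7, e7, r7, c7, d7, hc7⟩ := data7_87780 ih hcard d (by norm_num) d5 h7c5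
    have s19 := card_singular d
    have s5 := card_singular d5
    have s7 := card_singular d7
    have hdis := three_disjoint (L := L) (fun g => 19 ∣ orderOf g) (fun g => 5 ∣ orderOf g)
      (fun g => 7 ∣ orderOf g)
      (fun g hg => not_dvd_orderOf d (q := 5) (by norm_num) (by norm_num) g hg)
      (fun g hg => not_dvd_orderOf d (q := 7) (by norm_num) (by norm_num) g hg)
      (fun g hg => not_dvd_orderOf d5 (q := 7) (by norm_num)
        (not_dvd_mul_of_prime (by norm_num) (by norm_num) h7c5) g hg)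
    rw [s19, s5, s7, hcard] at hdis
    have e2 : n5 * (5 - 1) * c5 = 4 * (n5 * c5) := by norm_num; ring
    rw [e2, hn5] at hdis
    rcases hc7 with ⟨rfl, hc7⟩ | ⟨rfl, rfl⟩
    · rcases hc7 with rfl | rfl | rfl <;> norm_num at hdis
    · norm_num at hdis
  · -- n = 1540, |N| = 57
    have hrc : r = 3 ∧ c = 1 := by interval_cases r <;> omega
    obtain ⟨rfl, rfl⟩ := hrc
    obtain ⟨n5, e5, r5, c5, d5, hn5, hc5⟩ := data5_87780 ih hcard d (by norm_num)
    have h7c5 : ¬ 7 ∣ c5 := by rcases hc5 with rfl | rfl <;> norm_num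
    obtain ⟨n7, e7, r7, c7, d7, hc7⟩ := data7_87780 ih hcard d (by norm_num) d5 h7c5
    have s19 := card_singular d
    have s5 := card_singular d5
    have s7 := card_singular d7
    have hdis := three_disjoint (L := L) (fun g => 19 ∣ orderOf g) (fun g => 5 ∣ orderOf g)
      (fun g => 7 ∣ orderOf g)
      (fun g hg => not_dvd_orderOf d (q := 5) (by norm_num) (by norm_num) g hg)
      (fun g hg => not_dvd_orderOf d (q := 7) (by norm_num) (by norm_num) g hg)
      (fun g hg => not_dvd_orderOf d5 (q := 7) (by norm_num)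
        (not_dvd_mul_of_prime (by norm_num) (by norm_num) h7c5) g hg)
    rw [s19, s5, s7, hcard] at hdis
    have e2 : n5 * (5 - 1) * c5 = 4 * (n5 * c5) := by norm_num; ring
    rw [e2, hn5] at hdis
    rcases hc7 with ⟨rfl, hc7⟩ | ⟨rfl, rfl⟩
    · rcases hc7 with rfl | rfl | rfl
      · norm_num at hdis
      · norm_num at hdis
      · -- c7 = 11: the prime 11
        obtain ⟨n11, e11, r11, c11, d11⟩ := exists_data (L := L) (p := 11) (m := 7980)
          (by rw [hcard]) (by norm_num) (by norm_num)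
        have h711 : 7 ∣ c11 := dvd_of_dvd d7 d11 (by norm_num) (by norm_num)
        have h11 := mul_eq_of_data d11 hcard (m := 7980) (by norm_num) (by norm_num)
        have k11 := pairs_of_mul 7980 11
          (fun a b => (a = 12 ∧ b = 665) ∨ (a = 133 ∧ b = 60) ∨ (a = 210 ∧ b = 38) ∨
            (a = 1596 ∧ b = 5))
          (by decide +kernel) (by norm_num) h11 d11.2.2.2.1 d11.2.2.2.2.1
        have hcr11 := d11.2.2.2.2.2.2.2.1
        have h7e : 7 ∣ e11 := by rw [← hcr11]; exact h711.mul_right r11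
        rcases k11 with ⟨rfl, rfl⟩ | ⟨rfl, rfl⟩ | ⟨rfl, rfl⟩ | ⟨rfl, rfl⟩
        · have := normalizer_dvd_of_ih ih d d11 (by norm_num)
          norm_num at this
        · norm_num at h7e
        · have := normalizer_dvd_of_ih ih d d11 (by norm_num)
          norm_num at this
        · norm_num at h7e
    · norm_num at hdis

end Cfsg.Agent.Lib.Helper55.J1Ord
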