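import Mathlib
import Cfsg.Agent.Lib.Helper17.Engine
import Cfsg.Agent.Lib.Helper55.J1OrdH

set_option autoImplicit false
set_option linter.style.haveILetI false
set_option maxRecDepth 100000
open scoped Pointwise

/-!
# Groups of order dividing `175560`: no simple group of order `19 m`, `m` a proper divisor of `9240`
-/

namespace Cfsg.Agent.Lib.Helper55.J1Ord

open Subgroup MulAction Cfsg.Agent.Lib.Helper17

universe u

variable {L : Type u} [Group L] [Finite L]

/-- the cofactors `m` treated by hand. -/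
def hardList : List ℕ := [308, 420, 840, 924, 1540, 1848, 3080, 4620]

/-- certificates for the remaining cofactors. -/
def certOf : ℕ → Cert
  | 2 => .tod
  | 3 => .sy 19 1 3
  | 4 => .sy 19 1 4
  | 5 => .sy 19 1 5
  | 6 => .tod
  | 7 => .sy 19 1 7
  | 8 => .sy 19 1 8
  | 10 => .tod
  | 11 => .sy 19 1 11
  | 12 => .sy 19 1 12
  | 14 => .tod
  | 15 => .sy 19 1 15
  | 20 => .sy 19 1 20
  | 21 => .sy 19 1 21
  | 22 => .tod
  | 24 => .sy 19 1 24
  | 28 => .sy 19 1 28
  | 30 => .tod
  | 33 => .sy 19 1 33
  | 35 => .sy 19 1 35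
  | 40 => .sy 19 1 40
  | 42 => .tod
  | 44 => .sy 19 1 44
  | 55 => .sy 19 1 55
  | 56 => .sy 19 1 56
  | 60 => .sy 5 1 228
  | 66 => .tod
  | 70 => .tod
  | 77 => .sy 19 1 77
  | 84 => .sy 19 1 84
  | 88 => .sy 19 1 88
  | 105 => .sy 19 1 105
  | 110 => .tod
  | 120 => .sy 19 1 120
  | 132 => .sy 19 1 132
  | 140 => .sy 19 1 140
  | 154 => .tod
  | 165 => .sy 19 1 165
  | 168 => .sy 19 1 168
  | 210 => .tod
  | 220 => .sy 19 1 220
  | 231 => .sy 11 1 399
  | 264 => .sy 19 1 264
  | 280 => .sy 19 1 280
  | 330 => .tod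
  | 385 => .sy 19 1 385
  | 440 => .sy 19 1 440
  | 462 => .tod
  | 616 => .sy 7 1 1672
  | 660 => .sy 19 1 660
  | 770 => .tod
  | 1155 => .sy 7 1 3135
  | 1320 => .sy 19 1 1320
  | 2310 => .tod
  | _ => .tod

theorem certs_ok : allLt 9241 (fun m => decide (9240 % m ≠ 0) || decide (m ≤ 1) ||
    decide (m = 9240) || decide (m ∈ hardList) || checkB (19 * m) (certOf m)) = true := by
  decide +kernel

theorem false_of_simple [IsSimpleGroup L] (ih : LocalIH L) {m : ℕ} (hm : m ∣ 9240) (hm1 : 1 < m)
    (hm2 : m < 9240) (hcard : Nat.card L = 19 * m) : False := by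
  have hnc : ¬ IsMulCommutative L := by
    apply not_comm_of_simple_of_not_prime
    rw [hcard]
    exact Nat.not_prime_mul (by norm_num) (by omega)
  have h := (allLt_spec.mp certs_ok) m (by omega)
  simp only [Bool.or_eq_true, decide_eq_true_eq] at h
  rcases h with (((h | h) | h) | h) | h
  · exact absurd (Nat.mod_eq_zero_of_dvd hm) h
  · omega
  · omega
  · simp only [hardList, List.mem_cons, List.not_mem_nil, or_false] at h
    rcases h with rfl | rfl | rfl | rfl | rfl | rfl | rfl | rfl
    · exact false_5852 ih (by rw [hcard])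
    · exact false_7980 ih (by rw [hcard])
    · exact false_15960 ih (by rw [hcard])
    · exact false_17556 ih (by rw [hcard])
    · exact false_29260 ih (by rw [hcard])
    · exact false_35112 ih (by rw [hcard])
    · exact false_58520 ih (by rw [hcard])
    · exact false_87780 ih (by rw [hcard])
  · have h1 := check_sound hnc h hcard
    simp only [specials, List.mem_cons, List.not_mem_nil, or_false] at h1
    omega

end Cfsg.Agent.Lib.Helper55.J1Ord
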