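import Mathlib
import Cfsg.Agent.Lib.Helper69.CyclicSylow
import Cfsg.Agent.Lib.Helper55.J1OrdI

set_option autoImplicit false
set_option linter.style.haveILetI false
set_option maxRecDepth 100000
open scoped Pointwise

/-!
# Groups of order dividing `175560`: the induction
-/

namespace Cfsg.Agent.Lib.Helper55.J1Ord

open Subgroup MulAction

universe u

local instance fact19j : Fact (Nat.Prime 19) := ⟨prime19⟩

theorem prime_dvd_9240 {q : ℕ} (hq : q.Prime) (h : q ∣ 9240) :
    q = 2 ∨ q = 3 ∨ q = 5 ∨ q = 7 ∨ q = 11 := by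
  have e : (9240 : ℕ) = 2 ^ 3 * 3 * 5 * 7 * 11 := by norm_num
  rw [e] at h
  rcases hq.dvd_mul.mp h with h | h
  · rcases hq.dvd_mul.mp h with h | h
    · rcases hq.dvd_mul.mp h with h | h
      · rcases hq.dvd_mul.mp h with h | h
        · left
          exact (Nat.prime_dvd_prime_iff_eq hq Nat.prime_two).mp (hq.dvd_of_dvd_pow h)
        · right; left
          exact (Nat.prime_dvd_prime_iff_eq hq Nat.prime_three).mp h
      · right; right; left
        exact (Nat.prime_dvd_prime_iff_eq hq Nat.prime_five).mp h
    · right; right; right; left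
      exact (Nat.prime_dvd_prime_iff_eq hq (by norm_num)).mp h
  · right; right; right; right
    exact (Nat.prime_dvd_prime_iff_eq hq (by norm_num)).mp h

/-- The arithmetic condition of `le_centralizer_of_sylow_cond` for `p = 19` and `m ∣ 9240`. -/
theorem cond_9240 (m : ℕ) (hm : m ∣ 9240) (q : ℕ) (hq : q.Prime) (d : ℕ)
    (hd : d ∣ q ^ m.factorization q) (hmod : q ^ m.factorization q ≡ d [MOD 19]) :
    d = q ^ m.factorization q := by
  have hqa : q ^ m.factorization q ∣ 9240 := (Nat.ordProj_dvd m q).trans hm
  generalize m.factorization q = a at *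
  obtain ⟨b, hb, rfl⟩ := (Nat.dvd_prime_pow hq).mp hd
  rcases Nat.eq_zero_or_pos a with ha | ha
  · subst ha
    have : b = 0 := by omega
    subst this; rfl
  · have hq9 : q ∣ 9240 := (dvd_pow_self q ha.ne').trans hqa
    rcases prime_dvd_9240 hq hq9 with rfl | rfl | rfl | rfl | rfl
    · have ha4 : a ≤ 3 := by
        by_contra hcon
        push Not at hcon
        have : 2 ^ 4 ∣ 9240 := (pow_dvd_pow 2 hcon).trans hqa
        norm_num at this
      interval_cases a <;> interval_cases b <;> first | rfl | (exfalso; revert hmod; decide)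
    · have ha4 : a ≤ 1 := by
        by_contra hcon
        push Not at hcon
        have : 3 ^ 2 ∣ 9240 := (pow_dvd_pow 3 hcon).trans hqa
        norm_num at this
      interval_cases a <;> interval_cases b <;> first | rfl | (exfalso; revert hmod; decide)
    · have ha4 : a ≤ 1 := by
        by_contra hcon
        push Not at hcon
        have : 5 ^ 2 ∣ 9240 := (pow_dvd_pow 5 hcon).trans hqa
        norm_num at this
      interval_cases a <;> interval_cases b <;> first | rfl | (exfalso; revert hmod; decide)
    · have ha4 : a ≤ 1 := by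
        by_contra hcon
        push Not at hcon
        have : 7 ^ 2 ∣ 9240 := (pow_dvd_pow 7 hcon).trans hqa
        norm_num at this
      interval_cases a <;> interval_cases b <;> first | rfl | (exfalso; revert hmod; decide)
    · have ha4 : a ≤ 1 := by
        by_contra hcon
        push Not at hcon
        have : 11 ^ 2 ∣ 9240 := (pow_dvd_pow 11 hcon).trans hqa
        norm_num at this
      interval_cases a <;> interval_cases b <;> first | rfl | (exfalso; revert hmod; decide)

/-- All groups of order `n` (in the universe `u`) have normal Sylow `19`-subgroups. -/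
def Good (n : ℕ) : Prop :=
  ∀ (L : Type u) [Group L] [Finite L], Nat.card L = n →
    ∀ P : Sylow 19 L, (P : Subgroup L).Normal

theorem localIH_of_good {n : ℕ} (hn : n ∣ 175560)
    (IH : ∀ k, k < n → k ∣ 175560 → Good.{u} k) (L : Type u) [Group L] [Finite L]
    (hcard : Nat.card L = n) : LocalIH L := by
  intro H hH R
  have hlt : Nat.card H < n := by
    rw [← hcard]
    rcases Nat.lt_or_ge (Nat.card H) (Nat.card L) with h | h
    · exact h
    · exact absurd ((Subgroup.card_eq_iff_eq_top H).mp
        (le_antisymm (Subgroup.card_le_card_group H) h)) hH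
  have hdvd : Nat.card H ∣ 175560 := (Subgroup.card_subgroup_dvd_card H).trans (hcard ▸ hn)
  exact IH _ hlt hdvd H rfl R

variable {L : Type u} [Group L] [Finite L]

theorem exists_normal_of_not_simple (h1 : 1 < Nat.card L) (hs : ¬ IsSimpleGroup L) :
    ∃ M : Subgroup L, M.Normal ∧ M ≠ ⊥ ∧ M ≠ ⊤ := by
  by_contra hcon
  push Not at hcon
  apply hs
  haveI : Nontrivial L := (Finite.one_lt_card_iff_nontrivial).mp h1
  refine ⟨fun H hH => ?_⟩
  by_contra h
  push Not at h
  exact h.2 (hcon H hH h.1)

theorem not_sq_dvd_of_dvd {k : ℕ} (hk : k ∣ 175560) : ¬ 19 ^ 2 ∣ k := by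
  intro h
  have := h.trans hk
  norm_num at this

theorem coprime_relIndex_of_card (P T : Subgroup L) (hPT : P ≤ T) (hP : Nat.card P = 19)
    (hT : Nat.card T ∣ 175560) : (Nat.card P).Coprime (P.relIndex T) := by
  rw [hP]
  apply (Nat.Prime.coprime_iff_not_dvd prime19).mpr
  intro h
  have h1 := card_mul_relIndex_of_le P T hPT
  rw [hP] at h1
  obtain ⟨j, hj⟩ := h
  have : 19 ^ 2 ∣ Nat.card T := by
    rw [← h1, hj]
    exact ⟨j, by ring⟩
  exact not_sq_dvd_of_dvd hT this

/-- The non-simple step. -/
theorem normal_of_not_simple {m : ℕ} (hm : m ∣ 9240) (hcard : Nat.card L = 19 * m)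
    (IH : ∀ k, k < 19 * m → k ∣ 175560 → Good.{u} k) (hs : ¬ IsSimpleGroup L) (P : Sylow 19 L) :
    (P : Subgroup L).Normal := by
  have hn : 19 * m ∣ 175560 := by
    have : (175560 : ℕ) = 19 * 9240 := by norm_num
    rw [this]; exact Nat.mul_dvd_mul_left 19 hm
  have hm0 : 0 < m := Nat.pos_of_dvd_of_pos hm (by norm_num)
  have hcP : Nat.card (P : Subgroup L) = 19 := by
    have h19m : ¬ 19 ∣ m := by
      intro h
      have := h.trans hm
      norm_num at this
    have := Cfsg.Agent.Lib.Helper17.card_sylow_of_card_eq P (k := 1) (m := m)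
      (by rw [hcard, pow_one]) h19m
    rwa [pow_one] at this
  have h192 : ¬ 19 ^ 2 ∣ Nat.card L := not_sq_dvd_of_dvd (hcard ▸ hn)
  obtain ⟨M, hMn, hMbot, hMtop⟩ := exists_normal_of_not_simple (by rw [hcard]; omega) hs
  haveI := hMn
  have hMlt : Nat.card M < 19 * m := by
    rw [← hcard]
    rcases Nat.lt_or_ge (Nat.card M) (Nat.card L) with h | h
    · exact h
    · exact absurd ((Subgroup.card_eq_iff_eq_top M).mp
        (le_antisymm (Subgroup.card_le_card_group M) h)) hMtop
  have hMdvd : Nat.card M ∣ 175560 := (Subgroup.card_subgroup_dvd_card M).trans (hcard ▸ hn)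
  by_cases h19 : 19 ∣ Nat.card M
  · -- P ≤ M
    obtain ⟨P0, hP0⟩ := exists_sylow_le_of_dvd h192 M h19
    obtain ⟨g, hg⟩ := MulAction.exists_smul_eq L P0 P
    have hPM : (P : Subgroup L) ≤ M := by
      intro x hx
      rw [← hg] at hx
      have h1 := (Cfsg.Agent.Lib.Helper17.mem_smul_sylow_iff g x P0).mp hx
      have h2 := hMn.conj_mem _ (hP0 h1) g
      have e : g * (g⁻¹ * x * g) * g⁻¹ = x := by group
      rwa [e] at h2
    have hnorm := IH _ hMlt hMdvd M rfl (P.subtype hPM)
    rw [Sylow.coe_subtype] at hnorm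
    exact Cfsg.Agent.Lib.Helper69.normal_of_normal_subgroupOf_of_coprime (P : Subgroup L) M hPM
      hnorm (coprime_relIndex_of_card _ _ hPM hcP hMdvd)
  · -- the quotient
    have hcardQ : Nat.card M * Nat.card (L ⧸ M) = Nat.card L := by
      rw [← Subgroup.index_eq_card]; exact Subgroup.card_mul_index M
    have hM1 : 1 < Nat.card M := by
      rcases Nat.lt_or_ge 1 (Nat.card M) with h | h
      · exact h
      · have : Nat.card M = 1 := le_antisymm h Nat.card_pos
        exact absurd ((Subgroup.card_eq_one).mp this) hMbot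
    have hQpos : 0 < Nat.card (L ⧸ M) := Nat.card_pos
    have hQlt : Nat.card (L ⧸ M) < 19 * m := by
      rw [← hcard, ← hcardQ]
      nlinarith
    have hQdvd : Nat.card (L ⧸ M) ∣ 175560 :=
      (Dvd.intro_left _ hcardQ).trans (hcard ▸ hn)
    -- the image of P
    set π := QuotientGroup.mk' M with hπ
    set P' : Subgroup (L ⧸ M) := (P : Subgroup L).map π with hP'
    have hP'p : IsPGroup 19 P' := P.2.map π
    obtain ⟨R, hR⟩ := hP'p.exists_le_sylow
    have hRn := IH _ hQlt hQdvd (L ⧸ M) rfl R
    -- |R| = 19 = |P'|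
    have hinter : (P : Subgroup L) ⊓ M = ⊥ := by
      have hcop : (Nat.card (P : Subgroup L)).Coprime (Nat.card M) := by
        rw [hcP]; exact (Nat.Prime.coprime_iff_not_dvd prime19).mpr h19
      exact Subgroup.inf_eq_bot_of_coprime hcop
    have hcP' : Nat.card P' = 19 := by
      refine Eq.trans ?_ hcP
      apply Nat.card_congr
      refine (Equiv.ofBijective (fun x : (P : Subgroup L) =>
        (⟨π x, Subgroup.mem_map_of_mem π x.2⟩ : (P : Subgroup L).map π)) ⟨?_, ?_⟩).symm
      · intro x y hxy
        have h1 : π (x : L) = π (y : L) := congrArg Subtype.val hxy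
        have h2 : (x : L)⁻¹ * (y : L) ∈ M := by
          rw [hπ, QuotientGroup.mk'_apply, QuotientGroup.mk'_apply, QuotientGroup.eq] at h1
          exact h1
        have h3 : (x : L)⁻¹ * (y : L) ∈ (P : Subgroup L) ⊓ M :=
          ⟨(P : Subgroup L).mul_mem ((P : Subgroup L).inv_mem x.2) y.2, h2⟩
        rw [hinter, Subgroup.mem_bot] at h3
        apply Subtype.ext
        exact eq_of_inv_mul_eq_one h3 |>.symm ▸ rfl
      · rintro ⟨z, hz⟩
        obtain ⟨x, hx, rfl⟩ := Subgroup.mem_map.mp hz
        exact ⟨⟨x, hx⟩, rfl⟩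
    have hcR : Nat.card (R : Subgroup (L ⧸ M)) = 19 := by
      have h19Q : 19 ∣ Nat.card (L ⧸ M) := by
        have := Subgroup.card_subgroup_dvd_card P'
        rwa [hcP'] at this
      obtain ⟨j, hj⟩ := h19Q
      have h19j : ¬ 19 ∣ j := by
        intro h
        obtain ⟨i, hi⟩ := h
        apply not_sq_dvd_of_dvd hQdvd
        rw [hj, hi]
        exact ⟨i, by ring⟩
      have := Cfsg.Agent.Lib.Helper17.card_sylow_of_card_eq R (k := 1) (m := j)
        (by rw [hj, pow_one]) h19j
      rwa [pow_one] at this
    have hP'R : P' = (R : Subgroup (L ⧸ M)) := by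
      apply Subgroup.eq_of_le_of_card_ge hR
      rw [hcR, hcP']
    have hP'n : P'.Normal := by rw [hP'R]; exact hRn
    -- T = P ⊔ M is normal
    set T : Subgroup L := (P : Subgroup L) ⊔ M with hT
    have hTeq : T = P'.comap π := by
      rw [hP', Subgroup.comap_map_eq, hπ, QuotientGroup.ker_mk']
    haveI hTn : T.Normal := by rw [hTeq]; exact hP'n.comap π
    -- P centralizes M
    have hP1 : (P : Subgroup L) ≠ ⊥ := by
      apply Cfsg.Agent.Lib.Helper17.subgroup_ne_bot_of_one_lt_card
      rw [hcP]; norm_num
    obtain ⟨y, hyP, hy1⟩ : ∃ y : L, y ∈ (P : Subgroup L) ∧ y ≠ 1 := by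
      obtain ⟨y, hy⟩ := (Subgroup.ne_bot_iff_exists_ne_one).mp hP1
      exact ⟨(y : L), y.2, fun h => hy (Subtype.ext h)⟩
    have hyo : orderOf y = 19 :=
      Cfsg.Agent.Lib.Helper17.orderOf_eq_of_mem_of_card_prime (P : Subgroup L) hcP y hyP hy1
    have hPy : zpowers y = (P : Subgroup L) :=
      Cfsg.Agent.Lib.Helper17.zpowers_eq_of_mem_of_card_prime (P : Subgroup L) hcP y hyP hy1
    have hMd : Nat.card M ∣ 9240 := by
      have h1 : Nat.card M ∣ 19 * m := by rw [← hcard]; exact Subgroup.card_subgroup_dvd_card M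
      have hcop : (Nat.card M).Coprime 19 :=
        ((Nat.Prime.coprime_iff_not_dvd prime19).mpr h19).symm
      exact (hcop.dvd_of_dvd_mul_left h1).trans hm
    have hMC : M ≤ centralizer {y} := by
      apply Cfsg.Agent.Lib.Helper55.Ord7920.le_centralizer_of_sylow_cond y hyo h192 M h19
      intro q hq d hd hmod
      exact cond_9240 _ hMd q hq d hd hmod
    have hTN : T ≤ normalizer ((P : Subgroup L) : Set L) := by
      rw [hT]
      apply sup_le le_normalizer
      have : centralizer ({y} : Set L) = centralizer ((P : Subgroup L) : Set L) := by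
        rw [← hPy, Cfsg.Agent.Lib.Helper55.Ord7920.centralizer_zpowers]
      rw [this] at hMC
      exact hMC.trans (centralizer_le_normalizer _)
    have hPT : (P : Subgroup L) ≤ T := le_sup_left
    have hnorm : ((P : Subgroup L).subgroupOf T).Normal :=
      (normal_subgroupOf_iff_le_normalizer hPT).mpr hTN
    have hTdvd : Nat.card T ∣ 175560 := (Subgroup.card_subgroup_dvd_card T).trans (hcard ▸ hn)
    exact Cfsg.Agent.Lib.Helper69.normal_of_normal_subgroupOf_of_coprime (P : Subgroup L) T hPT
      hnorm (coprime_relIndex_of_card _ _ hPT hcP hTdvd)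

/-- The induction. -/
theorem good_of_lt : ∀ n : ℕ, n ∣ 175560 → n < 175560 → Good.{u} n := by
  intro n
  induction n using Nat.strong_induction_on with
  | _ n IH =>
    intro hn hlt L _ _ hcard P
    by_cases h19 : 19 ∣ n
    · obtain ⟨m, rfl⟩ := h19
      have hm : m ∣ 9240 := by
        have : (175560 : ℕ) = 19 * 9240 := by norm_num
        rw [this] at hn
        exact Nat.dvd_of_mul_dvd_mul_left (by norm_num) hn
      have hm0 : 0 < m := Nat.pos_of_dvd_of_pos hm (by norm_num)
      have IH' : ∀ k, k < 19 * m → k ∣ 175560 → Good.{u} k := fun k hk hkd =>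
        IH k hk hkd (by omega)
      by_cases hm1 : m = 1
      · subst hm1
        have hcP : Nat.card (P : Subgroup L) = 19 := by
          have := Cfsg.Agent.Lib.Helper17.card_sylow_of_card_eq P (k := 1) (m := 1)
            (by rw [hcard]; norm_num) (by norm_num)
          rwa [pow_one] at this
        have : (P : Subgroup L) = ⊤ := by
          rw [← Subgroup.card_eq_iff_eq_top, hcP, hcard]
        rw [this]; infer_instance
      · by_cases hs : IsSimpleGroup L
        · exfalso
          exact false_of_simple (localIH_of_good hn IH' L hcard) hm (by omega) (by omega) hcard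
        · exact normal_of_not_simple hm hcard IH' hs P
    · have hcP : Nat.card (P : Subgroup L) = 1 := by
        have := Cfsg.Agent.Lib.Helper17.card_sylow_of_card_eq P (k := 0) (m := n)
          (by rw [hcard, pow_zero, one_mul]) h19
        rwa [pow_zero] at this
      have : (P : Subgroup L) = ⊥ := (Subgroup.card_eq_one).mp hcP
      rw [this]; infer_instance

/-- The theorem: a group of order `175560` is simple or has a normal Sylow `19`-subgroup. -/
theorem simple_or_normal (hG : Nat.card L = 175560) :
    IsSimpleGroup L ∨ ∀ P : Sylow 19 L, (P : Subgroup L).Normal := by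
  by_cases hs : IsSimpleGroup L
  · left; exact hs
  · right
    intro P
    exact normal_of_not_simple (m := 9240) dvd_rfl (by rw [hG])
      (fun k hk hkd => good_of_lt k hkd (by omega)) hs P

end Cfsg.Agent.Lib.Helper55.J1Ord
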