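import Cfsg.Agent.Lib.Helper3.Burnside
import Cfsg.Agent.Lib.Helper74.Osima5
import Cfsg.Agent.Lib.Helper77.Osima
import Cfsg.Agent.Lib.Helper81.LocalRing
import Cfsg.Agent.Lib.Helper81.OneIrr

/-!
# Character-theoretic input for Kazarin's theorem

If `x` has a conjugacy class of `p`-power size and `r ≠ p` is a prime dividing `|G|`, the
principal `r`-block contains a nontrivial irreducible character of degree prime to `p`; by
Burnside's coprimality lemma `x` acts by a scalar `ω` in the corresponding representation,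
and `ω` is congruent to one modulo the chosen maximal ideal over `r`.
-/

set_option autoImplicit false

namespace Cfsg.Agent.Lib.Helper55

open Cfsg Cfsg.Agent.Lib.Helper3 Cfsg.Agent.Lib.Helper74 Cfsg.Agent.Lib.Helper77
  Cfsg.Agent.Lib.Helper81
open scoped ComplexConjugate

universe u

section KazarinChar

variable {G : Type u} [Group G] [Fintype G]

/-- The principal `r`-block contains a nontrivial character of degree prime to `p`, for
distinct primes `p` and `r` with `r` dividing the group order. -/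
theorem exists_principal_coprime_degree {p r : ℕ} (hp : p.Prime) (hr : r.Prime)
    (hrG : r ∣ Nat.card G) {M : Ideal AlgInt} (hM : IsPModular r M) :
    ∃ χ : IrrCharacter G, χ ∈ principalBlock M G ∧ (χ : G → ℂ) ≠ (fun _ => (1 : ℂ)) ∧
      ∃ (n : ℕ) (ρ : Representation ℂ G (Fin n → ℂ)), ρ.IsIrreducible ∧
        ρ.character = (χ : G → ℂ) ∧ ¬ p ∣ n := by
  classical
  have := Fintype.ofFinite (IrrCharacter G)
  have hMp : M.IsPrime := isPrime_of_isPModular hM
  by_contra hcon
  push Not at hcon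
  haveI : Fact r.Prime := ⟨hr⟩
  obtain ⟨h, hh⟩ := exists_prime_orderOf_dvd_card' (G := G) r hrG
  have hOs : blockCoeff (principalBlock M G) h = 0 := by
    have := blockCoeff_blockOf_eq_zero hM (oneIrr G) h (by rw [hh])
    exact this
  rw [blockCoeff_eq_sum] at hOs
  have hcard : (Nat.card G : ℂ) ≠ 0 := by exact_mod_cast Nat.card_pos.ne'
  have hsum : ∑ χ ∈ Finset.univ.filter (fun χ : IrrCharacter G => χ ∈ principalBlock M G),
      (χ : G → ℂ) 1 * conj ((χ : G → ℂ) h) = 0 := by
    rcases mul_eq_zero.mp hOs with h0 | h0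
    · exact absurd (inv_eq_zero.mp h0) hcard
    · exact h0
  have hmem0 : oneIrr G ∈ Finset.univ.filter (fun χ : IrrCharacter G => χ ∈ principalBlock M G) := by
    rw [Finset.mem_filter]
    exact ⟨Finset.mem_univ _, oneIrr_mem_principalBlock hMp⟩
  have hkey : ∀ χ : IrrCharacter G, χ ∈ principalBlock M G → χ ≠ oneIrr G →
      ∃ t : ℂ, IsIntegral ℤ t ∧ (χ : G → ℂ) 1 * conj ((χ : G → ℂ) h) = (p : ℂ) * t := by
    intro χ hχ hne
    obtain ⟨n, ρ, hρ, hχρ⟩ := χ.2
    have hne' : (χ : G → ℂ) ≠ (fun _ => (1 : ℂ)) := by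
      intro h1
      apply hne
      apply Subtype.ext
      rw [h1]
      funext g
      exact (oneIrr_apply g).symm
    obtain ⟨d, rfl⟩ := hcon χ hχ hne' n ρ hρ hχρ
    refine ⟨(d : ℂ) * (χ : G → ℂ) h⁻¹, ?_, ?_⟩
    · apply IsIntegral.mul
      · exact isIntegral_algebraMap (R := ℤ) (x := (d : ℤ))
      · exact IsCharacter.isIntegral (IsIrrCharacter.isCharacter χ.2) h⁻¹
    · rw [IsCharacter.inv (IsIrrCharacter.isCharacter χ.2) h, ← hχρ, Representation.char_one]
      simp only [Module.finrank_fintype_fun_eq_card, Fintype.card_fin]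
      push_cast
      ring
  choose! t ht1 ht2 using hkey
  rw [← Finset.add_sum_erase _ _ hmem0] at hsum
  have h1 : ((oneIrr G : IrrCharacter G) : G → ℂ) 1 * conj (((oneIrr G : IrrCharacter G) : G → ℂ) h) = 1 := by
    rw [oneIrr_apply, oneIrr_apply]
    simp
  rw [h1] at hsum
  have h2 : ∑ χ ∈ (Finset.univ.filter (fun χ : IrrCharacter G => χ ∈ principalBlock M G)).erase
      (oneIrr G), (χ : G → ℂ) 1 * conj ((χ : G → ℂ) h) =
      (p : ℂ) * ∑ χ ∈ (Finset.univ.filter
        (fun χ : IrrCharacter G => χ ∈ principalBlock M G)).erase (oneIrr G), t χ := by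
    rw [Finset.mul_sum]
    apply Finset.sum_congr rfl
    intro χ hχ
    have hχ' := Finset.mem_of_mem_erase hχ
    rw [Finset.mem_filter] at hχ'
    exact ht2 χ hχ'.2 (Finset.ne_of_mem_erase hχ)
  rw [h2] at hsum
  have hpC : (p : ℂ) ≠ 0 := by exact_mod_cast hp.ne_zero
  have hint : IsIntegral ℤ (((1 : ℕ) : ℂ) / (p : ℂ)) := by
    have h3 : ((1 : ℕ) : ℂ) / (p : ℂ) = -∑ χ ∈ (Finset.univ.filter
        (fun χ : IrrCharacter G => χ ∈ principalBlock M G)).erase (oneIrr G), t χ := by
      field_simp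
      push_cast
      linear_combination hsum
    rw [h3]
    apply IsIntegral.neg
    apply IsIntegral.sum
    intro χ hχ
    have hχ' := Finset.mem_of_mem_erase hχ
    rw [Finset.mem_filter] at hχ'
    exact ht1 χ hχ'.2 (Finset.ne_of_mem_erase hχ)
  have h4 : p ∣ 1 := nat_dvd_of_isIntegral_div hp.ne_zero hint
  exact hp.one_lt.ne' (Nat.dvd_one.mp h4)

/-- **Character input for Kazarin's theorem.**  If the class of `x` has `p`-power size and
`r ≠ p` is a prime dividing `|G|`, some nontrivial irreducible representation maps `x` to a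
scalar `ω` congruent to one modulo the `r`-modular ideal `M`. -/
theorem exists_rep_scalar_of_class_prime_pow (x : G) {p k r : ℕ} (hp : p.Prime) (hr : r.Prime)
    (hrp : r ≠ p) (hclass : (Subgroup.centralizer ({x} : Set G)).index = p ^ k)
    (hrG : r ∣ Nat.card G) {M : Ideal AlgInt} (hM : IsPModular r M) :
    ∃ (n : ℕ) (ρ : Representation ℂ G (Fin n → ℂ)), ρ.IsIrreducible ∧
      ρ.character ≠ (fun _ => (1 : ℂ)) ∧
      ∃ ω : ℂ, ρ x = ω • (LinearMap.id : (Fin n → ℂ) →ₗ[ℂ] (Fin n → ℂ)) ∧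
        MemLocalIdeal M (1 - ω) := by
  classical
  have hMp : M.IsPrime := isPrime_of_isPModular hM
  obtain ⟨χ, hχB, hχne, n, ρ, hρ, hχρ, hpn⟩ := exists_principal_coprime_degree hp hr hrG hM
  have hV : Nontrivial (Fin n → ℂ) := ((Cfsg.Agent.Lib.Helper3.isIrreducible_iff ρ).mp hρ).1
  have hfr : Module.finrank ℂ (Fin n → ℂ) = n := by simp
  have hn : 0 < n := by
    have := Module.finrank_pos (R := ℂ) (M := Fin n → ℂ)
    rwa [hfr] at this
  have hnC : (n : ℂ) ≠ 0 := by exact_mod_cast hn.ne'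
  have hχ1 : (χ : G → ℂ) 1 = (n : ℂ) := by
    rw [← hχρ, Representation.char_one, hfr]
  have hcop : Nat.Coprime (Module.finrank ℂ (Fin n → ℂ))
      (Subgroup.centralizer ({x} : Set G)).index := by
    rw [hclass, hfr]
    exact Nat.Coprime.pow_right k ((Nat.Prime.coprime_iff_not_dvd hp).mpr hpn).symm
  have hcong := (mem_principalBlock_iff χ).mp hχB x
  rw [hclass] at hcong
  have hnot : ¬ MemLocalIdeal M (((p ^ k : ℕ) : ℂ)) := by
    rw [memLocalIdeal_natCast_iff hM]
    intro hdvd
    exact hrp ((Nat.prime_dvd_prime_iff_eq hr hp).mp (hr.dvd_of_dvd_pow hdvd))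
  refine ⟨n, ρ, hρ, by rw [hχρ]; exact hχne, ?_⟩
  have := hρ
  rcases character_eq_zero_or_norm_eq_of_coprime ρ x hcop with h0 | h1
  · exfalso
    apply hnot
    have h2 : centralChar (χ : G → ℂ) x = 0 := by
      unfold centralChar
      rw [← hχρ, h0]
      simp
    rw [h2, sub_zero] at hcong
    exact hcong
  · obtain ⟨ω, hω⟩ := (Cfsg.Agent.S0138.result ρ x).mp h1
    refine ⟨ω, hω, ?_⟩
    have hχx : (χ : G → ℂ) x = ω * (n : ℂ) := by
      rw [← hχρ, Representation.character, hω, map_smul, LinearMap.trace_id, hfr]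
      simp
    have h2 : centralChar (χ : G → ℂ) x = ((p ^ k : ℕ) : ℂ) * ω := by
      unfold centralChar
      rw [hχx, hχ1, hclass]
      field_simp
    rw [h2] at hcong
    have h3 : ((p ^ k : ℕ) : ℂ) - ((p ^ k : ℕ) : ℂ) * ω = ((p ^ k : ℕ) : ℂ) * (1 - ω) := by ring
    rw [h3] at hcong
    exact memLocalIdeal_of_mul_of_not_memLocalIdeal hMp (memLocalRing_natCast hMp (p ^ k)) hnot
      hcong

end KazarinChar

end Cfsg.Agent.Lib.Helper55
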