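import Cfsg.Agent.Lib.Helper55.KazarinGroup
import Cfsg.Agent.Lib.Helper55.SolvCore
import Cfsg.Agent.Lib.Helper55.Cores
import Cfsg.Agent.Lib.Helper10.FittingCent
import Cfsg.Agent.Lib.Helper22.FStar

/-!
# Conjugates of an element with `p`-power class size commute modulo `O_p(G)`

A consequence of Kazarin's theorem: if `O_p(H) = 1` and the class of `y` has `p`-power size,
the normal closure of `y` is abelian.
-/

set_option autoImplicit false

namespace Cfsg.Agent.Lib.Helper55

open Cfsg Subgroup Cfsg.Agent.Lib.Helper22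

universe u

section KazarinCore

/-- With trivial `p`-core, a normal nilpotent subgroup has order prime to `p`. -/
theorem kz_coprime_card_of_normal_nilpotent {X : Type*} [Group X] [Finite X] (p : ℕ)
    [hp : Fact p.Prime] (h : Cfsg.pCore p X = ⊥) (B : Subgroup X) [B.Normal]
    [hB : Group.IsNilpotent B] : (Nat.card B).Coprime p := by
  rw [Nat.coprime_comm, Nat.Prime.coprime_iff_not_dvd hp.out]
  intro hdvd
  let Q : Sylow p B := default
  have hQn : (Q : Subgroup B).Normal := inferInstance
  have : (Q : Subgroup B).Characteristic := Sylow.characteristic_of_normal Q hQn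
  have hN : ((Q : Subgroup B).map B.subtype).Normal := ConjAct.normal_of_characteristic_of_normal
  have hpg : IsPGroup p ((Q : Subgroup B).map B.subtype) := Q.2.map _
  have hle : (Q : Subgroup B).map B.subtype ≤ Cfsg.pCore p X := le_pCore p _ hpg
  rw [h, le_bot_iff, Subgroup.map_eq_bot_iff_of_injective _ B.subtype_injective] at hle
  exact Q.ne_bot_of_dvd_card hdvd hle

/-- `O_p(G / O_p(G)) = 1`. -/
theorem kz_pCore_quotient_eq_bot {G : Type*} [Group G] [Finite G] (p : ℕ) [Fact p.Prime]
    [hn : (Cfsg.pCore p G).Normal] : Cfsg.pCore p (G ⧸ Cfsg.pCore p G) = ⊥ := by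
  rw [eq_bot_iff]
  apply sSup_le
  rintro N ⟨hNn, hNp⟩
  have := hNn
  have hsurj : Function.Surjective (QuotientGroup.mk' (Cfsg.pCore p G)) :=
    QuotientGroup.mk'_surjective _
  have : (N.comap (QuotientGroup.mk' (Cfsg.pCore p G))).Normal := inferInstance
  have hpg : IsPGroup p (N.comap (QuotientGroup.mk' (Cfsg.pCore p G))) := by
    obtain ⟨i, hi⟩ := IsPGroup.iff_card.mp (pCore_isPGroup (G := G) p)
    obtain ⟨j, hj⟩ := IsPGroup.iff_card.mp hNp
    apply IsPGroup.of_card (n := i + j)
    rw [card_comap_mk', hi, hj, pow_add]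
  have h3 : N.comap (QuotientGroup.mk' (Cfsg.pCore p G)) ≤ Cfsg.pCore p G := le_pCore p _ hpg
  intro x hx
  obtain ⟨y, rfl⟩ := hsurj x
  have hy : y ∈ N.comap (QuotientGroup.mk' (Cfsg.pCore p G)) := hx
  have := h3 hy
  rw [Subgroup.mem_bot]
  exact (QuotientGroup.eq_one_iff y).mpr this

/-- A normal subgroup whose order is prime to the index of `C` lies in `C`. -/
theorem kz_normal_le_of_coprime {G : Type*} [Group G] [Finite G] (N : Subgroup G) [N.Normal]
    (C : Subgroup G) (h : (Nat.card N).Coprime C.index) : N ≤ C := by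
  rw [← Subgroup.relIndex_eq_one]
  have h1 : C.relIndex N ∣ Nat.card N := Subgroup.relIndex_dvd_card _ _
  have h2 := kz_relIndex_dvd_index N C
  exact Nat.eq_one_of_dvd_coprimes h h1 h2

/-- If `O_p(H) = 1` and the class of `y` has `p`-power size, any two conjugates of `y`
commute. -/
theorem kz_conj_commute {H : Type u} [Group H] [Finite H] (p : ℕ) [hp : Fact p.Prime]
    (hcore : Cfsg.pCore p H = ⊥) (y : H) {b : ℕ}
    (hy : (centralizer ({y} : Set H)).index = p ^ b) (g h : H) :
    Commute (g * y * g⁻¹) (h * y * h⁻¹) := by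
  classical
  have hMs : Group.IsSolvable (normalClosure ({y} : Set H)) := kazarin y hp.out hy
  let F : Subgroup H :=
    (Cfsg.fittingSubgroup ↥(normalClosure ({y} : Set H))).map (normalClosure ({y} : Set H)).subtype
  have hFn : F.Normal := ConjAct.normal_of_characteristic_of_normal
  have hFnil : Group.IsNilpotent F := by
    have h1 : Group.IsNilpotent (Cfsg.fittingSubgroup ↥(normalClosure ({y} : Set H))) :=
      fittingSubgroup_isNilpotent
    exact Group.nilpotent_of_mulEquiv
      (Subgroup.equivMapOfInjective (Cfsg.fittingSubgroup ↥(normalClosure ({y} : Set H)))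
        (normalClosure ({y} : Set H)).subtype (normalClosure ({y} : Set H)).subtype_injective)
  have hFc : (Nat.card F).Coprime p := kz_coprime_card_of_normal_nilpotent p hcore F
  have hFle : F ≤ centralizer ({y} : Set H) := by
    apply kz_normal_le_of_coprime F
    rw [hy]
    exact Nat.Coprime.pow_right b hFc
  have hyC : y ∈ centralizer (F : Set H) := by
    rw [mem_centralizer_iff]
    intro f hf
    have := hFle hf
    rw [mem_centralizer_singleton_iff] at this
    exact this
  have hMC : normalClosure ({y} : Set H) ≤ centralizer (F : Set H) :=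
    normalClosure_le_normal (Set.singleton_subset_iff.mpr hyC)
  have htop : centralizer (Cfsg.fittingSubgroup ↥(normalClosure ({y} : Set H)) :
      Set ↥(normalClosure ({y} : Set H))) = ⊤ := by
    rw [eq_top_iff]
    intro m _
    rw [mem_centralizer_iff]
    intro f hf
    have hfF : ((f : ↥(normalClosure ({y} : Set H))) : H) ∈ F := ⟨f, hf, rfl⟩
    have := hMC m.2
    rw [mem_centralizer_iff] at this
    apply Subtype.ext
    exact this _ hfF
  have hfit : Cfsg.fittingSubgroup ↥(normalClosure ({y} : Set H)) = ⊤ := by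
    rw [eq_top_iff, ← htop]
    exact Cfsg.Agent.Lib.Helper10.centralizer_fitting_le
  have hMF : normalClosure ({y} : Set H) ≤ F := by
    intro m hm
    refine ⟨⟨m, hm⟩, ?_, rfl⟩
    rw [hfit]
    trivial
  have hg : g * y * g⁻¹ ∈ normalClosure ({y} : Set H) :=
    (normalClosure_normal).conj_mem y (subset_normalClosure (Set.mem_singleton y)) g
  have hh : h * y * h⁻¹ ∈ normalClosure ({y} : Set H) :=
    (normalClosure_normal).conj_mem y (subset_normalClosure (Set.mem_singleton y)) h
  have h1 := hMC hg
  rw [mem_centralizer_iff] at h1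
  exact (h1 _ (hMF hh)).symm

end KazarinCore

end Cfsg.Agent.Lib.Helper55
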