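import Cfsg.Agent.Lib.Helper55.KazarinChar
import Cfsg.Agent.Lib.Helper21.SupNormalizer

/-!
# Kazarin's theorem

If the conjugacy class of `x` has prime-power size, the normal closure of `x` is solvable.
The proof is by induction on the group order, with the principal-block input of
`KazarinChar` and Burnside's `p^a q^b` theorem.
-/

set_option autoImplicit false

namespace Cfsg.Agent.Lib.Helper55

open Cfsg Subgroup Cfsg.Agent.Lib.Helper3 Cfsg.Agent.Lib.Helper74 Cfsg.Agent.Lib.Helper81

universe u

section KazarinGroup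

variable {G : Type*} [Group G]

/-- For a normal subgroup `N`, `|N : N ∩ C|` divides `|G : C|`. -/
theorem kz_relIndex_dvd_index [Finite G] (N : Subgroup G) [N.Normal] (C : Subgroup G) :
    C.relIndex N ∣ C.index := by
  have h1 : (C ⊓ N).relIndex C * C.relIndex (C ⊔ N) = (C ⊓ N).relIndex (C ⊔ N) :=
    Subgroup.relIndex_mul_relIndex _ _ _ inf_le_left le_sup_left
  have h2 : (C ⊓ N).relIndex N * N.relIndex (C ⊔ N) = (C ⊓ N).relIndex (C ⊔ N) :=
    Subgroup.relIndex_mul_relIndex _ _ _ inf_le_right le_sup_right
  rw [Subgroup.inf_relIndex_left] at h1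
  rw [Subgroup.inf_relIndex_right, Subgroup.relIndex_sup_right] at h2
  have h3 : C.relIndex (C ⊔ N) = C.relIndex N := by
    have hne : N.relIndex C ≠ 0 := by
      unfold Subgroup.relIndex
      exact Subgroup.index_ne_zero_of_finite
    have : N.relIndex C * C.relIndex (C ⊔ N) = N.relIndex C * C.relIndex N := by
      rw [h1, ← h2, mul_comm]
    exact Nat.eq_of_mul_eq_mul_left (Nat.pos_of_ne_zero hne) this
  rw [← h3]
  exact Subgroup.relIndex_dvd_index_of_le le_sup_left

/-- The class size of an element of a normal subgroup, computed in the subgroup, divides the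
class size in the whole group. -/
theorem kz_index_centralizer_subtype_dvd [Finite G] (N : Subgroup G) [N.Normal] (x : N) :
    (centralizer ({x} : Set N)).index ∣ (centralizer ({(x : G)} : Set G)).index := by
  have hcent : centralizer ({x} : Set N) = (centralizer ({(x : G)} : Set G)).subgroupOf N := by
    ext y
    rw [mem_centralizer_singleton_iff, mem_subgroupOf, mem_centralizer_singleton_iff]
    constructor
    · intro hy
      have := congrArg Subtype.val hy
      simpa using this
    · intro hy
      apply Subtype.ext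
      simpa using hy
  rw [hcent]
  exact kz_relIndex_dvd_index N _

/-- The class size of the image of `x` in a quotient divides the class size of `x`. -/
theorem kz_index_centralizer_quotient_dvd (N : Subgroup G) [N.Normal] (x : G) :
    (centralizer ({(QuotientGroup.mk x : G ⧸ N)} : Set (G ⧸ N))).index ∣
      (centralizer ({x} : Set G)).index := by
  have hle : (centralizer ({x} : Set G)).map (QuotientGroup.mk' N) ≤
      centralizer ({(QuotientGroup.mk x : G ⧸ N)} : Set (G ⧸ N)) := by
    rintro _ ⟨c, hc, rfl⟩
    have hc : c ∈ centralizer ({x} : Set G) := hc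
    rw [mem_centralizer_singleton_iff] at hc ⊢
    show (QuotientGroup.mk c : G ⧸ N) * QuotientGroup.mk x =
      QuotientGroup.mk x * QuotientGroup.mk c
    rw [← QuotientGroup.mk_mul, ← QuotientGroup.mk_mul, hc]
  exact (index_dvd_of_le hle).trans (index_map_dvd _ (QuotientGroup.mk'_surjective N))

/-- The solvable radical of a normal subgroup `H`, as a normal subgroup of the whole group. -/
theorem kz_exists_solvable_radical [Finite G] (H : Subgroup G) [hH : H.Normal] :
    ∃ R : Subgroup G, R ≤ H ∧ R.Normal ∧ Group.IsSolvable R ∧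
      ∀ S : Subgroup G, S ≤ H → H ≤ normalizer (S : Set G) → Group.IsSolvable S → S ≤ R := by
  classical
  let 𝒮 : Set (Subgroup G) :=
    {S | S ≤ H ∧ H ≤ normalizer (S : Set G) ∧ Group.IsSolvable S}
  have hbot : (⊥ : Subgroup G) ∈ 𝒮 := by
    refine ⟨bot_le, ?_, inferInstance⟩
    intro h _
    rw [mem_normalizer_iff]
    intro n
    simp only [Subgroup.mem_bot]
    constructor
    · rintro rfl; simp
    · intro hn
      have : n = h⁻¹ * (h * n * h⁻¹) * h := by group
      rw [this, hn]; simp
  obtain ⟨R, hR, hmax⟩ := Set.exists_max_image 𝒮 (fun S : Subgroup G => Nat.card S)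
    (Set.toFinite 𝒮) ⟨⊥, hbot⟩
  have hkey : ∀ S ∈ 𝒮, S ≤ R := by
    intro S hS
    have hT : R ⊔ S ∈ 𝒮 := by
      refine ⟨sup_le hR.1 hS.1, ?_, ?_⟩
      · exact (le_inf hR.2.1 hS.2.1).trans (normalizer_inf_normalizer_le_normalizer_sup R S)
      · exact Cfsg.Agent.Lib.Helper21.sup_isSolvable (hS.1.trans hR.2.1) hR.2.2 hS.2.2
    have hcard := hmax _ hT
    have hle : R ≤ R ⊔ S := le_sup_left
    have heq : R = R ⊔ S := Subgroup.eq_of_le_of_card_ge hle hcard
    rw [heq]
    exact le_sup_right
  refine ⟨R, hR.1, ?_, hR.2.2, fun S h1 h2 h3 => hkey S ⟨h1, h2, h3⟩⟩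
  constructor
  intro n hn g
  have hmem : R.map (MulAut.conj g).toMonoidHom ∈ 𝒮 := by
    refine ⟨?_, ?_, ?_⟩
    · rintro _ ⟨r, hr, rfl⟩
      exact hH.conj_mem r (hR.1 hr) g
    · intro h hh
      have h1 : g⁻¹ * h * g ∈ normalizer (R : Set G) := by
        apply hR.2.1
        have := hH.conj_mem h hh g⁻¹
        simpa using this
      rw [mem_normalizer_iff] at h1 ⊢
      intro m
      constructor
      · rintro ⟨r, hr, rfl⟩
        refine ⟨(g⁻¹ * h * g) * r * (g⁻¹ * h * g)⁻¹, (h1 r).mp hr, ?_⟩
        simp only [MulEquiv.coe_toMonoidHom, MulAut.conj_apply]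
        group
      · rintro ⟨r, hr, hr'⟩
        simp only [MulEquiv.coe_toMonoidHom, MulAut.conj_apply] at hr'
        refine ⟨(g⁻¹ * h * g)⁻¹ * r * (g⁻¹ * h * g), ?_, ?_⟩
        · have := (h1 ((g⁻¹ * h * g)⁻¹ * r * (g⁻¹ * h * g))).mpr (by
            have : (g⁻¹ * h * g) * ((g⁻¹ * h * g)⁻¹ * r * (g⁻¹ * h * g)) * (g⁻¹ * h * g)⁻¹ = r := by
              group
            rw [this]; exact hr)
          exact this
        · simp only [MulEquiv.coe_toMonoidHom, MulAut.conj_apply]
          have : m = h⁻¹ * (h * m * h⁻¹) * h := by group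
          rw [this, ← hr']
          group
    · have e := R.equivMapOfInjective (MulAut.conj g).toMonoidHom (MulAut.conj g).injective
      have := hR.2.2
      exact Group.isSolvable_of_surjective (f := e.toMonoidHom) e.surjective
  exact hkey _ hmem ⟨n, hn, rfl⟩

/-- A subgroup is solvable as soon as its image modulo a solvable normal subgroup is. -/
theorem kz_isSolvable_of_map_mk' (S : Subgroup G) [S.Normal] (hS : Group.IsSolvable S)
    (H : Subgroup G) (hH : Group.IsSolvable (H.map (QuotientGroup.mk' S))) :
    Group.IsSolvable H := by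
  let g : H →* (H.map (QuotientGroup.mk' S)) := (QuotientGroup.mk' S).subgroupMap H
  let f : (S.subgroupOf H) →* H := (S.subgroupOf H).subtype
  have hker : g.ker ≤ f.range := by
    intro h hh
    rw [MonoidHom.mem_ker] at hh
    have h1 : (QuotientGroup.mk' S) (h : G) = 1 := congrArg Subtype.val hh
    rw [QuotientGroup.mk'_apply, QuotientGroup.eq_one_iff] at h1
    exact ⟨⟨h, h1⟩, rfl⟩
  have hS' : Group.IsSolvable (S.subgroupOf H) := by
    let j : S.subgroupOf H →* S :=
      { toFun := fun a => ⟨(a : H), a.2⟩
        map_one' := rfl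
        map_mul' := fun _ _ => rfl }
    have hj : Function.Injective j := by
      intro a b hab
      apply Subtype.ext
      apply Subtype.ext
      exact congrArg (fun z : S => (z : G)) hab
    exact Group.isSolvable_of_isSolvable_injective hj
  exact Group.isSolvable_of_ker_le_range f g hker

/-- A root of unity `ω ≠ 1` with `ω ^ q = 1` which is congruent to one modulo an `r`-modular
ideal forces `r ∣ q`. -/
theorem kz_dvd_of_root_cong_one {r : ℕ} {M : Ideal AlgInt} (hM : IsPModular r M) {ω : ℂ}
    {q : ℕ} (hω1 : ω ≠ 1) (hωq : ω ^ q = 1) (hcong : MemLocalIdeal M (1 - ω)) : r ∣ q := by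
  have hMp : M.IsPrime := isPrime_of_isPModular hM
  have hsum : ∑ j ∈ Finset.range q, ω ^ j = 0 := by
    have h1 : (∑ j ∈ Finset.range q, ω ^ j) * (ω - 1) = 0 := by
      rw [geom_sum_mul, hωq, sub_self]
    rcases mul_eq_zero.mp h1 with h | h
    · exact h
    · exact absurd (sub_eq_zero.mp h) hω1
  have hωR : MemLocalRing M ω := by
    have : ω = 1 - (1 - ω) := by ring
    rw [this]
    exact memLocalRing_sub hMp (memLocalRing_one hMp) (memLocalRing_of_memLocalIdeal hcong)
  have hpow : ∀ j : ℕ, MemLocalIdeal M (1 - ω ^ j) := by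
    intro j
    induction j with
    | zero => simpa using memLocalIdeal_zero hMp
    | succ j ih =>
      have : 1 - ω ^ (j + 1) = (1 - ω ^ j) + ω ^ j * (1 - ω) := by ring
      rw [this]
      exact memLocalIdeal_add hMp ih
        (memLocalIdeal_mul_left hMp (memLocalRing_pow hMp hωR j) hcong)
  have hq : ((q : ℕ) : ℂ) = ∑ j ∈ Finset.range q, (1 - ω ^ j) := by
    rw [Finset.sum_sub_distrib, hsum]
    simp
  have : MemLocalIdeal M ((q : ℕ) : ℂ) := by
    rw [hq]
    exact memLocalIdeal_sum hMp _ _ (fun j _ => hpow j)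
  exact (memLocalIdeal_natCast_iff hM q).mp this

end KazarinGroup

section KazarinMain

/-- The induction hypothesis of Kazarin's theorem for a group `G`: the theorem holds in all
groups of smaller order (in the same universe). -/
def KzIH (G : Type u) [Group G] : Prop :=
  ∀ (H : Type u) [Group H] [Finite H], Nat.card H < Nat.card G → ∀ (y : H) (p k : ℕ),
    p.Prime → (centralizer ({y} : Set H)).index = p ^ k →
      Group.IsSolvable (normalClosure ({y} : Set H))

/-- Kazarin's theorem for elements of prime order, given the induction hypothesis. -/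
theorem kz_prime_order {G : Type u} [Group G] [Finite G] (IH : KzIH G) (x : G) {q : ℕ}
    (hq : q.Prime) (hxq : x ^ q = 1) {p k : ℕ} (hp : p.Prime)
    (hclass : (centralizer ({x} : Set G)).index = p ^ k) :
    Group.IsSolvable (normalClosure ({x} : Set G)) := by
  classical
  by_cases hall : ∀ r : ℕ, r.Prime → r ∣ Nat.card G → r = p ∨ r = q
  · have : Group.IsSolvable G :=
      isSolvable_of_two_primes_aux p q hp hq (Nat.card G) G rfl hall
    infer_instance
  push Not at hall
  obtain ⟨r, hr, hrG, hrp, hrq⟩ := hall
  have := Fintype.ofFinite G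
  obtain ⟨M, hM⟩ := exists_isPModular hr
  obtain ⟨n, ρ, hρ, hne, ω, hω, hcong⟩ :=
    exists_rep_scalar_of_class_prime_pow x hp hr hrp hclass hrG hM
  let N : Subgroup G := (ρ : G →* Module.End ℂ (Fin n → ℂ)).ker
  have hNn : N.Normal := MonoidHom.normal_ker _
  have hNtop : N ≠ ⊤ := by
    intro h
    apply hne
    apply character_eq_one_of_forall_eq_id ρ hρ
    intro y
    have hy : y ∈ N := by rw [h]; trivial
    exact MonoidHom.mem_ker.mp hy
  let G1 : Subgroup G := N ⊔ normalClosure ({x} : Set G)
  have hG1n : G1.Normal := inferInstance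
  have hxG1 : x ∈ G1 :=
    (le_sup_right : normalClosure ({x} : Set G) ≤ G1)
      (subset_normalClosure (Set.mem_singleton x))
  by_cases hG1 : G1 = ⊤
  · exfalso
    have hω1 : ω ≠ 1 := by
      intro h1
      apply hNtop
      have hxN : x ∈ N := by
        rw [MonoidHom.mem_ker]
        show ρ x = 1
        rw [hω, h1, one_smul]
        rfl
      have hle : normalClosure ({x} : Set G) ≤ N :=
        normalClosure_le_normal (Set.singleton_subset_iff.mpr hxN)
      rw [← hG1]
      exact (sup_eq_left.mpr hle).symm
    have hωq : ω ^ q = 1 := by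
      have hV : Nontrivial (Fin n → ℂ) := ((Cfsg.Agent.Lib.Helper3.isIrreducible_iff ρ).mp hρ).1
      obtain ⟨v, hv⟩ := exists_ne (0 : Fin n → ℂ)
      have h1 : ρ (x ^ q) = 1 := by rw [hxq, map_one]
      have h3 : (LinearMap.id : (Fin n → ℂ) →ₗ[ℂ] (Fin n → ℂ)) ^ q = 1 := by
        rw [← Module.End.one_eq_id, one_pow]
      rw [map_pow, hω, smul_pow, h3] at h1
      have h2 : ω ^ q • v = v := by
        have := congrArg (fun T : Module.End ℂ (Fin n → ℂ) => T v) h1
        simpa using this
      have h4 : (ω ^ q - 1) • v = 0 := by rw [sub_smul, one_smul, h2, sub_self]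
      rcases smul_eq_zero.mp h4 with h | h
      · exact sub_eq_zero.mp h
      · exact absurd h hv
    have hdvd := kz_dvd_of_root_cong_one hM hω1 hωq hcong
    exact hrq ((Nat.prime_dvd_prime_iff_eq hr hq).mp hdvd)
  · have hlt : Nat.card G1 < Nat.card G := by
      apply lt_of_le_of_ne (Subgroup.card_le_card_group G1)
      intro h
      exact hG1 (Subgroup.eq_top_of_card_eq G1 h)
    have hdvd := kz_index_centralizer_subtype_dvd G1 ⟨x, hxG1⟩
    have hdvd' : (centralizer ({(⟨x, hxG1⟩ : G1)} : Set G1)).index ∣ p ^ k := by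
      rw [← hclass]; exact hdvd
    obtain ⟨j, _, hj⟩ := (Nat.dvd_prime_pow hp).mp hdvd'
    have hsolv := IH G1 hlt ⟨x, hxG1⟩ p j hp hj
    obtain ⟨R, hRle, hRn, hRs, hRmax⟩ := kz_exists_solvable_radical G1
    let T : Subgroup G := (normalClosure ({(⟨x, hxG1⟩ : G1)} : Set G1)).map G1.subtype
    have hTle : T ≤ G1 := map_subtype_le _
    have hTn : G1 ≤ normalizer (T : Set G) := by
      rw [← normal_subgroupOf_iff_le_normalizer hTle]
      have : T.subgroupOf G1 = normalClosure ({(⟨x, hxG1⟩ : G1)} : Set G1) := by
        ext a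
        rw [mem_subgroupOf]
        constructor
        · rintro ⟨b, hb, hba⟩
          have : b = a := Subtype.ext hba
          rw [← this]; exact hb
        · intro ha
          exact ⟨a, ha, rfl⟩
      rw [this]
      infer_instance
    have hTs : Group.IsSolvable T := by
      have e := (normalClosure ({(⟨x, hxG1⟩ : G1)} : Set G1)).equivMapOfInjective G1.subtype
        G1.subtype_injective
      exact Group.isSolvable_of_surjective (f := e.toMonoidHom) e.surjective
    have hT : T ≤ R := hRmax T hTle hTn hTs
    have hxR : x ∈ R :=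
      hT ⟨⟨x, hxG1⟩, subset_normalClosure (Set.mem_singleton _), rfl⟩
    have hle : normalClosure ({x} : Set G) ≤ R :=
      normalClosure_le_normal (Set.singleton_subset_iff.mpr hxR)
    exact Group.isSolvable_of_isSolvable_injective (inclusion_injective hle)

/-- Kazarin's theorem, given the induction hypothesis. -/
theorem kz_step {G : Type u} [Group G] [Finite G] (IH : KzIH G) (x : G) {p k : ℕ}
    (hp : p.Prime) (hclass : (centralizer ({x} : Set G)).index = p ^ k) :
    Group.IsSolvable (normalClosure ({x} : Set G)) := by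
  classical
  by_cases hx1 : x = 1
  · have hle : normalClosure ({x} : Set G) ≤ (⊥ : Subgroup G) := by
      apply normalClosure_le_normal
      rw [Set.singleton_subset_iff, hx1]
      exact Subgroup.one_mem _
    exact Group.isSolvable_of_isSolvable_injective (inclusion_injective hle)
  have hm : orderOf x ≠ 1 := by
    rw [Ne, orderOf_eq_one_iff]
    exact hx1
  obtain ⟨q, hq, d, hd⟩ := Nat.exists_prime_and_dvd hm
  have hpos : 0 < orderOf x := orderOf_pos x
  have hd0 : 0 < d := by
    rcases Nat.eq_zero_or_pos d with h | h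
    · rw [h, mul_zero] at hd
      omega
    · exact h
  have hyq : (x ^ d) ^ q = 1 := by
    rw [← pow_mul, mul_comm, ← hd, pow_orderOf_eq_one]
  have hy1 : x ^ d ≠ 1 := by
    intro h
    have h1 : orderOf x ∣ d := orderOf_dvd_of_pow_eq_one h
    have h2 : orderOf x ≤ d := Nat.le_of_dvd hd0 h1
    have h3 : 2 * d ≤ q * d := Nat.mul_le_mul_right d hq.two_le
    omega
  have hcle : centralizer ({x} : Set G) ≤ centralizer ({x ^ d} : Set G) := by
    intro c hc
    rw [mem_centralizer_singleton_iff] at hc ⊢
    exact ((Commute.pow_right (show Commute c x from hc) d)).eq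
  have hdvd : (centralizer ({x ^ d} : Set G)).index ∣ p ^ k := by
    rw [← hclass]
    exact index_dvd_of_le hcle
  obtain ⟨j, _, hj⟩ := (Nat.dvd_prime_pow hp).mp hdvd
  have hS : Group.IsSolvable (normalClosure ({x ^ d} : Set G)) :=
    kz_prime_order IH (x ^ d) hq hyq hp hj
  have hSne : normalClosure ({x ^ d} : Set G) ≠ ⊥ := by
    intro h
    apply hy1
    have : x ^ d ∈ normalClosure ({x ^ d} : Set G) :=
      subset_normalClosure (Set.mem_singleton _)
    rw [h, Subgroup.mem_bot] at this
    exact this
  have hlt : Nat.card (G ⧸ normalClosure ({x ^ d} : Set G)) < Nat.card G := by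
    have h1 := Subgroup.card_eq_card_quotient_mul_card_subgroup (normalClosure ({x ^ d} : Set G))
    have h2 : 1 < Nat.card (normalClosure ({x ^ d} : Set G)) :=
      (Subgroup.one_lt_card_iff_ne_bot _).mpr hSne
    have h3 : 0 < Nat.card (G ⧸ normalClosure ({x ^ d} : Set G)) := Nat.card_pos
    rw [h1]
    nlinarith
  have hdvd2 : (centralizer ({(QuotientGroup.mk x : G ⧸ normalClosure ({x ^ d} : Set G))} :
      Set (G ⧸ normalClosure ({x ^ d} : Set G)))).index ∣ p ^ k := by
    rw [← hclass]
    exact kz_index_centralizer_quotient_dvd _ x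
  obtain ⟨j2, _, hj2⟩ := (Nat.dvd_prime_pow hp).mp hdvd2
  have hQ := IH (G ⧸ normalClosure ({x ^ d} : Set G)) hlt (QuotientGroup.mk x) p j2 hp hj2
  have hmap : (normalClosure ({x} : Set G)).map
      (QuotientGroup.mk' (normalClosure ({x ^ d} : Set G))) =
      normalClosure ({(QuotientGroup.mk x : G ⧸ normalClosure ({x ^ d} : Set G))} :
        Set (G ⧸ normalClosure ({x ^ d} : Set G))) := by
    rw [map_normalClosure _ _ (QuotientGroup.mk'_surjective _), Set.image_singleton]
    rfl
  apply kz_isSolvable_of_map_mk' (normalClosure ({x ^ d} : Set G)) hS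
  rw [hmap]
  exact hQ

/-- Kazarin's theorem, inductive form. -/
theorem kz_aux : ∀ (n : ℕ) (G : Type u) [Group G] [Finite G], Nat.card G = n →
    ∀ (x : G) (p k : ℕ), p.Prime → (centralizer ({x} : Set G)).index = p ^ k →
      Group.IsSolvable (normalClosure ({x} : Set G)) := by
  intro n
  induction n using Nat.strong_induction_on with
  | _ n ih =>
    intro G _ _ hn x p k hp hclass
    apply kz_step _ x hp hclass
    intro H _ _ hlt y p' k' hp' hclass'
    exact ih (Nat.card H) (hn ▸ hlt) H rfl y p' k' hp' hclass'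

/-- **Kazarin's theorem.**  If the conjugacy class of `x` in a finite group has prime-power
size then the normal closure of `x` is solvable. -/
theorem kazarin {G : Type u} [Group G] [Finite G] (x : G) {p k : ℕ} (hp : p.Prime)
    (hclass : (centralizer ({x} : Set G)).index = p ^ k) :
    Group.IsSolvable (normalClosure ({x} : Set G)) :=
  kz_aux (Nat.card G) G rfl x p k hp hclass

/-- The index of the centralizer is the size of the conjugacy class. -/
theorem kz_index_centralizer_eq_ncard {G : Type*} [Group G] (x : G) :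
    (Subgroup.centralizer ({x} : Set G)).index = (ConjClasses.mk x).carrier.ncard := by
  have h1 := Subgroup.index_comap_of_surjective (MulAction.stabilizer (ConjAct G) x)
    (f := (ConjAct.toConjAct (G := G)).toMonoidHom) (ConjAct.toConjAct (G := G)).surjective
  refine (congrArg Subgroup.index (Subgroup.centralizer_eq_comap_stabilizer x)).trans
    (h1.trans ?_)
  rw [MulAction.index_stabilizer, ConjAct.orbit_eq_carrier_conjClasses]

end KazarinMain

end Cfsg.Agent.Lib.Helper55
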