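import Mathlib

set_option autoImplicit false
set_option linter.style.haveILetI false
set_option linter.unusedSectionVars false

namespace Cfsg.Agent.Lib.Helper55

variable {G : Type*} [Group G] [Finite G]

/-- For an abelian Sylow `p`-subgroup `P`, a suitable `p'`-power of any element of `N(P)` lies in `C(P)`. -/
theorem exists_coprime_pow_mem_centralizer (p : ℕ) [Fact p.Prime] (P : Sylow p G)
    [IsMulCommutative ↥(P : Subgroup G)] (n : G)
    (hn : n ∈ Subgroup.normalizer ((P : Subgroup G) : Set G)) :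
    ∃ r : ℕ, r.Coprime p ∧ n ^ r ∈ Subgroup.centralizer ((P : Subgroup G) : Set G) := by
  set N := Subgroup.normalizer ((P : Subgroup G) : Set G) with hN
  set C := Subgroup.centralizer ((P : Subgroup G) : Set G) with hC
  refine ⟨(C.subgroupOf N).index, ?_, ?_⟩
  · have hPC : (P : Subgroup G) ≤ C := Subgroup.le_centralizer (P : Subgroup G)
    have h1 : (C.subgroupOf N).index ∣ (P : Subgroup G).relIndex N :=
      Subgroup.relIndex_dvd_of_le_left N hPC
    have h2 : (P : Subgroup G).relIndex N ∣ (P : Subgroup G).index :=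
      Subgroup.relIndex_dvd_index_of_le Subgroup.le_normalizer
    have h3 : ¬ p ∣ (C.subgroupOf N).index := fun h => P.not_dvd_index (h.trans (h1.trans h2))
    exact ((Nat.Prime.coprime_iff_not_dvd Fact.out).mpr h3).symm
  · have := Subgroup.pow_index_mem (C.subgroupOf N) (⟨n, hn⟩ : N)
    rw [Subgroup.mem_subgroupOf] at this
    simpa using this

section klein

variable (P : Sylow 2 G) (hP : IsKleinFour ↥(P : Subgroup G))

include hP in
theorem klein_sq (u : G) (hu : u ∈ (P : Subgroup G)) : u * u = 1 := by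
  have := IsKleinFour.mul_self (⟨u, hu⟩ : (P : Subgroup G))
  exact congrArg Subtype.val this

include hP in
theorem klein_cases (a b : G) (ha : a ∈ (P : Subgroup G)) (hb : b ∈ (P : Subgroup G))
    (ha1 : a ≠ 1) (hb1 : b ≠ 1) (hab : a ≠ b) (u : G) (hu : u ∈ (P : Subgroup G)) :
    u = 1 ∨ u = a ∨ u = b ∨ u = a * b := by
  by_cases h1 : u = 1
  · exact Or.inl h1
  by_cases h2 : u = a
  · exact Or.inr (Or.inl h2)
  by_cases h3 : u = b
  · exact Or.inr (Or.inr (Or.inl h3))
  right; right; right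
  have := IsKleinFour.eq_mul_of_ne_all (G := (P : Subgroup G)) (x := ⟨a, ha⟩) (y := ⟨b, hb⟩)
    (z := ⟨u, hu⟩) (fun h => ha1 (congrArg Subtype.val h)) (fun h => hb1 (congrArg Subtype.val h))
    (fun h => hab (congrArg Subtype.val h)) (fun h => h1 (congrArg Subtype.val h))
    (fun h => h2 (congrArg Subtype.val h)) (fun h => h3 (congrArg Subtype.val h))
  exact congrArg Subtype.val this

include hP in
theorem klein_exists : ∃ a b : G, a ∈ (P : Subgroup G) ∧ b ∈ (P : Subgroup G) ∧ a ≠ 1 ∧ b ≠ 1 ∧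
    a ≠ b := by
  classical
  haveI : Fintype ↥(P : Subgroup G) := Fintype.ofFinite _
  have hcard : Fintype.card ↥(P : Subgroup G) = 4 := IsKleinFour.card_four'
  have h2 : 2 < Fintype.card ↥(P : Subgroup G) := by omega
  obtain ⟨x, y, z, hxy, hxz, hyz⟩ := Fintype.two_lt_card_iff.mp h2
  by_cases hx : x = 1
  · refine ⟨y, z, y.2, z.2, ?_, ?_, fun h => hyz (Subtype.ext h)⟩
    · intro h; exact hxy (hx.trans (Subtype.ext h).symm)
    · intro h; exact hxz (hx.trans (Subtype.ext h).symm)
  by_cases hy : y = 1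
  · refine ⟨x, z, x.2, z.2, fun h => hx (Subtype.ext h), ?_, fun h => hxz (Subtype.ext h)⟩
    intro h; exact hyz (hy.trans (Subtype.ext h).symm)
  · exact ⟨x, y, x.2, y.2, fun h => hx (Subtype.ext h), fun h => hy (Subtype.ext h),
      fun h => hxy (Subtype.ext h)⟩

include hP in
/-- Fusion in a Klein four Sylow subgroup: if two distinct involutions are conjugate then all three are. -/
theorem klein_fusion (x y : G) (hx : x ∈ (P : Subgroup G)) (hy : y ∈ (P : Subgroup G))
    (hx1 : x ≠ 1) (hxy : x ≠ y) (hc : IsConj x y) : IsConj y (x * y) := by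
  haveI : Fact (Nat.Prime 2) := ⟨Nat.prime_two⟩
  haveI : IsMulCommutative ↥(P : Subgroup G) := IsKleinFour.isMulCommutative
  obtain ⟨g, hg⟩ := isConj_iff.mp hc
  have hy' : (g⁻¹)⁻¹ * x * g⁻¹ ∈ (P : Subgroup G) := by rw [inv_inv, hg]; exact hy
  obtain ⟨n, hn, hconj⟩ := Sylow.conj_eq_normalizer_conj_of_mem P x g⁻¹ hx hy'
  rw [inv_inv, hg] at hconj
  -- hconj : y = n⁻¹ * x * n
  have hy1 : y ≠ 1 := by
    intro h
    apply hx1
    have : x = n * y * n⁻¹ := by rw [hconj]; group
    rw [this, h]; group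
  have hw : n⁻¹ * y * n ∈ (P : Subgroup G) := (Subgroup.mem_normalizer_iff''.mp hn y).mp hy
  have hw1 : n⁻¹ * y * n ≠ 1 := by
    intro h
    apply hy1
    calc y = n * (n⁻¹ * y * n) * n⁻¹ := by group
      _ = 1 := by rw [h]; group
  have hwy : n⁻¹ * y * n ≠ y := by
    intro h
    apply hxy
    have h2 : n⁻¹ * y * n = n⁻¹ * x * n := h.trans hconj
    calc x = n * (n⁻¹ * x * n) * n⁻¹ := by group
      _ = n * (n⁻¹ * y * n) * n⁻¹ := by rw [h2]
      _ = y := by group
  have hwx : n⁻¹ * y * n ≠ x := by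
    intro h
    -- then conjugation by n swaps x and y, so n ^ 2 centralizes P
    obtain ⟨r, hr, hnr⟩ := exists_coprime_pow_mem_centralizer 2 P n hn
    have hxy' : n⁻¹ * (x * y) * n = x * y := by
      calc n⁻¹ * (x * y) * n = (n⁻¹ * x * n) * (n⁻¹ * y * n) := by group
        _ = y * x := by rw [← hconj, h]
        _ = x * y := setLike_mul_comm hy hx
    have hn2 : n ^ 2 ∈ Subgroup.centralizer ((P : Subgroup G) : Set G) := by
      intro u hu
      have hconj2 : ∀ v : G, n⁻¹ * (n⁻¹ * v * n) * n = v → v * n ^ 2 = n ^ 2 * v := by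
        intro v hv
        calc v * n ^ 2 = n ^ 2 * (n⁻¹ * (n⁻¹ * v * n) * n) := by simp only [pow_two]; group
          _ = n ^ 2 * v := by rw [hv]
      apply hconj2
      rcases klein_cases P hP x y hx hy hx1 hy1 hxy u hu with rfl | rfl | rfl | rfl
      · group
      · rw [← hconj, h]
      · rw [h, ← hconj]
      · rw [hxy', hxy']
    have hodd : Odd r := by
      rcases Nat.even_or_odd r with he | ho
      · exfalso
        have : 2 ∣ Nat.gcd r 2 := Nat.dvd_gcd he.two_dvd dvd_rfl
        rw [hr] at this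
        omega
      · exact ho
    obtain ⟨k, rfl⟩ := hodd
    have hnC : n ∈ Subgroup.centralizer ((P : Subgroup G) : Set G) := by
      have h1 : (n ^ 2) ^ k ∈ Subgroup.centralizer ((P : Subgroup G) : Set G) := pow_mem hn2 k
      have h2 : n = n ^ (2 * k + 1) * ((n ^ 2) ^ k)⁻¹ := by
        rw [← pow_mul, pow_succ]; group
      rw [h2]
      exact mul_mem hnr (inv_mem h1)
    apply hxy
    have := hnC x hx
    rw [hconj]
    calc x = n⁻¹ * (n * x) := by group
      _ = n⁻¹ * (x * n) := by rw [this]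
      _ = n⁻¹ * x * n := by group
  have hweq : n⁻¹ * y * n = x * y := by
    rcases klein_cases P hP x y hx hy hx1 hy1 hxy _ hw with h | h | h | h
    · exact absurd h hw1
    · exact absurd h hwx
    · exact absurd h hwy
    · exact h
  rw [isConj_iff]
  exact ⟨n⁻¹, by rw [inv_inv]; exact hweq⟩

/-- Every involution is conjugate to a non-identity element of a Sylow 2-subgroup. -/
theorem involution_conj_klein (t : G) (ht : orderOf t = 2) :
    ∃ u ∈ (P : Subgroup G), u ≠ 1 ∧ IsConj u t := by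
  haveI : Fact (Nat.Prime 2) := ⟨Nat.prime_two⟩
  have hpg : IsPGroup 2 (Subgroup.zpowers t) := by
    apply IsPGroup.of_card (n := 1)
    rw [Nat.card_zpowers, ht, pow_one]
  obtain ⟨Q, hQ⟩ := hpg.exists_le_sylow
  obtain ⟨g, rfl⟩ := MulAction.exists_smul_eq G P Q
  have htQ : t ∈ ((g • P : Sylow 2 G) : Subgroup G) := hQ (Subgroup.mem_zpowers t)
  rw [Sylow.coe_subgroup_smul, Subgroup.mem_pointwise_smul_iff_inv_smul_mem, MulAut.smul_def,
    ← map_inv, MulAut.conj_apply, inv_inv] at htQ
  refine ⟨g⁻¹ * t * g, htQ, ?_, ?_⟩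
  · intro h
    have : t = 1 := by
      calc t = g * (g⁻¹ * t * g) * g⁻¹ := by group
        _ = 1 := by rw [h]; group
    rw [this, orderOf_one] at ht
    omega
  · rw [isConj_iff]
    exact ⟨g, by group⟩

include hP in
theorem klein_orderOf (u : G) (hu : u ∈ (P : Subgroup G)) (hu1 : u ≠ 1) : orderOf u = 2 := by
  haveI : Fact (Nat.Prime 2) := ⟨Nat.prime_two⟩
  exact orderOf_eq_prime (by rw [pow_two]; exact klein_sq P hP u hu) hu1

/-- The type of conjugacy classes of involutions. -/
abbrev InvClasses (G : Type*) [Group G] :=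
  {C : ConjClasses G // ∃ t : G, orderOf t = 2 ∧ ConjClasses.mk t = C}

include hP in
theorem klein_classes_cover (a b : G) (ha : a ∈ (P : Subgroup G)) (hb : b ∈ (P : Subgroup G))
    (ha1 : a ≠ 1) (hb1 : b ≠ 1) (hab : a ≠ b) (C : InvClasses G) :
    C.1 = ConjClasses.mk a ∨ C.1 = ConjClasses.mk b ∨ C.1 = ConjClasses.mk (a * b) := by
  obtain ⟨C, t, ht, rfl⟩ := C
  obtain ⟨u, hu, hu1, hut⟩ := involution_conj_klein P t ht
  have : ConjClasses.mk t = ConjClasses.mk u := (ConjClasses.mk_eq_mk_iff_isConj.mpr hut).symm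
  simp only [this]
  rcases klein_cases P hP a b ha hb ha1 hb1 hab u hu with rfl | rfl | rfl | rfl
  · exact absurd rfl hu1
  · exact Or.inl rfl
  · exact Or.inr (Or.inl rfl)
  · exact Or.inr (Or.inr rfl)

include hP in
theorem klein_all_conj (a b : G) (ha : a ∈ (P : Subgroup G)) (hb : b ∈ (P : Subgroup G))
    (ha1 : a ≠ 1) (hb1 : b ≠ 1) (hab : a ≠ b)
    (h : IsConj a b ∨ IsConj a (a * b) ∨ IsConj b (a * b)) :
    IsConj a b ∧ IsConj b (a * b) := by
  haveI : IsMulCommutative ↥(P : Subgroup G) := IsKleinFour.isMulCommutative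
  have hcomm : a * b = b * a := setLike_mul_comm ha hb
  have haa := klein_sq P hP a ha
  have hbb := klein_sq P hP b hb
  have habP : a * b ∈ (P : Subgroup G) := mul_mem ha hb
  have hab1 : a ≠ a * b := by
    intro h
    apply hb1
    calc b = a⁻¹ * (a * b) := by group
      _ = 1 := by rw [← h]; group
  have hab2 : b ≠ a * b := by
    intro h
    apply ha1
    calc a = (a * b) * b⁻¹ := by group
      _ = 1 := by rw [← h]; group
  rcases h with h | h | h
  · exact ⟨h, klein_fusion P hP a b ha hb ha1 hab h⟩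
  · have h2 := klein_fusion P hP a (a * b) ha habP ha1 hab1 h
    have e : a * (a * b) = b := by rw [← mul_assoc, haa, one_mul]
    rw [e] at h2
    exact ⟨h.trans h2, h2.symm⟩
  · have h2 := klein_fusion P hP b (a * b) hb habP hb1 hab2 h
    have e : b * (a * b) = a := by rw [hcomm, ← mul_assoc, hbb, one_mul]
    rw [e] at h2
    exact ⟨h2.symm.trans h.symm, h⟩

include hP in
theorem klein_card_one (a b : G) (ha : a ∈ (P : Subgroup G)) (hb : b ∈ (P : Subgroup G))
    (ha1 : a ≠ 1) (hb1 : b ≠ 1) (hab : a ≠ b)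
    (h : IsConj a b ∨ IsConj a (a * b) ∨ IsConj b (a * b)) :
    Nat.card (InvClasses G) = 1 := by
  obtain ⟨h1, h2⟩ := klein_all_conj P hP a b ha hb ha1 hb1 hab h
  have e1 : ConjClasses.mk a = ConjClasses.mk b := ConjClasses.mk_eq_mk_iff_isConj.mpr h1
  have e2 : ConjClasses.mk b = ConjClasses.mk (a * b) := ConjClasses.mk_eq_mk_iff_isConj.mpr h2
  rw [Nat.card_eq_one_iff_unique]
  refine ⟨⟨fun C D => ?_⟩, ⟨⟨ConjClasses.mk a, a, klein_orderOf P hP a ha ha1, rfl⟩⟩⟩
  apply Subtype.ext
  have hC := klein_classes_cover P hP a b ha hb ha1 hb1 hab C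
  have hD := klein_classes_cover P hP a b ha hb ha1 hb1 hab D
  rw [← e2, ← e1] at hC hD
  simp only [or_self] at hC hD
  rw [hC, hD]

include hP in
theorem klein_card_three (a b : G) (ha : a ∈ (P : Subgroup G)) (hb : b ∈ (P : Subgroup G))
    (ha1 : a ≠ 1) (hb1 : b ≠ 1) (hab : a ≠ b)
    (h : ¬ (IsConj a b ∨ IsConj a (a * b) ∨ IsConj b (a * b))) :
    Nat.card (InvClasses G) = 3 := by
  classical
  haveI : Fintype (InvClasses G) := Fintype.ofFinite _
  rw [Nat.card_eq_fintype_card, ← Finset.card_univ, Finset.card_eq_three]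
  have hab1 : a * b ≠ 1 := by
    intro h'
    apply hab
    have haa := klein_sq P hP a ha
    calc a = a * (a * b) := by rw [h', mul_one]
      _ = b := by rw [← mul_assoc, haa, one_mul]
  refine ⟨⟨ConjClasses.mk a, a, klein_orderOf P hP a ha ha1, rfl⟩,
    ⟨ConjClasses.mk b, b, klein_orderOf P hP b hb hb1, rfl⟩,
    ⟨ConjClasses.mk (a * b), a * b, klein_orderOf P hP _ (mul_mem ha hb) hab1, rfl⟩, ?_, ?_, ?_, ?_⟩
  · intro e
    exact h (Or.inl (ConjClasses.mk_eq_mk_iff_isConj.mp (congrArg Subtype.val e)))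
  · intro e
    exact h (Or.inr (Or.inl (ConjClasses.mk_eq_mk_iff_isConj.mp (congrArg Subtype.val e))))
  · intro e
    exact h (Or.inr (Or.inr (ConjClasses.mk_eq_mk_iff_isConj.mp (congrArg Subtype.val e))))
  · ext C
    simp only [Finset.mem_univ, Finset.mem_insert, Finset.mem_singleton, true_iff]
    rcases klein_classes_cover P hP a b ha hb ha1 hb1 hab C with hC | hC | hC
    · exact Or.inl (Subtype.ext hC)
    · exact Or.inr (Or.inl (Subtype.ext hC))
    · exact Or.inr (Or.inr (Subtype.ext hC))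

end klein

end Cfsg.Agent.Lib.Helper55
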