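import Mathlib

/-! # Lb hive (S1301), leaf LB-TR, core (helper55)

Transport of LB-A1 + LB-ZS (taken as hypotheses of the exact leaf types) from the type
`↥(K ⊔ zpowers u)` to an ambient group `X`. -/

set_option autoImplicit false

namespace Cfsg.Agent.Lib.Helper22.Lb

open Subgroup

universe u

/-- LB-TR core: `hA1` / `hZS` are the exact statements of the leaves LB-A1 / LB-ZS (at the universe of `X`). -/
theorem lbtr55_core {X : Type u} [Group X] [Finite X]
    (hA1 : ∀ {H : Type u} [Group H] [Finite H] (K : Subgroup H) [K.Normal] (u : H)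
      (_hu : orderOf u = 2) (_hKu : K ⊔ zpowers u = ⊤)
      (R : Subgroup H) (_hRK : R ≤ K)
      (_hRsyl : ∃ S : Sylow 2 ↥K, (S : Subgroup ↥K).map K.subtype = R)
      (_huR : u ∈ centralizer (R : Set H))
      (_hni : ∃ g : H, g * u * g⁻¹ ∈ R ⊔ zpowers u ∧ g * u * g⁻¹ ≠ u),
      ∃ D : Subgroup H, D ≤ R ∧ ∃ k ∈ K, k ∈ normalizer (D : Set H) ∧
        k⁻¹ * u * k * u⁻¹ ∈ D ∧ k⁻¹ * u * k * u⁻¹ ∈ centralizer (D : Set H) ∧
        k⁻¹ * u * k * u⁻¹ ≠ 1 ∧
        ∀ x ∈ K, x ∈ centralizer (D : Set H) → (∃ n : ℕ, x ^ 2 ^ n = 1) → x ∈ D)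
    (hZS : ∀ {H : Type u} [Group H] [Finite H] (K : Subgroup H) [K.Normal]
      (_hOK : ∀ N : Subgroup H, N ≤ K → K ≤ normalizer (N : Set H) → Odd (Nat.card N) → N = ⊥)
      (u : H) (_hu : orderOf u = 2) (_hKu : K ⊔ zpowers u = ⊤)
      (R : Subgroup H) (_hRK : R ≤ K)
      (_hRsyl : ∃ S : Sylow 2 ↥K, (S : Subgroup ↥K).map K.subtype = R)
      (_huR : u ∈ centralizer (R : Set H))
      (_hiso : ∀ g : H, g * u * g⁻¹ ∈ R ⊔ zpowers u → g * u * g⁻¹ = u),
      u ∈ centralizer (K : Set H))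
    (K : Subgroup X) [K.Normal]
    (hOK : ∀ N : Subgroup X, N ≤ K → K ≤ normalizer (N : Set X) → Odd (Nat.card N) → N = ⊥)
    (u : X) (hu : orderOf u = 2)
    (R : Subgroup X) (hRK : R ≤ K)
    (hRsyl : ∃ S : Sylow 2 ↥K, (S : Subgroup ↥K).map K.subtype = R)
    (huR : u ∈ centralizer (R : Set X)) :
    u ∈ centralizer (K : Set X) ∨
    ∃ D : Subgroup X, D ≤ R ∧ ∃ k ∈ K, k ∈ normalizer (D : Set X) ∧
      k⁻¹ * u * k * u⁻¹ ∈ D ∧ k⁻¹ * u * k * u⁻¹ ∈ centralizer (D : Set X) ∧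
      k⁻¹ * u * k * u⁻¹ ≠ 1 ∧
      ∀ x ∈ K, x ∈ centralizer (D : Set X) → (∃ n : ℕ, x ^ 2 ^ n = 1) → x ∈ D := by
  classical
  set H0 : Subgroup X := K ⊔ zpowers u with hH0
  have hKH : K ≤ H0 := le_sup_left
  have huH : u ∈ H0 := (le_sup_right : zpowers u ≤ H0) (mem_zpowers u)
  have hι : Function.Injective H0.subtype := H0.subtype_injective
  have hKmap : (K.subgroupOf H0).map H0.subtype = K := by
    rw [Subgroup.subgroupOf_map_subtype]
    exact inf_eq_left.2 hKH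
  have hRmap : (R.subgroupOf H0).map H0.subtype = R := by
    rw [Subgroup.subgroupOf_map_subtype]
    exact inf_eq_left.2 (hRK.trans hKH)
  have hu' : orderOf (⟨u, huH⟩ : ↥H0) = 2 := by
    rw [← hu]
    exact (Subgroup.orderOf_coe (⟨u, huH⟩ : ↥H0)).symm
  have hKu' : K.subgroupOf H0 ⊔ zpowers (⟨u, huH⟩ : ↥H0) = ⊤ := by
    apply Subgroup.map_injective hι
    rw [Subgroup.map_sup, hKmap, MonoidHom.map_zpowers, ← MonoidHom.range_eq_map, Subgroup.range_subtype]
    rfl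
  have hRK' : R.subgroupOf H0 ≤ K.subgroupOf H0 := Subgroup.comap_mono hRK
  have hRsyl' : ∃ S : Sylow 2 ↥(K.subgroupOf H0),
      (S : Subgroup ↥(K.subgroupOf H0)).map (K.subgroupOf H0).subtype = R.subgroupOf H0 := by
    obtain ⟨S, hS⟩ := hRsyl
    let e : ↥(K.subgroupOf H0) ≃* ↥K := Subgroup.subgroupOfEquivOfLe hKH
    have hφ : Function.Injective e.toMonoidHom := e.injective
    have hle : (S : Subgroup ↥K) ≤ e.toMonoidHom.range := by
      intro x _
      exact ⟨e.symm x, e.apply_symm_apply x⟩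
    refine ⟨S.comapOfInjective e.toMonoidHom hφ hle, ?_⟩
    · rw [Sylow.coe_comapOfInjective]
      ext x
      constructor
      · rintro ⟨y, hy, rfl⟩
        rw [Subgroup.mem_subgroupOf, ← hS]
        exact ⟨e y, hy, rfl⟩
      · intro hx
        rw [Subgroup.mem_subgroupOf, ← hS] at hx
        obtain ⟨z, hz, hzx⟩ := hx
        refine ⟨e.symm z, ?_, ?_⟩
        · show e.toMonoidHom (e.symm z) ∈ (S : Subgroup ↥K)
          have : e.toMonoidHom (e.symm z) = z := e.apply_symm_apply z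
          rw [this]
          exact hz
        · apply Subtype.ext
          exact hzx
  have huR' : (⟨u, huH⟩ : ↥H0) ∈ centralizer ((R.subgroupOf H0 : Subgroup ↥H0) : Set ↥H0) := by
    rw [mem_centralizer_iff]
    intro y hy
    apply Subtype.ext
    exact (mem_centralizer_iff.1 huR) (y : X) (Subgroup.mem_subgroupOf.1 hy)
  by_cases hni : ∃ g : ↥H0, g * (⟨u, huH⟩ : ↥H0) * g⁻¹ ∈ R.subgroupOf H0 ⊔ zpowers (⟨u, huH⟩ : ↥H0) ∧
      g * (⟨u, huH⟩ : ↥H0) * g⁻¹ ≠ ⟨u, huH⟩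
  · right
    obtain ⟨D', hDR', k', hkK', hkD', htD', htC', ht1', hcent'⟩ :=
      hA1 (K.subgroupOf H0) ⟨u, huH⟩ hu' hKu' (R.subgroupOf H0) hRK' hRsyl' huR' hni
    refine ⟨D'.map H0.subtype, ?_, (k' : X), Subgroup.mem_subgroupOf.1 hkK', ?_, ?_, ?_, ?_, ?_⟩
    · rw [← hRmap]
      exact Subgroup.map_mono hDR'
    · exact Subgroup.le_normalizer_map H0.subtype ⟨k', hkD', rfl⟩
    · exact ⟨_, htD', rfl⟩
    · rw [mem_centralizer_iff]
      rintro _ ⟨d', hd', rfl⟩
      have h1 := (mem_centralizer_iff.1 htC') d' hd'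
      exact congrArg H0.subtype h1
    · intro h1
      apply ht1'
      apply hι
      exact h1
    · intro x hxK hxC hx2
      have hxH : x ∈ H0 := hKH hxK
      have hx' : (⟨x, hxH⟩ : ↥H0) ∈ D' := by
        apply hcent' ⟨x, hxH⟩ (Subgroup.mem_subgroupOf.2 hxK)
        · rw [mem_centralizer_iff]
          intro d' hd'
          apply Subtype.ext
          exact (mem_centralizer_iff.1 hxC) (d' : X) ⟨d', hd', rfl⟩
        · obtain ⟨n, hn⟩ := hx2
          exact ⟨n, Subtype.ext hn⟩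
      exact ⟨_, hx', rfl⟩
  · left
    push Not at hni
    have hOK' : ∀ N : Subgroup ↥H0, N ≤ K.subgroupOf H0 →
        K.subgroupOf H0 ≤ normalizer (N : Set ↥H0) → Odd (Nat.card N) → N = ⊥ := by
      intro N hNK hKN hodd
      have h := hOK (N.map H0.subtype) (by rw [← hKmap]; exact Subgroup.map_mono hNK) ?_ ?_
      · exact (Subgroup.map_eq_bot_iff_of_injective N hι).1 h
      · rw [← hKmap]
        exact (Subgroup.map_mono hKN).trans (Subgroup.le_normalizer_map H0.subtype)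
      · rwa [Subgroup.card_map_of_injective hι]
    have hc := hZS (K.subgroupOf H0) hOK' ⟨u, huH⟩ hu' hKu' (R.subgroupOf H0) hRK' hRsyl' huR' hni
    rw [mem_centralizer_iff] at hc ⊢
    intro y hy
    have := hc ⟨y, hKH hy⟩ (Subgroup.mem_subgroupOf.2 hy)
    exact congrArg Subtype.val this

end Cfsg.Agent.Lib.Helper22.Lb
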