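import Mathlib
import Cfsg.Prelude.Def_Balance
import Cfsg.Agent.Lib.Helper23.TwoLayer
import Cfsg.Agent.Lib.Helper91.Components

/-! # MC-PERMG (helper55, for helper18's MC hive S1305): `β ∈ C_G(b)` centralizing `K` permutes `{J, J^a}` -/

set_option autoImplicit false

open Cfsg

namespace Cfsg.Agent.Lib.Helper18.Mc

open Subgroup
open Cfsg.Agent.Lib.Helper33 (cj mem_cj')

/-- MC-PERMG -/
theorem perm {G : Type*} [Group G] [Finite G] (a b β : G) (hab : a * b = b * a) (hβb : β * b = b * β)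
    (J K : Subgroup G) (hJb : J ≤ centralizer ({b} : Set G))
    (hJ : IsComponent (J.subgroupOf (centralizer ({b} : Set G))))
    (hβK : ∀ k ∈ K, β * k = k * β) (hnc : ¬ ∀ k ∈ K, ∀ x ∈ J, k * x = x * k)
    (hKJ : K ≤ J ⊔ J.map (MulAut.conj a).toMonoidHom) :
    (∀ x ∈ J, β * x * β⁻¹ ∈ J) ∨ (∀ x ∈ J, ∃ y ∈ J, β * x * β⁻¹ = a * y * a⁻¹) := by
  set C : Subgroup G := centralizer ({b} : Set G) with hC
  have hβC : β ∈ C := by
    rw [hC, mem_centralizer_iff]
    intro h hh
    rw [Set.mem_singleton_iff] at hh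
    rw [hh]; exact hβb.symm
  have haC : a ∈ C := by
    rw [hC, mem_centralizer_iff]
    intro h hh
    rw [Set.mem_singleton_iff] at hh
    rw [hh]; exact hab.symm
  set J' : Subgroup ↥C := J.subgroupOf C with hJ'
  set βC : ↥C := ⟨β, hβC⟩ with hβC'
  set aC : ↥C := ⟨a, haC⟩ with haC'
  have hcβ : IsComponent (cj βC J') := Cfsg.Agent.Lib.Helper23.isComponent_cj βC hJ
  have hca : IsComponent (cj aC J') := Cfsg.Agent.Lib.Helper23.isComponent_cj aC hJ
  -- membership translations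
  have memβ : ∀ x (hx : x ∈ J), (⟨β * x * β⁻¹, mul_mem (mul_mem hβC (hJb hx)) (inv_mem hβC)⟩ : ↥C) ∈ cj βC J' := by
    intro x hx
    rw [mem_cj']
    exact ⟨⟨x, hJb hx⟩, by rw [hJ', mem_subgroupOf]; exact hx, rfl⟩
  have mema : ∀ x (hx : x ∈ J), (⟨a * x * a⁻¹, mul_mem (mul_mem haC (hJb hx)) (inv_mem haC)⟩ : ↥C) ∈ cj aC J' := by
    intro x hx
    rw [mem_cj']
    exact ⟨⟨x, hJb hx⟩, by rw [hJ', mem_subgroupOf]; exact hx, rfl⟩
  by_cases h1 : cj βC J' = J'
  · left
    intro x hx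
    have := memβ x hx
    rw [h1, hJ', mem_subgroupOf] at this
    exact this
  by_cases h2 : cj βC J' = cj aC J'
  · right
    intro x hx
    have := memβ x hx
    rw [h2, mem_cj'] at this
    obtain ⟨y, hy, e⟩ := this
    rw [hJ', mem_subgroupOf] at hy
    refine ⟨(y : G), hy, ?_⟩
    have := congrArg Subtype.val e
    simpa using this.symm
  -- the third conjugate commutes with `J` and `J^a`, hence with `K`
  exfalso
  apply hnc
  have c1 := Cfsg.Agent.Lib.Helper91.component_commute_of_ne hcβ hJ h1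
  have c2 := Cfsg.Agent.Lib.Helper91.component_commute_of_ne hcβ hca h2
  have hsup : J ⊔ J.map (MulAut.conj a).toMonoidHom ≤
      centralizer ((J.map (MulAut.conj β).toMonoidHom : Subgroup G) : Set G) := by
    apply sup_le
    · intro x hx
      rw [mem_centralizer_iff]
      rintro _ ⟨z, hz, rfl⟩
      have := c1 _ (memβ z hz) ⟨x, hJb hx⟩ (by rw [hJ', mem_subgroupOf]; exact hx)
      have := congrArg Subtype.val this
      simpa [MulAut.conj_apply] using this
    · rintro _ ⟨y, hy, rfl⟩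
      rw [mem_centralizer_iff]
      rintro _ ⟨z, hz, rfl⟩
      have := c2 _ (memβ z hz) _ (mema y hy)
      have := congrArg Subtype.val this
      simpa [MulAut.conj_apply] using this
  intro k hk x hx
  have hkc := hsup (hKJ hk)
  rw [mem_centralizer_iff] at hkc
  have h3 : β * x * β⁻¹ * k = k * (β * x * β⁻¹) := hkc _ ⟨x, hx, by simp [MulAut.conj_apply]⟩
  have h4 := hβK k hk
  have h5 : β⁻¹ * k = k * β⁻¹ := by
    calc β⁻¹ * k = β⁻¹ * (k * β) * β⁻¹ := by group
      _ = β⁻¹ * (β * k) * β⁻¹ := by rw [h4]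
      _ = k * β⁻¹ := by group
  calc k * x = β⁻¹ * (k * (β * x * β⁻¹)) * β := by
        rw [← mul_assoc, ← mul_assoc, ← mul_assoc, h5]; group
    _ = β⁻¹ * (β * x * β⁻¹ * k) * β := by rw [h3]
    _ = x * (β⁻¹ * k) * β := by group
    _ = x * k := by rw [h5]; group

end Cfsg.Agent.Lib.Helper18.Mc
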