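import Mathlib
import Cfsg.Agent.Lib.Helper29.PGroupNormal
import Cfsg.Agent.Lib.Helper53.NormalAbelian

set_option autoImplicit false

/-!
A finite 2-group containing an elementary abelian subgroup of order 8 has a normal four-group.
-/

namespace Cfsg.Agent.Lib.Helper55

section adjoin
variable {S : Type*} [Group S]

/-- Adjoin a commuting involution `y ∉ A` to a subgroup `A` of exponent 2. -/
theorem adjoin_involution [Finite S] (A : Subgroup S) (y : S) (hy : y ^ 2 = 1) (hyA : y ∉ A)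
    (hcomm : ∀ a ∈ A, y * a = a * y) (hexp : ∀ a ∈ A, a ^ 2 = 1) :
    ∃ B : Subgroup S, A ≤ B ∧ y ∈ B ∧ Nat.card B = 2 * Nat.card A ∧ (∀ b ∈ B, b ^ 2 = 1) ∧
      (∀ K : Subgroup S, A ≤ K → y ∈ K → B ≤ K) := by
  classical
  have hyy : y * y = 1 := by rwa [pow_two] at hy
  have hyinv : y⁻¹ = y := inv_eq_of_mul_eq_one_right hyy
  let B : Subgroup S :=
    { carrier := {b | b ∈ A ∨ y * b ∈ A}
      one_mem' := Or.inl A.one_mem
      mul_mem' := by
        rintro b₁ b₂ (h1 | h1) (h2 | h2)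
        · exact Or.inl (A.mul_mem h1 h2)
        · right
          have : y * (b₁ * b₂) = b₁ * (y * b₂) := by
            rw [← mul_assoc, hcomm b₁ h1, mul_assoc]
          rw [this]; exact A.mul_mem h1 h2
        · right
          rw [← mul_assoc]; exact A.mul_mem h1 h2
        · left
          have e1 : b₁ = y * (y * b₁) := by rw [← mul_assoc, hyy, one_mul]
          have e2 : b₂ = y * (y * b₂) := by rw [← mul_assoc, hyy, one_mul]
          have : b₁ * b₂ = (y * b₁) * (y * b₂) := by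
            conv_lhs => rw [e1, e2]
            rw [mul_assoc y (y * b₁), ← mul_assoc (y * b₁) y, ← hcomm _ h1, mul_assoc y (y * b₁),
              ← mul_assoc y y, hyy, one_mul]
          rw [this]; exact A.mul_mem h1 h2
      inv_mem' := by
        rintro b (h | h)
        · exact Or.inl (A.inv_mem h)
        · right
          have : y * b⁻¹ = (y * b)⁻¹ * (y * y) := by
            rw [hyy, mul_one, mul_inv_rev, hyinv]
            have hb : b = y * (y * b) := by rw [← mul_assoc, hyy, one_mul]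
            have hc := hcomm _ h
            -- y * b⁻¹ = b⁻¹ * y  since b commutes with y
            have hby : y * b = b * y := by
              have : y * (y * (y * b)) = y * ((y * b) * y) := by rw [hc]
              rw [← mul_assoc y y, hyy, one_mul] at this
              rw [this, ← mul_assoc, ← mul_assoc, hyy, one_mul]
            calc y * b⁻¹ = b⁻¹ * (b * y) * b⁻¹ := by group
              _ = b⁻¹ * (y * b) * b⁻¹ := by rw [hby]
              _ = b⁻¹ * y := by group
          rw [this, hyy, mul_one]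
          exact A.inv_mem h }
  have hmemB : ∀ b : S, b ∈ B ↔ b ∈ A ∨ y * b ∈ A := fun b => Iff.rfl
  refine ⟨B, fun a ha => Or.inl ha, Or.inr (by rw [hyy]; exact A.one_mem), ?_, ?_, ?_⟩
  · -- card
    have hBset : (B : Set S) = (A : Set S) ∪ (fun a => y * a) '' (A : Set S) := by
      ext b
      simp only [SetLike.mem_coe, hmemB, Set.mem_union, Set.mem_image]
      constructor
      · rintro (h | h)
        · exact Or.inl h
        · exact Or.inr ⟨y * b, h, by rw [← mul_assoc, hyy, one_mul]⟩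
      · rintro (h | ⟨a, ha, rfl⟩)
        · exact Or.inl h
        · right; rw [← mul_assoc, hyy, one_mul]; exact ha
    have hdisj : Disjoint (A : Set S) ((fun a => y * a) '' (A : Set S)) := by
      rw [Set.disjoint_left]
      rintro b hb ⟨a, ha, rfl⟩
      apply hyA
      have : y = (y * a) * a⁻¹ := by group
      rw [this]; exact A.mul_mem hb (A.inv_mem ha)
    have hinj : Set.InjOn (fun a => y * a) (A : Set S) := fun a _ b _ h => mul_left_cancel h
    calc Nat.card B = (B : Set S).ncard := (Nat.card_coe_set_eq _).symm ▸ rfl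
      _ = (A : Set S).ncard + ((fun a => y * a) '' (A : Set S)).ncard := by
        rw [hBset, Set.ncard_union_eq hdisj (Set.toFinite _) (Set.toFinite _)]
      _ = (A : Set S).ncard + (A : Set S).ncard := by rw [Set.ncard_image_of_injOn hinj]
      _ = 2 * Nat.card A := by rw [← Nat.card_coe_set_eq]; simp only [SetLike.coe_sort_coe]; ring
  · rintro b (h | h)
    · exact hexp b h
    · have hc := hcomm _ h
      have hby : y * b = b * y := by
        have : y * (y * (y * b)) = y * ((y * b) * y) := by rw [hc]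
        rw [← mul_assoc y y, hyy, one_mul] at this
        rw [this, ← mul_assoc, ← mul_assoc, hyy, one_mul]
      have h2 := hexp _ h
      rw [pow_two] at h2 ⊢
      -- (y b)(y b) = 1 → b b = 1
      have : (y * b) * (y * b) = (y * y) * (b * b) := by
        rw [mul_assoc y b, ← mul_assoc b y, ← hby, mul_assoc y b, ← mul_assoc y y]
      rw [this, hyy, one_mul] at h2
      exact h2
  · intro K hAK hyK b hb
    rcases hb with h | h
    · exact hAK h
    · have : b = y * (y * b) := by rw [← mul_assoc, hyy, one_mul]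
      rw [this]; exact K.mul_mem hyK (hAK h)

end adjoin

section twogroup
variable {S : Type*} [Group S] [Finite S]

theorem exists_normal_card_four_le (hS : IsPGroup 2 S) :
    ∀ (n : ℕ) (W : Subgroup S), W.Normal → Nat.card W = n → 4 ≤ n →
      ∃ U : Subgroup S, U ≤ W ∧ U.Normal ∧ Nat.card U = 4 := by
  intro n
  induction n using Nat.strong_induction_on with
  | _ n ih =>
    intro W hWn hcard h4
    by_cases h : n = 4
    · exact ⟨W, le_rfl, hWn, by rw [hcard, h]⟩
    · haveI := hWn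
      haveI : Fact (Nat.Prime 2) := ⟨Nat.prime_two⟩
      have hW1 : W ≠ ⊥ := by
        intro hb; rw [hb, Subgroup.card_bot] at hcard; omega
      obtain ⟨M, hMn, hMW, hidx⟩ :=
        Cfsg.Agent.Lib.Helper29.exists_normal_relIndex_prime hS W hW1
      have hcm : Nat.card M * 2 = n := by
        have := Subgroup.relIndex_mul_relIndex (⊥ : Subgroup S) M W bot_le hMW.le
        rw [Subgroup.relIndex_bot_left, Subgroup.relIndex_bot_left, hidx, hcard] at this
        exact this
      obtain ⟨j, hj⟩ := IsPGroup.iff_card.mp (hS.to_subgroup M)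
      have hM4 : 4 ≤ Nat.card M := by
        rw [hj]
        have hj2 : 2 ≤ j := by
          by_contra hlt
          have hle : Nat.card M ≤ 2 := by
            rw [hj]
            calc 2 ^ j ≤ 2 ^ 1 := Nat.pow_le_pow_right (by norm_num) (by omega)
              _ = 2 := by norm_num
          omega
        calc 4 = 2 ^ 2 := by norm_num
          _ ≤ 2 ^ j := Nat.pow_le_pow_right (by norm_num) hj2
      obtain ⟨U, hUM, hUn, hU4⟩ := ih (Nat.card M) (by omega) M hMn rfl hM4
      exact ⟨U, hUM.trans hMW.le, hUn, hU4⟩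

section caseB
variable (hS : IsPGroup 2 S) (C : Subgroup S) [hCn : C.Normal]
  (hCab : ∀ x ∈ C, ∀ y ∈ C, x * y = y * x)
  (hCC : Subgroup.centralizer (C : Set S) = C)
  (z : S) (hzC : z ∈ C) (hz1 : z ≠ 1) (hz2 : z ^ 2 = 1)
  (huniq : ∀ a ∈ C, a ^ 2 = 1 → a = 1 ∨ a = z)

include hCn hzC hz1 hz2 huniq in
theorem caseB_z_central (s : S) : s * z * s⁻¹ = z := by
  have hmem : s * z * s⁻¹ ∈ C := hCn.conj_mem z hzC s
  have hsq : (s * z * s⁻¹) ^ 2 = 1 := by
    rw [pow_two]
    have : s * z * s⁻¹ * (s * z * s⁻¹) = s * (z * z) * s⁻¹ := by group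
    rw [this, ← pow_two, hz2]; group
  rcases huniq _ hmem hsq with h | h
  · exfalso
    apply hz1
    have : z = s⁻¹ * (s * z * s⁻¹) * s := by group
    rw [this, h]; group
  · exact h

include hCn hzC hz1 hz2 huniq in
theorem caseB_z_comm (s : S) : s * z = z * s := by
  have := caseB_z_central C z hzC hz1 hz2 huniq s
  calc s * z = (s * z * s⁻¹) * s := by group
    _ = z * s := by rw [this]

include hS huniq in
theorem caseB_exists_pow_sq (a : S) (ha : a ∈ C) (ha1 : a ≠ 1) (haz : a ≠ z) :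
    ∃ j : ℕ, (a ^ j) ^ 2 = z := by
  obtain ⟨m, hm⟩ := IsPGroup.iff_orderOf.mp hS a
  have hm2 : 2 ≤ m := by
    by_contra hlt
    have : m = 0 ∨ m = 1 := by omega
    rcases this with rfl | rfl
    · rw [pow_zero, orderOf_eq_one_iff] at hm; exact ha1 hm
    · rw [pow_one] at hm
      have : a ^ 2 = 1 := by rw [← hm]; exact pow_orderOf_eq_one a
      rcases huniq a ha this with h | h
      · exact ha1 h
      · exact haz h
  obtain ⟨m', rfl⟩ := Nat.exists_eq_add_of_le hm2
  refine ⟨2 ^ m', ?_⟩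
  have ht : (a ^ 2 ^ m') ^ 2 = a ^ 2 ^ (m' + 1) := by rw [← pow_mul, pow_succ]
  rw [ht]
  have htC : a ^ 2 ^ (m' + 1) ∈ C := C.pow_mem ha _
  have htsq : (a ^ 2 ^ (m' + 1)) ^ 2 = 1 := by
    rw [← pow_mul, ← pow_succ]
    have : m' + 1 + 1 = 2 + m' := by ring
    rw [this, ← hm]; exact pow_orderOf_eq_one a
  rcases huniq _ htC htsq with h | h
  · exfalso
    have hdvd := orderOf_dvd_of_pow_eq_one h
    rw [hm] at hdvd
    have := (Nat.pow_dvd_pow_iff_le_right (by norm_num : 1 < 2)).mp hdvd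
    omega
  · exact h

include hCab hz2 huniq in
theorem caseB_sq_eq_cases (b w : S) (hb : b ∈ C) (hw : w ∈ C) (hb2 : b ^ 2 = z) (hw2 : w ^ 2 = z) :
    b = w ∨ b = w⁻¹ := by
  have hcomm : Commute b w⁻¹ := hCab b hb w⁻¹ (C.inv_mem hw)
  have h1 : (b * w⁻¹) ^ 2 = 1 := by
    rw [hcomm.mul_pow, hb2, inv_pow, hw2, mul_inv_cancel]
  rcases huniq _ (C.mul_mem hb (C.inv_mem hw)) h1 with h | h
  · left; exact mul_inv_eq_one.mp h
  · right
    have hbw : b = z * w := by rw [← h]; group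
    rw [hbw]
    apply eq_inv_of_mul_eq_one_left
    rw [mul_assoc, ← pow_two, hw2, ← pow_two, hz2]

/-- `e` acts on `C` by multiplying by elements of `{1, z}`. -/
def TypeII (C : Subgroup S) (z e : S) : Prop :=
  ∀ a ∈ C, e * a * e⁻¹ * a⁻¹ = 1 ∨ e * a * e⁻¹ * a⁻¹ = z

/-- `e` acts on `C` by inversion up to elements of `{1, z}`. -/
def TypeI (C : Subgroup S) (z e : S) : Prop :=
  ∀ a ∈ C, a * (e * a * e⁻¹) = 1 ∨ a * (e * a * e⁻¹) = z

include hS hCn hCab hzC hz1 hz2 huniq in
theorem caseB_dichotomy (e : S) (he : e ^ 2 = 1) : TypeII C z e ∨ TypeI C z e := by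
  by_contra hcon
  push Not at hcon
  obtain ⟨h1, h2⟩ := hcon
  unfold TypeII at h1
  unfold TypeI at h2
  push Not at h1 h2
  obtain ⟨a₀, ha₀, hw1, hwz⟩ := h1
  obtain ⟨a₁, ha₁, hf1, hfz⟩ := h2
  have hee : e * e = 1 := by rwa [pow_two] at he
  have heinv : e⁻¹ = e := inv_eq_of_mul_eq_one_right hee
  set w₀ := e * a₀ * e⁻¹ * a₀⁻¹ with hw₀
  set f := a₁ * (e * a₁ * e⁻¹) with hf
  have hw₀C : w₀ ∈ C := C.mul_mem (hCn.conj_mem a₀ ha₀ e) (C.inv_mem ha₀)
  have hfC : f ∈ C := C.mul_mem ha₁ (hCn.conj_mem a₁ ha₁ e)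
  -- e inverts w₀
  have hinv : e * w₀ * e⁻¹ = w₀⁻¹ := by
    rw [hw₀, heinv]
    have : e * (e * a₀ * e * a₀⁻¹) * e = (e * e) * a₀ * e * a₀⁻¹ * e := by group
    rw [this, hee, one_mul]
    have : (e * a₀ * e * a₀⁻¹)⁻¹ = a₀ * e⁻¹ * a₀⁻¹ * e⁻¹ := by group
    rw [this, heinv]
  -- e fixes f
  have hfix : e * f * e⁻¹ = f := by
    rw [hf, heinv]
    have hmem : e * a₁ * e ∈ C := by
      have := hCn.conj_mem a₁ ha₁ e
      rwa [heinv] at this
    have : e * (a₁ * (e * a₁ * e)) * e = (e * a₁ * e) * a₁ * (e * e) := by group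
    rw [this, hee, mul_one]
    exact hCab _ hmem _ ha₁
  obtain ⟨j, hj⟩ := caseB_exists_pow_sq hS C z huniq w₀ hw₀C hw1 hwz
  obtain ⟨i, hi⟩ := caseB_exists_pow_sq hS C z huniq f hfC hf1 hfz
  have hinvj : e * w₀ ^ j * e⁻¹ = (w₀ ^ j)⁻¹ := by
    have : e * w₀ ^ j * e⁻¹ = (e * w₀ * e⁻¹) ^ j := by rw [conj_pow]
    rw [this, hinv, inv_pow]
  have hfixi : e * f ^ i * e⁻¹ = f ^ i := by
    have : e * f ^ i * e⁻¹ = (e * f * e⁻¹) ^ i := by rw [conj_pow]
    rw [this, hfix]
  have hzne : z ≠ 1 := hz1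
  rcases caseB_sq_eq_cases C hCab z hz2 huniq (f ^ i) (w₀ ^ j) (C.pow_mem hfC i) (C.pow_mem hw₀C j) hi hj
    with h | h
  · -- f^i = w₀^j : fixed and inverted
    have : f ^ i = (f ^ i)⁻¹ := by
      calc f ^ i = e * f ^ i * e⁻¹ := hfixi.symm
        _ = e * w₀ ^ j * e⁻¹ := by rw [h]
        _ = (w₀ ^ j)⁻¹ := hinvj
        _ = (f ^ i)⁻¹ := by rw [h]
    have h2 : (f ^ i) ^ 2 = 1 := by
      rw [pow_two]
      nth_rewrite 2 [this]
      exact mul_inv_cancel _
    rw [hi] at h2
    exact hzne h2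
  · have : f ^ i = (f ^ i)⁻¹ := by
      calc f ^ i = e * f ^ i * e⁻¹ := hfixi.symm
        _ = e * (w₀ ^ j)⁻¹ * e⁻¹ := by rw [h]
        _ = (e * w₀ ^ j * e⁻¹)⁻¹ := by group
        _ = ((w₀ ^ j)⁻¹)⁻¹ := by rw [hinvj]
        _ = (f ^ i)⁻¹ := by rw [h]
    have h2 : (f ^ i) ^ 2 = 1 := by
      rw [pow_two]
      nth_rewrite 2 [this]
      exact mul_inv_cancel _
    rw [hi] at h2
    exact hzne h2

include hS hCab hzC hz1 hz2 huniq in
theorem caseB_cyclic : ∃ c ∈ C, ∀ a ∈ C, a ∈ Subgroup.zpowers c := by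
  classical
  haveI : Fact (Nat.Prime 2) := ⟨Nat.prime_two⟩
  haveI : Nonempty C := ⟨1⟩
  obtain ⟨c, hc⟩ := Finite.exists_max (fun a : C => orderOf (a : S))
  refine ⟨c, c.2, ?_⟩
  have hz_ord : orderOf z = 2 := orderOf_eq_prime hz2 hz1
  have hc1 : (c : S) ≠ 1 := by
    intro h
    have := hc ⟨z, hzC⟩
    simp only [h, orderOf_one, hz_ord] at this
    omega
  have hzc : z ∈ Subgroup.zpowers (c : S) := by
    by_cases hcz : (c : S) = z
    · rw [hcz]; exact Subgroup.mem_zpowers z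
    · obtain ⟨j, hj⟩ := caseB_exists_pow_sq hS C z huniq c c.2 hc1 hcz
      rw [← hj, ← pow_mul]
      exact Subgroup.npow_mem_zpowers _ _
  have key : ∀ m : ℕ, ∀ a ∈ C, orderOf a = 2 ^ m → a ∈ Subgroup.zpowers (c : S) := by
    intro m
    induction m with
    | zero =>
      intro a _ h
      rw [pow_zero, orderOf_eq_one_iff] at h
      rw [h]; exact Subgroup.one_mem _
    | succ m ih =>
      intro a ha hord
      have h2dvd : 2 ∣ orderOf a := by rw [hord, pow_succ]; exact dvd_mul_left 2 _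
      have hord2 : orderOf (a ^ 2) = 2 ^ m := by
        rw [orderOf_pow_of_dvd (by norm_num) h2dvd, hord, pow_succ,
          Nat.mul_div_cancel _ (by norm_num)]
      have hmem := ih (a ^ 2) (C.pow_mem ha 2) hord2
      obtain ⟨i, hi⟩ : ∃ i : ℕ, (c : S) ^ i = a ^ 2 := by
        have hfin : IsOfFinOrder (c : S) := isOfFinOrder_of_finite _
        exact (Submonoid.mem_powers_iff _ _).mp (hfin.mem_powers_iff_mem_zpowers.mpr hmem)
      rcases Nat.even_or_odd i with ⟨j, hj⟩ | hodd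
      · have hcj : (c : S) ^ j ∈ C := C.pow_mem c.2 j
        have hcomm : Commute a ((c : S) ^ j)⁻¹ := hCab a ha _ (C.inv_mem hcj)
        have h1 : (a * ((c : S) ^ j)⁻¹) ^ 2 = 1 := by
          rw [hcomm.mul_pow, ← hi, hj, inv_pow, ← pow_mul, mul_two, mul_inv_cancel]
        rcases huniq _ (C.mul_mem ha (C.inv_mem hcj)) h1 with h | h
        · rw [mul_inv_eq_one.mp h]; exact Subgroup.npow_mem_zpowers _ _
        · have : a = z * (c : S) ^ j := by rw [← h]; group
          rw [this]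
          exact Subgroup.mul_mem _ hzc (Subgroup.npow_mem_zpowers _ _)
      · exfalso
        obtain ⟨k, hk⟩ := IsPGroup.iff_orderOf.mp hS (c : S)
        have hcop : (orderOf (c : S)).Coprime i := by
          rw [hk]; exact Nat.Coprime.pow_left k (Nat.coprime_two_left.mpr hodd)
        have h3 : orderOf ((c : S) ^ i) = orderOf (c : S) := hcop.orderOf_pow
        rw [hi, hord2] at h3
        have hmax := hc ⟨a, ha⟩
        simp only at hmax
        rw [hord, ← h3, pow_succ] at hmax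
        have : 0 < 2 ^ m := by positivity
        omega
  intro a ha
  obtain ⟨m, hm⟩ := IsPGroup.iff_orderOf.mp hS a
  exact key m a ha hm

include hCn hCC hzC hz1 hz2 huniq in
theorem caseB_typeII_coset (c : S) (hcC : c ∈ C) (hgen : ∀ a ∈ C, a ∈ Subgroup.zpowers c)
    (e t : S) (he : TypeII C z e) (ht : TypeII C z t) (heC : e ∉ C) : t ∈ C ∨ t * e⁻¹ ∈ C := by
  have hcent : ∀ s : S, s * c = c * s → s ∈ C := by
    intro s hs
    rw [← hCC, Subgroup.mem_centralizer_iff]
    intro a ha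
    obtain ⟨k, rfl⟩ := Subgroup.mem_zpowers_iff.mp (hgen a ha)
    exact ((show Commute s c from hs).zpow_right k).eq.symm
  have hzcomm := caseB_z_comm C z hzC hz1 hz2 huniq
  have hzinv : z⁻¹ = z := by
    apply inv_eq_of_mul_eq_one_right; rw [← pow_two]; exact hz2
  have hec : e * c * e⁻¹ * c⁻¹ = z := by
    rcases he c hcC with h | h
    · exfalso
      apply heC
      apply hcent
      have := mul_inv_eq_one.mp h
      calc e * c = (e * c * e⁻¹) * e := by group
        _ = c * e := by rw [this]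
    · exact h
  rcases ht c hcC with h | h
  · left
    apply hcent
    have := mul_inv_eq_one.mp h
    calc t * c = (t * c * t⁻¹) * t := by group
      _ = c * t := by rw [this]
  · right
    apply hcent
    have he' : e * c * e⁻¹ = z * c := mul_inv_eq_iff_eq_mul.mp hec
    have ht' : t * c * t⁻¹ = z * c := mul_inv_eq_iff_eq_mul.mp h
    have h1 : e⁻¹ * c * e = z * c := by
      have : c = e⁻¹ * (e * c * e⁻¹) * e := by group
      have h2 : c = z * (e⁻¹ * c * e) := by
        conv_lhs => rw [this, he']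
        rw [← mul_assoc, hzcomm e⁻¹]; group
      have h3 : e⁻¹ * c * e = z⁻¹ * c := by
        conv_rhs => rw [h2]
        group
      rw [h3, hzinv]
    have h4 : (t * e⁻¹) * c * (t * e⁻¹)⁻¹ = c := by
      have : (t * e⁻¹) * c * (t * e⁻¹)⁻¹ = t * (e⁻¹ * c * e) * t⁻¹ := by group
      rw [this, h1]
      have : t * (z * c) * t⁻¹ = (t * z) * c * t⁻¹ := by group
      rw [this, hzcomm t]
      have : z * t * c * t⁻¹ = z * (t * c * t⁻¹) := by group
      rw [this, ht', ← mul_assoc, ← pow_two, hz2, one_mul]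
    calc t * e⁻¹ * c = ((t * e⁻¹) * c * (t * e⁻¹)⁻¹) * (t * e⁻¹) := by group
      _ = c * (t * e⁻¹) := by rw [h4]

omit [Finite S] in
theorem card_le_of_subset_finset (E : Subgroup S) (F : Finset S) (h : ∀ e ∈ E, e ∈ F) :
    Nat.card E ≤ F.card := by
  have h1 : (E : Set S) ⊆ (F : Set S) := fun e he => h e he
  calc Nat.card E = (E : Set S).ncard := (Nat.card_coe_set_eq _).symm ▸ rfl
    _ ≤ (F : Set S).ncard := Set.ncard_le_ncard h1 (Finset.finite_toSet F)
    _ = F.card := Set.ncard_coe_finset F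

include hCn hCab hzC hz1 hz2 huniq in
theorem caseB_typeI_mul (e₁ e₂ : S) (h1 : TypeI C z e₁) (h2 : TypeI C z e₂) :
    TypeII C z (e₁ * e₂) := by
  intro a ha
  have hzcomm := caseB_z_comm C z hzC hz1 hz2 huniq
  have hzz : z * z = 1 := by rw [← pow_two]; exact hz2
  set a' := e₂ * a * e₂⁻¹ with ha'
  have ha'C : a' ∈ C := hCn.conj_mem a ha e₂
  have hexp : (e₁ * e₂) * a * (e₁ * e₂)⁻¹ * a⁻¹ = e₁ * a' * e₁⁻¹ * a⁻¹ := by
    rw [ha']; group
  rw [hexp]
  -- a' = a⁻¹ * ε₂
  have hA : ∃ ε₂ : S, (ε₂ = 1 ∨ ε₂ = z) ∧ a' = a⁻¹ * ε₂ := by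
    rcases h2 a ha with h | h
    · exact ⟨1, Or.inl rfl, by rw [mul_one]; exact eq_inv_of_mul_eq_one_right h⟩
    · refine ⟨z, Or.inr rfl, ?_⟩
      rw [← h, ← ha']; group
  obtain ⟨ε₂, hε₂, hA⟩ := hA
  have hB : ∃ ε₁ : S, (ε₁ = 1 ∨ ε₁ = z) ∧ e₁ * a⁻¹ * e₁⁻¹ = a * ε₁ := by
    rcases h1 a⁻¹ (C.inv_mem ha) with h | h
    · refine ⟨1, Or.inl rfl, ?_⟩
      rw [mul_one]
      have := eq_inv_of_mul_eq_one_right h
      rw [this, inv_inv]
    · refine ⟨z, Or.inr rfl, ?_⟩
      rw [← h]; group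
  obtain ⟨ε₁, hε₁, hB⟩ := hB
  have hε₂comm : ∀ s : S, s * ε₂ = ε₂ * s := by
    intro s
    rcases hε₂ with rfl | rfl
    · simp
    · exact hzcomm s
  have hε₁comm : ∀ s : S, s * ε₁ = ε₁ * s := by
    intro s
    rcases hε₁ with rfl | rfl
    · simp
    · exact hzcomm s
  have hval : e₁ * a' * e₁⁻¹ * a⁻¹ = ε₁ * ε₂ := by
    rw [hA]
    have : e₁ * (a⁻¹ * ε₂) * e₁⁻¹ * a⁻¹ = (e₁ * a⁻¹ * e₁⁻¹) * (e₁ * ε₂) * e₁⁻¹ * a⁻¹ := by group
    rw [this, hB, hε₂comm e₁]
    have : a * ε₁ * (ε₂ * e₁) * e₁⁻¹ * a⁻¹ = a * (ε₁ * ε₂) * a⁻¹ := by group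
    rw [this]
    have hc : a * (ε₁ * ε₂) = (ε₁ * ε₂) * a := by
      rw [← mul_assoc, hε₁comm a, mul_assoc, hε₂comm a, ← mul_assoc]
    rw [hc]; group
  rw [hval]
  rcases hε₁ with rfl | rfl <;> rcases hε₂ with rfl | rfl
  · left; simp
  · right; simp
  · right; simp
  · left; exact hzz

include hCn hCab hzC hz1 hz2 huniq in
theorem caseB_witness (e : S) (hI : TypeI C z e) (hII : ¬ TypeII C z e) :
    ∃ a₀ ∈ C, a₀ ^ 2 ≠ 1 ∧ a₀ ^ 2 ≠ z := by
  unfold TypeII at hII
  push Not at hII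
  obtain ⟨a₀, ha₀, hne1, hnez⟩ := hII
  have hzcomm := caseB_z_comm C z hzC hz1 hz2 huniq
  have hzz : z * z = 1 := by rw [← pow_two]; exact hz2
  have hzinv : z⁻¹ = z := inv_eq_of_mul_eq_one_right hzz
  refine ⟨a₀, ha₀, ?_, ?_⟩
  · intro hsq
    have haa : a₀⁻¹ = a₀ := by
      apply inv_eq_of_mul_eq_one_right; rw [← pow_two]; exact hsq
    rcases hI a₀ ha₀ with h | h
    · have h1 : e * a₀ * e⁻¹ = a₀⁻¹ := eq_inv_of_mul_eq_one_right h
      apply hne1
      rw [h1, haa, ← pow_two, hsq]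
    · have h1 : e * a₀ * e⁻¹ = a₀⁻¹ * z := by rw [← h]; group
      apply hnez
      rw [h1, haa, hzcomm a₀, mul_assoc, ← pow_two, hsq, mul_one]
  · intro hsq
    rcases hI a₀ ha₀ with h | h
    · have h1 : e * a₀ * e⁻¹ = a₀⁻¹ := eq_inv_of_mul_eq_one_right h
      apply hnez
      rw [h1, ← mul_inv_rev, ← pow_two, hsq, hzinv]
    · have h1 : e * a₀ * e⁻¹ = a₀⁻¹ * z := by rw [← h]; group
      apply hne1
      rw [h1, hzcomm a₀⁻¹, mul_assoc, ← mul_inv_rev, ← pow_two, hsq, mul_inv_cancel]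

include hS hCn hCab hCC hzC hz1 hz2 huniq in
theorem caseB_exists_typeII (E : Subgroup S) (hE8 : Nat.card E = 8) (hE : ∀ e ∈ E, e ^ 2 = 1) :
    ∃ e ∈ E, e ∉ C ∧ TypeII C z e ∧ ∃ a₀ ∈ C, a₀ ^ 2 ≠ 1 ∧ a₀ ^ 2 ≠ z := by
  classical
  have hEC : ∀ e ∈ E, e ∈ C → e = 1 ∨ e = z := fun e he heC => huniq e heC (hE e he)
  -- e₁
  have hex1 : ∃ e₁ ∈ E, e₁ ∉ C := by
    by_contra hcon
    push Not at hcon
    have := card_le_of_subset_finset E ({1, z} : Finset S) (by
      intro e he
      rcases hEC e he (hcon e he) with h | h <;> simp [h])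
    have h2 : ({1, z} : Finset S).card ≤ 2 := Finset.card_le_two
    omega
  obtain ⟨e₁, he₁E, he₁C⟩ := hex1
  have hex2 : ∃ e₂ ∈ E, e₂ ∉ C ∧ e₁ * e₂ ∉ C := by
    by_contra hcon
    push Not at hcon
    have := card_le_of_subset_finset E ({1, z, e₁⁻¹, e₁⁻¹ * z} : Finset S) (by
      intro e he
      by_cases heC : e ∈ C
      · rcases hEC e he heC with h | h <;> simp [h]
      · have h1 := hcon e he heC
        rcases hEC _ (E.mul_mem he₁E he) h1 with h | h
        · have : e = e₁⁻¹ := eq_inv_of_mul_eq_one_right h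
          simp [this]
        · have : e = e₁⁻¹ * z := by rw [← h]; group
          simp [this])
    have h2 : ({1, z, e₁⁻¹, e₁⁻¹ * z} : Finset S).card ≤ 4 := Finset.card_le_four
    omega
  obtain ⟨e₂, he₂E, he₂C, he₃C⟩ := hex2
  have hsq1 : e₁ * e₁ = 1 := by rw [← pow_two]; exact hE e₁ he₁E
  have hsq2 : e₂ * e₂ = 1 := by rw [← pow_two]; exact hE e₂ he₂E
  have hsq3 : (e₁ * e₂) * (e₁ * e₂) = 1 := by rw [← pow_two]; exact hE _ (E.mul_mem he₁E he₂E)
  have hinv1 : e₁⁻¹ = e₁ := inv_eq_of_mul_eq_one_right hsq1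
  have hinv2 : e₂⁻¹ = e₂ := inv_eq_of_mul_eq_one_right hsq2
  have hcomm12 : e₁ * e₂ = e₂ * e₁ := by
    have : e₁ * e₂ = (e₁ * e₂)⁻¹ := (inv_eq_of_mul_eq_one_right hsq3).symm
    rw [this, mul_inv_rev, hinv1, hinv2]
  obtain ⟨c, hcC, hgen⟩ := caseB_cyclic hS C hCab z hzC hz1 hz2 huniq
  have hcoset := caseB_typeII_coset C hCC z hzC hz1 hz2 huniq c hcC hgen
  -- no two of e₁, e₂, e₁e₂ are both of type II
  have hn12 : ¬ (TypeII C z e₁ ∧ TypeII C z e₂) := by
    rintro ⟨h1, h2⟩
    rcases hcoset e₂ e₁ h2 h1 he₂C with h | h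
    · exact he₁C h
    · rw [hinv2] at h; exact he₃C h
  have hn13 : ¬ (TypeII C z e₁ ∧ TypeII C z (e₁ * e₂)) := by
    rintro ⟨h1, h3⟩
    rcases hcoset e₁ (e₁ * e₂) h1 h3 he₁C with h | h
    · exact he₃C h
    · apply he₂C
      have : e₁ * e₂ * e₁⁻¹ = e₂ := by rw [hcomm12]; group
      rwa [this] at h
  have hn23 : ¬ (TypeII C z e₂ ∧ TypeII C z (e₁ * e₂)) := by
    rintro ⟨h2, h3⟩
    rcases hcoset e₂ (e₁ * e₂) h2 h3 he₂C with h | h
    · exact he₃C h
    · apply he₁C
      have : e₁ * e₂ * e₂⁻¹ = e₁ := by group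
      rwa [this] at h
  have hd1 := caseB_dichotomy hS C hCab z hzC hz1 hz2 huniq e₁ (hE e₁ he₁E)
  have hd2 := caseB_dichotomy hS C hCab z hzC hz1 hz2 huniq e₂ (hE e₂ he₂E)
  have hw := caseB_witness C hCab z hzC hz1 hz2 huniq
  by_cases hII1 : TypeII C z e₁
  · have hII2 : ¬ TypeII C z e₂ := fun h => hn12 ⟨hII1, h⟩
    have hI2 : TypeI C z e₂ := hd2.resolve_left hII2
    exact ⟨e₁, he₁E, he₁C, hII1, hw e₂ hI2 hII2⟩
  · have hI1 : TypeI C z e₁ := hd1.resolve_left hII1
    by_cases hII2 : TypeII C z e₂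
    · exact ⟨e₂, he₂E, he₂C, hII2, hw e₁ hI1 hII1⟩
    · have hI2 : TypeI C z e₂ := hd2.resolve_left hII2
      exact ⟨e₁ * e₂, E.mul_mem he₁E he₂E, he₃C,
        caseB_typeI_mul C hCab z hzC hz1 hz2 huniq e₁ e₂ hI1 hI2, hw e₁ hI1 hII1⟩

include hS hCn hCab hCC hzC hz1 hz2 huniq in
theorem caseB_exists_normal_four (E : Subgroup S) (hE8 : Nat.card E = 8)
    (hE : ∀ e ∈ E, e ^ 2 = 1) :
    ∃ U : Subgroup S, U.Normal ∧ Nat.card U = 4 ∧ ∀ u ∈ U, u ^ 2 = 1 := by
  classical
  haveI : Fact (Nat.Prime 2) := ⟨Nat.prime_two⟩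
  obtain ⟨e, heE, heC, heII, a₀, ha₀C, ha₀1, ha₀z⟩ :=
    caseB_exists_typeII hS C hCab hCC z hzC hz1 hz2 huniq E hE8 hE
  obtain ⟨c, hcC, hgen⟩ := caseB_cyclic hS C hCab z hzC hz1 hz2 huniq
  have hzcomm := caseB_z_comm C z hzC hz1 hz2 huniq
  have hzz : z * z = 1 := by rw [← pow_two]; exact hz2
  have hzinv : z⁻¹ = z := inv_eq_of_mul_eq_one_right hzz
  have hee : e * e = 1 := by rw [← pow_two]; exact hE e heE
  have heinv : e⁻¹ = e := inv_eq_of_mul_eq_one_right hee
  set A := Subgroup.zpowers z with hA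
  have hAC : A ≤ C := by rw [hA, Subgroup.zpowers_le]; exact hzC
  have hAcard : Nat.card A = 2 := by
    rw [hA, Nat.card_zpowers]; exact orderOf_eq_prime hz2 hz1
  have hAcomm : ∀ a ∈ A, ∀ s : S, s * a = a * s := by
    intro a ha s
    obtain ⟨k, rfl⟩ := Subgroup.mem_zpowers_iff.mp ha
    exact ((show Commute s z from hzcomm s).zpow_right k).eq
  have hAexp : ∀ a ∈ A, a ^ 2 = 1 := by
    intro a ha
    obtain ⟨k, rfl⟩ := Subgroup.mem_zpowers_iff.mp ha
    rw [← zpow_natCast, ← zpow_mul, mul_comm, zpow_mul, zpow_natCast, hz2, one_zpow]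
  obtain ⟨B, hAB, heB, hBcard, hBexp, hBmin⟩ :=
    adjoin_involution A e (hE e heE) (fun h => heC (hAC h)) (fun a ha => hAcomm a ha e) hAexp
  have hzB : z ∈ B := hAB (Subgroup.mem_zpowers z)
  refine ⟨B, ?_, by rw [hBcard, hAcard], hBexp⟩
  constructor
  intro b hb s
  -- K = {x | s x s⁻¹ ∈ B}
  have hle : B ≤ B.comap (MulAut.conj s).toMonoidHom := by
    apply hBmin
    · intro a ha
      rw [Subgroup.mem_comap]
      simp only [MulEquiv.toMonoidHom_eq_coe, MonoidHom.coe_coe, MulAut.conj_apply]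
      have : s * a * s⁻¹ = a := by rw [hAcomm a ha s]; group
      rw [this]; exact hAB ha
    · rw [Subgroup.mem_comap]
      simp only [MulEquiv.toMonoidHom_eq_coe, MonoidHom.coe_coe, MulAut.conj_apply]
      set e' := s * e * s⁻¹ with he'
      have he'II : TypeII C z e' := by
        intro a ha
        have hconj : s⁻¹ * a * s ∈ C := by
          have := hCn.conj_mem a ha s⁻¹
          rwa [inv_inv] at this
        have hexp : e' * a * e'⁻¹ * a⁻¹
            = s * (e * (s⁻¹ * a * s) * e⁻¹ * (s⁻¹ * a * s)⁻¹) * s⁻¹ := by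
          rw [he']; group
        rw [hexp]
        rcases heII _ hconj with h | h
        · left; rw [h]; group
        · right; rw [h, hzcomm s]; group
      have he'C : e' ∉ C := by
        intro h
        apply heC
        have := hCn.conj_mem e' h s⁻¹
        have h2 : s⁻¹ * e' * s⁻¹⁻¹ = e := by rw [he']; group
        rwa [h2] at this
      have he'sq : e' * e' = 1 := by
        rw [he']
        have : s * e * s⁻¹ * (s * e * s⁻¹) = s * (e * e) * s⁻¹ := by group
        rw [this, hee]; group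
      have hcos := caseB_typeII_coset C hCC z hzC hz1 hz2 huniq c hcC hgen e e' heII he'II heC
      have haC : e' * e⁻¹ ∈ C := hcos.resolve_left he'C
      set a := e' * e⁻¹ with ha
      have he'a : e' = a * e := by rw [ha]; group
      -- a * (e a e⁻¹) = 1
      have h1 : a * (e * a * e⁻¹) = 1 := by
        have : a * (e * a * e⁻¹) = (a * e) * (a * e) * (e⁻¹ * e⁻¹) := by group
        rw [this, ← he'a, he'sq, heinv, hee, one_mul]
      rcases heII a haC with h | h
      · have h2 : e * a * e⁻¹ = a := mul_inv_eq_one.mp h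
        rw [h2, ← pow_two] at h1
        rcases huniq a haC h1 with h3 | h3
        · rw [he'a, h3, one_mul]; exact heB
        · rw [he'a, h3]; exact B.mul_mem hzB heB
      · exfalso
        have h2 : e * a * e⁻¹ = z * a := mul_inv_eq_iff_eq_mul.mp h
        -- a^2 = z
        have hasq : a ^ 2 = z := by
          rw [h2] at h1
          have h5 : z * (a * a) = 1 := by
            rw [← mul_assoc, ← hzcomm a, mul_assoc]; exact h1
          have h6 : a * a = z⁻¹ := eq_inv_of_mul_eq_one_right h5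
          rw [pow_two, h6, hzinv]
        -- a is a square
        obtain ⟨j, hj⟩ := caseB_exists_pow_sq hS C z huniq (a₀ ^ 2) (C.pow_mem ha₀C 2) ha₀1 ha₀z
        have hb4 : ((a₀ ^ 2) ^ j) = (a₀ ^ j) ^ 2 := by rw [← pow_mul, ← pow_mul, mul_comm]
        have hsqr : ∃ b ∈ C, a = b ^ 2 := by
          rcases caseB_sq_eq_cases C hCab z hz2 huniq a ((a₀ ^ 2) ^ j) haC
            (C.pow_mem (C.pow_mem ha₀C 2) j) hasq hj with h3 | h3
          · exact ⟨a₀ ^ j, C.pow_mem ha₀C j, by rw [h3, hb4]⟩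
          · exact ⟨(a₀ ^ j)⁻¹, C.inv_mem (C.pow_mem ha₀C j), by rw [h3, hb4, inv_pow]⟩
        obtain ⟨b, hbC, hab⟩ := hsqr
        have hfix : e * a * e⁻¹ = a := by
          have hconj : e * a * e⁻¹ = (e * b * e⁻¹) ^ 2 := by rw [hab, conj_pow]
          rw [hconj]
          rcases heII b hbC with h3 | h3
          · rw [mul_inv_eq_one.mp h3, hab]
          · have h4 : e * b * e⁻¹ = z * b := mul_inv_eq_iff_eq_mul.mp h3
            rw [h4, (show Commute z b from (hzcomm b).symm).mul_pow, hz2, one_mul, hab]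
        rw [hfix] at h2
        apply hz1
        have : a = z * a := h2
        calc z = (z * a) * a⁻¹ := by group
          _ = a * a⁻¹ := by rw [← this]
          _ = 1 := mul_inv_cancel a
  have := hle hb
  rw [Subgroup.mem_comap] at this
  simpa using this

end caseB

/-- A finite 2-group containing an elementary abelian subgroup of order 8 has a normal
four-group. -/
theorem exists_normal_four (hS : IsPGroup 2 S) (E : Subgroup S) (hE8 : Nat.card E = 8)
    (hE : ∀ e ∈ E, e ^ 2 = 1) :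
    ∃ U : Subgroup S, U.Normal ∧ Nat.card U = 4 ∧ ∀ u ∈ U, u ^ 2 = 1 := by
  classical
  haveI : Fact (Nat.Prime 2) := ⟨Nat.prime_two⟩
  obtain ⟨C, -, hCn, hCab, hCmax⟩ :=
    Cfsg.Agent.Lib.Helper53.exists_max_normal_abelian (⊥ : Subgroup S) inferInstance
      (by intro x hx y hy; rw [Subgroup.mem_bot] at hx hy; rw [hx, hy])
  haveI := hCn
  have hCC := Cfsg.Agent.Lib.Helper53.centralizer_eq_of_max_normal_abelian hS C hCab hCmax
  -- Ω₁(C)
  let W : Subgroup S :=
    { carrier := {a | a ∈ C ∧ a ^ 2 = 1}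
      one_mem' := ⟨C.one_mem, one_pow 2⟩
      mul_mem' := by
        rintro a b ⟨ha, ha2⟩ ⟨hb, hb2⟩
        refine ⟨C.mul_mem ha hb, ?_⟩
        rw [(show Commute a b from hCab a ha b hb).mul_pow, ha2, hb2, one_mul]
      inv_mem' := by
        rintro a ⟨ha, ha2⟩
        exact ⟨C.inv_mem ha, by rw [inv_pow, ha2, inv_one]⟩ }
  have hWmem : ∀ a : S, a ∈ W ↔ a ∈ C ∧ a ^ 2 = 1 := fun a => Iff.rfl
  have hWn : W.Normal := by
    constructor
    intro a ha s
    rw [hWmem] at ha ⊢
    refine ⟨hCn.conj_mem a ha.1 s, ?_⟩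
    rw [conj_pow, ha.2]; group
  by_cases h4 : 4 ≤ Nat.card W
  · obtain ⟨U, hUW, hUn, hU4⟩ := exists_normal_card_four_le hS (Nat.card W) W hWn rfl h4
    exact ⟨U, hUn, hU4, fun u hu => ((hWmem u).mp (hUW hu)).2⟩
  · -- W has order 1 or 2
    obtain ⟨k, hk⟩ := IsPGroup.iff_card.mp (hS.to_subgroup W)
    have hk1 : k ≤ 1 := by
      by_contra hlt
      apply h4
      rw [hk]
      calc 4 = 2 ^ 2 := by norm_num
        _ ≤ 2 ^ k := Nat.pow_le_pow_right (by norm_num) (by omega)
    have hS8 : 8 ≤ Nat.card S := by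
      rw [← hE8]; exact Subgroup.card_le_card_group E
    have hCne : C ≠ ⊥ := by
      intro hbot
      rw [hbot] at hCC
      have : Subgroup.centralizer ((⊥ : Subgroup S) : Set S) = ⊤ := by
        rw [Subgroup.coe_bot]; exact Subgroup.centralizer_eq_top_iff_subset.mpr (by simp)
      rw [this] at hCC
      have : Nat.card S = 1 := by
        rw [← Subgroup.card_top (G := S), hCC, Subgroup.card_bot]
      omega
    -- an involution in C
    obtain ⟨x, hx1⟩ := (Subgroup.ne_bot_iff_exists_ne_one.mp hCne)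
    obtain ⟨j, hj⟩ := Cfsg.Agent.Lib.Helper29.exists_pow_orderOf_eq_prime Nat.prime_two
      (IsPGroup.iff_orderOf.mp hS (x : S)) (fun h => hx1 (Subtype.ext h))
    set z := (x : S) ^ j with hz
    have hzC : z ∈ C := C.pow_mem x.2 j
    have hz2 : z ^ 2 = 1 := by rw [← hj]; exact pow_orderOf_eq_one z
    have hz1 : z ≠ 1 := by
      intro h
      rw [h, orderOf_one] at hj
      omega
    have hzW : z ∈ W := (hWmem z).mpr ⟨hzC, hz2⟩
    have hWcard : Nat.card W ≤ 2 := by
      rw [hk]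
      calc 2 ^ k ≤ 2 ^ 1 := Nat.pow_le_pow_right (by norm_num) hk1
        _ = 2 := by norm_num
    have huniq : ∀ a ∈ C, a ^ 2 = 1 → a = 1 ∨ a = z := by
      intro a ha ha2
      by_contra hcon
      push Not at hcon
      have haW : a ∈ W := (hWmem a).mpr ⟨ha, ha2⟩
      have h3 : 3 ≤ Nat.card W := by
        have hsub : (({1, z, a} : Finset S) : Set S) ⊆ (W : Set S) := by
          intro t ht
          simp only [Finset.coe_insert, Finset.coe_singleton, Set.mem_insert_iff,
            Set.mem_singleton_iff] at ht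
          rcases ht with rfl | rfl | rfl
          · exact W.one_mem
          · exact hzW
          · exact haW
        have hcard : ({1, z, a} : Finset S).card = 3 := by
          rw [Finset.card_insert_of_notMem, Finset.card_insert_of_notMem,
            Finset.card_singleton]
          · simp only [Finset.mem_singleton]; exact fun h => hcon.2 h.symm
          · simp only [Finset.mem_insert, Finset.mem_singleton, not_or]
            exact ⟨fun h => hz1 h.symm, fun h => hcon.1 h.symm⟩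
        calc 3 = ({1, z, a} : Finset S).card := hcard.symm
          _ = (({1, z, a} : Finset S) : Set S).ncard := (Set.ncard_coe_finset _).symm
          _ ≤ (W : Set S).ncard := Set.ncard_le_ncard hsub (Set.toFinite _)
          _ = Nat.card W := Nat.card_coe_set_eq _
      omega
    exact caseB_exists_normal_four hS C hCab hCC z hzC hz1 hz2 huniq E hE8 hE

end twogroup

end Cfsg.Agent.Lib.Helper55
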