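import Mathlib
import Cfsg.Agent.Lib.Helper55.Ord7920A

set_option autoImplicit false
set_option linter.style.haveILetI false
open scoped Pointwise

namespace Cfsg.Agent.Lib.Helper55.Ord7920

open Subgroup

universe u

/-- A hypothetical group of order `495 * 2 ^ j` containing an element of order `11` whose
cyclic subgroup has normalizer of order `11 * 2 ^ j` (that is, `45` Sylow `11`-subgroups). -/
def Bad (j : ℕ) : Prop :=
  ∃ (X : Type u) (_ : Group X) (_ : Finite X) (y : X), Nat.card X = 495 * 2 ^ j ∧
    orderOf y = 11 ∧ Nat.card (normalizer ((zpowers y : Subgroup X) : Set X)) = 11 * 2 ^ j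

variable {X : Type u} [Group X] [Finite X]

/-- A homomorphism to `ℤˣ` hitting `-1` has kernel of index two. -/
theorem card_ker_mul_two (f : X →* ℤˣ) (w : X) (hw : f w = -1) :
    Nat.card f.ker * 2 = Nat.card X := by
  have h1 : f.ker.index = Nat.card f.range := Subgroup.index_ker f
  have h2 : f.range = ⊤ := by
    rw [eq_top_iff]
    intro u _
    rcases Int.units_eq_one_or u with h | h
    · rw [h]; exact one_mem _
    · rw [h, ← hw]; exact ⟨w, rfl⟩
  have h3 : Nat.card f.range = 2 := by
    rw [h2, Subgroup.card_top, Nat.card_eq_fintype_card]; decide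
  have h4 := f.ker.card_mul_index
  rw [h1, h3] at h4
  exact h4

theorem mem_ker_of_orderOf_odd (f : X →* ℤˣ) (y : X) (hy : Odd (orderOf y)) : y ∈ f.ker := by
  rw [MonoidHom.mem_ker]
  rcases Int.units_eq_one_or (f y) with h | h
  · exact h
  · exfalso
    have h1 : (f y) ^ orderOf y = 1 := by rw [← map_pow, pow_orderOf_eq_one, map_one]
    rw [h, Odd.neg_one_pow hy] at h1
    exact absurd h1 (by decide)

/-- Cardinality of the normalizer of `⟨y⟩` inside a subgroup `H` containing `y`. -/
theorem card_normalizer_in_subgroup (H : Subgroup X) (y : X) (hy : y ∈ H) :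
    Nat.card (normalizer ((zpowers (⟨y, hy⟩ : H) : Subgroup H) : Set H)) =
      Nat.card (normalizer ((zpowers y : Subgroup X) : Set X) ⊓ H : Subgroup X) := by
  have hle : zpowers y ≤ H := (zpowers_le).mpr hy
  have e1 : zpowers (⟨y, hy⟩ : H) = (zpowers y).subgroupOf H := by
    apply Subgroup.map_injective H.subtype_injective
    rw [MonoidHom.map_zpowers, Subgroup.subgroupOf_map_subtype, inf_of_le_left hle]
    rfl
  rw [e1, ← Subgroup.subgroupOf_normalizer_eq hle, ← Subgroup.inf_subgroupOf_right]
  exact Nat.card_congr (Subgroup.subgroupOfEquivOfLe inf_le_right).toEquiv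

/-- An index-two kernel reduces `Bad (j + 1)` data to `Bad j`. -/
theorem bad_of_index_two {j : ℕ} (hX : Nat.card X = 495 * 2 ^ (j + 1)) (y : X)
    (hy : orderOf y = 11)
    (hN : Nat.card (normalizer ((zpowers y : Subgroup X) : Set X)) = 11 * 2 ^ (j + 1))
    (f : X →* ℤˣ) (w : X) (hwN : w ∈ normalizer ((zpowers y : Subgroup X) : Set X))
    (hw : f w = -1) : Bad.{u} j := by
  have hyk : y ∈ f.ker := mem_ker_of_orderOf_odd f y (by rw [hy]; decide)
  refine ⟨f.ker, inferInstance, inferInstance, ⟨y, hyk⟩, ?_, ?_, ?_⟩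
  · have := card_ker_mul_two f w hw
    rw [hX, pow_succ] at this
    omega
  · rw [← hy]
    exact (Subgroup.orderOf_coe (⟨y, hyk⟩ : f.ker)).symm
  · rw [card_normalizer_in_subgroup]
    set N := normalizer ((zpowers y : Subgroup X) : Set X) with hNdef
    -- restrict f to N
    have h1 := card_ker_mul_two (f.comp N.subtype) ⟨w, hwN⟩ (by simpa using hw)
    have h2 : (f.comp N.subtype).ker = f.ker.subgroupOf N := by
      rw [← MonoidHom.comap_ker]; rfl
    rw [h2] at h1
    have h3 : Nat.card (f.ker.subgroupOf N) = Nat.card (N ⊓ f.ker : Subgroup X) := by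
      rw [← Subgroup.inf_subgroupOf_right, inf_comm]
      exact Nat.card_congr (Subgroup.subgroupOfEquivOfLe inf_le_left).toEquiv
    rw [h3, hN, pow_succ] at h1
    omega


/-- Passing to the quotient by a central involution reduces `Bad (j + 1)` data to `Bad j`. -/
theorem bad_of_central {j : ℕ} (hX : Nat.card X = 495 * 2 ^ (j + 1)) (y : X)
    (hy : orderOf y = 11)
    (hN : Nat.card (normalizer ((zpowers y : Subgroup X) : Set X)) = 11 * 2 ^ (j + 1))
    (z : X) (hz : orderOf z = 2) (hzc : ∀ g : X, g * z = z * g) : Bad.{u} j := by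
  have hcen : ∀ c ∈ zpowers z, ∀ g : X, g * c = c * g := by
    intro c hc g
    obtain ⟨i, rfl⟩ := mem_zpowers_iff.mp hc
    have : Commute g z := hzc g
    exact (this.zpow_right i).eq
  have hsq : ∀ c ∈ zpowers z, c ^ 2 = 1 := by
    intro c hc
    obtain ⟨i, rfl⟩ := mem_zpowers_iff.mp hc
    rw [← zpow_natCast, ← zpow_mul, mul_comm, zpow_mul, zpow_natCast, ← hz, pow_orderOf_eq_one,
      one_zpow]
  haveI hKn : (zpowers z).Normal := by
    refine ⟨fun n hn g => ?_⟩
    have := hcen n hn g
    rw [this, mul_inv_cancel_right]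
    exact hn
  set K := zpowers z with hK
  set π := QuotientGroup.mk' K with hπ
  have hπs : Function.Surjective π := QuotientGroup.mk'_surjective K
  have hcK : Nat.card K = 2 := by rw [hK, Nat.card_zpowers, hz]
  have hcQ : Nat.card (X ⧸ K) * 2 = Nat.card X := by
    have := Subgroup.card_eq_card_quotient_mul_card_subgroup K
    rw [hcK] at this
    exact this.symm
  have hyo : orderOf (π y) = 11 := by
    have h1 : orderOf (π y) ∣ 11 := by rw [← hy]; exact orderOf_map_dvd π y
    rcases (Nat.dvd_prime (by norm_num : Nat.Prime 11)).mp h1 with h | h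
    · exfalso
      rw [orderOf_eq_one_iff] at h
      have hyK : y ∈ K := by
        have := (QuotientGroup.eq_one_iff (N := K) y).mp h
        exact this
      have h2 : orderOf y ∣ Nat.card K := by
        have := orderOf_dvd_natCard (⟨y, hyK⟩ : K)
        rwa [Subgroup.orderOf_mk] at this
      rw [hy, hcK] at h2
      norm_num at h2
    · exact h
  set N := normalizer ((zpowers y : Subgroup X) : Set X) with hNdef
  set Nb := normalizer ((zpowers (π y) : Subgroup (X ⧸ K)) : Set (X ⧸ K)) with hNb
  have hcomap : Nb.comap π = N := by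
    ext g
    rw [Subgroup.mem_comap]
    constructor
    · intro hg
      apply mem_normalizer_of_conj_mem
      have key : g * y * g⁻¹ ∈ zpowers y := by
        have h1 := (mem_normalizer_iff.mp hg (π y)).mp (mem_zpowers _)
        rw [← map_mul, ← map_inv, ← map_mul, ← MonoidHom.map_zpowers] at h1
        obtain ⟨x, hx, hxe⟩ := h1
        have h2 : x⁻¹ * (g * y * g⁻¹) ∈ K := by
          have := (QuotientGroup.eq (s := K) (a := x) (b := g * y * g⁻¹)).mp hxe
          exact this
        set c := x⁻¹ * (g * y * g⁻¹) with hc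
        have hgx : g * y * g⁻¹ = x * c := by rw [hc]; group
        have hx11 : x ^ 11 = 1 := by
          obtain ⟨i, rfl⟩ := mem_zpowers_iff.mp hx
          rw [← zpow_natCast, ← zpow_mul, mul_comm, zpow_mul, zpow_natCast, ← hy,
            pow_orderOf_eq_one, one_zpow]
        have hg11 : (g * y * g⁻¹) ^ 11 = 1 := by
          rw [conj_pow, ← hy, pow_orderOf_eq_one]; group
        have hcomm : Commute x c := (hcen c h2 x)
        rw [hgx, hcomm.mul_pow, hx11, one_mul] at hg11
        have hc2 := hsq c h2
        have hc1 : c = 1 := by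
          have : c ^ 11 = (c ^ 2) ^ 5 * c := by rw [← pow_mul, ← pow_succ]
          rw [this, hc2, one_pow, one_mul] at hg11
          exact hg11
        rw [hgx, hc1, mul_one]; exact hx
      intro x hx
      obtain ⟨i, rfl⟩ := mem_zpowers_iff.mp hx
      rw [← conj_zpow]   -- g * y^i * g⁻¹ = (g*y*g⁻¹)^i
      exact zpow_mem key i
    · intro hg
      have h1 : π g ∈ (N.map π) := Subgroup.mem_map_of_mem π hg
      have h2 := Subgroup.le_normalizer_map (H := zpowers y) π h1
      rwa [MonoidHom.map_zpowers] at h2
  have hidx : N.index = Nb.index := by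
    rw [← hcomap]; exact Subgroup.index_comap_of_surjective Nb hπs
  refine ⟨X ⧸ K, inferInstance, inferInstance, π y, ?_, hyo, ?_⟩
  · rw [hX, pow_succ] at hcQ; omega
  · show Nat.card Nb = 11 * 2 ^ j
    have h1 := N.card_mul_index
    have h2 := Nb.card_mul_index
    rw [← hidx] at h2
    have hi : 0 < N.index := Nat.pos_of_ne_zero (Subgroup.index_ne_zero_of_finite)
    have h3 : Nat.card Nb * 2 * N.index = Nat.card N * N.index := by
      rw [h1, ← hcQ, ← h2]; ring
    have h4 := Nat.eq_of_mul_eq_mul_right hi h3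
    rw [hN, pow_succ] at h4
    omega

end Cfsg.Agent.Lib.Helper55.Ord7920
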