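import Mathlib
import Cfsg.Agent.Lib.Helper55.Ord7920B
import Cfsg.Agent.Lib.Helper32.PGroupCenter
import Cfsg.Agent.Lib.Helper17.InvolTools

set_option autoImplicit false
set_option linter.style.haveILetI false
open scoped Pointwise

namespace Cfsg.Agent.Lib.Helper55.Ord7920

open Subgroup

universe u

variable {X : Type u} [Group X] [Finite X]

/-- A `2`-subgroup `S` of `N` of prescribed order together with an involution of `S ⊓ C`
central in `S`, where `C` is a subgroup of index two in `N` normalized by `N`. -/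
theorem exists_central_involution (N C : Subgroup X) (hCN : C ≤ N)
    (hnorm : ∀ c n : X, c ∈ C → n ∈ N → n * c * n⁻¹ ∈ C) (k : ℕ)
    (hk : 2 ^ (k + 2) ∣ Nat.card N) (hidx : C.relIndex N = 2) :
    ∃ S : Subgroup X, S ≤ N ∧ Nat.card S = 2 ^ (k + 2) ∧
      ∃ z : X, z ∈ S ∧ z ∈ C ∧ orderOf z = 2 ∧ ∀ s ∈ S, s * z = z * s := by
  haveI : Fact (Nat.Prime 2) := ⟨Nat.prime_two⟩
  obtain ⟨S₀, hS₀⟩ := Sylow.exists_subgroup_card_pow_prime (G := N) 2 hk
  set S : Subgroup X := S₀.map N.subtype with hS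
  have hSN : S ≤ N := Subgroup.map_subtype_le S₀
  have hcS : Nat.card S = 2 ^ (k + 2) := by
    rw [hS, Subgroup.card_map_of_injective N.subtype_injective, hS₀]
  refine ⟨S, hSN, hcS, ?_⟩
  set T : Subgroup X := S ⊓ C with hT
  -- size of T
  have h1 := Cfsg.Agent.Lib.Helper17.card_inf_mul_relIndex C S
  have h2 : C.relIndex S ≤ 2 := by
    rw [← hidx]
    exact Subgroup.relIndex_le_of_le_right hSN (by rw [hidx]; norm_num)
  have h3 : C.relIndex S ≠ 0 := by
    intro h0
    rw [h0, mul_zero, hcS] at h1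
    exact absurd h1.symm (by positivity)
  have hcT : 2 ≤ Nat.card T := by
    rw [hT, inf_comm]
    rw [hcS, pow_succ, pow_succ] at h1
    have hpos : 0 < 2 ^ k := by positivity
    rcases (by omega : C.relIndex S = 1 ∨ C.relIndex S = 2) with h | h
    · rw [h] at h1; omega
    · rw [h] at h1; omega
  have hTne : T.subgroupOf S ≠ ⊥ := by
    intro h
    rw [Subgroup.subgroupOf_eq_bot] at h
    have hTS : T ⊓ S = T := inf_of_le_left inf_le_left
    rw [disjoint_iff, hTS] at h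
    rw [h, Subgroup.card_bot] at hcT
    omega
  haveI hTn : (T.subgroupOf S).Normal := by
    rw [Subgroup.normal_subgroupOf_iff inf_le_left]
    intro h s hh hs
    exact ⟨S.mul_mem (S.mul_mem hs hh.1) (S.inv_mem hs), hnorm h s hh.2 (hSN hs)⟩
  have hSp : IsPGroup 2 S := IsPGroup.of_card hcS
  obtain ⟨x, hxT, hxZ, hx1⟩ :=
    Cfsg.Agent.Lib.Helper32.exists_ne_one_mem_normal_inf_center hSp (T.subgroupOf S) hTne
  set Z₁ : Subgroup S := T.subgroupOf S ⊓ center S with hZ₁
  have hZ₁ne : Nat.card Z₁ ≠ 1 := by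
    intro h
    have := (Subgroup.card_eq_one.mp h)
    have hx : x ∈ Z₁ := ⟨hxT, hxZ⟩
    rw [this, Subgroup.mem_bot] at hx
    exact hx1 hx
  have hZ₁p : IsPGroup 2 Z₁ := hSp.to_subgroup Z₁
  have h2Z : 2 ∣ Nat.card Z₁ := by
    obtain ⟨n, hn⟩ := IsPGroup.iff_card.mp hZ₁p
    rw [hn] at hZ₁ne ⊢
    cases n with
    | zero => simp at hZ₁ne
    | succ n => exact dvd_pow_self 2 (Nat.succ_ne_zero n)
  obtain ⟨z₁, hz₁⟩ := exists_prime_orderOf_dvd_card' 2 h2Z
  refine ⟨((z₁ : S) : X), (z₁ : S).2, ?_, ?_, ?_⟩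
  · have := (Subgroup.mem_inf.mp z₁.2).1
    rw [Subgroup.mem_subgroupOf] at this
    exact this.2
  · rw [Subgroup.orderOf_coe, Subgroup.orderOf_coe]; exact hz₁
  · intro s hs
    have := (Subgroup.mem_inf.mp z₁.2).2
    rw [Subgroup.mem_center_iff] at this
    have h := this ⟨s, hs⟩
    exact congrArg Subtype.val h

end Cfsg.Agent.Lib.Helper55.Ord7920
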