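import Mathlib
import Cfsg.Agent.Lib.Helper55.Ord7920C
import Cfsg.Agent.Lib.Helper17.InvolTools
import Cfsg.Agent.Lib.Helper17.SylowTools

set_option autoImplicit false
set_option linter.style.haveILetI false
open scoped Pointwise

namespace Cfsg.Agent.Lib.Helper55.Ord7920

open Subgroup

universe u

variable {X : Type u} [Group X] [Finite X]

theorem mem_normalizer_zpowers_self (y : X) : y ∈ normalizer ((zpowers y : Subgroup X) : Set X) :=
  le_normalizer (mem_zpowers y)

/-- `N = ⟨y⟩ S` centralizes `z`. -/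
theorem normalizer_le_centralizer_invol {j : ℕ} (y : X) (hy : orderOf y = 11)
    (hN : Nat.card (normalizer ((zpowers y : Subgroup X) : Set X)) = 11 * 2 ^ j)
    (S : Subgroup X) (hSN : S ≤ normalizer ((zpowers y : Subgroup X) : Set X))
    (hcS : Nat.card S = 2 ^ j) (z : X) (hzC : z ∈ centralizer {y})
    (hzS : ∀ s ∈ S, s * z = z * s) :
    normalizer ((zpowers y : Subgroup X) : Set X) ≤ centralizer {z} := by
  set N := normalizer ((zpowers y : Subgroup X) : Set X) with hNdef
  set D : Subgroup X := centralizer {z} ⊓ N with hD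
  have hyD : y ∈ D := by
    refine Subgroup.mem_inf.mpr ⟨?_, mem_normalizer_zpowers_self y⟩
    rw [mem_centralizer_singleton_iff]
    exact (mem_centralizer_singleton_iff.mp hzC).symm
  have hSD : S ≤ D := by
    intro s hs
    refine Subgroup.mem_inf.mpr ⟨?_, hSN hs⟩
    rw [mem_centralizer_singleton_iff]
    exact hzS s hs
  have h11 : 11 ∣ Nat.card D := by
    have := orderOf_dvd_natCard (⟨y, hyD⟩ : D)
    rwa [Subgroup.orderOf_mk, hy] at this
  have h2 : 2 ^ j ∣ Nat.card D := by
    rw [← hcS]; exact Subgroup.card_dvd_of_le hSD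
  have hcop : Nat.Coprime 11 (2 ^ j) := by
    apply Nat.Coprime.pow_right
    norm_num
  have hdvd : 11 * 2 ^ j ∣ Nat.card D := hcop.mul_dvd_of_dvd_of_dvd h11 h2
  have hDN : D = N := by
    apply Subgroup.eq_of_le_of_card_ge inf_le_right
    rw [hN]
    exact Nat.le_of_dvd Nat.card_pos hdvd
  rw [← hDN]
  exact inf_le_left

theorem eq_one_or_45 (n : ℕ) (h1 : n ∣ 45) (h2 : n ≡ 1 [MOD 11]) : n = 1 ∨ n = 45 := by
  have hle : n ≤ 45 := Nat.le_of_dvd (by norm_num) h1
  unfold Nat.ModEq at h2
  interval_cases n <;> simp_all <;> omega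

/-- The centralizer of `z` is either `N` or everything. -/
theorem card_centralizer_invol_cases {j : ℕ} (hX : Nat.card X = 495 * 2 ^ j) (y : X)
    (hy : orderOf y = 11) (hp2 : ¬ 11 ^ 2 ∣ Nat.card X)
    (hN : Nat.card (normalizer ((zpowers y : Subgroup X) : Set X)) = 11 * 2 ^ j) (z : X)
    (hNz : normalizer ((zpowers y : Subgroup X) : Set X) ≤ centralizer {z}) :
    Nat.card (centralizer {z} : Subgroup X) = 11 * 2 ^ j ∨ (centralizer {z} : Subgroup X) = ⊤ := by
  haveI : Fact (Nat.Prime 11) := ⟨by norm_num⟩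
  set N := normalizer ((zpowers y : Subgroup X) : Set X) with hNdef
  obtain ⟨P, hP⟩ := exists_sylow_eq_zpowers y hy hp2
  have hPle : (P : Subgroup X) ≤ centralizer {z} := by
    rw [hP]; exact le_trans le_normalizer hNz
  have h1 := Cfsg.Agent.Lib.Helper17.relIndex_normalizer_modEq_one P (centralizer {z}) hPle
  rw [hP] at h1
  have h2 := Cfsg.Agent.Lib.Helper17.card_inf_mul_relIndex N (centralizer {z})
  rw [inf_of_le_left hNz, hN] at h2
  have h3 : Nat.card (centralizer {z} : Subgroup X) ∣ Nat.card X := Subgroup.card_subgroup_dvd_card _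
  set n := N.relIndex (centralizer {z}) with hn
  have h4 : n ∣ 45 := by
    rw [← h2, hX] at h3
    have e : 495 * 2 ^ j = 11 * 2 ^ j * 45 := by ring
    rw [e] at h3
    exact Nat.dvd_of_mul_dvd_mul_left (by positivity) h3
  rcases eq_one_or_45 n h4 h1 with h | h
  · left
    rw [h, mul_one] at h2
    exact h2.symm
  · right
    rw [← Subgroup.card_eq_iff_eq_top, ← h2, h, hX]
    ring

end Cfsg.Agent.Lib.Helper55.Ord7920
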