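import Mathlib
import Cfsg.Agent.Lib.Helper55.Ord7920D
import Cfsg.Agent.Lib.Helper17.FixedPoints
import Cfsg.Agent.Lib.Helper17.SignTools

set_option autoImplicit false
set_option linter.style.haveILetI false
open scoped Pointwise

namespace Cfsg.Agent.Lib.Helper55.Ord7920

open Subgroup MulAction

universe u

variable {X : Type u} [Group X] [Finite X]

theorem card_sylow_eq_45 {j : ℕ} [Fact (Nat.Prime 11)] (hX : Nat.card X = 495 * 2 ^ j) (y : X)
    (hy : orderOf y = 11) (hp2 : ¬ 11 ^ 2 ∣ Nat.card X)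
    (hN : Nat.card (normalizer ((zpowers y : Subgroup X) : Set X)) = 11 * 2 ^ j) :
    Nat.card (Sylow 11 X) = 45 := by
  obtain ⟨P, hP⟩ := exists_sylow_eq_zpowers y hy hp2
  have h := Cfsg.Agent.Lib.Helper17.card_normalizer_mul_card_sylow P
  rw [hP, hN, hX] at h
  have e : 495 * 2 ^ j = 11 * 2 ^ j * 45 := by ring
  rw [e] at h
  exact Nat.eq_of_mul_eq_mul_left (by positivity) h

theorem eq_1_23_45 (f : ℕ) (h1 : f ≤ 45) (h2 : 45 ≡ f [MOD 2]) (h3 : f ≡ 1 [MOD 11]) :
    f = 1 ∨ f = 23 ∨ f = 45 := by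
  unfold Nat.ModEq at h2 h3
  interval_cases f <;> simp_all <;> omega

/-- The number of Sylow `11`-subgroups normalized by the involution `z` is `1`, `23` or `45`. -/
theorem card_fixedBy_cases {j : ℕ} [Fact (Nat.Prime 11)] (hX : Nat.card X = 495 * 2 ^ j) (y : X)
    (hy : orderOf y = 11) (hp2 : ¬ 11 ^ 2 ∣ Nat.card X)
    (hN : Nat.card (normalizer ((zpowers y : Subgroup X) : Set X)) = 11 * 2 ^ j) (z : X)
    (hz : orderOf z = 2) (hzC : z ∈ centralizer {y}) :
    Nat.card (fixedBy (Sylow 11 X) z) = 1 ∨ Nat.card (fixedBy (Sylow 11 X) z) = 23 ∨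
      Nat.card (fixedBy (Sylow 11 X) z) = 45 := by
  haveI : Fact (Nat.Prime 2) := ⟨Nat.prime_two⟩
  have hΩ := card_sylow_eq_45 hX y hy hp2 hN
  obtain ⟨P, hP⟩ := exists_sylow_eq_zpowers y hy hp2
  apply eq_1_23_45
  · rw [← hΩ]
    exact Finite.card_subtype_le _
  · have hz2 : IsPGroup 2 (zpowers z) :=
      IsPGroup.of_card (n := 1) (by rw [Nat.card_zpowers, hz, pow_one])
    have h := Cfsg.Agent.Lib.Helper17.card_modEq_card_fixedPoints_subgroup (X := Sylow 11 X)
      (zpowers z) hz2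
    rw [Cfsg.Agent.Lib.Helper17.fixedPoints_zpowers_eq, hΩ] at h
    exact h
  · apply Cfsg.Agent.Lib.Helper17.card_fixedBy_sylow_modEq_one P z
    intro a ha
    rw [hP] at ha
    obtain ⟨i, rfl⟩ := mem_zpowers_iff.mp ha
    have hc : Commute y z := (mem_centralizer_singleton_iff.mp hzC).symm
    exact (hc.zpow_left i).eq

end Cfsg.Agent.Lib.Helper55.Ord7920
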