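import Mathlib
import Cfsg.Agent.Lib.Helper55.Ord7920E

set_option autoImplicit false
set_option linter.style.haveILetI false
open scoped Pointwise

namespace Cfsg.Agent.Lib.Helper55.Ord7920

open Subgroup MulAction

universe u

variable {X : Type u} [Group X] [Finite X]

/-- If every conjugate of `y` lies in `N(⟨y⟩)`, then `⟨y⟩` is normal, contradicting the order of
the normalizer. -/
theorem false_of_forall_conj_mem_normalizer {j : ℕ} (hX : Nat.card X = 495 * 2 ^ j) (y : X)
    (hy : orderOf y = 11) (hp2 : ¬ 11 ^ 2 ∣ Nat.card X)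
    (hN : Nat.card (normalizer ((zpowers y : Subgroup X) : Set X)) = 11 * 2 ^ j)
    (h : ∀ g : X, g * y * g⁻¹ ∈ normalizer ((zpowers y : Subgroup X) : Set X)) : False := by
  haveI : Fact (Nat.Prime 11) := ⟨by norm_num⟩
  obtain ⟨P, hP⟩ := exists_sylow_eq_zpowers y hy hp2
  have h1 : ∀ g : X, g * y * g⁻¹ ∈ zpowers y := by
    intro g
    have hg := h g
    rw [← hP] at hg ⊢
    apply Cfsg.Agent.Lib.Helper2.mem_sylow_of_mem_normalizer_of_pow P _ hg (k := 1)
    rw [pow_one, conj_pow, ← hy, pow_orderOf_eq_one]; group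
  have h2 : normalizer ((zpowers y : Subgroup X) : Set X) = ⊤ := by
    rw [eq_top_iff]
    intro g _
    apply mem_normalizer_of_conj_mem
    intro x hx
    obtain ⟨i, rfl⟩ := mem_zpowers_iff.mp hx
    rw [← conj_zpow]
    exact zpow_mem (h1 g) i
  rw [h2, Subgroup.card_top, hX] at hN
  have hpos : 0 < 2 ^ j := by positivity
  have := Nat.eq_of_mul_eq_mul_right hpos hN
  norm_num at this

/-- The case of `45` fixed points is impossible. -/
theorem false_of_fixedBy_45 {j : ℕ} [Fact (Nat.Prime 11)] (hj : j ≤ 4)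
    (hX : Nat.card X = 495 * 2 ^ j) (y : X)
    (hy : orderOf y = 11) (hp2 : ¬ 11 ^ 2 ∣ Nat.card X)
    (hN : Nat.card (normalizer ((zpowers y : Subgroup X) : Set X)) = 11 * 2 ^ j) (z : X)
    (hNz : normalizer ((zpowers y : Subgroup X) : Set X) ≤ centralizer {z})
    (hCz : Nat.card (centralizer {z} : Subgroup X) = 11 * 2 ^ j)
    (hf : Nat.card (fixedBy (Sylow 11 X) z) = 45) : False := by
  have hΩ := card_sylow_eq_45 hX y hy hp2 hN
  obtain ⟨P, hP⟩ := exists_sylow_eq_zpowers y hy hp2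
  set N := normalizer ((zpowers y : Subgroup X) : Set X) with hNdef
  have hCzN : (centralizer {z} : Subgroup X) = N := by
    symm
    apply Subgroup.eq_of_le_of_card_ge hNz
    rw [hCz, hN]
  have hall : ∀ R : Sylow 11 X, z • R = R := by
    intro R
    by_contra hR
    have : Nat.card (fixedBy (Sylow 11 X) z) < Nat.card (Sylow 11 X) := by
      apply Finite.card_subtype_lt (x := R)
      exact hR
    omega
  set K₀ : Subgroup X := (MulAction.toPermHom X (Sylow 11 X)).ker with hK₀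
  have hzK : z ∈ K₀ := by
    rw [hK₀, MonoidHom.mem_ker]
    apply Equiv.ext
    intro R
    exact hall R
  have hKN : K₀ ≤ N := by
    intro g hg
    rw [hK₀, MonoidHom.mem_ker] at hg
    have h1 : g • P = P := by
      have := congrArg (fun σ : Equiv.Perm (Sylow 11 X) => σ P) hg
      simpa using this
    rw [Sylow.smul_eq_iff_mem_normalizer] at h1
    have e : normalizer ((P : Subgroup X) : Set X) = N := by rw [hP]
    rw [← e]
    exact h1
  apply false_of_forall_conj_mem_normalizer hX y hy hp2 hN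
  by_cases h11 : 11 ∣ Nat.card K₀
  · obtain ⟨g₀, hg₀⟩ := exists_conj_mem_of_dvd_card y hy hp2 K₀ h11
    have hyK : y ∈ K₀ := by
      have := (inferInstance : K₀.Normal).conj_mem _ hg₀ g₀⁻¹
      have e : g₀⁻¹ * (g₀ * y * g₀⁻¹) * g₀⁻¹⁻¹ = y := by group
      rwa [e] at this
    intro g
    exact hKN ((inferInstance : K₀.Normal).conj_mem _ hyK g)
  · have hd1 : Nat.card K₀ ∣ 11 * 2 ^ j := by
      rw [← hN]; exact Subgroup.card_dvd_of_le hKN
    have hcop : Nat.Coprime (Nat.card K₀) 11 :=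
      ((Nat.Prime.coprime_iff_not_dvd (by norm_num)).mpr h11).symm
    have hd2 : Nat.card K₀ ∣ 2 ^ j := hcop.dvd_of_dvd_mul_left hd1
    have hd3 : Nat.card K₀ ∣ 720 := by
      refine hd2.trans ?_
      have : 2 ^ j ∣ 2 ^ 4 := pow_dvd_pow 2 hj
      exact this.trans (by norm_num)
    have hKC := le_centralizer_of_dvd_720 y hy hp2 K₀ hd3
    intro g
    have hz' : g⁻¹ * z * g⁻¹⁻¹ ∈ K₀ := (inferInstance : K₀.Normal).conj_mem _ hzK g⁻¹
    have hc := mem_centralizer_singleton_iff.mp (hKC hz')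
    -- (g⁻¹ z g) y = y (g⁻¹ z g)  ⟹  z commutes with g y g⁻¹
    have : g * y * g⁻¹ ∈ (centralizer {z} : Subgroup X) := by
      rw [mem_centralizer_singleton_iff]
      rw [inv_inv] at hc
      have e1 : g * y * g⁻¹ * z = g * (y * (g⁻¹ * z * g)) * g⁻¹ := by group
      have e2 : z * (g * y * g⁻¹) = g * ((g⁻¹ * z * g) * y) * g⁻¹ := by group
      rw [e1, e2, hc]
    rw [hCzN] at this
    exact this

/-- The case of `23` fixed points yields an index-two subgroup. -/
theorem bad_of_fixedBy_23 {j : ℕ} [Fact (Nat.Prime 11)]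
    (hX : Nat.card X = 495 * 2 ^ (j + 1)) (y : X)
    (hy : orderOf y = 11) (hp2 : ¬ 11 ^ 2 ∣ Nat.card X)
    (hN : Nat.card (normalizer ((zpowers y : Subgroup X) : Set X)) = 11 * 2 ^ (j + 1)) (z : X)
    (hz : orderOf z = 2) (hzN : z ∈ normalizer ((zpowers y : Subgroup X) : Set X))
    (hf : Nat.card (fixedBy (Sylow 11 X) z) = 23) : Bad.{u} j := by
  classical
  have hΩ := card_sylow_eq_45 hX y hy hp2 hN
  letI : Fintype (Sylow 11 X) := Fintype.ofFinite _
  have hΩ' : Fintype.card (Sylow 11 X) = 45 := by rw [← Nat.card_eq_fintype_card]; exact hΩ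
  set τ : Equiv.Perm (Sylow 11 X) := MulAction.toPermHom X (Sylow 11 X) z with hτ
  have hτ2 : τ ^ 2 = 1 := by
    rw [hτ, ← map_pow, ← hz, pow_orderOf_eq_one, map_one]
  have hτ4 : τ ^ 4 = 1 := by
    have : τ ^ 4 = (τ ^ 2) ^ 2 := by rw [← pow_mul]
    rw [this, hτ2, one_pow]
  have hs := Cfsg.Agent.Lib.Helper17.sign_of_pow_four τ hτ4
  have hc2 : Fintype.card {x // (τ ^ 2) x = x} = 45 := by
    rw [← hΩ']
    apply Fintype.card_congr
    apply Equiv.subtypeUnivEquiv
    intro x
    rw [hτ2]; rfl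
  have hc1 : Fintype.card {x // τ x = x} = 23 := by
    rw [← hf, hτ]
    exact (Cfsg.Agent.Lib.Helper17.card_fixedBy_eq_fintype_card' z).symm
  rw [hc2, hc1, hΩ'] at hs
  have hs' : Equiv.Perm.sign τ = -1 := by
    rw [hs]; decide
  exact bad_of_index_two hX y hy hN
    (Equiv.Perm.sign.comp (MulAction.toPermHom X (Sylow 11 X))) z hzN hs'

end Cfsg.Agent.Lib.Helper55.Ord7920
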