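import Mathlib
import Cfsg.Agent.Lib.Helper55.Ord7920F
import Cfsg.Agent.S0215

set_option autoImplicit false
set_option linter.style.haveILetI false
open scoped Pointwise

namespace Cfsg.Agent.Lib.Helper55.Ord7920

open Subgroup MulAction

universe u

variable {X : Type u} [Group X] [Finite X]

theorem factorization_two (j : ℕ) : (495 * 2 ^ j).factorization 2 = j := by
  rw [Nat.factorization_mul (by norm_num) (by positivity), Finsupp.add_apply,
    Nat.Prime.factorization_pow Nat.prime_two, Finsupp.single_eq_same,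
    Nat.factorization_eq_zero_of_not_dvd (by norm_num), zero_add]

theorem odd_dvd_left {a j n : ℕ} (hn : n ∣ a * 2 ^ j) (hodd : Odd n) : n ∣ a := by
  have hcop2 : Nat.Coprime n (2 ^ j) := by
    apply Nat.Coprime.pow_right
    exact Nat.coprime_two_right.mpr hodd
  exact hcop2.dvd_of_dvd_mul_right hn

/-- An odd divisor of `495 * 2 ^ j` prime to `11` divides `45`. -/
theorem odd_dvd_45 {j n : ℕ} (hn : n ∣ 495 * 2 ^ j) (hodd : Odd n) (h11 : ¬ 11 ∣ n) : n ∣ 45 := by
  have h1 : n ∣ 495 := odd_dvd_left hn hodd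
  have hcop : Nat.Coprime n 11 :=
    ((Nat.Prime.coprime_iff_not_dvd (by norm_num)).mpr h11).symm
  have e : 495 = 45 * 11 := by norm_num
  rw [e] at h1
  exact hcop.dvd_of_dvd_mul_right h1

/-- The case of a single fixed point is impossible (Glauberman's `Z*`-theorem). -/
theorem false_of_fixedBy_one {j : ℕ} [Fact (Nat.Prime 11)] (hj : j ≤ 4)
    (IH0 : 0 < j → ¬ Bad.{u} 0)
    (hX : Nat.card X = 495 * 2 ^ j) (y : X)
    (hy : orderOf y = 11) (hp2 : ¬ 11 ^ 2 ∣ Nat.card X)
    (hN : Nat.card (normalizer ((zpowers y : Subgroup X) : Set X)) = 11 * 2 ^ j)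
    (S : Subgroup X) (hSN : S ≤ normalizer ((zpowers y : Subgroup X) : Set X))
    (hcS : Nat.card S = 2 ^ j) (hj0 : 0 < j) (z : X) (hz : orderOf z = 2) (hzS : z ∈ S)
    (hNz : normalizer ((zpowers y : Subgroup X) : Set X) ≤ centralizer {z})
    (hCz : Nat.card (centralizer {z} : Subgroup X) = 11 * 2 ^ j)
    (hf : Nat.card (fixedBy (Sylow 11 X) z) = 1) : False := by
  haveI : Fact (Nat.Prime 2) := ⟨Nat.prime_two⟩
  obtain ⟨P, hP⟩ := exists_sylow_eq_zpowers y hy hp2
  set N := normalizer ((zpowers y : Subgroup X) : Set X) with hNdef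
  have hNP : normalizer ((P : Subgroup X) : Set X) = N := by rw [hP]
  have hCzN : (centralizer {z} : Subgroup X) = N := by
    symm
    apply Subgroup.eq_of_le_of_card_ge hNz
    rw [hCz, hN]
  -- Sylow 2-subgroup
  set P₂ : Sylow 2 X := Sylow.ofCard S (by rw [hcS, hX, factorization_two]) with hP₂
  have hP₂S : (P₂ : Subgroup X) = S := rfl
  -- isolation
  haveI hsub : Subsingleton (fixedBy (Sylow 11 X) z) :=
    (Nat.card_eq_one_iff_unique.mp hf).1
  have hPfix : P ∈ fixedBy (Sylow 11 X) z := by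
    rw [Cfsg.Agent.Lib.Helper17.mem_fixedBy_sylow_iff, hNP]
    exact hSN hzS
  have hiso : ∀ g : X, g * z * g⁻¹ ∈ P₂ → g * z * g⁻¹ = z := by
    intro g hg
    have hgN : g * z * g⁻¹ ∈ N := hSN hg
    have hR : (g⁻¹ • P : Sylow 11 X) ∈ fixedBy (Sylow 11 X) z := by
      rw [mem_fixedBy]
      have h1 : (g * z * g⁻¹) • P = P := by
        rw [Sylow.smul_eq_iff_mem_normalizer]
        rw [← hNP] at hgN
        exact hgN
      calc z • g⁻¹ • P = g⁻¹ • ((g * z * g⁻¹) • P) := by
            rw [← mul_smul, ← mul_smul]; congr 1; group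
        _ = g⁻¹ • P := by rw [h1]
    have heq : (g⁻¹ • P : Sylow 11 X) = P := by
      have := Subsingleton.elim (⟨g⁻¹ • P, hR⟩ : fixedBy (Sylow 11 X) z) ⟨P, hPfix⟩
      exact congrArg Subtype.val this
    rw [Sylow.smul_eq_iff_mem_normalizer] at heq
    have hgN' : g⁻¹ ∈ N := by rw [← hNP]; exact heq
    have hgC : g⁻¹ ∈ (centralizer {z} : Subgroup X) := hNz hgN'
    have hc := mem_centralizer_singleton_iff.mp hgC
    -- g⁻¹ z = z g⁻¹
    calc g * z * g⁻¹ = g * (z * g⁻¹) := by group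
      _ = g * (g⁻¹ * z) := by rw [hc]
      _ = z := by group
  obtain ⟨N₀, hN₀n, hN₀odd, hN₀c⟩ := Cfsg.Agent.S0215.result P₂ z hz hzS hiso
  haveI := hN₀n
  have hN₀X : Nat.card N₀ ∣ 495 * 2 ^ j := by rw [← hX]; exact Subgroup.card_subgroup_dvd_card N₀
  by_cases h11 : 11 ∣ Nat.card N₀
  · -- y ∈ N₀
    obtain ⟨g₀, hg₀⟩ := exists_conj_mem_of_dvd_card y hy hp2 N₀ h11
    have hyN₀ : y ∈ N₀ := by
      have := hN₀n.conj_mem _ hg₀ g₀⁻¹
      have e : g₀⁻¹ * (g₀ * y * g₀⁻¹) * g₀⁻¹⁻¹ = y := by group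
      rwa [e] at this
    have hPle : (P : Subgroup X) ≤ N₀ := by rw [hP]; exact (zpowers_le).mpr hyN₀
    set D : Subgroup X := N ⊓ N₀ with hD
    have hD1 : Nat.card D ∣ 11 := by
      have h1 : Nat.card D ∣ 11 * 2 ^ j := by rw [← hN]; exact Subgroup.card_dvd_of_le inf_le_left
      have h2 : Odd (Nat.card D) := by
        have : Nat.card D ∣ Nat.card N₀ := Subgroup.card_dvd_of_le inf_le_right
        exact Odd.of_dvd_nat hN₀odd this
      exact odd_dvd_left h1 h2
    have hD2 : 11 ∣ Nat.card D := by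
      have hyD : y ∈ D := Subgroup.mem_inf.mpr ⟨mem_normalizer_zpowers_self y, hyN₀⟩
      have := orderOf_dvd_natCard (⟨y, hyD⟩ : D)
      rwa [Subgroup.orderOf_mk, hy] at this
    have hD3 : Nat.card D = 11 := Nat.dvd_antisymm hD1 hD2
    have hm1 := Cfsg.Agent.Lib.Helper17.relIndex_normalizer_modEq_one P N₀ hPle
    rw [hNP] at hm1
    have hm2 := Cfsg.Agent.Lib.Helper17.card_inf_mul_relIndex N N₀
    rw [← hD, hD3] at hm2
    set m := N.relIndex N₀ with hm
    have hm3 : m ∣ 45 := by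
      have h1 : 11 * m ∣ 495 := by
        rw [hm2]
        exact odd_dvd_left hN₀X hN₀odd
      have e : 495 = 11 * 45 := by norm_num
      rw [e] at h1
      exact Nat.dvd_of_mul_dvd_mul_left (by norm_num) h1
    rcases eq_one_or_45 m hm3 hm1 with h | h
    · -- N₀ = ⟨y⟩ is normal
      rw [h, mul_one] at hm2
      have hN₀eq : zpowers y = N₀ := by
        apply Subgroup.eq_of_le_of_card_ge ((zpowers_le).mpr hyN₀)
        rw [← hm2, Nat.card_zpowers, hy]
      apply false_of_forall_conj_mem_normalizer hX y hy hp2 hN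
      intro g
      have := hN₀n.conj_mem _ hyN₀ g
      rw [← hN₀eq] at this
      exact le_normalizer this
    · -- |N₀| = 495 gives Bad 0
      rw [h] at hm2
      apply IH0 hj0
      refine ⟨N₀, inferInstance, inferInstance, ⟨y, hyN₀⟩, ?_, ?_, ?_⟩
      · rw [← hm2]; norm_num
      · rw [← hy]
        exact (Subgroup.orderOf_coe (⟨y, hyN₀⟩ : N₀)).symm
      · rw [card_normalizer_in_subgroup, ← hNdef, ← hD, hD3, pow_zero, mul_one]
  · have h45 : Nat.card N₀ ∣ 45 := odd_dvd_45 hN₀X hN₀odd h11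
    have h720 : Nat.card N₀ ∣ 720 := h45.trans (by norm_num)
    have hNC := le_centralizer_of_dvd_720 y hy hp2 N₀ h720
    have hCN : (centralizer {y} : Subgroup X) ≤ N := by
      rw [← centralizer_zpowers]; exact centralizer_le_normalizer _
    have hd : Nat.card N₀ ∣ 11 * 2 ^ j := by
      rw [← hN]; exact Subgroup.card_dvd_of_le (hNC.trans hCN)
    have hd11 : Nat.card N₀ ∣ 11 := odd_dvd_left hd hN₀odd
    have h1 : Nat.card N₀ = 1 := by
      have hg : Nat.card N₀ ∣ Nat.gcd 45 11 := Nat.dvd_gcd h45 hd11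
      have : Nat.gcd 45 11 = 1 := by norm_num
      rw [this] at hg
      exact Nat.dvd_one.mp hg
    have hbot : N₀ = ⊥ := Subgroup.card_eq_one.mp h1
    have hcent : (centralizer {z} : Subgroup X) = ⊤ := by
      rw [eq_top_iff]
      intro g _
      rw [mem_centralizer_singleton_iff]
      have := hN₀c g
      rw [hbot, Subgroup.mem_bot] at this
      -- z g z⁻¹ g⁻¹ = 1
      have e : z * g = g * z := by
        have h2 : z * g * z⁻¹ * g⁻¹ * g * z = g * z := by rw [this, one_mul]
        have h3 : z * g * z⁻¹ * g⁻¹ * g * z = z * g := by group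
        rw [← h3]; exact h2
      exact e.symm
    rw [hcent, Subgroup.card_top, hX] at hCz
    have hpos : 0 < 2 ^ j := by positivity
    have := Nat.eq_of_mul_eq_mul_right hpos hCz
    norm_num at this

end Cfsg.Agent.Lib.Helper55.Ord7920
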