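import Mathlib
import Cfsg.Agent.Lib.Helper55.Ord7920G
import Cfsg.Agent.Lib.Helper17.NormCent

set_option autoImplicit false
set_option linter.style.haveILetI false
open scoped Pointwise

namespace Cfsg.Agent.Lib.Helper55.Ord7920

open Subgroup MulAction

universe u

/-- No group of order `495 * 2 ^ j` (`j ≤ 4`) has exactly `45` Sylow `11`-subgroups. -/
theorem not_bad : ∀ j : ℕ, j ≤ 4 → ¬ Bad.{u} j := by
  intro j
  induction j using Nat.strong_induction_on with
  | _ j IH =>
  intro hj hbad
  obtain ⟨X, _, _, y, hX, hy, hN⟩ := hbad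
  haveI : Fact (Nat.Prime 11) := ⟨by norm_num⟩
  have hp2 : ¬ 11 ^ 2 ∣ Nat.card X := by
    rw [hX]
    interval_cases j <;> norm_num
  set N := normalizer ((zpowers y : Subgroup X) : Set X) with hNdef
  set C : Subgroup X := centralizer {y} with hCdef
  have hCN : C ≤ N := by
    rw [hCdef, ← centralizer_zpowers]; exact centralizer_le_normalizer _
  have hrel : C.relIndex N ∣ 10 := by
    have := Cfsg.Agent.Lib.Helper17.relIndex_centralizer_normalizer_dvd_pred
      (p := 11) (by norm_num) (zpowers y) (by rw [Nat.card_zpowers, hy])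
    rw [centralizer_zpowers] at this
    exact this
  by_cases hNC : N ≤ C
  · obtain ⟨K, hKn, hK⟩ := exists_normal_complement y hy hp2 hNC
    haveI := hKn
    have hcK : Nat.card K = 45 * 2 ^ j := by
      rw [hX] at hK
      have e : 495 * 2 ^ j = 45 * 2 ^ j * 11 := by ring
      rw [e] at hK
      exact Nat.eq_of_mul_eq_mul_right (by norm_num) hK
    have h720 : Nat.card K ∣ 720 := by
      rw [hcK]
      have : 2 ^ j ∣ 2 ^ 4 := pow_dvd_pow 2 hj
      have h2 : 45 * 2 ^ j ∣ 45 * 2 ^ 4 := Nat.mul_dvd_mul_left 45 this
      exact h2.trans (by norm_num)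
    have hKC := le_centralizer_of_dvd_720 y hy hp2 K h720
    have hd : Nat.card K ∣ Nat.card N := Subgroup.card_dvd_of_le (hKC.trans hCN)
    rw [hcK, hN] at hd
    have h3 : 45 ∣ 11 := Nat.dvd_of_mul_dvd_mul_right (by positivity) hd
    norm_num at h3
  · have hrel1 : C.relIndex N ≠ 1 := by
      rw [Ne, relIndex_eq_one]; exact hNC
    have hrel2 : C.relIndex N ∣ 11 * 2 ^ j := by
      rw [← hN]; exact relIndex_dvd_card C N
    have hidx : C.relIndex N = 2 ∧ 0 < j := by
      have h5 : ¬ 5 ∣ C.relIndex N := by
        intro h5
        have h := h5.trans hrel2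
        rcases (Nat.Prime.dvd_mul (by norm_num : Nat.Prime 5)).mp h with h | h
        · norm_num at h
        · have := (Nat.Prime.dvd_of_dvd_pow (by norm_num : Nat.Prime 5)) h
          norm_num at this
      have hcop : Nat.Coprime (C.relIndex N) 5 :=
        ((Nat.Prime.coprime_iff_not_dvd (by norm_num)).mpr h5).symm
      have h10 : C.relIndex N ∣ 2 * 5 := by norm_num; exact hrel
      have h2 : C.relIndex N ∣ 2 := hcop.dvd_of_dvd_mul_right h10
      have hr2 : C.relIndex N = 2 := by
        rcases (Nat.dvd_prime Nat.prime_two).mp h2 with h | h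
        · exact absurd h hrel1
        · exact h
      refine ⟨hr2, ?_⟩
      by_contra hj0
      have hj0' : j = 0 := by omega
      rw [hr2, hj0'] at hrel2
      norm_num at hrel2
    obtain ⟨hidx, hj0⟩ := hidx
    rcases Nat.lt_or_ge j 2 with hlt | hge
    · -- regular representation
      obtain rfl : j = 1 := by omega
      classical
      have h2N : 2 ∣ Nat.card N := by rw [hN]; norm_num
      haveI : Fact (Nat.Prime 2) := ⟨Nat.prime_two⟩
      obtain ⟨s, hs⟩ := exists_prime_orderOf_dvd_card' 2 h2N
      have hs' : orderOf (s : X) = 2 := by rw [Subgroup.orderOf_coe]; exact hs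
      letI : Fintype X := Fintype.ofFinite X
      have hcX : Fintype.card X = 990 := by
        rw [← Nat.card_eq_fintype_card, hX]; norm_num
      set τ : Equiv.Perm X := MulAction.toPermHom X X (s : X) with hτ
      have h1' : τ ^ 2 = 1 := by
        rw [hτ, ← map_pow, ← hs', pow_orderOf_eq_one, map_one]
      have h1 : τ ^ (2 ^ (0 + 1)) = 1 := by simpa using h1'
      have h2 : ∀ x, (τ ^ (2 ^ 0)) x ≠ x := by
        intro x hx
        rw [pow_zero, pow_one, hτ] at hx
        have hx' : (s : X) * x = x := hx
        have : (s : X) = 1 := by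
          have := mul_right_cancel (hx'.trans (one_mul x).symm)
          exact this
        rw [this, orderOf_one] at hs'
        norm_num at hs'
      have hsign := Cfsg.Agent.Lib.Helper17.sign_of_pow_fpf τ 0 h1 h2
      rw [hcX] at hsign
      have e495 : 990 / 2 ^ (0 + 1) = 495 := by norm_num
      rw [e495] at hsign
      have hsign' : Equiv.Perm.sign τ = -1 := by
        rw [hsign]; exact Odd.neg_one_pow (by decide)
      have hb : Bad.{u} 0 := bad_of_index_two (j := 0) hX y hy hN
        (Equiv.Perm.sign.comp (MulAction.toPermHom X X)) (s : X) s.2 hsign'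
      exact IH 0 (by norm_num) (by norm_num) hb
    · -- central involution analysis
      obtain ⟨k, rfl⟩ := Nat.exists_eq_add_of_le' hge
      have hnorm : ∀ c n : X, c ∈ C → n ∈ N → n * c * n⁻¹ ∈ C := by
        have := (Subgroup.normal_subgroupOf_iff
          (centralizer_le_normalizer ((zpowers y : Subgroup X) : Set X))).mp
          (normal_subgroupOf_centralizer_normalizer _)
        rw [centralizer_zpowers] at this
        exact this
      have hk : 2 ^ (k + 2) ∣ Nat.card N := by rw [hN]; exact dvd_mul_left _ _
      obtain ⟨S, hSN, hcS, z, hzS, hzC, hz, hzcomm⟩ :=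
        exists_central_involution N C hCN hnorm k hk hidx
      have hNz := normalizer_le_centralizer_invol y hy hN S hSN hcS z hzC hzcomm
      rcases card_centralizer_invol_cases hX y hy hp2 hN z hNz with hCz | hCz
      · rcases card_fixedBy_cases hX y hy hp2 hN z hz hzC with hf | hf | hf
        · exact false_of_fixedBy_one hj (fun _ => IH 0 (by omega) (by omega)) hX y hy hp2 hN
            S hSN hcS (by omega) z hz hzS hNz hCz hf
        · have hb : Bad.{u} (k + 1) :=
            bad_of_fixedBy_23 (j := k + 1) hX y hy hp2 hN z hz (hSN hzS) hf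
          exact IH (k + 1) (by omega) (by omega) hb
        · exact false_of_fixedBy_45 hj hX y hy hp2 hN z hNz hCz hf
      · have hzc : ∀ g : X, g * z = z * g := by
          intro g
          have : g ∈ (centralizer {z} : Subgroup X) := by rw [hCz]; exact mem_top g
          exact mem_centralizer_singleton_iff.mp this
        have hb : Bad.{u} (k + 1) := bad_of_central (j := k + 1) hX y hy hN z hz hzc
        exact IH (k + 1) (by omega) (by omega) hb

end Cfsg.Agent.Lib.Helper55.Ord7920
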