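import Mathlib
import Cfsg.Agent.Lib.Helper55.Ord7920H

set_option autoImplicit false
set_option linter.style.haveILetI false
open scoped Pointwise

namespace Cfsg.Agent.Lib.Helper55.Ord7920

open Subgroup MulAction

universe u

variable {G : Type u} [Group G] [Finite G]

theorem factorization_of_eq {q k m n : ℕ} (hq : q.Prime) (h : n = q ^ k * m) (hm : ¬ q ∣ m) :
    n.factorization q = k := by
  have hm0 : m ≠ 0 := by rintro rfl; exact hm (dvd_zero q)
  rw [h, Nat.factorization_mul (pow_ne_zero _ hq.ne_zero) hm0, hq.factorization_pow]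
  simp [Nat.factorization_eq_zero_of_not_dvd hm]

theorem sylow11_cases (n : ℕ) (h1 : n ≡ 1 [MOD 11]) (h2 : n ∣ 720) :
    n = 1 ∨ n = 12 ∨ n = 45 ∨ n = 144 := by
  have hle : n ≤ 720 := Nat.le_of_dvd (by norm_num) h2
  unfold Nat.ModEq at h1
  obtain ⟨t, rfl⟩ : ∃ t, n = 11 * t + 1 := ⟨n / 11, by omega⟩
  have ht : t ≤ 65 := by omega
  interval_cases t <;> omega

theorem prime_dvd_7920 {q : ℕ} (hq : q.Prime) (h : q ∣ 7920) :
    q = 2 ∨ q = 3 ∨ q = 5 ∨ q = 11 := by
  have e : (7920 : ℕ) = 720 * 11 := by norm_num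
  rw [e] at h
  rcases hq.dvd_mul.mp h with h | h
  · rcases prime_dvd_720 hq h with h | h | h
    · left; exact h
    · right; left; exact h
    · right; right; left; exact h
  · right; right; right
    exact (Nat.prime_dvd_prime_iff_eq hq (by norm_num)).mp h

/-- The final combinatorial step: three edges connect the prime graph. -/
theorem false_of_edges (hord : Nat.card G = 7920)
    (hdisc : (∃ A : Set ℕ, (∃ a ∈ A, a.Prime ∧ a ∣ Nat.card G) ∧
      (∃ b ∉ A, b.Prime ∧ b ∣ Nat.card G) ∧
      ∀ a ∈ A, ∀ b ∉ A, a.Prime → b.Prime → a ∣ Nat.card G → b ∣ Nat.card G →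
        ¬ ∃ g : G, orderOf g = a * b))
    (h22 : ∃ g : G, orderOf g = 11 * 2) (h33 : ∃ g : G, orderOf g = 11 * 3)
    (h5 : (∃ g : G, orderOf g = 5 * 2) ∨ (∃ g : G, orderOf g = 5 * 3) ∨
      (∃ g : G, orderOf g = 5 * 11)) : False := by
  obtain ⟨A, ⟨a, haA, hap, had⟩, ⟨b, hbA, hbp, hbd⟩, hno⟩ := hdisc
  rw [hord] at had hbd hno
  have edge : ∀ p q : ℕ, p.Prime → q.Prime → p ∣ 7920 → q ∣ 7920 →
      (∃ g : G, orderOf g = p * q) → (p ∈ A ↔ q ∈ A) := by
    intro p q hp hq hpd hqd hg
    constructor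
    · intro hpA
      by_contra hqA
      exact hno p hpA q hqA hp hq hpd hqd hg
    · intro hqA
      by_contra hpA
      obtain ⟨g, hg⟩ := hg
      exact hno q hqA p hpA hq hp hqd hpd ⟨g, by rw [hg, mul_comm]⟩
  have e1 := edge 11 2 (by norm_num) (by norm_num) (by norm_num) (by norm_num) h22
  have e2 := edge 11 3 (by norm_num) (by norm_num) (by norm_num) (by norm_num) h33
  have e3 : (5 ∈ A ↔ 2 ∈ A) ∨ (5 ∈ A ↔ 3 ∈ A) ∨ (5 ∈ A ↔ 11 ∈ A) := by
    rcases h5 with h | h | h
    · left; exact edge 5 2 (by norm_num) (by norm_num) (by norm_num) (by norm_num) h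
    · right; left; exact edge 5 3 (by norm_num) (by norm_num) (by norm_num) (by norm_num) h
    · right; right; exact edge 5 11 (by norm_num) (by norm_num) (by norm_num) (by norm_num) h
  rcases prime_dvd_7920 hap had with rfl | rfl | rfl | rfl <;>
  rcases prime_dvd_7920 hbp hbd with rfl | rfl | rfl | rfl <;>
  tauto


/-- An element of prime order `q ≠ 11` in the centralizer of `y` gives an element of order
`11 * q`. -/
theorem exists_order_mul (y : G) (hy : orderOf y = 11) (q : ℕ) [Fact q.Prime] (hq11 : q ≠ 11)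
    (hqC : q ∣ Nat.card (centralizer {y} : Subgroup G)) : ∃ g : G, orderOf g = 11 * q := by
  have hq : q.Prime := Fact.out
  obtain ⟨a, ha⟩ := exists_prime_orderOf_dvd_card' q hqC
  have ha' : orderOf (a : G) = q := by rw [Subgroup.orderOf_coe]; exact ha
  have hcomm : Commute y (a : G) := (mem_centralizer_singleton_iff.mp a.2).symm
  refine ⟨y * (a : G), ?_⟩
  rw [hcomm.orderOf_mul_eq_mul_orderOf_of_coprime, hy, ha']
  rw [hy, ha']
  exact (Nat.coprime_primes (by norm_num) hq).mpr (Ne.symm hq11)

/-- Edges of the prime graph from arithmetic information on `C(y) ≤ N(⟨y⟩)`. -/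
theorem edges_of_arith (y : G) (hy : orderOf y = 11)
    (h2 : 2 ∣ Nat.card (centralizer {y} : Subgroup G))
    (h3 : 3 ∣ Nat.card (centralizer {y} : Subgroup G))
    (h5 : 5 ∣ Nat.card (centralizer {y} : Subgroup G) ∨
      (¬ 5 ∣ Nat.card (centralizer {y} : Subgroup G) ∧
        5 ∣ Nat.card (normalizer ((zpowers y : Subgroup G) : Set G)) ∧
        ∃ k m : ℕ, Nat.card (centralizer {y} : Subgroup G) = 3 ^ k * m ∧ ¬ 3 ∣ m ∧
          ¬ (3 ^ k ≡ 1 [MOD 5]))) :
    (∃ g : G, orderOf g = 11 * 2) ∧ (∃ g : G, orderOf g = 11 * 3) ∧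
      ((∃ g : G, orderOf g = 5 * 2) ∨ (∃ g : G, orderOf g = 5 * 3) ∨
        (∃ g : G, orderOf g = 5 * 11)) := by
  haveI : Fact (Nat.Prime 2) := ⟨Nat.prime_two⟩
  haveI : Fact (Nat.Prime 3) := ⟨Nat.prime_three⟩
  haveI : Fact (Nat.Prime 5) := ⟨Nat.prime_five⟩
  refine ⟨exists_order_mul y hy 2 (by norm_num) h2, exists_order_mul y hy 3 (by norm_num) h3, ?_⟩
  rcases h5 with h5 | ⟨h5C, h5N, k, m, hkm, hm, hmod⟩
  · right; right
    obtain ⟨g, hg⟩ := exists_order_mul y hy 5 (by norm_num) h5
    exact ⟨g, by rw [hg]⟩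
  · right; left
    set N := normalizer ((zpowers y : Subgroup G) : Set G) with hNdef
    set C : Subgroup G := centralizer {y} with hCdef
    have hCN : C ≤ N := by
      rw [hCdef, ← centralizer_zpowers]; exact centralizer_le_normalizer _
    haveI hnorm : (C.subgroupOf N).Normal := by
      have := normal_subgroupOf_centralizer_normalizer ((zpowers y : Subgroup G) : Set G)
      rw [centralizer_zpowers] at this
      exact this
    have hcard : Nat.card (C.subgroupOf N) = Nat.card C :=
      Nat.card_congr (Subgroup.subgroupOfEquivOfLe hCN).toEquiv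
    have hfac : (Nat.card (C.subgroupOf N)).factorization 3 = k := by
      rw [hcard]
      exact factorization_of_eq Nat.prime_three hkm hm
    obtain ⟨g, hg⟩ := exists_orderOf_eq_mul (X := N) (p := 5) (q := 3) (by norm_num)
      (C.subgroupOf N) h5N (by rw [hcard]; exact h5C) (by rw [hfac]; exact hmod)
    exact ⟨(g : G), by rw [Subgroup.orderOf_coe]; exact hg⟩

/-- Edges of the prime graph when the normalizer of the Sylow `11`-subgroup has order `7920` or
`660`. -/
theorem edges_of_card_normalizer (y : G) (hy : orderOf y = 11)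
    (hN : Nat.card (normalizer ((zpowers y : Subgroup G) : Set G)) = 7920 ∨
      Nat.card (normalizer ((zpowers y : Subgroup G) : Set G)) = 660) :
    (∃ g : G, orderOf g = 11 * 2) ∧ (∃ g : G, orderOf g = 11 * 3) ∧
      ((∃ g : G, orderOf g = 5 * 2) ∨ (∃ g : G, orderOf g = 5 * 3) ∨
        (∃ g : G, orderOf g = 5 * 11)) := by
  set N := normalizer ((zpowers y : Subgroup G) : Set G) with hNdef
  set C : Subgroup G := centralizer {y} with hCdef
  have hCN : C ≤ N := by
    rw [hCdef, ← centralizer_zpowers]; exact centralizer_le_normalizer _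
  have hrel : C.relIndex N ∣ 10 := by
    have := Cfsg.Agent.Lib.Helper17.relIndex_centralizer_normalizer_dvd_pred
      (p := 11) (by norm_num) (zpowers y) (by rw [Nat.card_zpowers, hy])
    rw [centralizer_zpowers] at this
    exact this
  have hmul := Cfsg.Agent.Lib.Helper17.card_inf_mul_relIndex C N
  rw [inf_of_le_left hCN] at hmul
  set r := C.relIndex N with hr
  have hr10 : r = 1 ∨ r = 2 ∨ r = 5 ∨ r = 10 := by
    have hle : r ≤ 10 := Nat.le_of_dvd (by norm_num) hrel
    interval_cases r <;> omega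
  have H2 : 2 ∣ Nat.card C := by
    rcases hN with hN | hN <;> rw [hN] at hmul <;> rcases hr10 with h | h | h | h <;>
      rw [h] at hmul <;> omega
  have H3 : 3 ∣ Nat.card C := by
    rcases hN with hN | hN <;> rw [hN] at hmul <;> rcases hr10 with h | h | h | h <;>
      rw [h] at hmul <;> omega
  have H5 : 5 ∣ Nat.card C ∨ (¬ 5 ∣ Nat.card C ∧ 5 ∣ Nat.card N ∧
      ∃ k m : ℕ, Nat.card C = 3 ^ k * m ∧ ¬ 3 ∣ m ∧ ¬ (3 ^ k ≡ 1 [MOD 5])) := by
    rcases hN with hN | hN
    · rw [hN] at hmul
      rcases hr10 with h | h | h | h <;> rw [h] at hmul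
      · left; omega
      · left; omega
      · right
        have hC : Nat.card C = 1584 := by omega
        refine ⟨by omega, by rw [hN]; norm_num, 2, 176, by rw [hC]; norm_num, by norm_num, by decide⟩
      · right
        have hC : Nat.card C = 792 := by omega
        refine ⟨by omega, by rw [hN]; norm_num, 2, 88, by rw [hC]; norm_num, by norm_num, by decide⟩
    · rw [hN] at hmul
      rcases hr10 with h | h | h | h <;> rw [h] at hmul
      · left; omega
      · left; omega
      · right
        have hC : Nat.card C = 132 := by omega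
        refine ⟨by omega, by rw [hN]; norm_num, 1, 44, by rw [hC]; norm_num, by norm_num, by decide⟩
      · right
        have hC : Nat.card C = 66 := by omega
        refine ⟨by omega, by rw [hN]; norm_num, 1, 22, by rw [hC]; norm_num, by norm_num, by decide⟩
  exact edges_of_arith y hy H2 H3 H5

end Cfsg.Agent.Lib.Helper55.Ord7920
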