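import Mathlib
import Cfsg.Agent.Lib.Helper55.Ord7920I

set_option autoImplicit false
set_option linter.style.haveILetI false
open scoped Pointwise

namespace Cfsg.Agent.Lib.Helper55.Ord7920

open Subgroup MulAction

universe u

variable {G : Type u} [Group G] [Finite G]

/-- `144` Sylow `11`-subgroups force simplicity. -/
theorem simple_of_card_normalizer_55 (hord : Nat.card G = 7920) (y : G) (hy : orderOf y = 11)
    (hN : Nat.card (normalizer ((zpowers y : Subgroup G) : Set G)) = 55) : IsSimpleGroup G := by
  haveI : Fact (Nat.Prime 11) := ⟨by norm_num⟩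
  have hp2 : ¬ 11 ^ 2 ∣ Nat.card G := by rw [hord]; norm_num
  set N := normalizer ((zpowers y : Subgroup G) : Set G) with hNdef
  set C : Subgroup G := centralizer {y} with hCdef
  have hCN : C ≤ N := by
    rw [hCdef, ← centralizer_zpowers]; exact centralizer_le_normalizer _
  have hrel : C.relIndex N ∣ 10 := by
    have := Cfsg.Agent.Lib.Helper17.relIndex_centralizer_normalizer_dvd_pred
      (p := 11) (by norm_num) (zpowers y) (by rw [Nat.card_zpowers, hy])
    rw [centralizer_zpowers] at this
    exact this
  have hmul := Cfsg.Agent.Lib.Helper17.card_inf_mul_relIndex C N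
  rw [inf_of_le_left hCN, hN] at hmul
  by_cases hNC : N ≤ C
  · exfalso
    obtain ⟨K, hKn, hK⟩ := exists_normal_complement y hy hp2 hNC
    haveI := hKn
    have hcK : Nat.card K = 720 := by rw [hord] at hK; omega
    have hKC := le_centralizer_of_dvd_720 y hy hp2 K (by rw [hcK])
    have hd : Nat.card K ∣ Nat.card N := Subgroup.card_dvd_of_le (hKC.trans hCN)
    rw [hcK, hN] at hd
    norm_num at hd
  · have hrel1 : C.relIndex N ≠ 1 := by rw [Ne, relIndex_eq_one]; exact hNC
    have hcC : Nat.card C = 11 := by
      set r := C.relIndex N with hr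
      have hle : r ≤ 10 := Nat.le_of_dvd (by norm_num) hrel
      have hr55 : r ∣ 55 := Dvd.intro_left _ hmul
      interval_cases r <;> omega
    haveI : Nontrivial G := by
      rw [← Finite.one_lt_card_iff_nontrivial, hord]; norm_num
    refine ⟨fun M hM => ?_⟩
    haveI := hM
    by_cases h11 : 11 ∣ Nat.card M
    · right
      obtain ⟨g₀, hg₀⟩ := exists_conj_mem_of_dvd_card y hy hp2 M h11
      have hyM : y ∈ M := by
        have := hM.conj_mem _ hg₀ g₀⁻¹
        have e : g₀⁻¹ * (g₀ * y * g₀⁻¹) * g₀⁻¹⁻¹ = y := by group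
        rwa [e] at this
      obtain ⟨P, hP⟩ := exists_sylow_eq_zpowers y hy hp2
      have hPle : (P : Subgroup G) ≤ M := by rw [hP]; exact (zpowers_le).mpr hyM
      have hfr : N ⊔ M = ⊤ := by
        have h0 := Sylow.normalizer_sup_eq_top' P hPle
        have e : normalizer ((P : Subgroup G) : Set G) = N := by rw [hP]
        rw [← e]; exact h0
      have h2 : M.relIndex (N ⊔ M) = M.relIndex N := relIndex_sup_right N M
      rw [hfr, relIndex_top_right] at h2
      have h3 := Cfsg.Agent.Lib.Helper17.card_inf_mul_relIndex M N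
      rw [← h2, hN] at h3
      set D : Subgroup G := M ⊓ N with hD
      have hD11 : 11 ∣ Nat.card D := by
        have hyD : y ∈ D := Subgroup.mem_inf.mpr ⟨hyM, mem_normalizer_zpowers_self y⟩
        have := orderOf_dvd_natCard (⟨y, hyD⟩ : D)
        rwa [Subgroup.orderOf_mk, hy] at this
      have hidx : M.index = 1 ∨ M.index = 5 := by
        obtain ⟨c, hc⟩ := hD11
        rw [hc] at h3
        have : c * M.index = 5 := by nlinarith
        have hle : M.index ≤ 5 := Nat.le_of_dvd (by norm_num) (Dvd.intro_left _ this)
        have hc5 : c ≤ 5 := Nat.le_of_dvd (by norm_num) (Dvd.intro _ this)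
        interval_cases c <;> omega
      rcases hidx with hidx | hidx
      · exact Subgroup.index_eq_one.mp hidx
      · exfalso
        have hcM : Nat.card M = 1584 := by
          have := M.card_mul_index
          rw [hidx, hord] at this
          omega
        have hcD : Nat.card D = 11 := by
          rw [hidx] at h3; omega
        -- work inside M
        set y₀ : M := ⟨y, hyM⟩ with hy₀
        have hy₀o : orderOf y₀ = 11 := by
          rw [← hy]; exact (Subgroup.orderOf_coe y₀).symm
        have hp2M : ¬ 11 ^ 2 ∣ Nat.card M := by rw [hcM]; norm_num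
        have hcN₀ : Nat.card (normalizer ((zpowers y₀ : Subgroup M) : Set M)) = 11 := by
          rw [hy₀, card_normalizer_in_subgroup, ← hNdef, inf_comm, ← hD, hcD]
        have hNeq : normalizer ((zpowers y₀ : Subgroup M) : Set M) = zpowers y₀ := by
          symm
          apply Subgroup.eq_of_le_of_card_ge le_normalizer
          rw [hcN₀, Nat.card_zpowers, hy₀o]
        have hzC : zpowers y₀ ≤ centralizer {y₀} := by
          intro x hx
          obtain ⟨i, rfl⟩ := mem_zpowers_iff.mp hx
          rw [mem_centralizer_singleton_iff]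
          exact ((Commute.refl y₀).zpow_left i).eq
        have hNC₀ : normalizer ((zpowers y₀ : Subgroup M) : Set M) ≤ centralizer {y₀} := by
          rw [hNeq]; exact hzC
        obtain ⟨K₁, hK₁n, hK₁⟩ := exists_normal_complement y₀ hy₀o hp2M hNC₀
        haveI := hK₁n
        have hcK₁ : Nat.card K₁ = 144 := by rw [hcM] at hK₁; omega
        have hK₁C := le_centralizer_of_dvd_720 y₀ hy₀o hp2M K₁ (by rw [hcK₁]; norm_num)
        have hC₀N : (centralizer {y₀} : Subgroup M) ≤
            normalizer ((zpowers y₀ : Subgroup M) : Set M) := by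
          rw [← centralizer_zpowers]; exact centralizer_le_normalizer _
        have hd := Subgroup.card_dvd_of_le (hK₁C.trans hC₀N)
        rw [hcK₁, hcN₀] at hd
        norm_num at hd
    · left
      have hd : Nat.card M ∣ 720 * 11 := by
        have := Subgroup.card_subgroup_dvd_card M
        rw [hord] at this
        exact this.trans (by norm_num)
      have hcop : Nat.Coprime (Nat.card M) 11 :=
        ((Nat.Prime.coprime_iff_not_dvd (by norm_num)).mpr h11).symm
      have h720 : Nat.card M ∣ 720 := hcop.dvd_of_dvd_mul_right hd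
      have hMC := le_centralizer_of_dvd_720 y hy hp2 M h720
      have hd11 : Nat.card M ∣ 11 := by
        rw [← hcC]; exact Subgroup.card_dvd_of_le hMC
      rcases (Nat.dvd_prime (by norm_num : Nat.Prime 11)).mp hd11 with h | h
      · exact Subgroup.card_eq_one.mp h
      · exact absurd (h ▸ dvd_refl _) h11

/-- A group of order `7920` with disconnected prime graph is simple. -/
theorem simple_of_disconnected (hord : Nat.card G = 7920)
    (hdisc : (∃ A : Set ℕ, (∃ a ∈ A, a.Prime ∧ a ∣ Nat.card G) ∧
      (∃ b ∉ A, b.Prime ∧ b ∣ Nat.card G) ∧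
      ∀ a ∈ A, ∀ b ∉ A, a.Prime → b.Prime → a ∣ Nat.card G → b ∣ Nat.card G →
        ¬ ∃ g : G, orderOf g = a * b)) : IsSimpleGroup G := by
  haveI : Fact (Nat.Prime 11) := ⟨by norm_num⟩
  have hp2 : ¬ 11 ^ 2 ∣ Nat.card G := by rw [hord]; norm_num
  obtain ⟨y, hy⟩ := exists_prime_orderOf_dvd_card' (G := G) 11 (by rw [hord]; norm_num)
  obtain ⟨P, hP⟩ := exists_sylow_eq_zpowers y hy hp2
  have h1 : Nat.card (Sylow 11 G) ≡ 1 [MOD 11] := card_sylow_modEq_one 11 G
  have h2 : Nat.card (Sylow 11 G) ∣ 720 :=
    Cfsg.Agent.Lib.Helper17.card_sylow_dvd_of_card_eq (p := 11) (k := 1) (m := 720)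
      (by rw [hord]; norm_num) (by norm_num)
  have hmul := Cfsg.Agent.Lib.Helper17.card_normalizer_mul_card_sylow P
  rw [hP, hord] at hmul
  rcases sylow11_cases _ h1 h2 with h | h | h | h <;> rw [h] at hmul
  · exfalso
    have hN : Nat.card (normalizer ((zpowers y : Subgroup G) : Set G)) = 7920 := by omega
    obtain ⟨e1, e2, e3⟩ := edges_of_card_normalizer y hy (Or.inl hN)
    exact false_of_edges hord hdisc e1 e2 e3
  · exfalso
    have hN : Nat.card (normalizer ((zpowers y : Subgroup G) : Set G)) = 660 := by omega
    obtain ⟨e1, e2, e3⟩ := edges_of_card_normalizer y hy (Or.inr hN)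
    exact false_of_edges hord hdisc e1 e2 e3
  · exfalso
    have hN : Nat.card (normalizer ((zpowers y : Subgroup G) : Set G)) = 11 * 2 ^ 4 := by omega
    exact not_bad.{u} 4 le_rfl ⟨G, inferInstance, inferInstance, y, by rw [hord]; norm_num, hy, hN⟩
  · have hN : Nat.card (normalizer ((zpowers y : Subgroup G) : Set G)) = 55 := by omega
    exact simple_of_card_normalizer_55 hord y hy hN

end Cfsg.Agent.Lib.Helper55.Ord7920
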