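import Mathlib

set_option autoImplicit false
set_option linter.style.haveILetI false

namespace Cfsg.Agent.Lib.Helper55

/-- A permutation commuting with a cycle of full support is a power of it. -/
theorem perm_mem_zpowers_of_commute_full_cycle {α : Type*} [Fintype α] [DecidableEq α]
    (σ τ : Equiv.Perm α) (hσ : σ.IsCycle) (hfull : ∀ a, σ a ≠ a) (hc : Commute τ σ) :
    τ ∈ Subgroup.zpowers σ := by
  obtain ⟨a₀, -, -⟩ := id hσ
  obtain ⟨i, hi⟩ := hσ.exists_zpow_eq (hfull a₀) (hfull (τ a₀))
  refine ⟨i, ?_⟩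
  ext b
  obtain ⟨j, hj⟩ := hσ.exists_zpow_eq (hfull a₀) (hfull b)
  rw [← hj]
  have h1 : τ ((σ ^ j) a₀) = (σ ^ j) (τ a₀) := by
    have := (hc.zpow_right j).eq
    exact congrFun (congrArg DFunLike.coe this) a₀
  show (σ ^ i) ((σ ^ j) a₀) = τ ((σ ^ j) a₀)
  rw [h1, ← hi, ← Equiv.Perm.mul_apply, ← Equiv.Perm.mul_apply, ← zpow_add, ← zpow_add, add_comm]

/-- In a permutation group on a prime number `p` of points, an element of order `p` is a cycle
of full support. -/
theorem perm_full_cycle_of_prime_order {α : Type*} [Fintype α] [DecidableEq α]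
    (σ : Equiv.Perm α) (hp : (Fintype.card α).Prime) (ho : orderOf σ = Fintype.card α) :
    σ.IsCycle ∧ ∀ a, σ a ≠ a := by
  have hcyc := Equiv.Perm.isCycle_of_prime_order'' hp ho
  refine ⟨hcyc, ?_⟩
  have h1 := hcyc.orderOf
  rw [ho] at h1
  have h2 : σ.support = Finset.univ := (Finset.card_eq_iff_eq_univ _).mp h1.symm
  intro a
  rw [← Equiv.Perm.mem_support, h2]
  exact Finset.mem_univ a

/-- Subgroups with `H ≤ K` of the same index in a finite group are equal. -/
theorem eq_of_le_of_index_eq' {G : Type*} [Group G] [Finite G] {H K : Subgroup G} (h : H ≤ K)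
    (hi : H.index = K.index) : H = K := by
  have h1 := Subgroup.relIndex_mul_index h
  rw [hi] at h1
  have hpos : 0 < K.index := Nat.pos_of_ne_zero Subgroup.index_ne_zero_of_finite
  have h2 : H.relIndex K = 1 := by
    have : H.relIndex K * K.index = 1 * K.index := by rw [h1, one_mul]
    exact Nat.eq_of_mul_eq_mul_right hpos this
  exact le_antisymm h (Subgroup.relIndex_eq_one.mp h2)

end Cfsg.Agent.Lib.Helper55
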