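import Mathlib
import Cfsg.Agent.Lib.Helper81.Q4Defs

set_option autoImplicit false

/-! # S6002 leaf Q4-A2: five pairwise anticommuting involutions. -/

namespace Cfsg.Agent.Lib.Helper81.Q4

open Matrix

variable {F : Type*} [Field F] [Fintype F]

/-- ring-level computation: from `e1, e2` anticommuting involutions and `j, k` anticommuting with
square `-1`, commuting with `e1, e2`, the elements `e1 e2 j`, `e1 e2 k`, `e1 e2 j k` -/
theorem a2_ring {A : Type*} [Ring A] (e1 e2 j k : A)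
    (h11 : e1 * e1 = 1) (h22 : e2 * e2 = 1) (h12 : e1 * e2 = -(e2 * e1))
    (hj1 : j * e1 = e1 * j) (hj2 : j * e2 = e2 * j) (hk1 : k * e1 = e1 * k) (hk2 : k * e2 = e2 * k)
    (hjj : j * j = -1) (hkk : k * k = -1) (hjk : j * k = -(k * j)) :
    ((e1 * e2 * j) * (e1 * e2 * j) = 1 ∧ (e1 * e2 * k) * (e1 * e2 * k) = 1 ∧
      (e1 * e2 * j * k) * (e1 * e2 * j * k) = 1) ∧
    (e1 * (e1 * e2 * j) = -((e1 * e2 * j) * e1) ∧ e1 * (e1 * e2 * k) = -((e1 * e2 * k) * e1) ∧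
      e1 * (e1 * e2 * j * k) = -((e1 * e2 * j * k) * e1)) ∧
    (e2 * (e1 * e2 * j) = -((e1 * e2 * j) * e2) ∧ e2 * (e1 * e2 * k) = -((e1 * e2 * k) * e2) ∧
      e2 * (e1 * e2 * j * k) = -((e1 * e2 * j * k) * e2)) ∧
    ((e1 * e2 * j) * (e1 * e2 * k) = -((e1 * e2 * k) * (e1 * e2 * j)) ∧
      (e1 * e2 * j) * (e1 * e2 * j * k) = -((e1 * e2 * j * k) * (e1 * e2 * j)) ∧
      (e1 * e2 * k) * (e1 * e2 * j * k) = -((e1 * e2 * j * k) * (e1 * e2 * k))) := by
  have r21 : e2 * e1 = -(e1 * e2) := by rw [h12, neg_neg]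
  have r21' : ∀ x, e2 * (e1 * x) = -(e1 * (e2 * x)) := fun x => by
    rw [← mul_assoc, r21, neg_mul, mul_assoc]
  have rj1' : ∀ x, j * (e1 * x) = e1 * (j * x) := fun x => by rw [← mul_assoc, hj1, mul_assoc]
  have rj2' : ∀ x, j * (e2 * x) = e2 * (j * x) := fun x => by rw [← mul_assoc, hj2, mul_assoc]
  have rk1' : ∀ x, k * (e1 * x) = e1 * (k * x) := fun x => by rw [← mul_assoc, hk1, mul_assoc]
  have rk2' : ∀ x, k * (e2 * x) = e2 * (k * x) := fun x => by rw [← mul_assoc, hk2, mul_assoc]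
  have rkj : k * j = -(j * k) := by rw [hjk, neg_neg]
  have rkj' : ∀ x, k * (j * x) = -(j * (k * x)) := fun x => by
    rw [← mul_assoc, rkj, neg_mul, mul_assoc]
  have s1' : ∀ x, e1 * (e1 * x) = x := fun x => by rw [← mul_assoc, h11, one_mul]
  have s2' : ∀ x, e2 * (e2 * x) = x := fun x => by rw [← mul_assoc, h22, one_mul]
  have sj' : ∀ x, j * (j * x) = -x := fun x => by rw [← mul_assoc, hjj, neg_mul, one_mul]
  have sk' : ∀ x, k * (k * x) = -x := fun x => by rw [← mul_assoc, hkk, neg_mul, one_mul]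
  refine ⟨⟨?_, ?_, ?_⟩, ⟨?_, ?_, ?_⟩, ⟨?_, ?_, ?_⟩, ⟨?_, ?_, ?_⟩⟩ <;>
    simp only [mul_assoc, r21, r21', hj1, rj1', hj2, rj2', hk1, rk1', hk2, rk2', rkj, rkj', h11,
      s1', h22, s2', hjj, sj', hkk, sk', neg_mul, mul_neg, neg_neg, mul_one, one_mul]

theorem a2_inv_comm {A : Type*} [Ring A] (X X' a : A) (h1 : X' * X = 1) (h2 : X * X' = 1)
    (h : X * a = a * X) : X' * a = a * X' := by
  calc X' * a = X' * (a * X) * X' := by rw [mul_assoc, mul_assoc, h2, mul_one]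
    _ = X' * (X * a) * X' := by rw [h]
    _ = (X' * X) * a * X' := by simp only [mul_assoc]
    _ = a * X' := by rw [h1, one_mul]

theorem a2_inv_anti {A : Type*} [Ring A] (X X' a : A) (h1 : X' * X = 1) (h2 : X * X' = 1)
    (h : X * a = -(a * X)) : X' * a = -(a * X') := by
  have h' : a * X = -(X * a) := by rw [h, neg_neg]
  calc X' * a = X' * (a * X) * X' := by rw [mul_assoc, mul_assoc, h2, mul_one]
    _ = X' * (-(X * a)) * X' := by rw [h']
    _ = -((X' * X) * a * X') := by simp only [mul_assoc, mul_neg, neg_mul]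
    _ = -(a * X') := by rw [h1, one_mul]

theorem a2_ne_neg (h2 : (2 : F) ≠ 0) (g : GL I4 F) :
    (g : Matrix I4 I4 F) ≠ -(g : Matrix I4 I4 F) := by
  intro h
  have h1 : (2 : F) • (g : Matrix I4 I4 F) = 0 := by
    rw [two_smul]
    nth_rewrite 2 [h]
    exact add_neg_cancel _
  have h3 : (g : Matrix I4 I4 F) = 0 := by
    rcases smul_eq_zero.mp h1 with h | h
    · exact absurd h h2
    · exact h
  have h4 : (g : Matrix I4 I4 F) * ((g⁻¹ : GL I4 F) : Matrix I4 I4 F) = 1 := by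
    rw [← Units.val_mul, mul_inv_cancel, Units.val_one]
  rw [h3, zero_mul] at h4
  exact zero_ne_one h4

theorem a2_comm_anti_false (h2 : (2 : F) ≠ 0) (a b : GL I4 F)
    (h : (a : Matrix I4 I4 F) * (b : Matrix I4 I4 F) = (b : Matrix I4 I4 F) * (a : Matrix I4 I4 F))
    (h' : (a : Matrix I4 I4 F) * (b : Matrix I4 I4 F) =
      -((b : Matrix I4 I4 F) * (a : Matrix I4 I4 F))) : False := by
  apply a2_ne_neg h2 (b * a)
  rw [Units.val_mul]
  calc (b : Matrix I4 I4 F) * (a : Matrix I4 I4 F)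
      = (a : Matrix I4 I4 F) * (b : Matrix I4 I4 F) := h.symm
    _ = -((b : Matrix I4 I4 F) * (a : Matrix I4 I4 F)) := h'

theorem a2_scalar_comm (g b : GL I4 F) (hs : IsScalar g) :
    (g : Matrix I4 I4 F) * (b : Matrix I4 I4 F) = (b : Matrix I4 I4 F) * (g : Matrix I4 I4 F) := by
  obtain ⟨s, hs⟩ := hs
  rw [hs, Matrix.smul_mul, Matrix.mul_smul, one_mul, mul_one]

theorem a2_eq_of_scalar (R : Subgroup (GL I4 F)) (hR : MinusLike R) (z : GL I4 F)
    (hz : (z : Matrix I4 I4 F) = -1) (g : GL I4 F) (hg : g ∈ R) (hs : IsScalar g) :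
    g = 1 ∨ g = z := by
  obtain ⟨s, hs⟩ := hs
  rcases hR.scal g hg s hs with rfl | rfl
  · left
    apply Units.ext
    rw [hs, one_smul, Units.val_one]
  · right
    apply Units.ext
    rw [hs, hz, neg_one_smul]

theorem a2_exists_anti (R : Subgroup (GL I4 F)) (hR : MinusLike R) (g : GL I4 F) (hg : g ∈ R)
    (hns : ¬ IsScalar g) :
    ∃ h ∈ R, (g : Matrix I4 I4 F) * (h : Matrix I4 I4 F) =
      -((h : Matrix I4 I4 F) * (g : Matrix I4 I4 F)) := by
  by_contra hcon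
  push Not at hcon
  apply hns
  apply hR.comm (g : Matrix I4 I4 F)
  intro h hh
  rcases hR.anti g hg h hh with h1 | h1
  · exact h1
  · exact absurd h1 (hcon h hh)

theorem a2_same_sign (R : Subgroup (GL I4 F)) (hR : MinusLike R) (g0 g a : GL I4 F)
    (hg0 : g0 ∈ R) (hg : g ∈ R) (ha : a ∈ R)
    (h : ((g0 : Matrix I4 I4 F) * (a : Matrix I4 I4 F) = (a : Matrix I4 I4 F) * (g0 : Matrix I4 I4 F)) ↔
      ((g : Matrix I4 I4 F) * (a : Matrix I4 I4 F) = (a : Matrix I4 I4 F) * (g : Matrix I4 I4 F))) :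
    ((g0⁻¹ * g : GL I4 F) : Matrix I4 I4 F) * (a : Matrix I4 I4 F) =
      (a : Matrix I4 I4 F) * ((g0⁻¹ * g : GL I4 F) : Matrix I4 I4 F) := by
  have hX1 : ((g0⁻¹ : GL I4 F) : Matrix I4 I4 F) * (g0 : Matrix I4 I4 F) = 1 := by
    rw [← Units.val_mul, inv_mul_cancel, Units.val_one]
  have hX2 : (g0 : Matrix I4 I4 F) * ((g0⁻¹ : GL I4 F) : Matrix I4 I4 F) = 1 := by
    rw [← Units.val_mul, mul_inv_cancel, Units.val_one]
  rw [Units.val_mul]
  by_cases hc : (g0 : Matrix I4 I4 F) * (a : Matrix I4 I4 F) =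
      (a : Matrix I4 I4 F) * (g0 : Matrix I4 I4 F)
  · have hc' := h.mp hc
    have h3 := a2_inv_comm _ _ _ hX1 hX2 hc
    rw [mul_assoc, hc', ← mul_assoc, h3, mul_assoc]
  · have hc' : ¬ ((g : Matrix I4 I4 F) * (a : Matrix I4 I4 F) =
        (a : Matrix I4 I4 F) * (g : Matrix I4 I4 F)) := fun h' => hc (h.mpr h')
    have ha0 := (hR.anti g0 hg0 a ha).resolve_left hc
    have ha1 := (hR.anti g hg a ha).resolve_left hc'
    have h3 := a2_inv_anti _ _ _ hX1 hX2 ha0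
    rw [mul_assoc, ha1, mul_neg, ← mul_assoc, h3, neg_mul, neg_neg, mul_assoc]

/-- the pigeonhole step: `|R| = 32`, four sign patterns against `a, b`, so the common centralizer
of `a, b` in `R` has at least `8` elements. -/
theorem a2_exists_centralizing (R : Subgroup (GL I4 F)) (hR : MinusLike R) (a b : GL I4 F)
    (ha : a ∈ R) (hb : b ∈ R) (S : Finset (GL I4 F)) (hS : S.card ≤ 7) :
    ∃ c ∈ R, c ∉ S ∧
      (c : Matrix I4 I4 F) * (a : Matrix I4 I4 F) = (a : Matrix I4 I4 F) * (c : Matrix I4 I4 F) ∧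
      (c : Matrix I4 I4 F) * (b : Matrix I4 I4 F) = (b : Matrix I4 I4 F) * (c : Matrix I4 I4 F) := by
  classical
  haveI : Finite R := Nat.finite_of_card_ne_zero (by rw [hR.card]; norm_num)
  letI : Fintype R := Fintype.ofFinite R
  have hcard : Fintype.card R = 32 := by rw [← Nat.card_eq_fintype_card, hR.card]
  let φ : R → Bool × Bool := fun g =>
    (decide (((g : GL I4 F) : Matrix I4 I4 F) * (a : Matrix I4 I4 F) =
        (a : Matrix I4 I4 F) * ((g : GL I4 F) : Matrix I4 I4 F)),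
     decide (((g : GL I4 F) : Matrix I4 I4 F) * (b : Matrix I4 I4 F) =
        (b : Matrix I4 I4 F) * ((g : GL I4 F) : Matrix I4 I4 F)))
  obtain ⟨v, hv⟩ := Fintype.exists_lt_card_fiber_of_mul_lt_card (n := 7) φ (by
    rw [hcard]; simp [Fintype.card_prod, Fintype.card_bool])
  have hTne : (Finset.univ.filter (fun g : R => φ g = v)).Nonempty :=
    Finset.card_pos.mp (by omega)
  obtain ⟨g0, hg0⟩ := hTne
  rw [Finset.mem_filter] at hg0
  let ψ : R → GL I4 F := fun g => ((g0 : GL I4 F))⁻¹ * (g : GL I4 F)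
  have hinj : Function.Injective ψ := by
    intro g g' hgg
    apply Subtype.ext
    exact mul_left_cancel hgg
  have hcardT : ((Finset.univ.filter (fun g : R => φ g = v)).image ψ).card =
      (Finset.univ.filter (fun g : R => φ g = v)).card := Finset.card_image_of_injective _ hinj
  obtain ⟨c, hcT, hcS⟩ := Finset.exists_mem_notMem_of_card_lt_card
    (s := S) (t := (Finset.univ.filter (fun g : R => φ g = v)).image ψ) (by omega)
  obtain ⟨g, hgT, rfl⟩ := Finset.mem_image.mp hcT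
  rw [Finset.mem_filter] at hgT
  have hφ : φ g0 = φ g := by rw [hg0.2, hgT.2]
  have h1 := congrArg Prod.fst hφ
  have h2 := congrArg Prod.snd hφ
  simp only [φ, decide_eq_decide] at h1 h2
  exact ⟨ψ g, R.mul_mem (R.inv_mem g0.2) g.2, hcS,
    a2_same_sign R hR g0 g a g0.2 g.2 ha h1, a2_same_sign R hR g0 g b g0.2 g.2 hb h2⟩

/-- step 1: an involution of `R` with an anticommuting partner. -/
theorem a2_step1 (h2 : (2 : F) ≠ 0) (R : Subgroup (GL I4 F)) (hR : MinusLike R) :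
    ∃ e1 ∈ R, ∃ h ∈ R, (e1 : Matrix I4 I4 F) * (e1 : Matrix I4 I4 F) = 1 ∧
      (e1 : Matrix I4 I4 F) * (h : Matrix I4 I4 F) =
        -((h : Matrix I4 I4 F) * (e1 : Matrix I4 I4 F)) := by
  classical
  obtain ⟨z, hzR, hz⟩ := hR.negone
  have hns : ∀ c ∈ R, c ∉ ({1, z} : Finset (GL I4 F)) → ¬ IsScalar c := by
    intro c hc hcS hs
    apply hcS
    rcases a2_eq_of_scalar R hR z hz c hc hs with rfl | rfl <;> simp
  obtain ⟨x, hxR, hxS, -, -⟩ := a2_exists_centralizing R hR 1 1 R.one_mem R.one_mem {1, z}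
    (Finset.card_le_two.trans (by norm_num))
  obtain ⟨h, hhR, hxh⟩ := a2_exists_anti R hR x hxR (hns x hxR hxS)
  rcases hR.sq x hxR with hxx | hxx
  · exact ⟨x, hxR, h, hhR, hxx, hxh⟩
  rcases hR.sq h hhR with hhh | hhh
  · exact ⟨h, hhR, x, hxR, hhh, by rw [hxh, neg_neg]⟩
  obtain ⟨c, hcR, hcS, hcx, hch⟩ := a2_exists_centralizing R hR x h hxR hhR {1, z}
    (Finset.card_le_two.trans (by norm_num))
  rcases hR.sq c hcR with hcc | hcc
  · obtain ⟨h', hh'R, hch'⟩ := a2_exists_anti R hR c hcR (hns c hcR hcS)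
    exact ⟨c, hcR, h', hh'R, hcc, hch'⟩
  · refine ⟨x * c, R.mul_mem hxR hcR, h, hhR, ?_, ?_⟩
    · rw [Units.val_mul]
      calc (x : Matrix I4 I4 F) * (c : Matrix I4 I4 F) * ((x : Matrix I4 I4 F) * (c : Matrix I4 I4 F))
          = (x : Matrix I4 I4 F) * ((c : Matrix I4 I4 F) * (x : Matrix I4 I4 F)) *
              (c : Matrix I4 I4 F) := by simp only [mul_assoc]
        _ = ((x : Matrix I4 I4 F) * (x : Matrix I4 I4 F)) *
              ((c : Matrix I4 I4 F) * (c : Matrix I4 I4 F)) := by rw [hcx]; simp only [mul_assoc]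
        _ = 1 := by rw [hxx, hcc, neg_mul_neg, one_mul]
    · rw [Units.val_mul]
      calc (x : Matrix I4 I4 F) * (c : Matrix I4 I4 F) * (h : Matrix I4 I4 F)
          = (x : Matrix I4 I4 F) * ((c : Matrix I4 I4 F) * (h : Matrix I4 I4 F)) := by
            rw [mul_assoc]
        _ = ((x : Matrix I4 I4 F) * (h : Matrix I4 I4 F)) * (c : Matrix I4 I4 F) := by
            rw [hch, mul_assoc]
        _ = -((h : Matrix I4 I4 F) * ((x : Matrix I4 I4 F) * (c : Matrix I4 I4 F))) := by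
            rw [hxh, neg_mul, mul_assoc]

/-- step 2: two anticommuting involutions. -/
theorem a2_step2 (h2 : (2 : F) ≠ 0) (R : Subgroup (GL I4 F)) (hR : MinusLike R) :
    ∃ e1 ∈ R, ∃ e2 ∈ R, (e1 : Matrix I4 I4 F) * (e1 : Matrix I4 I4 F) = 1 ∧
      (e2 : Matrix I4 I4 F) * (e2 : Matrix I4 I4 F) = 1 ∧
      (e1 : Matrix I4 I4 F) * (e2 : Matrix I4 I4 F) =
        -((e2 : Matrix I4 I4 F) * (e1 : Matrix I4 I4 F)) := by
  obtain ⟨e1, he1R, h, hhR, h11, h1h⟩ := a2_step1 h2 R hR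
  have hh1 : (h : Matrix I4 I4 F) * (e1 : Matrix I4 I4 F) =
      -((e1 : Matrix I4 I4 F) * (h : Matrix I4 I4 F)) := by rw [h1h, neg_neg]
  rcases hR.sq h hhR with hhh | hhh
  · exact ⟨e1, he1R, h, hhR, h11, hhh, h1h⟩
  · refine ⟨e1, he1R, e1 * h, R.mul_mem he1R hhR, h11, ?_, ?_⟩
    · rw [Units.val_mul]
      calc (e1 : Matrix I4 I4 F) * (h : Matrix I4 I4 F) * ((e1 : Matrix I4 I4 F) * (h : Matrix I4 I4 F))
          = (e1 : Matrix I4 I4 F) * ((h : Matrix I4 I4 F) * (e1 : Matrix I4 I4 F)) *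
              (h : Matrix I4 I4 F) := by simp only [mul_assoc]
        _ = -(((e1 : Matrix I4 I4 F) * (e1 : Matrix I4 I4 F)) *
              ((h : Matrix I4 I4 F) * (h : Matrix I4 I4 F))) := by
            rw [hh1]; simp only [mul_assoc, mul_neg, neg_mul]
        _ = 1 := by rw [h11, hhh, one_mul, neg_neg]
    · rw [Units.val_mul]
      calc (e1 : Matrix I4 I4 F) * ((e1 : Matrix I4 I4 F) * (h : Matrix I4 I4 F))
          = ((e1 : Matrix I4 I4 F) * (e1 : Matrix I4 I4 F)) * (h : Matrix I4 I4 F) := by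
            rw [mul_assoc]
        _ = -((e1 : Matrix I4 I4 F) * (-((e1 : Matrix I4 I4 F) * (h : Matrix I4 I4 F)))) := by
            rw [mul_neg, neg_neg, mul_assoc]
        _ = -((e1 : Matrix I4 I4 F) * (h : Matrix I4 I4 F) * (e1 : Matrix I4 I4 F)) := by
            rw [← hh1, mul_assoc]

/-- packaging five elements into a frame -/
theorem a2_frame_mk (R : Subgroup (GL I4 F)) (g1 g2 g3 g4 g5 : GL I4 F)
    (m1 : g1 ∈ R) (m2 : g2 ∈ R) (m3 : g3 ∈ R) (m4 : g4 ∈ R) (m5 : g5 ∈ R)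
    (s1 : (g1 : Matrix I4 I4 F) * (g1 : Matrix I4 I4 F) = 1)
    (s2 : (g2 : Matrix I4 I4 F) * (g2 : Matrix I4 I4 F) = 1)
    (s3 : (g3 : Matrix I4 I4 F) * (g3 : Matrix I4 I4 F) = 1)
    (s4 : (g4 : Matrix I4 I4 F) * (g4 : Matrix I4 I4 F) = 1)
    (s5 : (g5 : Matrix I4 I4 F) * (g5 : Matrix I4 I4 F) = 1)
    (a12 : (g1 : Matrix I4 I4 F) * (g2 : Matrix I4 I4 F) = -((g2 : Matrix I4 I4 F) * (g1 : Matrix I4 I4 F)))
    (a13 : (g1 : Matrix I4 I4 F) * (g3 : Matrix I4 I4 F) = -((g3 : Matrix I4 I4 F) * (g1 : Matrix I4 I4 F)))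
    (a14 : (g1 : Matrix I4 I4 F) * (g4 : Matrix I4 I4 F) = -((g4 : Matrix I4 I4 F) * (g1 : Matrix I4 I4 F)))
    (a15 : (g1 : Matrix I4 I4 F) * (g5 : Matrix I4 I4 F) = -((g5 : Matrix I4 I4 F) * (g1 : Matrix I4 I4 F)))
    (a23 : (g2 : Matrix I4 I4 F) * (g3 : Matrix I4 I4 F) = -((g3 : Matrix I4 I4 F) * (g2 : Matrix I4 I4 F)))
    (a24 : (g2 : Matrix I4 I4 F) * (g4 : Matrix I4 I4 F) = -((g4 : Matrix I4 I4 F) * (g2 : Matrix I4 I4 F)))
    (a25 : (g2 : Matrix I4 I4 F) * (g5 : Matrix I4 I4 F) = -((g5 : Matrix I4 I4 F) * (g2 : Matrix I4 I4 F)))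
    (a34 : (g3 : Matrix I4 I4 F) * (g4 : Matrix I4 I4 F) = -((g4 : Matrix I4 I4 F) * (g3 : Matrix I4 I4 F)))
    (a35 : (g3 : Matrix I4 I4 F) * (g5 : Matrix I4 I4 F) = -((g5 : Matrix I4 I4 F) * (g3 : Matrix I4 I4 F)))
    (a45 : (g4 : Matrix I4 I4 F) * (g5 : Matrix I4 I4 F) = -((g5 : Matrix I4 I4 F) * (g4 : Matrix I4 I4 F))) :
    Frame R ![g1, g2, g3, g4, g5] := by
  have sym : ∀ {x y : Matrix I4 I4 F}, x * y = -(y * x) → y * x = -(x * y) := by
    intro x y h; rw [h, neg_neg]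
  refine ⟨?_, ?_, ?_⟩
  · intro i
    fin_cases i
    · exact m1
    · exact m2
    · exact m3
    · exact m4
    · exact m5
  · intro i
    fin_cases i
    · exact s1
    · exact s2
    · exact s3
    · exact s4
    · exact s5
  · intro i l hil
    fin_cases i <;> fin_cases l <;>
      first
        | exact absurd rfl hil
        | exact a12 | exact a13 | exact a14 | exact a15 | exact a23 | exact a24 | exact a25
        | exact a34 | exact a35 | exact a45
        | exact sym a12 | exact sym a13 | exact sym a14 | exact sym a15 | exact sym a23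
        | exact sym a24 | exact sym a25 | exact sym a34 | exact sym a35 | exact sym a45

/-- Q4-A2 (frame).  Five pairwise anticommuting involutions. -/
theorem exists_frame (h2 : (2 : F) ≠ 0) (R : Subgroup (GL I4 F)) (hR : MinusLike R) :
    ∃ e : Fin 5 → GL I4 F, Frame R e := by
  classical
  obtain ⟨z, hzR, hz⟩ := hR.negone
  obtain ⟨e1, he1R, e2, he2R, h11, h22, h12⟩ := a2_step2 h2 R hR
  -- elements of the centralizer of `e1, e2` different from `±1` have square `-1`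
  have key : ∀ c ∈ R, c ≠ 1 → c ≠ z →
      (c : Matrix I4 I4 F) * (e1 : Matrix I4 I4 F) = (e1 : Matrix I4 I4 F) * (c : Matrix I4 I4 F) →
      (c : Matrix I4 I4 F) * (e2 : Matrix I4 I4 F) = (e2 : Matrix I4 I4 F) * (c : Matrix I4 I4 F) →
      (c : Matrix I4 I4 F) * (c : Matrix I4 I4 F) = -1 := by
    intro c hcR hc1 hcz hce1 hce2
    rcases hR.sq c hcR with hcc | hcc
    swap
    · exact hcc
    exfalso
    rcases hR.minus e1 he1R c hcR h11 hcc hce1.symm with hs | hs | hs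
    · exact a2_comm_anti_false h2 e1 e2 (a2_scalar_comm e1 e2 hs) h12
    · rcases a2_eq_of_scalar R hR z hz c hcR hs with h | h
      · exact hc1 h
      · exact hcz h
    · apply a2_comm_anti_false h2 (e1 * c) e2 (a2_scalar_comm (e1 * c) e2 hs)
      rw [Units.val_mul]
      calc (e1 : Matrix I4 I4 F) * (c : Matrix I4 I4 F) * (e2 : Matrix I4 I4 F)
          = ((e1 : Matrix I4 I4 F) * (e2 : Matrix I4 I4 F)) * (c : Matrix I4 I4 F) := by
            rw [mul_assoc, hce2, mul_assoc]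
        _ = -((e2 : Matrix I4 I4 F) * ((e1 : Matrix I4 I4 F) * (c : Matrix I4 I4 F))) := by
            rw [h12, neg_mul, mul_assoc]
  obtain ⟨j, hjR, hjS, hj1, hj2⟩ := a2_exists_centralizing R hR e1 e2 he1R he2R {1, z}
    (Finset.card_le_two.trans (by norm_num))
  obtain ⟨k, hkR, hkS, hk1, hk2⟩ := a2_exists_centralizing R hR e1 e2 he1R he2R
    {1, z, j⁻¹, j⁻¹ * z} (Finset.card_le_four.trans (by norm_num))
  have hjj := key j hjR (fun h => hjS (by rw [h]; simp)) (fun h => hjS (by rw [h]; simp)) hj1 hj2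
  have hkk := key k hkR (fun h => hkS (by rw [h]; simp)) (fun h => hkS (by rw [h]; simp)) hk1 hk2
  have hjk1 : ((j * k : GL I4 F) : Matrix I4 I4 F) * (e1 : Matrix I4 I4 F) =
      (e1 : Matrix I4 I4 F) * ((j * k : GL I4 F) : Matrix I4 I4 F) := by
    rw [Units.val_mul, mul_assoc, hk1, ← mul_assoc, hj1, mul_assoc]
  have hjk2 : ((j * k : GL I4 F) : Matrix I4 I4 F) * (e2 : Matrix I4 I4 F) =
      (e2 : Matrix I4 I4 F) * ((j * k : GL I4 F) : Matrix I4 I4 F) := by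
    rw [Units.val_mul, mul_assoc, hk2, ← mul_assoc, hj2, mul_assoc]
  have hjkjk := key (j * k) (R.mul_mem hjR hkR)
    (fun h => hkS (by rw [eq_inv_of_mul_eq_one_right h]; simp))
    (fun h => hkS (by rw [eq_inv_mul_of_mul_eq h]; simp)) hjk1 hjk2
  rw [Units.val_mul] at hjkjk
  have hjk : (j : Matrix I4 I4 F) * (k : Matrix I4 I4 F) =
      -((k : Matrix I4 I4 F) * (j : Matrix I4 I4 F)) := by
    rcases hR.anti j hjR k hkR with hc | hc
    swap
    · exact hc
    exfalso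
    have h1 : (j : Matrix I4 I4 F) * (k : Matrix I4 I4 F) *
        ((j : Matrix I4 I4 F) * (k : Matrix I4 I4 F)) = 1 := by
      calc (j : Matrix I4 I4 F) * (k : Matrix I4 I4 F) * ((j : Matrix I4 I4 F) * (k : Matrix I4 I4 F))
          = (j : Matrix I4 I4 F) * ((k : Matrix I4 I4 F) * (j : Matrix I4 I4 F)) *
              (k : Matrix I4 I4 F) := by simp only [mul_assoc]
        _ = ((j : Matrix I4 I4 F) * (j : Matrix I4 I4 F)) *
              ((k : Matrix I4 I4 F) * (k : Matrix I4 I4 F)) := by rw [← hc]; simp only [mul_assoc]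
        _ = 1 := by rw [hjj, hkk, neg_mul_neg, one_mul]
    rw [h1] at hjkjk
    apply a2_ne_neg h2 (1 : GL I4 F)
    rw [Units.val_one]
    exact hjkjk
  obtain ⟨⟨s3, s4, s5⟩, ⟨a13, a14, a15⟩, ⟨a23, a24, a25⟩, ⟨a34, a35, a45⟩⟩ :=
    a2_ring (e1 : Matrix I4 I4 F) (e2 : Matrix I4 I4 F) (j : Matrix I4 I4 F) (k : Matrix I4 I4 F)
      h11 h22 h12 hj1 hj2 hk1 hk2 hjj hkk hjk
  refine ⟨![e1, e2, e1 * e2 * j, e1 * e2 * k, e1 * e2 * j * k],
    a2_frame_mk R e1 e2 (e1 * e2 * j) (e1 * e2 * k) (e1 * e2 * j * k) he1R he2R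
      (R.mul_mem (R.mul_mem he1R he2R) hjR) (R.mul_mem (R.mul_mem he1R he2R) hkR)
      (R.mul_mem (R.mul_mem (R.mul_mem he1R he2R) hjR) hkR) h11 h22 ?_ ?_ ?_ h12
      ?_ ?_ ?_ ?_ ?_ ?_ ?_ ?_ ?_⟩ <;> simp only [Units.val_mul]
  · exact s3
  · exact s4
  · exact s5
  · exact a13
  · exact a14
  · exact a15
  · exact a23
  · exact a24
  · exact a25
  · exact a34
  · exact a35
  · exact a45

end Cfsg.Agent.Lib.Helper81.Q4
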