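import Cfsg.Agent.Lib.Helper55.QuatFacts
import Cfsg.Agent.Lib.Helper96.ZStarDep
import Cfsg.Prelude.Def_TwoFusion

/-!
# Sylow `2`-subgroups of the shape `Q × R`, `Q` generalized quaternion

If all involutions of `R` are central in `R`, then all involutions of `S = Q × R` are central in
`S`, every `N_G(S)`-conjugate of the involution `z` of `Q` is `z` or lies in `R`, and the product
of the conjugates of `z` in `Z(S)` is an isolated involution.  With Glauberman's Z*-theorem this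
shows that `G` is not simple.
-/

set_option autoImplicit false

namespace Cfsg.Agent.Lib.Helper55

open Cfsg QuaternionGroup
open scoped IsMulCommutative

universe u

variable {G : Type u} [Group G]

/-- The facts on a generalized quaternion subgroup `Q` with involution `z` that we use. -/
structure QuatSub (Q : Subgroup G) (z : G) : Prop where
  zQ : z ∈ Q
  z_ne : z ≠ 1
  z_sq : z ^ 2 = 1
  z_central : ∀ q ∈ Q, z * q = q * z
  invol : ∀ q ∈ Q, q ^ 2 = 1 → q = 1 ∨ q = z
  root : ∃ u ∈ Q, u ^ 2 = z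
  central_sq : ∀ q ∈ Q, (∀ q' ∈ Q, q * q' = q' * q) → q ^ 2 = 1

theorem quatSub_of_equiv (Q : Subgroup G) (n : ℕ) (hn : 1 ≤ n)
    (eQ : ↥Q ≃* QuaternionGroup (2 ^ n)) : ∃ z : G, QuatSub Q z := by
  haveI : NeZero (2 ^ n) := ⟨by positivity⟩
  have hm : 2 ≤ 2 ^ n := by
    calc 2 = 2 ^ 1 := by norm_num
      _ ≤ 2 ^ n := Nat.pow_le_pow_right (by norm_num) hn
  set m := 2 ^ n with hmdef
  set z' : ↥Q := eQ.symm (a (m : ZMod (2 * m))) with hz'
  have hez : eQ z' = a (m : ZMod (2 * m)) := by rw [hz', MulEquiv.apply_symm_apply]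
  refine ⟨(z' : G), z'.2, ?_, ?_, ?_, ?_, ?_, ?_⟩
  · intro h
    have h1 : z' = 1 := Subtype.ext h
    have h2 : eQ z' = 1 := by rw [h1, map_one]
    rw [hez] at h2
    exact quat_a_ne_one h2
  · have h2 : z' ^ 2 = 1 := by
      apply eQ.injective
      rw [map_pow, hez, map_one, quat_a_sq]
    have := congrArg Subtype.val h2
    simpa using this
  · intro q hq
    have h2 : z' * ⟨q, hq⟩ = ⟨q, hq⟩ * z' := by
      apply eQ.injective
      rw [map_mul, map_mul, hez]
      exact quat_a_central _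
    have := congrArg Subtype.val h2
    simpa using this
  · intro q hq hq2
    have h2 : (eQ ⟨q, hq⟩) ^ 2 = 1 := by
      rw [← map_pow]
      have : (⟨q, hq⟩ : ↥Q) ^ 2 = 1 := Subtype.ext (by simpa using hq2)
      rw [this, map_one]
    rcases quat_sq_eq_one _ h2 with h3 | h3
    · left
      have : (⟨q, hq⟩ : ↥Q) = 1 := by
        apply eQ.injective
        rw [h3, map_one]
      simpa using congrArg Subtype.val this
    · right
      have : (⟨q, hq⟩ : ↥Q) = z' := by
        apply eQ.injective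
        rw [h3, hez]
      simpa using congrArg Subtype.val this
  · refine ⟨(eQ.symm (xa 0) : ↥Q), (eQ.symm (xa 0)).2, ?_⟩
    have h2 : (eQ.symm (xa 0) : ↥Q) ^ 2 = z' := by
      apply eQ.injective
      rw [map_pow, MulEquiv.apply_symm_apply, hez, xa_sq]
    have := congrArg Subtype.val h2
    simpa using this
  · intro q hq hcomm
    have h2 : (eQ ⟨q, hq⟩) ^ 2 = 1 := by
      apply quat_central_sq hm
      intro y
      have h3 : (⟨q, hq⟩ : ↥Q) * eQ.symm y = eQ.symm y * ⟨q, hq⟩ :=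
        Subtype.ext (hcomm _ (eQ.symm y).2)
      have := congrArg eQ h3
      rwa [map_mul, map_mul, MulEquiv.apply_symm_apply] at this
    have h3 : (⟨q, hq⟩ : ↥Q) ^ 2 = 1 := by
      apply eQ.injective
      rw [map_pow, h2, map_one]
    simpa using congrArg Subtype.val h3

section idp

variable {S Q R : Subgroup G} {z : G}

theorem idp_exists_mul (hQR : IsInternalDirectProduct Q R S) {s : G} (hs : s ∈ S) :
    ∃ q ∈ Q, ∃ r ∈ R, s = q * r := by
  obtain ⟨_, _, hc, _, hsup⟩ := hQR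
  have hle : Q ≤ Subgroup.normalizer (R : Set G) := by
    intro q hq
    rw [Subgroup.mem_normalizer_iff]
    intro r
    constructor
    · intro hr
      rw [hc q hq r hr, mul_assoc, mul_inv_cancel, mul_one]
      exact hr
    · intro hr
      have h1 : q * r * q⁻¹ * q = q * (q * r * q⁻¹) := by
        rw [← hc q hq _ hr]
      have h2 : r = q * r * q⁻¹ := by
        have : q * r = q * (q * r * q⁻¹) := by
          rw [← h1]; group
        exact mul_left_cancel this
      rw [h2]; exact hr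
  rw [← hsup, ← SetLike.mem_coe, Subgroup.coe_mul_of_left_le_normalizer_right Q R hle,
    Set.mem_mul] at hs
  obtain ⟨q, hq, r, hr, rfl⟩ := hs
  exact ⟨q, hq, r, hr, rfl⟩

theorem idp_inter (hQR : IsInternalDirectProduct Q R S) {g : G} (h1 : g ∈ Q) (h2 : g ∈ R) :
    g = 1 := by
  have : g ∈ Q ⊓ R := ⟨h1, h2⟩
  rw [hQR.2.2.2.1] at this
  exact Subgroup.mem_bot.mp this

theorem idp_sq_split (hQR : IsInternalDirectProduct Q R S) {q r : G} (hq : q ∈ Q) (hr : r ∈ R)
    (h : (q * r) ^ 2 = 1) : q ^ 2 = 1 ∧ r ^ 2 = 1 := by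
  have hc : Commute q r := hQR.2.2.1 q hq r hr
  rw [hc.mul_pow] at h
  have h1 : q ^ 2 = (r ^ 2)⁻¹ := eq_inv_of_mul_eq_one_left h
  have h2 : q ^ 2 = 1 :=
    idp_inter hQR (Q.pow_mem hq 2) (by rw [h1]; exact R.inv_mem (R.pow_mem hr 2))
  refine ⟨h2, ?_⟩
  rw [h2, one_mul] at h
  exact h

theorem idp_Q_normal (hQR : IsInternalDirectProduct Q R S) {s q : G} (hs : s ∈ S) (hq : q ∈ Q) :
    s * q * s⁻¹ ∈ Q := by
  obtain ⟨q1, hq1, r1, hr1, rfl⟩ := idp_exists_mul hQR hs
  have hc : q * r1 = r1 * q := hQR.2.2.1 q hq r1 hr1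
  have : q1 * r1 * q * (q1 * r1)⁻¹ = q1 * q * q1⁻¹ := by
    rw [mul_inv_rev, mul_assoc q1 r1 q, ← hc]
    group
  rw [this]
  exact Q.mul_mem (Q.mul_mem hq1 hq) (Q.inv_mem hq1)

theorem idp_centralizes_sq (hQR : IsInternalDirectProduct Q R S) (hz : QuatSub Q z) {s : G}
    (hs : s ∈ S) (hc : ∀ q ∈ Q, s * q = q * s) : s ^ 2 ∈ R := by
  obtain ⟨q1, hq1, r1, hr1, rfl⟩ := idp_exists_mul hQR hs
  have hq1c : ∀ q ∈ Q, q1 * q = q * q1 := by
    intro q hq
    have h1 := hc q hq
    have h2 : q * r1 = r1 * q := hQR.2.2.1 q hq r1 hr1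
    have h3 : q1 * q * r1 = q * q1 * r1 := by
      calc q1 * q * r1 = q1 * (q * r1) := by group
        _ = q1 * (r1 * q) := by rw [h2]
        _ = q1 * r1 * q := by group
        _ = q * (q1 * r1) := h1
        _ = q * q1 * r1 := by group
    exact mul_right_cancel h3
  have h4 : q1 ^ 2 = 1 := hz.central_sq q1 hq1 hq1c
  have hcomm : Commute q1 r1 := hQR.2.2.1 q1 hq1 r1 hr1
  rw [hcomm.mul_pow, h4, one_mul]
  exact R.pow_mem hr1 2

/-- All involutions of `S = Q × R` are central in `S`. -/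
theorem idp_invol_central (hQR : IsInternalDirectProduct Q R S) (hz : QuatSub Q z)
    (hR : ∀ r ∈ R, orderOf r = 2 → ∀ s ∈ R, r * s = s * r) {s : G} (hs : s ∈ S)
    (hs2 : s ^ 2 = 1) : ∀ t ∈ S, s * t = t * s := by
  intro t ht
  obtain ⟨q, hq, r, hr, rfl⟩ := idp_exists_mul hQR hs
  obtain ⟨q', hq', r', hr', rfl⟩ := idp_exists_mul hQR ht
  obtain ⟨hq2, hr2⟩ := idp_sq_split hQR hq hr hs2
  have c1 : Commute q q' := by
    rcases hz.invol q hq hq2 with h | h
    · rw [h]; exact Commute.one_left _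
    · rw [h]; exact hz.z_central q' hq'
  have c2 : Commute q r' := hQR.2.2.1 q hq r' hr'
  have c3 : Commute r q' := (hQR.2.2.1 q' hq' r hr).symm
  have c4 : Commute r r' := by
    by_cases h1 : r = 1
    · rw [h1]; exact Commute.one_left _
    · exact hR r hr (orderOf_eq_prime hr2 h1) r' hr'
  exact (c1.mul_right c2).mul_left (c3.mul_right c4)

theorem exists_pow_invol (hS : IsPGroup 2 S) {c : G} (hc : c ∈ S) (hne : c ≠ 1) :
    ∃ j : ℕ, c ^ j ≠ 1 ∧ (c ^ j) ^ 2 = 1 := by
  obtain ⟨k, hk⟩ := (IsPGroup.iff_orderOf.mp hS) ⟨c, hc⟩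
  have hk' : orderOf c = 2 ^ k := by
    rw [← hk]
    exact Subgroup.orderOf_coe (⟨c, hc⟩ : ↥S)
  have hk0 : k ≠ 0 := by
    intro h0
    rw [h0, pow_zero, orderOf_eq_one_iff] at hk'
    exact hne hk'
  obtain ⟨k', rfl⟩ := Nat.exists_eq_succ_of_ne_zero hk0
  refine ⟨2 ^ k', ?_, ?_⟩
  · intro h
    have := orderOf_dvd_of_pow_eq_one h
    rw [hk'] at this
    have h2 := Nat.le_of_dvd (by positivity) this
    rw [pow_succ] at h2
    have : 0 < 2 ^ k' := by positivity
    omega
  · rw [← pow_mul, ← pow_succ, ← hk', pow_orderOf_eq_one]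

/-- Key lemma: an `N_G(S)`-conjugate of `z` different from `z` lies in `R`. -/
theorem quat_conj_mem_R (hQR : IsInternalDirectProduct Q R S) (hz : QuatSub Q z)
    (hS : IsPGroup 2 S) {n : G} (hn : n ∈ Subgroup.normalizer (S : Set G))
    (hne : n * z * n⁻¹ ≠ z) : n * z * n⁻¹ ∈ R := by
  obtain ⟨u, hu, huz⟩ := hz.root
  have hQS : Q ≤ S := hQR.1
  have hnS : ∀ s : G, s ∈ S → n * s * n⁻¹ ∈ S := fun s hs =>
    (Subgroup.mem_normalizer_iff.mp hn s).mp hs
  have hn' : n⁻¹ ∈ Subgroup.normalizer (S : Set G) := Subgroup.inv_mem _ hn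
  have hnS' : ∀ s : G, s ∈ S → n⁻¹ * s * n ∈ S := by
    intro s hs
    have := (Subgroup.mem_normalizer_iff.mp hn' s).mp hs
    rwa [inv_inv] at this
  have hu'S : n * u * n⁻¹ ∈ S := hnS u (hQS hu)
  have hcomm : ∀ q ∈ Q, n * u * n⁻¹ * q = q * (n * u * n⁻¹) := by
    intro q hq
    set u' := n * u * n⁻¹ with hu'
    set c := u' * q * u'⁻¹ * q⁻¹ with hcdef
    have hcQ : c ∈ Q := Q.mul_mem (idp_Q_normal hQR hu'S hq) (Q.inv_mem hq)
    have hdQ : n⁻¹ * c * n ∈ Q := by
      set q'' := n⁻¹ * q * n with hq''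
      have hq''S : q'' ∈ S := hnS' q (hQS hq)
      have h1 : q'' * u⁻¹ * q''⁻¹ ∈ Q := idp_Q_normal hQR hq''S (Q.inv_mem hu)
      have h2 : n⁻¹ * c * n = u * (q'' * u⁻¹ * q''⁻¹) := by
        rw [hcdef, hu', hq'']; group
      rw [h2]
      exact Q.mul_mem hu h1
    by_contra hcon
    have hc1 : c ≠ 1 := by
      intro h
      apply hcon
      have : u' * q * u'⁻¹ * q⁻¹ = 1 := h
      calc u' * q = (u' * q * u'⁻¹ * q⁻¹) * (q * u') := by group
        _ = q * u' := by rw [this, one_mul]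
    obtain ⟨j, hj1, hj2⟩ := exists_pow_invol hS (hQS hcQ) hc1
    have e1 : c ^ j = z := by
      rcases hz.invol _ (Q.pow_mem hcQ j) hj2 with h | h
      · exact absurd h hj1
      · exact h
    have e2 : n⁻¹ * c ^ j * n = z := by
      have h3 : n⁻¹ * c ^ j * n = (n⁻¹ * c * n) ^ j := by
        have := conj_pow (a := n⁻¹) (b := c) (i := j)
        rw [inv_inv] at this
        exact this.symm
      have h4 : (n⁻¹ * c ^ j * n) ^ 2 = 1 := by
        have := conj_pow (a := n⁻¹) (b := c ^ j) (i := 2)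
        rw [inv_inv] at this
        rw [this, hj2]; group
      have h5 : n⁻¹ * c ^ j * n ≠ 1 := by
        intro h
        apply hj1
        calc c ^ j = n * (n⁻¹ * c ^ j * n) * n⁻¹ := by group
          _ = 1 := by rw [h]; group
      rcases hz.invol _ (by rw [h3]; exact Q.pow_mem hdQ j) h4 with h | h
      · exact absurd h h5
      · exact h
    apply hne
    rw [e1] at e2
    calc n * z * n⁻¹ = n * (n⁻¹ * z * n) * n⁻¹ := by rw [e2]
      _ = z := by group
  have h1 := idp_centralizes_sq hQR hz hu'S hcomm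
  have h2 : (n * u * n⁻¹) ^ 2 = n * z * n⁻¹ := by
    rw [conj_pow, huz]
  rwa [h2] at h1

end idp

end Cfsg.Agent.Lib.Helper55
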