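import Cfsg.Agent.Lib.Helper55.QuatDirect

/-!
# Sylow `2`-subgroups `Q × R`: the orbit product and non-simplicity
-/

set_option autoImplicit false

namespace Cfsg.Agent.Lib.Helper55

open Cfsg
open scoped IsMulCommutative
open Cfsg.Agent.Lib.Helper96.ZStarDep

universe u

variable {G : Type u} [Group G]

/-- The centre of `S`, as a subgroup of `G`. -/
def centerIn (S : Subgroup G) : Subgroup G := Subgroup.centralizer (S : Set G) ⊓ S

instance centerIn_comm (S : Subgroup G) : IsMulCommutative ↥(centerIn S) :=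
  ⟨⟨fun a b => Subtype.ext ((Subgroup.mem_centralizer_iff.mp a.2.1 b b.2.2).symm)⟩⟩

theorem conj_mem_centerIn {S : Subgroup G} {n : G} (hn : n ∈ Subgroup.normalizer (S : Set G))
    {a : G} (ha : a ∈ centerIn S) : n * a * n⁻¹ ∈ centerIn S := by
  have hn' : n⁻¹ ∈ Subgroup.normalizer (S : Set G) := Subgroup.inv_mem _ hn
  refine Subgroup.mem_inf.mpr ⟨?_, (Subgroup.mem_normalizer_iff.mp hn a).mp ha.2⟩
  rw [Subgroup.mem_centralizer_iff]
  intro s hs
  have hs' : n⁻¹ * s * n ∈ S := by
    have := (Subgroup.mem_normalizer_iff.mp hn' s).mp hs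
    rwa [inv_inv] at this
  have h1 := Subgroup.mem_centralizer_iff.mp ha.1 _ hs'
  calc s * (n * a * n⁻¹) = n * ((n⁻¹ * s * n) * a) * n⁻¹ := by group
    _ = n * (a * (n⁻¹ * s * n)) * n⁻¹ := by rw [h1]
    _ = n * a * n⁻¹ * s := by group

/-- Conjugation by an element of `N_G(S)` on `Z(S)`. -/
def conjCenterIn {S : Subgroup G} (n : G) (hn : n ∈ Subgroup.normalizer (S : Set G)) :
    ↥(centerIn S) →* ↥(centerIn S) where
  toFun a := ⟨n * a * n⁻¹, conj_mem_centerIn hn a.2⟩
  map_one' := Subtype.ext (by simp)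
  map_mul' a b := Subtype.ext (by simp)

theorem conjCenterIn_injective {S : Subgroup G} (n : G)
    (hn : n ∈ Subgroup.normalizer (S : Set G)) : Function.Injective (conjCenterIn n hn) := by
  intro a b h
  have h1 : n * (a : G) * n⁻¹ = n * (b : G) * n⁻¹ := congrArg Subtype.val h
  apply Subtype.ext
  have h2 : n * (a : G) = n * (b : G) := mul_right_cancel h1
  exact mul_left_cancel h2

variable [Finite G]

/-- With the Z*-theorem: a group with Sylow `2`-subgroup `Q × R` (`Q` generalized quaternion, the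
involutions of `R` central in `R`) is not simple. -/
theorem not_simple_of_quat_direct (hZ : ZStarHyp.{u}) (S : Sylow 2 G) (Q R : Subgroup G)
    (hQR : IsInternalDirectProduct Q R (S : Subgroup G)) {z : G} (hz : QuatSub Q z)
    (hR : ∀ r ∈ R, orderOf r = 2 → ∀ s ∈ R, r * s = s * r) : ¬ IsSimpleGroup G := by
  classical
  intro hsimple
  haveI : Fact (Nat.Prime 2) := ⟨Nat.prime_two⟩
  haveI := Fintype.ofFinite G
  have hS2 : IsPGroup 2 (S : Subgroup G) := S.isPGroup'
  have hQS : Q ≤ (S : Subgroup G) := hQR.1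
  set A : Subgroup G := centerIn (S : Subgroup G) with hA
  -- involutions of S lie in A
  have hinvA : ∀ s : G, s ∈ (S : Subgroup G) → s ^ 2 = 1 → s ∈ A := by
    intro s hs hs2
    refine Subgroup.mem_inf.mpr ⟨?_, hs⟩
    rw [Subgroup.mem_centralizer_iff]
    intro t ht
    exact (idp_invol_central hQR hz hR hs hs2 t ht).symm
  have hzA : z ∈ A := hinvA z (hQS hz.zQ) hz.z_sq
  -- Burnside fusion in the form we need
  have hburn : ∀ x : G, x ∈ A → ∀ g : G, g * x * g⁻¹ ∈ A →
      ∃ n ∈ Subgroup.normalizer ((S : Subgroup G) : Set G), g * x * g⁻¹ = n * x * n⁻¹ := by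
    intro x hx g hg
    have h1 := Sylow.conj_eq_normalizer_conj_of_mem_centralizer S x g⁻¹ hx.1
      (by rw [inv_inv]; exact hg.1)
    obtain ⟨n, hn, hn2⟩ := h1
    rw [inv_inv] at hn2
    refine ⟨n⁻¹, Subgroup.inv_mem _ hn, ?_⟩
    rw [hn2, inv_inv]
  -- conjugates of z in A are z or lie in R
  have hkey : ∀ e : G, e ∈ A → IsConj z e → e = z ∨ e ∈ R := by
    intro e he hconj
    obtain ⟨g, rfl⟩ := isConj_iff.mp hconj
    obtain ⟨n, hn, hn2⟩ := hburn z hzA g he
    by_cases h : g * z * g⁻¹ = z
    · left; exact h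
    · right
      rw [hn2] at h ⊢
      exact quat_conj_mem_R hQR hz hS2 hn h
  -- the orbit product
  set O : Finset ↥A := Finset.univ.filter (fun e : ↥A => IsConj z (e : G)) with hO
  set zA : ↥A := ⟨z, hzA⟩ with hzAdef
  have hzO : zA ∈ O := by
    rw [hO, Finset.mem_filter]
    exact ⟨Finset.mem_univ _, IsConj.refl z⟩
  set p : ↥A := ∏ e ∈ O, e with hp
  -- p = z * r
  have hpz : ∃ r ∈ R, (p : G) = z * r := by
    have h1 : p = zA * ∏ e ∈ O.erase zA, e := (Finset.mul_prod_erase O (fun e => e) hzO).symm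
    have h2 : (∏ e ∈ O.erase zA, e) ∈ R.subgroupOf A := by
      apply Subgroup.prod_mem
      intro e he
      rw [Finset.mem_erase] at he
      have heO := he.2
      rw [hO, Finset.mem_filter] at heO
      rw [Subgroup.mem_subgroupOf]
      rcases hkey (e : G) e.2 heO.2 with h | h
      · exact absurd (Subtype.ext h) he.1
      · exact h
    refine ⟨((∏ e ∈ O.erase zA, e : ↥A) : G), Subgroup.mem_subgroupOf.mp h2, ?_⟩
    rw [h1]
    rfl
  obtain ⟨r, hr, hpr⟩ := hpz
  have hp1 : (p : G) ≠ 1 := by
    intro h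
    rw [hpr] at h
    have h1 : z = r⁻¹ := eq_inv_of_mul_eq_one_left h
    have h2 : z = 1 := idp_inter hQR hz.zQ (by rw [h1]; exact R.inv_mem hr)
    exact hz.z_ne h2
  have hp2 : (p : G) ^ 2 = 1 := by
    have h1 : p ^ 2 = 1 := by
      rw [hp, ← Finset.prod_pow]
      apply Finset.prod_eq_one
      intro e he
      rw [hO, Finset.mem_filter] at he
      obtain ⟨g, hg⟩ := isConj_iff.mp he.2
      apply Subtype.ext
      show (e : G) ^ 2 = 1
      rw [← hg, conj_pow, hz.z_sq]
      group
    have := congrArg Subtype.val h1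
    simpa using this
  have hpo : orderOf (p : G) = 2 := orderOf_eq_prime hp2 hp1
  -- invariance under N(S)
  have hinv : ∀ n : G, n ∈ Subgroup.normalizer ((S : Subgroup G) : Set G) →
      n * (p : G) * n⁻¹ = p := by
    intro n hn
    set φ := conjCenterIn (S := (S : Subgroup G)) n hn with hφ
    have hφinj : Function.Injective φ := conjCenterIn_injective n hn
    have himg : O.image φ = O := by
      apply Finset.eq_of_subset_of_card_le
      · intro e he
        rw [Finset.mem_image] at he
        obtain ⟨e0, he0, rfl⟩ := he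
        rw [hO, Finset.mem_filter] at he0 ⊢
        refine ⟨Finset.mem_univ _, ?_⟩
        exact he0.2.trans (isConj_iff.mpr ⟨n, rfl⟩)
      · rw [Finset.card_image_of_injective _ hφinj]
    have h1 : φ p = p := by
      rw [hp, map_prod]
      conv_rhs => rw [← himg]
      rw [Finset.prod_image (fun a _ b _ h => hφinj h)]
    exact congrArg Subtype.val h1
  -- p is isolated in the Sylow form
  have hiso : ∀ g : G, g * (p : G) * g⁻¹ ∈ (S : Subgroup G) → g * (p : G) * g⁻¹ = p := by
    intro g hg
    have h2 : (g * (p : G) * g⁻¹) ^ 2 = 1 := by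
      rw [conj_pow, hp2]; group
    have hgA : g * (p : G) * g⁻¹ ∈ A := hinvA _ hg h2
    obtain ⟨n, hn, hn2⟩ := hburn (p : G) p.2 g hgA
    rw [hn2, hinv n hn]
  obtain ⟨N, hN, hodd, hcomm⟩ := hZ S (p : G) hpo p.2.2 hiso
  rcases hN.eq_bot_or_eq_top with h | h
  · -- p is central
    have hpc : (p : G) ∈ Subgroup.center G := by
      rw [Subgroup.mem_center_iff]
      intro g
      have h1 := hcomm g
      rw [h, Subgroup.mem_bot] at h1
      calc g * (p : G) = ((p : G) * g * (p : G)⁻¹ * g⁻¹)⁻¹ * ((p : G) * g) := by group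
        _ = (p : G) * g := by rw [h1]; group
    have hct : Subgroup.center G = ⊤ := by
      rcases (Subgroup.center G).normal_of_characteristic.eq_bot_or_eq_top with h3 | h3
      · exfalso
        rw [h3, Subgroup.mem_bot] at hpc
        exact hp1 hpc
      · exact h3
    obtain ⟨u, hu, huz⟩ := hz.root
    have h4 : u ^ 2 = 1 := by
      apply hz.central_sq u hu
      intro q' _
      have : u ∈ Subgroup.center G := by rw [hct]; exact Subgroup.mem_top u
      exact (Subgroup.mem_center_iff.mp this q').symm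
    rw [huz] at h4
    exact hz.z_ne h4
  · -- N = ⊤ is impossible: |G| is even
    rw [h, Subgroup.card_top] at hodd
    have h1 : 2 ∣ Nat.card G := by
      rw [← hpo]
      exact orderOf_dvd_natCard _
    exact (Nat.not_even_iff_odd.mpr hodd) (even_iff_two_dvd.mpr h1)

end Cfsg.Agent.Lib.Helper55
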