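import Mathlib

/-!
# Elementary facts on generalized quaternion groups

For `QuaternionGroup m`, `m ≥ 2`: the unique involution is `a m`, it is a square, it is central,
and central elements square to one.
-/

set_option autoImplicit false

namespace Cfsg.Agent.Lib.Helper55

open QuaternionGroup

theorem quat_two_mul_eq_zero {m : ℕ} [NeZero m] (i : ZMod (2 * m)) (h : i + i = 0) :
    i = 0 ∨ i = (m : ZMod (2 * m)) := by
  have hm : 0 < m := Nat.pos_of_ne_zero (NeZero.ne m)
  haveI : NeZero (2 * m) := ⟨by omega⟩
  have hv := ZMod.val_lt i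
  have h2 : ((i.val + i.val : ℕ) : ZMod (2 * m)) = 0 := by
    push_cast
    rw [ZMod.natCast_zmod_val]
    exact h
  rw [ZMod.natCast_eq_zero_iff] at h2
  obtain ⟨k, hk⟩ := h2
  have hk' : k = 0 ∨ k = 1 := by
    rcases k with _ | _ | k
    · left; rfl
    · right; rfl
    · exfalso
      have h5 : 2 * m * (k + 2) ≥ 2 * m * 2 := Nat.mul_le_mul_left _ (by omega)
      have h8 : 2 * m * (k + 1 + 1) = 2 * m * (k + 2) := by ring
      omega
  rcases hk' with rfl | rfl
  · left
    have : i.val = 0 := by omega
    exact (ZMod.val_eq_zero i).mp this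
  · right
    have h6 : i.val = m := by omega
    have h7 : i = ((i.val : ℕ) : ZMod (2 * m)) := (ZMod.natCast_zmod_val i).symm
    rw [h7]
    exact congrArg _ h6

theorem quat_natCast_ne_zero {m : ℕ} [NeZero m] : (m : ZMod (2 * m)) ≠ 0 := by
  have hm : 0 < m := Nat.pos_of_ne_zero (NeZero.ne m)
  intro h
  rw [ZMod.natCast_eq_zero_iff] at h
  have := Nat.le_of_dvd hm h
  omega

theorem quat_natCast_add_self {m : ℕ} : (m : ZMod (2 * m)) + (m : ZMod (2 * m)) = 0 := by
  have : ((m + m : ℕ) : ZMod (2 * m)) = 0 := by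
    rw [ZMod.natCast_eq_zero_iff]
    exact ⟨1, by ring⟩
  push_cast at this
  exact this

/-- An element of a generalized quaternion group squaring to one is `1` or `a m`. -/
theorem quat_sq_eq_one {m : ℕ} [NeZero m] (x : QuaternionGroup m) (h : x ^ 2 = 1) :
    x = 1 ∨ x = a (m : ZMod (2 * m)) := by
  rcases x with i | i
  · rw [sq, a_mul_a, one_def] at h
    have h' : i + i = 0 := by
      injection h
    rcases quat_two_mul_eq_zero i h' with h0 | h0
    · left; rw [h0, one_def]
    · right; rw [h0]
  · exfalso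
    rw [xa_sq, one_def] at h
    have h' : (m : ZMod (2 * m)) = 0 := by
      injection h
    exact quat_natCast_ne_zero h'

theorem quat_a_ne_one {m : ℕ} [NeZero m] : (a (m : ZMod (2 * m)) : QuaternionGroup m) ≠ 1 := by
  intro h
  rw [one_def] at h
  have h' : (m : ZMod (2 * m)) = 0 := by
    injection h
  exact quat_natCast_ne_zero h'

theorem quat_a_sq {m : ℕ} : (a (m : ZMod (2 * m)) : QuaternionGroup m) ^ 2 = 1 := by
  rw [sq, a_mul_a, quat_natCast_add_self, one_def]

/-- Central elements of a generalized quaternion group of order at least `8` square to one. -/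
theorem quat_central_sq {m : ℕ} (hm : 2 ≤ m) (x : QuaternionGroup m)
    (h : ∀ y : QuaternionGroup m, x * y = y * x) : x ^ 2 = 1 := by
  rcases x with i | i
  · have h1 := h (xa 0)
    rw [a_mul_xa, xa_mul_a] at h1
    have h2 : (0 : ZMod (2 * m)) - i = 0 + i := by
      injection h1
    have h3 : i + i = 0 := by
      have : i + i = (0 + i) - ((0 : ZMod (2 * m)) - i) := by ring
      rw [this, h2, sub_self]
    rw [sq, a_mul_a, h3, one_def]
  · exfalso
    have h1 := h (a 1)
    rw [xa_mul_a, a_mul_xa] at h1
    have h2 : i + 1 = i - 1 := by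
      injection h1
    have h3 : ((2 : ℕ) : ZMod (2 * m)) = 0 := by
      have : ((2 : ℕ) : ZMod (2 * m)) = (i + 1) - (i - 1) := by push_cast; ring
      rw [this, h2, sub_self]
    rw [ZMod.natCast_eq_zero_iff] at h3
    have := Nat.le_of_dvd (by norm_num) h3
    omega

/-- The involution `a m` is central. -/
theorem quat_a_central {m : ℕ} (y : QuaternionGroup m) :
    a (m : ZMod (2 * m)) * y = y * a (m : ZMod (2 * m)) := by
  rcases y with j | j
  · rw [a_mul_a, a_mul_a, add_comm]
  · rw [a_mul_xa, xa_mul_a]
    congr 1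
    have := quat_natCast_add_self (m := m)
    calc j - (m : ZMod (2 * m)) = j - (m : ZMod (2 * m)) + 0 := by ring
      _ = j - (m : ZMod (2 * m)) + ((m : ZMod (2 * m)) + (m : ZMod (2 * m))) := by rw [this]
      _ = j + (m : ZMod (2 * m)) := by ring

end Cfsg.Agent.Lib.Helper55
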