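import Mathlib
import Cfsg.Prelude.Def_EvenType
import Cfsg.Agent.Lib.Helper1.R3Core
import Cfsg.Agent.Lib.Helper36.ChevTwPerf
import Cfsg.Agent.Lib.Helper36.ChevCentRoot

/-! R3 hive (helper1, S1788): generic lemma for the Chevalley groups:
three (or two) pairwise strongly orthogonal roots `r, s, w` give an injective homomorphism
`(a, b, c) ↦ x_r(a) x_s(b) x_w(c)` from `F × F × F` to `GL`; in characteristic 2 its image is an elementary abelian
2-subgroup of the Chevalley group. -/

set_option autoImplicit false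

namespace Cfsg.Agent.Lib.Helper1.R3

open Cfsg Cfsg.Lie Cfsg.Agent.Lib.Helper36

/-- table check for an ordered pair of roots: `x_p(c)` fixes `e_{-p'}`. -/
def r3chev_chkPair (D : ChevalleyDatum) (p p' : ℕ) : Bool :=
  decide (p < D.nroots) && decide (p' < D.nroots) && decide (p ≠ p') && decide (p ≠ D.neg p') &&
  decide (D.neg p' ≠ D.neg p) &&
  (List.range D.nroots).all (fun u => decide (D.chainCoeff p (D.neg p') u = []))

/-- table check for a pair of strongly orthogonal roots. -/
def r3chev_chk2 (D : ChevalleyDatum) (r s : ℕ) : Bool :=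
  r3chev_chkPair D r s && r3chev_chkPair D s r && decide (D.commTerms r s = [])

/-- table check for a triple of pairwise strongly orthogonal roots. -/
def r3chev_chk3 (D : ChevalleyDatum) (r s w : ℕ) : Bool :=
  r3chev_chkPair D r s && r3chev_chkPair D s r && r3chev_chkPair D r w && r3chev_chkPair D w r &&
  r3chev_chkPair D s w && r3chev_chkPair D w s &&
  decide (D.commTerms r s = []) && decide (D.commTerms r w = []) && decide (D.commTerms s w = [])

theorem r3chev_chkPair_spec {D : ChevalleyDatum} {p p' : ℕ} (h : r3chev_chkPair D p p' = true) :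
    p < D.nroots ∧ p' < D.nroots ∧ p ≠ p' ∧ p ≠ D.neg p' ∧ D.neg p' ≠ D.neg p ∧
      ∀ u < D.nroots, D.chainCoeff p (D.neg p') u = [] := by
  unfold r3chev_chkPair at h
  simp only [Bool.and_eq_true, decide_eq_true_eq, List.all_eq_true, List.mem_range] at h
  obtain ⟨⟨⟨⟨⟨h1, h2⟩, h3⟩, h4⟩, h5⟩, h6⟩ := h
  exact ⟨h1, h2, h3, h4, h5, h6⟩

theorem r3chev_mul4 {G : Type*} [Group G] (A A' B B' : G) (h1 : Commute A' B) :
    (A * A') * (B * B') = (A * B) * (A' * B') := by
  simp only [mul_assoc]
  congr 1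
  rw [← mul_assoc, h1.eq, mul_assoc]

theorem r3chev_mul6 {G : Type*} [Group G] (A A' B B' C C' : G) (h1 : Commute A' B) (h2 : Commute A' C)
    (h3 : Commute B' C) : (A * A') * (B * B') * (C * C') = (A * B * C) * (A' * B' * C') := by
  simp only [mul_assoc]
  congr 1
  calc A' * (B * (B' * (C * C'))) = B * (A' * (B' * (C * C'))) := by
        rw [← mul_assoc, h1.eq, mul_assoc]
    _ = B * (A' * (C * (B' * C'))) := by rw [← mul_assoc B' C, h3.eq, mul_assoc]
    _ = B * (C * (A' * (B' * C'))) := by rw [← mul_assoc A' C, h2.eq, mul_assoc]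

theorem r3chev_col_mul {ι : Type*} [Fintype ι] [DecidableEq ι] {F : Type*} [Field F]
    (M N : Matrix ι ι F) (j : ι) (h : ∀ l, N l j = (1 : Matrix ι ι F) l j) (i : ι) :
    (M * N) i j = M i j := by
  rw [Matrix.mul_apply]
  simp only [h, Matrix.one_apply]
  simp

section
variable (D : ChevalleyDatum) (hD : D ∈ [chevG2, chevB2, chevD4, chevF4, chevE6, chevE7, chevE8])
variable (F : Type*) [Field F]

include hD in
/-- `x_p(c)` fixes `e_{-p'}`: the column `-p'` of `x_p(c)` is the unit vector. -/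
theorem r3chev_col {p p' : ℕ} (h : r3chev_chkPair D p p' = true) (c : F) (row : D.Idx) :
    D.x F p c row (Sum.inr ⟨D.neg p', wf_neg D (wf_all D hD) p' (r3chev_chkPair_spec h).2.1⟩) =
      (1 : Matrix D.Idx D.Idx F) row
        (Sum.inr ⟨D.neg p', wf_neg D (wf_all D hD) p' (r3chev_chkPair_spec h).2.1⟩) := by
  obtain ⟨hp, hp', hne, hne', hnn, hchk⟩ := r3chev_chkPair_spec h
  unfold ChevalleyDatum.x
  rw [dif_pos hp]
  simp only [ChevalleyDatum.xMat, Matrix.of_apply]
  have h1 : (⟨D.neg p', wf_neg D (wf_all D hD) p' hp'⟩ : Fin D.nroots) ≠ ⟨p, hp⟩ :=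
    fun e => hne' (Fin.mk.inj_iff.1 e).symm
  have h2 : ¬ (D.neg p' = D.negIdx.getD p 0) := hnn
  rw [if_neg h1, if_neg h2]
  cases row with
  | inl i => simp [Matrix.one_apply]
  | inr u =>
    simp [hchk u.1 u.2, Matrix.one_apply]

include hD in
/-- if `x_r(a) g = 1` and `g` fixes `e_{-r}` then `a = 0`. -/
theorem r3chev_first (r : ℕ) (hr : r < D.nroots) (a : F) (g : Matrix D.Idx D.Idx F)
    (hg : ∀ l, g l (Sum.inr ⟨D.neg r, wf_neg D (wf_all D hD) r hr⟩) =
      (1 : Matrix D.Idx D.Idx F) l (Sum.inr ⟨D.neg r, wf_neg D (wf_all D hD) r hr⟩))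
    (h : D.x F r a * g = 1) : a = 0 := by
  have hnr : D.neg r ≠ r := (wf2_spec D (wf2_all D hD) r hr).1
  have h2 := congrFun (congrFun h (Sum.inr ⟨r, hr⟩))
    (Sum.inr ⟨D.neg r, wf_neg D (wf_all D hD) r hr⟩)
  rw [r3chev_col_mul _ _ _ hg, x_entry_self D hD F r hr, Matrix.one_apply_ne] at h2
  · have : a ^ 2 = 0 := neg_eq_zero.1 h2
    exact pow_eq_zero_iff two_ne_zero |>.1 this
  · intro e
    exact hnr (Fin.mk.inj_iff.1 (Sum.inr.inj e)).symm

include hD in
/-- two strongly orthogonal roots: `(a, b) ↦ x_r(a) x_s(b)` is an injective homomorphism `F × F → GL`. -/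
theorem r3chev_hom2 (r s : ℕ) (h : r3chev_chk2 D r s = true) :
    ∃ f : Multiplicative (F × F) →* GL D.Idx F, Function.Injective f ∧
      ∀ a b : F, f (Multiplicative.ofAdd (a, b)) = xGL D hD F r a * xGL D hD F s b := by
  unfold r3chev_chk2 at h
  simp only [Bool.and_eq_true, decide_eq_true_eq] at h
  obtain ⟨⟨hrs, hsr⟩, crs⟩ := h
  obtain ⟨hr, hs, hne_rs, hne_rs', -, -⟩ := r3chev_chkPair_spec hrs
  obtain ⟨-, -, -, hne_sr', -, -⟩ := r3chev_chkPair_spec hsr
  have Crs : ∀ t u : F, Commute (xGL D hD F r t) (xGL D hD F s u) :=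
    xGL_commute_of_nil D hD F r s hr hs hne_rs.symm hne_sr' crs
  let f : Multiplicative (F × F) →* GL D.Idx F :=
    { toFun := fun v => xGL D hD F r (Multiplicative.toAdd v).1 * xGL D hD F s (Multiplicative.toAdd v).2
      map_one' := by
        show xGL D hD F r 0 * xGL D hD F s 0 = 1
        rw [xGL_zero, xGL_zero, one_mul]
      map_mul' := by
        intro v v'
        show xGL D hD F r ((Multiplicative.toAdd v).1 + (Multiplicative.toAdd v').1) *
            xGL D hD F s ((Multiplicative.toAdd v).2 + (Multiplicative.toAdd v').2) = _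
        rw [xGL_add, xGL_add]
        exact r3chev_mul4 _ _ _ _ (Crs _ _) }
  refine ⟨f, ?_, fun a b => rfl⟩
  rw [injective_iff_map_eq_one]
  intro v hv
  have hv' : xGL D hD F r (Multiplicative.toAdd v).1 * xGL D hD F s (Multiplicative.toAdd v).2 = 1 := hv
  set a := (Multiplicative.toAdd v).1 with ha
  set b := (Multiplicative.toAdd v).2 with hb
  have toM : ∀ {g : GL D.Idx F}, g = 1 → (g : Matrix D.Idx D.Idx F) = 1 := by
    intro g hg; rw [hg]; rfl
  have ha0 : a = 0 := by
    apply r3chev_first D hD F r hr a (D.x F s b) (r3chev_col D hD F hsr b)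
    have := toM hv'
    rwa [Units.val_mul, xGL_coe, xGL_coe] at this
  have hb0 : b = 0 := by
    apply r3chev_first D hD F s hs b (D.x F r a) (r3chev_col D hD F hrs a)
    have := toM ((Crs a b).eq.symm.trans hv')
    rwa [Units.val_mul, xGL_coe, xGL_coe] at this
  have : Multiplicative.toAdd v = 0 := by
    ext
    · exact ha0
    · exact hb0
  exact this

include hD in
/-- three pairwise strongly orthogonal roots: `(a, b, c) ↦ x_r(a) x_s(b) x_w(c)` is an injective homomorphism
`F × F × F → GL`. -/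
theorem r3chev_hom3 (r s w : ℕ) (h : r3chev_chk3 D r s w = true) :
    ∃ f : Multiplicative (F × F × F) →* GL D.Idx F, Function.Injective f ∧
      ∀ a b c : F, f (Multiplicative.ofAdd (a, b, c)) =
        xGL D hD F r a * xGL D hD F s b * xGL D hD F w c := by
  unfold r3chev_chk3 at h
  simp only [Bool.and_eq_true, decide_eq_true_eq] at h
  obtain ⟨⟨⟨⟨⟨⟨⟨⟨hrs, hsr⟩, hrw⟩, hwr⟩, hsw⟩, hws⟩, crs⟩, crw⟩, csw⟩ := h
  obtain ⟨hr, hs, hne_rs, hne_rs', -, -⟩ := r3chev_chkPair_spec hrs
  obtain ⟨-, hw, hne_rw, hne_rw', -, -⟩ := r3chev_chkPair_spec hrw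
  obtain ⟨-, -, hne_sw, hne_sw', -, -⟩ := r3chev_chkPair_spec hsw
  obtain ⟨-, -, -, hne_sr', -, -⟩ := r3chev_chkPair_spec hsr
  obtain ⟨-, -, -, hne_wr', -, -⟩ := r3chev_chkPair_spec hwr
  obtain ⟨-, -, -, hne_ws', -, -⟩ := r3chev_chkPair_spec hws
  have Crs : ∀ t u : F, Commute (xGL D hD F r t) (xGL D hD F s u) :=
    xGL_commute_of_nil D hD F r s hr hs hne_rs.symm hne_sr' crs
  have Crw : ∀ t u : F, Commute (xGL D hD F r t) (xGL D hD F w u) :=
    xGL_commute_of_nil D hD F r w hr hw hne_rw.symm hne_wr' crw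
  have Csw : ∀ t u : F, Commute (xGL D hD F s t) (xGL D hD F w u) :=
    xGL_commute_of_nil D hD F s w hs hw hne_sw.symm hne_ws' csw
  let f : Multiplicative (F × F × F) →* GL D.Idx F :=
    { toFun := fun v => xGL D hD F r (Multiplicative.toAdd v).1 * xGL D hD F s (Multiplicative.toAdd v).2.1 *
          xGL D hD F w (Multiplicative.toAdd v).2.2
      map_one' := by
        show xGL D hD F r 0 * xGL D hD F s 0 * xGL D hD F w 0 = 1
        rw [xGL_zero, xGL_zero, xGL_zero, one_mul, one_mul]
      map_mul' := by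
        intro v v'
        show xGL D hD F r ((Multiplicative.toAdd v).1 + (Multiplicative.toAdd v').1) *
            xGL D hD F s ((Multiplicative.toAdd v).2.1 + (Multiplicative.toAdd v').2.1) *
            xGL D hD F w ((Multiplicative.toAdd v).2.2 + (Multiplicative.toAdd v').2.2) = _
        rw [xGL_add, xGL_add, xGL_add]
        exact r3chev_mul6 _ _ _ _ _ _ (Crs _ _) (Crw _ _) (Csw _ _) }
  refine ⟨f, ?_, fun a b c => rfl⟩
  rw [injective_iff_map_eq_one]
  intro v hv
  have hv' : xGL D hD F r (Multiplicative.toAdd v).1 * xGL D hD F s (Multiplicative.toAdd v).2.1 *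
      xGL D hD F w (Multiplicative.toAdd v).2.2 = 1 := hv
  set a := (Multiplicative.toAdd v).1 with ha
  set b := (Multiplicative.toAdd v).2.1 with hb
  set c := (Multiplicative.toAdd v).2.2 with hc
  have toM : ∀ {g : GL D.Idx F}, g = 1 → (g : Matrix D.Idx D.Idx F) = 1 := by
    intro g hg; rw [hg]; rfl
  -- the column `-p` of a product of two root elements strongly orthogonal to `p`
  have col2 : ∀ {p p1 p2 : ℕ} (h1 : r3chev_chkPair D p1 p = true) (h2 : r3chev_chkPair D p2 p = true)
      (t u : F) (l : D.Idx),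
      (D.x F p1 t * D.x F p2 u) l
          (Sum.inr ⟨D.neg p, wf_neg D (wf_all D hD) p (r3chev_chkPair_spec h1).2.1⟩) =
        (1 : Matrix D.Idx D.Idx F) l
          (Sum.inr ⟨D.neg p, wf_neg D (wf_all D hD) p (r3chev_chkPair_spec h1).2.1⟩) := by
    intro p p1 p2 h1 h2 t u l
    rw [r3chev_col_mul _ _ _ (r3chev_col D hD F h2 u), r3chev_col D hD F h1 t]
  have ha0 : a = 0 := by
    apply r3chev_first D hD F r hr a (D.x F s b * D.x F w c) (col2 hsr hwr b c)
    have := toM hv'
    rwa [Units.val_mul, Units.val_mul, xGL_coe, xGL_coe, xGL_coe, mul_assoc] at this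
  have hb0 : b = 0 := by
    apply r3chev_first D hD F s hs b (D.x F r a * D.x F w c) (col2 hrs hws a c)
    have h1 : xGL D hD F s b * xGL D hD F r a * xGL D hD F w c = 1 := by
      rw [← (Crs a b).eq]; exact hv'
    have := toM h1
    rwa [Units.val_mul, Units.val_mul, xGL_coe, xGL_coe, xGL_coe, mul_assoc] at this
  have hc0 : c = 0 := by
    apply r3chev_first D hD F w hw c (D.x F r a * D.x F s b) (col2 hrw hsw a b)
    have h1 : xGL D hD F w c * (xGL D hD F r a * xGL D hD F s b) = 1 := by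
      rw [← ((Crw a c).mul_left (Csw b c)).eq]; exact hv'
    have := toM h1
    rwa [Units.val_mul, Units.val_mul, xGL_coe, xGL_coe, xGL_coe] at this
  have : Multiplicative.toAdd v = 0 := by
    ext
    · exact ha0
    · exact hb0
    · exact hc0
  exact this

include hD in
/-- three pairwise strongly orthogonal roots give 2-rank at least 3 in characteristic 2. -/
theorem r3chev_three [Fintype F] [CharP F 2] (r s w : ℕ) (h : r3chev_chk3 D r s w = true) :
    Cfsg.PRankAtLeast 2 3 (D.group F) := by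
  obtain ⟨f, hf, hfx⟩ := r3chev_hom3 D hD F r s w h
  have hmem : ∀ v, f v ∈ D.group F := by
    intro v
    have : v = Multiplicative.ofAdd ((Multiplicative.toAdd v).1, (Multiplicative.toAdd v).2.1,
        (Multiplicative.toAdd v).2.2) := rfl
    rw [this, hfx]
    exact mul_mem (mul_mem (xGL_mem_group D hD F _ _) (xGL_mem_group D hD F _ _))
      (xGL_mem_group D hD F _ _)
  have hF8 : 8 ≤ Nat.card (F × F × F) := by
    have h2 : 2 ≤ Nat.card F := by
      rw [Nat.card_eq_fintype_card]
      exact Fintype.one_lt_card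
    rw [Nat.card_prod, Nat.card_prod]
    calc 8 = 2 * (2 * 2) := by norm_num
      _ ≤ Nat.card F * (Nat.card F * Nat.card F) := Nat.mul_le_mul h2 (Nat.mul_le_mul h2 h2)
  refine r3_of_hom (V := F × F × F) (fun v => ?_) hF8 (f.codRestrict (D.group F) hmem) ?_
  · ext <;> simp [CharTwo.add_self_eq_zero]
  · intro v v' hvv
    apply hf
    exact congrArg Subtype.val hvv

include hD in
/-- two strongly orthogonal roots give 2-rank at least 3 in characteristic 2 when `|F| ≥ 3`. -/
theorem r3chev_two [Fintype F] [CharP F 2] (hF : 3 ≤ Fintype.card F) (r s : ℕ)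
    (h : r3chev_chk2 D r s = true) : Cfsg.PRankAtLeast 2 3 (D.group F) := by
  obtain ⟨f, hf, hfx⟩ := r3chev_hom2 D hD F r s h
  have hmem : ∀ v, f v ∈ D.group F := by
    intro v
    have : v = Multiplicative.ofAdd ((Multiplicative.toAdd v).1, (Multiplicative.toAdd v).2) := rfl
    rw [this, hfx]
    exact mul_mem (xGL_mem_group D hD F _ _) (xGL_mem_group D hD F _ _)
  have hF8 : 8 ≤ Nat.card (F × F) := by
    have h3 : 3 ≤ Nat.card F := by
      rw [Nat.card_eq_fintype_card]
      exact hF
    rw [Nat.card_prod]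
    calc 8 ≤ 3 * 3 := by norm_num
      _ ≤ Nat.card F * Nat.card F := Nat.mul_le_mul h3 h3
  refine r3_of_hom (V := F × F) (fun v => ?_) hF8 (f.codRestrict (D.group F) hmem) ?_
  · ext <;> simp [CharTwo.add_self_eq_zero]
  · intro v v' hvv
    apply hf
    exact congrArg Subtype.val hvv

end

end Cfsg.Agent.Lib.Helper1.R3
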