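import Cfsg.Agent.Lib.Helper9.SlK3Hmat
import Cfsg.Agent.Lib.Helper3.CharOps
import Cfsg.Agent.Lib.Helper33.SlK3CONJ

/-! # K3-INVD (helper9's SL-K3 sub-hive of helper76's Sl hive, S2332): invariance of `μ(α,β)` under conjugation by a
diagonal matrix of determinant `1` (via `k3_mu_conj` with `x = diag d`). -/

set_option autoImplicit false

namespace Cfsg.Agent.Lib.Helper76.Sl

open Matrix Cfsg
open scoped ComplexConjugate

variable (F : Type*) [Field F] [Fintype F] [DecidableEq F]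

/-- the diagonal element `diag d` of `SL_{m+3}(F)` -/
def k3invd_diag (m : ℕ) (d : Fin (m + 3) → F) (hprod : ∏ i, d i = 1) : Gm F (m + 1) :=
  ⟨Matrix.diagonal d, by rw [Matrix.det_diagonal]; exact hprod⟩

theorem k3invd_prod_inv (m : ℕ) (d : Fin (m + 3) → F) (hprod : ∏ i, d i = 1) :
    ∏ i, (d i)⁻¹ = 1 := by
  rw [Finset.prod_inv_distrib, hprod, inv_one]

theorem k3invd_diag_inv (m : ℕ) (d : Fin (m + 3) → F) (hd : ∀ i, d i ≠ 0) (hprod : ∏ i, d i = 1) :
    (k3invd_diag F m d hprod)⁻¹ = k3invd_diag F m (fun i => (d i)⁻¹) (k3invd_prod_inv F m d hprod) := by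
  apply inv_eq_of_mul_eq_one_right
  apply Subtype.ext
  change Matrix.diagonal d * Matrix.diagonal (fun i => (d i)⁻¹) = 1
  rw [Matrix.diagonal_mul_diagonal]
  rw [← Matrix.diagonal_one]
  congr 1
  funext i
  exact mul_inv_cancel₀ (hd i)

/-- entries of `diag d * g * (diag d)⁻¹` -/
theorem k3invd_conj_apply (m : ℕ) (d : Fin (m + 3) → F) (hd : ∀ i, d i ≠ 0) (hprod : ∏ i, d i = 1)
    (g : Gm F (m + 1)) (i j : Fin (m + 3)) :
    (k3invd_diag F m d hprod * g * (k3invd_diag F m d hprod)⁻¹).1 i j = d i * g.1 i j * (d j)⁻¹ := by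
  rw [k3invd_diag_inv F m d hd hprod]
  change (Matrix.diagonal d * g.1 * Matrix.diagonal (fun i => (d i)⁻¹)) i j = _
  rw [Matrix.mul_diagonal, Matrix.diagonal_mul]

/-- conjugation by a diagonal matrix preserves `H` -/
theorem k3invd_conj_mem (m : ℕ) (d : Fin (m + 3) → F) (hd : ∀ i, d i ≠ 0) (hprod : ∏ i, d i = 1)
    (g : Gm F (m + 1)) (hg : g ∈ K3H F m) :
    k3invd_diag F m d hprod * g * (k3invd_diag F m d hprod)⁻¹ ∈ K3H F m := by
  obtain ⟨h1, h2, h3⟩ := hg
  refine ⟨fun i j hi hj => ?_, ?_, ?_⟩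
  · rw [k3invd_conj_apply F m d hd hprod, h1 i j hi hj, Matrix.one_apply]
    by_cases hij : i = j
    · subst hij
      rw [if_pos rfl, mul_one, mul_inv_cancel₀ (hd i)]
    · rw [if_neg hij, mul_zero, zero_mul]
  · rw [k3invd_conj_apply F m d hd hprod, h2, mul_one, mul_inv_cancel₀ (hd 0)]
  · rw [k3invd_conj_apply F m d hd hprod, h3, mul_one, mul_inv_cancel₀ (hd _)]

/-- K3-INVD -/
theorem k3_inv_diag (m : ℕ) (e : AddChar F ℂ) (χ : Gm F (m + 1) → ℂ)
    (hcf : IsClassFunction (Gm F (m + 1)) χ) (d : Fin (m + 3) → F) (hd : ∀ i, d i ≠ 0)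
    (hprod : ∏ i, d i = 1) (α β : Fin (m + 1) → F) :
    k3mu F m e χ α β =
      k3mu F m e χ (fun j => α j * d (k3mid m j) / d 0)
        (fun j => β j * d (Fin.last (m + 2)) / d (k3mid m j)) := by
  symm
  have hdinv : ∀ i, (d i)⁻¹ ≠ 0 := fun i => inv_ne_zero (hd i)
  apply k3_mu_conj F m e χ hcf (k3invd_diag F m d hprod)
  · exact fun g hg => k3invd_conj_mem F m d hd hprod g hg
  · intro g hg
    have h := k3invd_conj_mem F m (fun i => (d i)⁻¹) hdinv (k3invd_prod_inv F m d hprod) g hg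
    rw [← k3invd_diag_inv F m d hd hprod, inv_inv] at h
    exact h
  · intro g _
    apply Finset.sum_congr rfl
    intro j _
    rw [k3invd_conj_apply F m d hd hprod, k3invd_conj_apply F m d hd hprod]
    have h0 := hd 0
    have hj := hd (k3mid m j)
    have hl := hd (Fin.last (m + 2))
    field_simp

end Cfsg.Agent.Lib.Helper76.Sl
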