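import Mathlib

/-!
Isaacs' theorem on subgroups generated by small classes: if `A` is a normal abelian
self-centralizing subgroup of the finite group `G` and `m` is the smallest size of a noncentral
class, then the subgroup generated by the elements of class size `1` or `m` is nilpotent of
class at most `3`.
-/

set_option autoImplicit false

namespace Cfsg.Agent.Lib.Helper55

open scoped commutatorElement

section SmallClasses

variable {G : Type*} [Group G]

theorem relIndex_mul_card_of_le' {H K : Subgroup G} (h : H ≤ K) :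
    H.relIndex K * Nat.card H = Nat.card K := by
  have h1 := (H.subgroupOf K).index_mul_card
  rw [Subgroup.relIndex, ← h1]
  congr 1
  exact (Nat.card_congr (Subgroup.subgroupOfEquivOfLe h).toEquiv).symm

/-- If a group has a four-fold commutator identity then its third upper central term is everything. -/
theorem ucs_three_eq_top_of_comm {H : Type*} [Group H]
    (h : ∀ x y z w : H, ⁅⁅⁅x, y⁆, z⁆, w⁆ = 1) : Subgroup.upperCentralSeries H 3 = ⊤ := by
  rw [eq_top_iff]
  intro x _
  rw [Subgroup.mem_upperCentralSeries_succ_iff]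
  intro y
  rw [Subgroup.mem_upperCentralSeries_succ_iff]
  intro z
  rw [Subgroup.mem_upperCentralSeries_succ_iff]
  intro w
  rw [Subgroup.upperCentralSeries_zero, Subgroup.mem_bot]
  exact h x y z w

theorem mem_centralizer_singleton_iff' (g x : G) :
    g ∈ Subgroup.centralizer ({x} : Set G) ↔ x * g = g * x := by
  rw [Subgroup.mem_centralizer_iff]
  constructor
  · intro h; exact h x rfl
  · intro h y hy
    rw [Set.mem_singleton_iff] at hy
    rw [hy]; exact h

theorem inv_comm_of_comm' {x c : G} (e1 : x * c = c * x) : c⁻¹ * x = x * c⁻¹ := by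
  calc c⁻¹ * x = c⁻¹ * (x * c) * c⁻¹ := by group
    _ = c⁻¹ * (c * x) * c⁻¹ := by rw [e1]
    _ = x * c⁻¹ := by group

theorem conj_comm_iff' (x a c c' : G) (e1 : x * c = c * x) (e2 : x * c' = c' * x) :
    x * ((c * a * c⁻¹)⁻¹ * (c' * a * c'⁻¹)) = (c * a * c⁻¹)⁻¹ * (c' * a * c'⁻¹) * x ↔
      (a * x * a⁻¹) * (c⁻¹ * c') = (c⁻¹ * c') * (a * x * a⁻¹) := by
  have e1' := inv_comm_of_comm' e1
  have e2' := inv_comm_of_comm' e2
  constructor
  · intro h2
    have h4 : x * (a⁻¹ * (c⁻¹ * c') * a) = (a⁻¹ * (c⁻¹ * c') * a) * x := by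
      calc x * (a⁻¹ * (c⁻¹ * c') * a)
          = (x * c⁻¹) * ((c * a * c⁻¹)⁻¹ * (c' * a * c'⁻¹)) * c' := by group
        _ = (c⁻¹ * x) * ((c * a * c⁻¹)⁻¹ * (c' * a * c'⁻¹)) * c' := by rw [← e1']
        _ = c⁻¹ * (x * ((c * a * c⁻¹)⁻¹ * (c' * a * c'⁻¹))) * c' := by group
        _ = c⁻¹ * ((c * a * c⁻¹)⁻¹ * (c' * a * c'⁻¹) * x) * c' := by rw [h2]
        _ = c⁻¹ * ((c * a * c⁻¹)⁻¹ * (c' * a * c'⁻¹)) * (x * c') := by group
        _ = c⁻¹ * ((c * a * c⁻¹)⁻¹ * (c' * a * c'⁻¹)) * (c' * x) := by rw [e2]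
        _ = (a⁻¹ * (c⁻¹ * c') * a) * x := by group
    calc a * x * a⁻¹ * (c⁻¹ * c') = a * (x * (a⁻¹ * (c⁻¹ * c') * a)) * a⁻¹ := by group
      _ = a * ((a⁻¹ * (c⁻¹ * c') * a) * x) * a⁻¹ := by rw [h4]
      _ = (c⁻¹ * c') * (a * x * a⁻¹) := by group
  · intro h2
    have h4 : x * (a⁻¹ * (c⁻¹ * c') * a) = (a⁻¹ * (c⁻¹ * c') * a) * x := by
      calc x * (a⁻¹ * (c⁻¹ * c') * a) = a⁻¹ * ((a * x * a⁻¹) * (c⁻¹ * c')) * a := by group
        _ = a⁻¹ * ((c⁻¹ * c') * (a * x * a⁻¹)) * a := by rw [h2]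
        _ = (a⁻¹ * (c⁻¹ * c') * a) * x := by group
    calc x * ((c * a * c⁻¹)⁻¹ * (c' * a * c'⁻¹))
        = (x * c) * (a⁻¹ * (c⁻¹ * c') * a) * c'⁻¹ := by group
      _ = (c * x) * (a⁻¹ * (c⁻¹ * c') * a) * c'⁻¹ := by rw [e1]
      _ = c * (x * (a⁻¹ * (c⁻¹ * c') * a)) * c'⁻¹ := by group
      _ = c * ((a⁻¹ * (c⁻¹ * c') * a) * x) * c'⁻¹ := by rw [h4]
      _ = c * (a⁻¹ * (c⁻¹ * c') * a) * (x * c'⁻¹) := by group
      _ = c * (a⁻¹ * (c⁻¹ * c') * a) * (c'⁻¹ * x) := by rw [← e2']
      _ = (c * a * c⁻¹)⁻¹ * (c' * a * c'⁻¹) * x := by group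

/-- Orbit bound: the centralizer `C` of `x` acts on `A / (A ∩ C)` fixing the trivial coset; the
stabilizer of the coset of `a` is `C ∩ C(a x a⁻¹)`. -/
theorem relIndex_stab_succ_le [Finite G] (A : Subgroup G) [hAn : A.Normal] (x a : G) (ha : a ∈ A)
    (hax : ¬ (x * a = a * x)) :
    ((Subgroup.centralizer ({x} : Set G) ⊓ Subgroup.centralizer ({a * x * a⁻¹} : Set G)).relIndex
        (Subgroup.centralizer ({x} : Set G))) + 1
      ≤ (A ⊓ Subgroup.centralizer ({x} : Set G)).relIndex A := by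
  classical
  set C := Subgroup.centralizer ({x} : Set G) with hC
  set D := C ⊓ Subgroup.centralizer ({a * x * a⁻¹} : Set G) with hD
  set A₀ := (A ⊓ C).subgroupOf A with hA₀
  set D' := D.subgroupOf C with hD'
  let f : ↥C → ↥A ⧸ A₀ := fun c =>
    QuotientGroup.mk ⟨(c : G) * a * (c : G)⁻¹, hAn.conj_mem a ha c⟩
  have hcx : ∀ c : ↥C, x * (c : G) = (c : G) * x := fun c =>
    (mem_centralizer_singleton_iff' _ _).1 c.2
  -- key equivalence
  have hf : ∀ c c' : ↥C, f c = f c' ↔
      (c : G)⁻¹ * (c' : G) ∈ Subgroup.centralizer ({a * x * a⁻¹} : Set G) := by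
    intro c c'
    show (QuotientGroup.mk _ : ↥A ⧸ A₀) = QuotientGroup.mk _ ↔ _
    rw [QuotientGroup.eq, hA₀, Subgroup.mem_subgroupOf, Subgroup.mem_inf]
    have hmemA : (((⟨(c : G) * a * (c : G)⁻¹, hAn.conj_mem a ha c⟩ : ↥A)⁻¹ *
        ⟨(c' : G) * a * (c' : G)⁻¹, hAn.conj_mem a ha c'⟩ : ↥A) : G) ∈ A := Subtype.property _
    have hval : (((⟨(c : G) * a * (c : G)⁻¹, hAn.conj_mem a ha c⟩ : ↥A)⁻¹ *
        ⟨(c' : G) * a * (c' : G)⁻¹, hAn.conj_mem a ha c'⟩ : ↥A) : G) =
        ((c : G) * a * (c : G)⁻¹)⁻¹ * ((c' : G) * a * (c' : G)⁻¹) := rfl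
    rw [hval] at hmemA ⊢
    constructor
    · rintro ⟨-, h2⟩
      rw [mem_centralizer_singleton_iff'] at h2 ⊢
      exact (conj_comm_iff' x a c c' (hcx c) (hcx c')).1 h2
    · intro h2
      refine ⟨hmemA, ?_⟩
      rw [mem_centralizer_singleton_iff'] at h2 ⊢
      exact (conj_comm_iff' x a c c' (hcx c) (hcx c')).2 h2
  have hf1 : ∀ c : ↥C, f c ≠ ((1 : ↥A) : ↥A ⧸ A₀) := by
    intro c hc
    have : f c = QuotientGroup.mk (1 : ↥A) := hc
    rw [eq_comm] at this
    change (QuotientGroup.mk _ : ↥A ⧸ A₀) = QuotientGroup.mk _ at this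
    rw [QuotientGroup.eq, hA₀, Subgroup.mem_subgroupOf, Subgroup.mem_inf] at this
    obtain ⟨-, h2⟩ := this
    have hval : (((1 : ↥A)⁻¹ * ⟨(c : G) * a * (c : G)⁻¹, hAn.conj_mem a ha c⟩ : ↥A) : G) =
        (c : G) * a * (c : G)⁻¹ := by
      simp
    rw [hval] at h2
    have h3 : a ∈ C := by
      have := C.mul_mem (C.mul_mem (C.inv_mem c.2) h2) c.2
      rwa [show (c : G)⁻¹ * ((c : G) * a * (c : G)⁻¹) * (c : G) = a by group] at this
    exact hax ((mem_centralizer_singleton_iff' _ _).1 h3)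
  -- lift to the quotient
  have hwd : ∀ c c' : ↥C, (QuotientGroup.leftRel D') c c' → f c = f c' := by
    intro c c' h
    rw [QuotientGroup.leftRel_apply, hD', Subgroup.mem_subgroupOf, hD, Subgroup.mem_inf] at h
    exact (hf c c').2 h.2
  let g : Option (↥C ⧸ D') → ↥A ⧸ A₀ := fun o =>
    match o with
    | none => ((1 : ↥A) : ↥A ⧸ A₀)
    | some q => Quotient.liftOn' q f hwd
  have hg : Function.Injective g := by
    intro o o' h
    cases o with
    | none =>
      cases o' with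
      | none => rfl
      | some q' =>
        exfalso
        induction q' using Quotient.inductionOn' with
        | h c' => exact hf1 c' h.symm
    | some q =>
      cases o' with
      | none =>
        exfalso
        induction q using Quotient.inductionOn' with
        | h c => exact hf1 c h
      | some q' =>
        congr 1
        induction q using Quotient.inductionOn' with
        | h c =>
          induction q' using Quotient.inductionOn' with
          | h c' =>
            have h' : f c = f c' := h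
            have h2 := (hf c c').1 h'
            apply Quotient.sound'
            rw [QuotientGroup.leftRel_apply, hD', Subgroup.mem_subgroupOf, hD, Subgroup.mem_inf]
            exact ⟨C.mul_mem (C.inv_mem c.2) c'.2, h2⟩
  have hcard := Nat.card_le_card_of_injective g hg
  rw [Finite.card_option] at hcard
  exact hcard

/-- Key lemma: if `x` has the minimal noncentral class size and `A` is a normal abelian subgroup,
then `[A, x]` is central in `G`. -/
theorem comm_mem_center_of_small [Finite G] (A : Subgroup G) [hAn : A.Normal]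
    (hA : ∀ u ∈ A, ∀ v ∈ A, u * v = v * u) (m : ℕ)
    (hmin : ∀ y : G, 1 < (Subgroup.centralizer ({y} : Set G)).index →
      m ≤ (Subgroup.centralizer ({y} : Set G)).index)
    (x : G) (hx : (Subgroup.centralizer ({x} : Set G)).index = m) (a : G) (ha : a ∈ A) :
    ⁅a, x⁆ ∈ Subgroup.center G := by
  classical
  by_cases hax : x * a = a * x
  · have : ⁅a, x⁆ = 1 := by
      rw [commutatorElement_def]
      calc a * x * a⁻¹ * x⁻¹ = (a * x) * a⁻¹ * x⁻¹ := by group
        _ = (x * a) * a⁻¹ * x⁻¹ := by rw [hax]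
        _ = 1 := by group
    rw [this]; exact Subgroup.one_mem _
  by_contra hb
  set b := ⁅a, x⁆ with hbdef
  set C := Subgroup.centralizer ({x} : Set G) with hC
  set Cb := Subgroup.centralizer ({b} : Set G) with hCb
  set D := C ⊓ Subgroup.centralizer ({a * x * a⁻¹} : Set G) with hD
  have hbA : b ∈ A := by
    have h1 : x * a⁻¹ * x⁻¹ ∈ A := hAn.conj_mem a⁻¹ (A.inv_mem ha) x
    have : b = a * (x * a⁻¹ * x⁻¹) := by rw [hbdef, commutatorElement_def]; group
    rw [this]; exact A.mul_mem ha h1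
  -- index of Cb is at least m
  have hidx : m ≤ Cb.index := by
    have h0 : Cb.index ≠ 0 := Subgroup.index_ne_zero_of_finite
    have h1 : Cb.index ≠ 1 := by
      intro h
      rw [Subgroup.index_eq_one, hCb, Subgroup.centralizer_eq_top_iff_subset] at h
      exact hb (h rfl)
    have h2 : 1 < Cb.index := by omega
    exact hmin b h2
  have hm0 : 0 < m := by
    rw [← hx]; exact Nat.pos_of_ne_zero Subgroup.index_ne_zero_of_finite
  have hcardb : Nat.card Cb * Cb.index = Nat.card G := Cb.card_mul_index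
  have hcardC : Nat.card C * m = Nat.card G := by rw [← hx]; exact C.card_mul_index
  have hle : Nat.card Cb ≤ Nat.card C := by
    have : Nat.card Cb * m ≤ Nat.card C * m := by
      calc Nat.card Cb * m ≤ Nat.card Cb * Cb.index := Nat.mul_le_mul_left _ hidx
        _ = Nat.card C * m := by rw [hcardb, hcardC]
    exact Nat.le_of_mul_le_mul_right this hm0
  -- A ≤ Cb
  have hACb : A ≤ Cb := by
    intro u hu
    rw [hCb, mem_centralizer_singleton_iff']
    exact hA b hbA u hu
  have hDCb : D ≤ Cb := by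
    intro d hd
    rw [hD, Subgroup.mem_inf, hC, mem_centralizer_singleton_iff', mem_centralizer_singleton_iff'] at hd
    obtain ⟨h1, h2⟩ := hd
    rw [hCb, mem_centralizer_singleton_iff']
    have h1' := inv_comm_of_comm' h1
    have hb' : b = (a * x * a⁻¹) * x⁻¹ := by rw [hbdef, commutatorElement_def]
    rw [hb']
    have h1'' : x⁻¹ * d = d * x⁻¹ := by
      calc x⁻¹ * d = x⁻¹ * (d * x) * x⁻¹ := by group
        _ = x⁻¹ * (x * d) * x⁻¹ := by rw [h1]
        _ = d * x⁻¹ := by group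
    calc a * x * a⁻¹ * x⁻¹ * d = a * x * a⁻¹ * (x⁻¹ * d) := by group
      _ = a * x * a⁻¹ * (d * x⁻¹) := by rw [h1'']
      _ = (a * x * a⁻¹ * d) * x⁻¹ := by group
      _ = (d * (a * x * a⁻¹)) * x⁻¹ := by rw [h2]
      _ = d * (a * x * a⁻¹ * x⁻¹) := by group
  have hsup : A ⊔ D ≤ Cb := sup_le hACb hDCb
  have hcs : Nat.card ↥(A ⊔ D) ≤ Nat.card Cb := Subgroup.card_le_of_le hsup
  -- A ⊓ D = A ⊓ C
  have hAD : A ⊓ D = A ⊓ C := by
    apply le_antisymm
    · intro u hu
      rw [Subgroup.mem_inf] at hu ⊢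
      exact ⟨hu.1, (Subgroup.mem_inf.1 hu.2).1⟩
    · intro u hu
      rw [Subgroup.mem_inf] at hu
      obtain ⟨huA, huC⟩ := hu
      refine Subgroup.mem_inf.2 ⟨huA, Subgroup.mem_inf.2 ⟨huC, ?_⟩⟩
      rw [hC, mem_centralizer_singleton_iff'] at huC
      rw [mem_centralizer_singleton_iff']
      have hua : u * a = a * u := hA u huA a ha
      have hua' : a⁻¹ * u = u * a⁻¹ := by
        calc a⁻¹ * u = a⁻¹ * (u * a) * a⁻¹ := by group
          _ = a⁻¹ * (a * u) * a⁻¹ := by rw [hua]
          _ = u * a⁻¹ := by group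
      calc a * x * a⁻¹ * u = a * x * (a⁻¹ * u) := by group
        _ = a * x * (u * a⁻¹) := by rw [hua']
        _ = a * (x * u) * a⁻¹ := by group
        _ = a * (u * x) * a⁻¹ := by rw [huC]
        _ = (a * u) * x * a⁻¹ := by group
        _ = (u * a) * x * a⁻¹ := by rw [hua]
        _ = u * (a * x * a⁻¹) := by group
  -- numerics
  set n0 := Nat.card ↥(A ⊓ C) with hn0
  set k := (A ⊓ C).relIndex A with hk
  set r := D.relIndex C with hr
  set t := A.relIndex D with ht
  have e1 : k * n0 = Nat.card A := relIndex_mul_card_of_le' inf_le_left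
  have e2 : r * Nat.card D = Nat.card C := relIndex_mul_card_of_le' inf_le_left
  have e3 : t * n0 = Nat.card D := by
    have := relIndex_mul_card_of_le' (inf_le_right : A ⊓ D ≤ D)
    rw [Subgroup.inf_relIndex_right, hAD] at this
    exact this
  have e4 : t * Nat.card A = Nat.card ↥(A ⊔ D) := by
    have := relIndex_mul_card_of_le' (le_sup_left : A ≤ A ⊔ D)
    rw [Subgroup.relIndex_sup_left] at this
    exact this
  have e5 : r + 1 ≤ k := relIndex_stab_succ_le A x a ha hax
  have hn0pos : 0 < n0 := Nat.card_pos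
  have hDpos : 0 < Nat.card D := Nat.card_pos
  have htpos : 0 < t := by
    rcases Nat.eq_zero_or_pos t with h | h
    · rw [h, zero_mul] at e3; omega
    · exact h
  have h6 : k * (t * n0) ≤ r * (t * n0) := by
    calc k * (t * n0) = t * (k * n0) := by ring
      _ = Nat.card ↥(A ⊔ D) := by rw [e1, e4]
      _ ≤ Nat.card Cb := hcs
      _ ≤ Nat.card C := hle
      _ = r * (t * n0) := by rw [e3, e2]
  have h7 : k ≤ r := Nat.le_of_mul_le_mul_right h6 (Nat.mul_pos htpos hn0pos)
  omega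

/-- The subgroup of elements acting on `A` by multiplication with central elements. -/
def centralActors (A : Subgroup G) : Subgroup G where
  carrier := {g | ∀ a ∈ A, ⁅a, g⁆ ∈ Subgroup.center G}
  one_mem' := by
    intro a _
    have : ⁅a, (1 : G)⁆ = 1 := by rw [commutatorElement_def]; group
    rw [this]; exact Subgroup.one_mem _
  mul_mem' := by
    intro g h hg hh a ha
    have : ⁅a, g * h⁆ = ⁅a, g⁆ * (g * ⁅a, h⁆ * g⁻¹) := by
      simp only [commutatorElement_def]; group
    rw [this]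
    exact Subgroup.mul_mem _ (hg a ha)
      ((inferInstance : (Subgroup.center G).Normal).conj_mem _ (hh a ha) g)
  inv_mem' := by
    intro g hg a ha
    have : ⁅a, g⁻¹⁆ = g⁻¹ * (⁅a, g⁆)⁻¹ * g⁻¹⁻¹ := by
      simp only [commutatorElement_def]; group
    rw [this]
    exact (inferInstance : (Subgroup.center G).Normal).conj_mem _
      (Subgroup.inv_mem _ (hg a ha)) g⁻¹

theorem mem_centralActors (A : Subgroup G) (g : G) :
    g ∈ centralActors A ↔ ∀ a ∈ A, ⁅a, g⁆ ∈ Subgroup.center G := Iff.rfl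

theorem conj_eq_central_mul {A : Subgroup G} {g a : G} (hg : g ∈ centralActors A) (ha : a ∈ A) :
    ∃ z : G, g * a * g⁻¹ = z * a ∧ ∀ t : G, t * z = z * t := by
  refine ⟨(⁅a, g⁆)⁻¹, ?_, ?_⟩
  · simp only [commutatorElement_def]; group
  · intro t
    have := Subgroup.inv_mem _ (hg a ha)
    rw [Subgroup.mem_center_iff] at this
    exact this t

theorem conj_mul_comm_of_centralActors {A : Subgroup G} {g h a : G}
    (hg : g ∈ centralActors A) (hh : h ∈ centralActors A) (ha : a ∈ A) :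
    (g * h) * a * (g * h)⁻¹ = (h * g) * a * (h * g)⁻¹ := by
  obtain ⟨zg, hg1, hg2⟩ := conj_eq_central_mul hg ha
  obtain ⟨zh, hh1, hh2⟩ := conj_eq_central_mul hh ha
  have l : (g * h) * a * (g * h)⁻¹ = zh * (zg * a) := by
    calc (g * h) * a * (g * h)⁻¹ = g * (h * a * h⁻¹) * g⁻¹ := by group
      _ = g * (zh * a) * g⁻¹ := by rw [hh1]
      _ = (g * zh) * a * g⁻¹ := by group
      _ = (zh * g) * a * g⁻¹ := by rw [hh2 g]
      _ = zh * (g * a * g⁻¹) := by group
      _ = zh * (zg * a) := by rw [hg1]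
  have r : (h * g) * a * (h * g)⁻¹ = zg * (zh * a) := by
    calc (h * g) * a * (h * g)⁻¹ = h * (g * a * g⁻¹) * h⁻¹ := by group
      _ = h * (zg * a) * h⁻¹ := by rw [hg1]
      _ = (h * zg) * a * h⁻¹ := by group
      _ = (zg * h) * a * h⁻¹ := by rw [hg2 h]
      _ = zg * (h * a * h⁻¹) := by group
      _ = zg * (zh * a) := by rw [hh1]
  rw [l, r, ← mul_assoc, ← mul_assoc, hg2 zh]

theorem commutator_mem_centralizer_of_centralActors {A : Subgroup G} {g h : G}
    (hg : g ∈ centralActors A) (hh : h ∈ centralActors A) :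
    ⁅g, h⁆ ∈ Subgroup.centralizer (A : Set G) := by
  rw [Subgroup.mem_centralizer_iff]
  intro a ha
  have hg' := (centralActors A).inv_mem hg
  have hh' := (centralActors A).inv_mem hh
  have key := conj_mul_comm_of_centralActors hg' hh' ha
  -- key : (g⁻¹ h⁻¹) a (g⁻¹ h⁻¹)⁻¹ = (h⁻¹ g⁻¹) a (h⁻¹ g⁻¹)⁻¹
  rw [commutatorElement_def]
  calc a * (g * h * g⁻¹ * h⁻¹)
      = (g * h) * ((h⁻¹ * g⁻¹) * a * (h⁻¹ * g⁻¹)⁻¹) * (g⁻¹ * h⁻¹) := by group
    _ = (g * h) * ((g⁻¹ * h⁻¹) * a * (g⁻¹ * h⁻¹)⁻¹) * (g⁻¹ * h⁻¹) := by rw [key]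
    _ = g * h * g⁻¹ * h⁻¹ * a := by group

/-- Isaacs' theorem, commutator form. -/
theorem small_classes_comm_eq_one [Finite G] (A : Subgroup G) [hAn : A.Normal]
    (hA : ∀ u ∈ A, ∀ v ∈ A, u * v = v * u) (hCA : Subgroup.centralizer (A : Set G) = A) (m : ℕ)
    (hmin : ∀ y : G, 1 < (Subgroup.centralizer ({y} : Set G)).index →
      m ≤ (Subgroup.centralizer ({y} : Set G)).index)
    {x y z w : G}
    (hx : x ∈ Subgroup.closure {x : G | (Subgroup.centralizer ({x} : Set G)).index = 1 ∨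
        (Subgroup.centralizer ({x} : Set G)).index = m})
    (hy : y ∈ Subgroup.closure {x : G | (Subgroup.centralizer ({x} : Set G)).index = 1 ∨
        (Subgroup.centralizer ({x} : Set G)).index = m})
    (hz : z ∈ Subgroup.closure {x : G | (Subgroup.centralizer ({x} : Set G)).index = 1 ∨
        (Subgroup.centralizer ({x} : Set G)).index = m}) :
    ⁅⁅⁅x, y⁆, z⁆, w⁆ = 1 := by
  set M := Subgroup.closure {x : G | (Subgroup.centralizer ({x} : Set G)).index = 1 ∨
        (Subgroup.centralizer ({x} : Set G)).index = m} with hM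
  have hMK : M ≤ centralActors A := by
    rw [hM, Subgroup.closure_le]
    intro x hx a ha
    rcases hx with hx | hx
    · rw [Subgroup.index_eq_one, Subgroup.centralizer_eq_top_iff_subset] at hx
      have hxc : x ∈ Subgroup.center G := hx rfl
      rw [Subgroup.mem_center_iff] at hxc
      have : ⁅a, x⁆ = 1 := by
        rw [commutatorElement_def]
        calc a * x * a⁻¹ * x⁻¹ = (a * x) * a⁻¹ * x⁻¹ := by group
          _ = (x * a) * a⁻¹ * x⁻¹ := by rw [hxc a]
          _ = 1 := by group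
      rw [this]; exact Subgroup.one_mem _
    · exact comm_mem_center_of_small A hA m hmin x hx a ha
  have hXY : ⁅x, y⁆ ∈ A := by
    rw [← hCA]
    exact commutator_mem_centralizer_of_centralActors (hMK hx) (hMK hy)
  have hZ : ⁅⁅x, y⁆, z⁆ ∈ Subgroup.center G := hMK hz _ hXY
  rw [Subgroup.mem_center_iff] at hZ
  rw [commutatorElement_def ⁅⁅x, y⁆, z⁆ w]
  calc ⁅⁅x, y⁆, z⁆ * w * (⁅⁅x, y⁆, z⁆)⁻¹ * w⁻¹
      = (w * ⁅⁅x, y⁆, z⁆) * (⁅⁅x, y⁆, z⁆)⁻¹ * w⁻¹ := by rw [hZ w]
    _ = 1 := by group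

/-- Isaacs' theorem. -/
theorem small_classes_ucs_three [Finite G] (A : Subgroup G) [hAn : A.Normal]
    (hA : ∀ u ∈ A, ∀ v ∈ A, u * v = v * u) (hCA : Subgroup.centralizer (A : Set G) = A) (m : ℕ)
    (hmin : ∀ y : G, 1 < (Subgroup.centralizer ({y} : Set G)).index →
      m ≤ (Subgroup.centralizer ({y} : Set G)).index) :
    Subgroup.upperCentralSeries ↥(Subgroup.closure {x : G |
      (Subgroup.centralizer ({x} : Set G)).index = 1 ∨
        (Subgroup.centralizer ({x} : Set G)).index = m}) 3 = ⊤ := by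
  apply ucs_three_eq_top_of_comm
  intro X Y Z W
  apply Subtype.ext
  have hfin := small_classes_comm_eq_one A hA hCA m hmin (w := (W : G)) X.2 Y.2 Z.2
  rw [Subgroup.coe_one, ← hfin]
  simp [commutatorElement_def]

end SmallClasses

end Cfsg.Agent.Lib.Helper55
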