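import Mathlib.GroupTheory.Sylow
import Mathlib.GroupTheory.SpecificGroups.Cyclic
import Mathlib.GroupTheory.QuotientGroup.Basic

set_option autoImplicit false

namespace Cfsg.Agent.Lib.Helper55

variable {G G' : Type*} [Group G] [Group G'] [Finite G]

/-- A Sylow `p`-subgroup of the preimage of a `p`-subgroup maps onto it. -/
theorem map_sylow_comap_eq (p : ℕ) [Fact p.Prime] {f : G →* G'} (hf : Function.Surjective f)
    (Q' : Subgroup G') (hQ' : IsPGroup p Q') (P : Sylow p (Q'.comap f)) :
    ((P : Subgroup (Q'.comap f)).map (Q'.comap f).subtype).map f = Q' := by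
  have hg : Function.Surjective (f.subgroupComap Q') :=
    f.subgroupComap_surjective_of_surjective Q' hf
  have htop : (⊤ : Subgroup Q') = (P.mapSurjective hg : Subgroup Q') :=
    (P.mapSurjective hg).3 (hQ'.to_subgroup ⊤) le_top
  apply le_antisymm
  · rintro _ ⟨x, ⟨y, _, rfl⟩, rfl⟩
    exact y.2
  · intro x hx
    have : (⟨x, hx⟩ : Q') ∈ (P.mapSurjective hg : Subgroup Q') := by
      rw [← htop]; exact Subgroup.mem_top _
    rw [Sylow.coe_mapSurjective] at this
    obtain ⟨y, hy, hyx⟩ := this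
    refine ⟨y, ⟨y, hy, rfl⟩, ?_⟩
    exact congrArg Subtype.val hyx

/-- Every `p`-subgroup of the image of a surjective hom from a finite group is the image of a `p`-subgroup. -/
theorem exists_pgroup_map_eq (p : ℕ) [Fact p.Prime] {f : G →* G'} (hf : Function.Surjective f)
    (Q' : Subgroup G') (hQ' : IsPGroup p Q') :
    ∃ Q : Subgroup G, IsPGroup p Q ∧ Q.map f = Q' := by
  let P : Sylow p (Q'.comap f) := default
  exact ⟨_, P.2.map _, map_sylow_comap_eq p hf Q' hQ' P⟩

/-- Given a Sylow `p`-subgroup `S'` of the image and a `p`-subgroup `Q` mapping into `S'`,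
there is a Sylow `p`-subgroup of the source containing `Q` and mapping onto `S'`. -/
theorem exists_sylow_ge_map_eq (p : ℕ) [Fact p.Prime] {f : G →* G'} (hf : Function.Surjective f)
    (S' : Sylow p G') (Q : Subgroup G) (hQ : IsPGroup p Q) (hQS : Q.map f ≤ S') :
    ∃ S : Sylow p G, Q ≤ S ∧ (S : Subgroup G).map f = S' := by
  set M : Subgroup G := (S' : Subgroup G').comap f with hM
  have hQM : Q ≤ M := Subgroup.map_le_iff_le_comap.mp hQS
  have hQ' : IsPGroup p (Q.subgroupOf M) := hQ.comap_subtype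
  obtain ⟨P₁, hP₁⟩ := hQ'.exists_le_sylow
  obtain ⟨S, hS⟩ := P₁.exists_comap_subtype_eq
  have hQS₁ : Q ≤ S := by
    intro x hx
    have h1 : (⟨x, hQM hx⟩ : M) ∈ Q.subgroupOf M := by
      rw [Subgroup.mem_subgroupOf]; exact hx
    have h2 := hP₁ h1
    have h3 : (⟨x, hQM hx⟩ : M) ∈ (S : Subgroup G).comap M.subtype := by
      rw [hS]; exact h2
    exact h3
  refine ⟨S, hQS₁, ?_⟩
  have hmap := map_sylow_comap_eq p hf (S' : Subgroup G') S'.2 P₁
  have hle : (S' : Subgroup G') ≤ (S : Subgroup G).map f := by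
    rw [← hmap]
    apply Subgroup.map_mono
    rintro _ ⟨y, hy, rfl⟩
    have : y ∈ (S : Subgroup G).comap M.subtype := by rw [hS]; exact hy
    exact this
  exact (S'.3 (S.2.map f) hle)

end Cfsg.Agent.Lib.Helper55
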