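import Mathlib
import Cfsg.Agent.Lib.Helper55.NormalFour
import Cfsg.Agent.Lib.Helper32.PGroupCenter

set_option autoImplicit false

/-!
In a 2-group of rank at least 3, the centralizer `T` of a normal four-group has index at most 2,
and every involution of `T` centralizes an elementary abelian subgroup of order 8.
-/

namespace Cfsg.Agent.Lib.Helper55

section
variable {S : Type*} [Group S]

theorem comm_of_sq_eq_one (a b : S) (ha : a ^ 2 = 1) (hb : b ^ 2 = 1) (hab : (a * b) ^ 2 = 1) :
    a * b = b * a := by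
  have h1 : a * a = 1 := by rwa [pow_two] at ha
  have h2 : b * b = 1 := by rwa [pow_two] at hb
  have h3 : a * b * (a * b) = 1 := by rwa [pow_two] at hab
  have hainv : a⁻¹ = a := inv_eq_of_mul_eq_one_right h1
  have hbinv : b⁻¹ = b := inv_eq_of_mul_eq_one_right h2
  have habinv : (a * b)⁻¹ = a * b := inv_eq_of_mul_eq_one_right h3
  calc a * b = (a * b)⁻¹ := habinv.symm
    _ = b⁻¹ * a⁻¹ := mul_inv_rev a b
    _ = b * a := by rw [hainv, hbinv]

variable [Finite S]

/-- The elements of a four-group. -/
theorem four_group_elems (U : Subgroup S) (hU4 : Nat.card U = 4) (hUexp : ∀ u ∈ U, u ^ 2 = 1)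
    (z u : S) (hzU : z ∈ U) (huU : u ∈ U) (hz1 : z ≠ 1) (hu1 : u ≠ 1) (huz : u ≠ z) :
    ∀ w ∈ U, w = 1 ∨ w = z ∨ w = u ∨ w = u * z := by
  classical
  have hzz : z * z = 1 := by rw [← pow_two]; exact hUexp z hzU
  have hsub : (({1, z, u, u * z} : Finset S) : Set S) ⊆ (U : Set S) := by
    intro t ht
    simp only [Finset.coe_insert, Finset.coe_singleton, Set.mem_insert_iff,
      Set.mem_singleton_iff] at ht
    rcases ht with rfl | rfl | rfl | rfl
    · exact U.one_mem
    · exact hzU
    · exact huU
    · exact U.mul_mem huU hzU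
  have hcard : ({1, z, u, u * z} : Finset S).card = 4 := by
    rw [Finset.card_insert_of_notMem, Finset.card_insert_of_notMem,
      Finset.card_insert_of_notMem, Finset.card_singleton]
    · simp only [Finset.mem_singleton]
      intro h
      apply hz1
      calc z = u⁻¹ * (u * z) := by group
        _ = u⁻¹ * u := by rw [← h]
        _ = 1 := inv_mul_cancel u
    · simp only [Finset.mem_insert, Finset.mem_singleton, not_or]
      refine ⟨fun h => huz h.symm, fun h => ?_⟩
      apply hu1
      calc u = (u * z) * z⁻¹ := by group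
        _ = z * z⁻¹ := by rw [← h]
        _ = 1 := mul_inv_cancel z
    · simp only [Finset.mem_insert, Finset.mem_singleton, not_or]
      refine ⟨fun h => hz1 h.symm, fun h => hu1 h.symm, fun h => ?_⟩
      apply huz
      calc u = (u * z) * z := by rw [mul_assoc, hzz, mul_one]
        _ = z := by rw [← h, one_mul]
  have hle : (U : Set S).ncard ≤ (({1, z, u, u * z} : Finset S) : Set S).ncard := by
    rw [Set.ncard_coe_finset, hcard, ← hU4]
    exact (Nat.card_coe_set_eq _).le
  have heq := Set.eq_of_subset_of_ncard_le hsub hle (Set.toFinite _)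
  intro w hw
  have : w ∈ (({1, z, u, u * z} : Finset S) : Set S) := by rw [heq]; exact hw
  simpa using this

/-- The centralizer of a normal four-group in a 2-group has index at most 2. -/
theorem centralizer_four_index (hS : IsPGroup 2 S) (U : Subgroup S) [hUn : U.Normal]
    (hU4 : Nat.card U = 4) (hUexp : ∀ u ∈ U, u ^ 2 = 1) :
    Subgroup.centralizer (U : Set S) = ⊤ ∨ (Subgroup.centralizer (U : Set S)).index = 2 := by
  classical
  haveI : Fact (Nat.Prime 2) := ⟨Nat.prime_two⟩
  have hUne : U ≠ ⊥ := by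
    intro h; rw [h, Subgroup.card_bot] at hU4; omega
  obtain ⟨z, hzU, hzZ, hz1⟩ :=
    Cfsg.Agent.Lib.Helper32.exists_ne_one_mem_normal_inf_center hS U hUne
  have hzcomm : ∀ s : S, s * z = z * s := fun s => Subgroup.mem_center_iff.mp hzZ s
  have hzz : z * z = 1 := by rw [← pow_two]; exact hUexp z hzU
  -- an element of U outside {1, z}
  have hex : ∃ u ∈ U, u ≠ 1 ∧ u ≠ z := by
    by_contra hcon
    push Not at hcon
    have := card_le_of_subset_finset U ({1, z} : Finset S) (by
      intro e he
      by_cases h1 : e = 1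
      · simp [h1]
      · simp [hcon e he h1])
    have h2 : ({1, z} : Finset S).card ≤ 2 := Finset.card_le_two
    omega
  obtain ⟨u, huU, hu1, huz⟩ := hex
  have helems := four_group_elems U hU4 hUexp z u hzU huU hz1 hu1 huz
  set T := Subgroup.centralizer (U : Set S) with hT
  have hTmem : ∀ s : S, s ∈ T ↔ s * u = u * s := by
    intro s
    rw [hT, Subgroup.mem_centralizer_iff]
    constructor
    · intro h; exact (h u huU).symm
    · intro h w hw
      rcases helems w hw with rfl | rfl | rfl | rfl
      · simp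
      · exact (hzcomm s).symm
      · exact h.symm
      · rw [mul_assoc, ← hzcomm s, ← mul_assoc, ← h, mul_assoc]
  -- conjugates of u
  have hconj : ∀ s : S, s * u * s⁻¹ = u ∨ s * u * s⁻¹ = u * z := by
    intro s
    rcases helems _ (hUn.conj_mem u huU s) with h | h | h | h
    · exfalso; apply hu1
      calc u = s⁻¹ * (s * u * s⁻¹) * s := by group
        _ = 1 := by rw [h]; group
    · exfalso; apply huz
      calc u = s⁻¹ * (s * u * s⁻¹) * s := by group
        _ = s⁻¹ * (z * s) := by rw [h, mul_assoc]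
        _ = s⁻¹ * (s * z) := by rw [hzcomm s]
        _ = z := by group
    · exact Or.inl h
    · exact Or.inr h
  have hnotT : ∀ s : S, s ∉ T → s * u * s⁻¹ = u * z := by
    intro s hs
    rcases hconj s with h | h
    · exfalso; apply hs; rw [hTmem]; exact mul_inv_eq_iff_eq_mul.mp h
    · exact h
  by_cases htop : T = ⊤
  · exact Or.inl htop
  · right
    have hexa : ∃ a : S, a ∉ T := by
      by_contra hcon
      push Not at hcon
      exact htop (eq_top_iff.mpr fun s _ => hcon s)
    obtain ⟨a, ha⟩ := hexa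
    rw [Subgroup.index_eq_two_iff]
    refine ⟨a, fun b => ?_⟩
    by_cases hb : b ∈ T
    · refine Or.inr ⟨hb, fun hba => ha ?_⟩
      have : a = b⁻¹ * (b * a) := by group
      rw [this]; exact T.mul_mem (T.inv_mem hb) hba
    · refine Or.inl ⟨?_, hb⟩
      rw [hTmem]
      have h1 := hnotT a ha
      have h2 := hnotT b hb
      have h3 : b * a * u * (b * a)⁻¹ = u := by
        calc b * a * u * (b * a)⁻¹ = b * (a * u * a⁻¹) * b⁻¹ := by group
          _ = b * (u * z) * b⁻¹ := by rw [h1]
          _ = (b * u * b⁻¹) * (b * z * b⁻¹) := by group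
          _ = (u * z) * (z * b * b⁻¹) := by rw [h2, hzcomm b]
          _ = u * (z * z) := by group
          _ = u := by rw [hzz, mul_one]
      exact mul_inv_eq_iff_eq_mul.mp h3

/-- Main 2-group lemma. -/
theorem twoGroup_main (hS : IsPGroup 2 S) (E : Subgroup S) (hE8 : Nat.card E = 8)
    (hE : ∀ e ∈ E, e ^ 2 = 1) :
    ∃ T : Subgroup S, (T = ⊤ ∨ T.index = 2) ∧ ∀ y ∈ T, y ^ 2 = 1 →
      ∃ E' : Subgroup S, Nat.card E' = 8 ∧ (∀ e ∈ E', e ^ 2 = 1) ∧ ∀ e ∈ E', e * y = y * e := by
  classical
  obtain ⟨U, hUn, hU4, hUexp⟩ := exists_normal_four hS E hE8 hE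
  haveI := hUn
  have hUcomm : ∀ a ∈ U, ∀ b ∈ U, a * b = b * a := fun a ha b hb =>
    comm_of_sq_eq_one a b (hUexp a ha) (hUexp b hb) (hUexp _ (U.mul_mem ha hb))
  have hEcomm : ∀ a ∈ E, ∀ b ∈ E, a * b = b * a := fun a ha b hb =>
    comm_of_sq_eq_one a b (hE a ha) (hE b hb) (hE _ (E.mul_mem ha hb))
  set T := Subgroup.centralizer (U : Set S) with hT
  have hTn : T.Normal := by rw [hT]; infer_instance
  have hUT : U ≤ T := by
    intro a ha
    rw [hT, Subgroup.mem_centralizer_iff]
    intro b hb
    exact hUcomm b hb a ha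
  have hidx := centralizer_four_index hS U hU4 hUexp
  rw [← hT] at hidx
  -- T contains an E₈
  have hE8T : ∃ E₁ : Subgroup S, E₁ ≤ T ∧ Nat.card E₁ = 8 ∧ ∀ e ∈ E₁, e ^ 2 = 1 := by
    by_cases hET : E ≤ T
    · exact ⟨E, hET, hE8, hE⟩
    · have hidx2 : T.index = 2 := by
        rcases hidx with h | h
        · exfalso; apply hET; rw [h]; exact le_top
        · exact h
      have hrel : T.relIndex E = 2 := by
        have hdvd : T.relIndex E ∣ 2 := by
          rw [← hidx2]; exact Subgroup.relIndex_dvd_index_of_normal T E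
        have hne : T.relIndex E ≠ 1 := fun h => hET (Subgroup.relIndex_eq_one.mp h)
        rcases (Nat.dvd_prime Nat.prime_two).mp hdvd with h | h
        · exact absurd h hne
        · exact h
      set A := E ⊓ T with hA
      have hAcard : Nat.card A = 4 := by
        have h1 := Subgroup.relIndex_mul_relIndex (⊥ : Subgroup S) A E bot_le inf_le_left
        rw [Subgroup.relIndex_bot_left, Subgroup.relIndex_bot_left, hA,
          Subgroup.inf_relIndex_left, hrel, hE8] at h1
        rw [hA]; omega
      have hUA : ¬ U ≤ A := by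
        intro hUA
        have hUeqA : U = A := Subgroup.eq_of_le_of_card_ge hUA (by rw [hAcard, hU4])
        apply hET
        intro e he
        rw [hT, Subgroup.mem_centralizer_iff]
        intro b hb
        have hbE : b ∈ E := by
          have : b ∈ A := by rw [← hUeqA]; exact hb
          exact this.1
        exact hEcomm b hbE e he
      obtain ⟨u', hu'U, hu'A⟩ := SetLike.not_le_iff_exists.mp hUA
      have hAexp : ∀ a ∈ A, a ^ 2 = 1 := fun a ha => hE a ha.1
      have hcomm : ∀ a ∈ A, u' * a = a * u' := by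
        intro a ha
        have haT : a ∈ T := ha.2
        rw [hT, Subgroup.mem_centralizer_iff] at haT
        exact haT u' hu'U
      obtain ⟨B, hAB, hu'B, hBcard, hBexp, hBmin⟩ :=
        adjoin_involution A u' (hUexp u' hu'U) hu'A hcomm hAexp
      refine ⟨B, hBmin T inf_le_right (hUT hu'U), ?_, hBexp⟩
      rw [hBcard, hAcard]
  obtain ⟨E₁, hE₁T, hE₁8, hE₁exp⟩ := hE8T
  refine ⟨T, hidx, fun y hyT hy2 => ?_⟩
  by_cases hyU : y ∈ U
  · refine ⟨E₁, hE₁8, hE₁exp, fun e he => ?_⟩
    have heT : e ∈ T := hE₁T he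
    rw [hT, Subgroup.mem_centralizer_iff] at heT
    exact (heT y hyU).symm
  · have hcomm : ∀ a ∈ U, y * a = a * y := by
      intro a ha
      rw [hT, Subgroup.mem_centralizer_iff] at hyT
      exact (hyT a ha).symm
    obtain ⟨B, hUB, hyB, hBcard, hBexp, -⟩ := adjoin_involution U y hy2 hyU hcomm hUexp
    refine ⟨B, by rw [hBcard, hU4], hBexp, fun e he => ?_⟩
    exact comm_of_sq_eq_one e y (hBexp e he) hy2 (hBexp _ (B.mul_mem he hyB))

end

end Cfsg.Agent.Lib.Helper55
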