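import Mathlib
import Cfsg.Prelude.Def_Classical
import Cfsg.Prelude.Def_LieClassical
import Cfsg.Agent.Lib.Helper65.UndDefs
import Cfsg.Agent.Lib.Helper55.TuPEEL
import Cfsg.Agent.Lib.Helper55.UndC1

/-! # S5954 hive ("Und", owner helper65): cores of UND-C4 / UND-C5, with the statement of UND-C3
(`exists_nd_block`) as a hypothesis -/

set_option autoImplicit false

namespace Cfsg.Agent.Lib.Helper65.Und

open Cfsg.Agent.Lib.Helper40.Herm Cfsg.Agent.Lib.Helper2.BG Cfsg.Agent.Lib.Helper14.Tu Polynomial Module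

section absC
variable {F : Type*} [Field F] [Fintype F] {q : ℕ} {hF : Fintype.card F = q ^ 2}
  {V : Type*} [AddCommGroup V] [Module F V] [FiniteDimensional F V]
  {H : V →ₗ[F] V →ₛₗ[tauHom hF] F} {g : Module.End F V} {N : ℕ}

/-- `r ∤ q` when `r` is invertible in a field with `q ^ 2` elements -/
theorem h55c4_not_dvd (hF : Fintype.card F = q ^ 2) {r : ℕ} (hr : r.Prime) (hrF : (r : F) ≠ 0) :
    ¬ r ∣ q := by
  intro hrq
  obtain ⟨p, hp⟩ := CharP.exists F
  obtain ⟨n, hpprime, hcard⟩ := FiniteField.card F p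
  have h1 : r ∣ p ^ (n : ℕ) := by
    rw [← hcard, hF]
    exact dvd_pow hrq (by norm_num)
  have h2 : r ∣ p := hr.dvd_of_dvd_pow h1
  have h3 : r = p := (Nat.prime_dvd_prime_iff_eq hr hpprime).mp h2
  apply hrF
  rw [h3]
  exact CharP.cast_eq_zero F p

/-- `cOf (ord_r q) > 0` -/
theorem h55c4_cOf_pos (hF : Fintype.card F = q ^ 2) {r : ℕ} (hr : r.Prime) (hrF : (r : F) ≠ 0) :
    0 < cOf (orderOf (q : ZMod r)) := by
  have hrq := h55c4_not_dvd hF hr hrF
  haveI : Fact r.Prime := ⟨hr⟩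
  have hq0 : (q : ZMod r) ≠ 0 := by
    intro h
    exact hrq ((ZMod.natCast_eq_zero_iff q r).mp h)
  have hi : 0 < orderOf (q : ZMod r) := by
    have hfin : IsOfFinOrder (q : ZMod r) := by
      rw [isOfFinOrder_iff_pow_eq_one]
      exact ⟨r - 1, Nat.sub_pos_of_lt hr.one_lt, ZMod.pow_card_sub_one_eq_one hq0⟩
    exact hfin.orderOf_pos
  unfold cOf
  split_ifs with h1 h2
  · exact hi
  · omega
  · omega

/-- core of UND-C4 -/
theorem h55c4_core {r : ℕ} (hc : Ctx hF H g r) (hr : r.Prime)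
    (hC3 : ∀ M : Submodule F V, Inv g M → HNondegOn H M → M ≠ ⊥ → (∀ v ∈ M, g v = v → v = 0) →
      ∃ Y : Submodule F V, Y ≤ M ∧ Inv g Y ∧ HNondegOn H Y ∧
        finrank F ↥Y = cOf (orderOf (q : ZMod r))) :
    ∀ (k : ℕ) (M : Submodule F V), finrank F ↥M = k → Inv g M → HNondegOn H M →
      (∀ v ∈ M, g v = v → v = 0) → cOf (orderOf (q : ZMod r)) ∣ k := by
  have hcpos := h55c4_cOf_pos hF hr hc.ne
  intro k
  induction k using Nat.strong_induction_on with
  | _ k ih =>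
    intro M hk hMi hM hMfix
    by_cases hM0 : M = ⊥
    · subst hM0
      rw [finrank_bot] at hk
      subst hk
      exact dvd_zero _
    obtain ⟨Y, hYM, hYi, hYnd, hYfr⟩ := hC3 M hMi hM hM0 hMfix
    obtain ⟨hM'i, hM'nd, -, -, hfr⟩ := split hc hMi hM hYi hYM hYnd
    have hlt : finrank F ↥(M ⊓ hperp H Y) < k := by omega
    have h1 := ih _ hlt (M ⊓ hperp H Y) (Eq.refl _) hM'i hM'nd
      (fun v hv => hMfix v hv.1)
    rw [← hk, ← hfr, hYfr]
    exact (Nat.dvd_add_right h1).mpr (dvd_refl _)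

/-- core of UND-C5 -/
theorem h55c5_core {r : ℕ} (hc : Ctx hF H g r) (hr : r.Prime)
    (hC3 : ∀ M : Submodule F V, Inv g M → HNondegOn H M → M ≠ ⊥ → (∀ v ∈ M, g v = v → v = 0) →
      ∃ Y : Submodule F V, Y ≤ M ∧ Inv g Y ∧ HNondegOn H Y ∧
        finrank F ↥Y = cOf (orderOf (q : ZMod r))) (j : ℕ) :
    ∀ (M : Submodule F V), Inv g M → HNondegOn H M → (∀ v ∈ M, g v = v → v = 0) →
      j * cOf (orderOf (q : ZMod r)) ≤ finrank F ↥M →
      FixesIn H g M (j * cOf (orderOf (q : ZMod r))) := by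
  have hcpos := h55c4_cOf_pos hF hr hc.ne
  induction j with
  | zero =>
    intro M _ _ _ _
    refine ⟨⊥, bot_le, inv_bot g, ?_, by simp⟩
    intro x hx _
    exact (Submodule.mem_bot F).mp hx
  | succ j ih =>
    intro M hMi hM hMfix hj
    have hM0 : M ≠ ⊥ := by
      rintro rfl
      rw [finrank_bot, Nat.succ_mul] at hj
      omega
    obtain ⟨Y, hYM, hYi, hYnd, hYfr⟩ := hC3 M hMi hM hM0 hMfix
    obtain ⟨hM'i, hM'nd, -, -, hfr⟩ := split hc hMi hM hYi hYM hYnd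
    have hj' : j * cOf (orderOf (q : ZMod r)) ≤ finrank F ↥(M ⊓ hperp H Y) := by
      rw [Nat.succ_mul] at hj
      omega
    obtain ⟨W', hW'M', hW'i, hW'nd, hW'fr⟩ :=
      ih (M ⊓ hperp H Y) hM'i hM'nd (fun v hv => hMfix v hv.1) hj'
    have horth : ∀ x ∈ Y, ∀ y ∈ W', H x y = 0 := fun x hx y hy =>
      herm_swap hc.herm ((hW'M' hy).2 x hx)
    obtain ⟨hnd, -, hfr2⟩ := nd_sup hc.herm hYnd hW'nd horth
    refine ⟨Y ⊔ W', sup_le hYM (hW'M'.trans inf_le_left), hYi.sup hW'i, hnd, ?_⟩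
    rw [hfr2, hYfr, hW'fr, Nat.succ_mul]
    omega

end absC

end Cfsg.Agent.Lib.Helper65.Und
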